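import Cfsg.Agent.Lib.Lie.ConwayZeroMult.Defs

/-!
All matrices pass when each one passes.
-/

set_option autoImplicit false

namespace Cfsg.Agent.Lie.ConwayZeroMult

theorem mats_of {W : List (List Row × List Row)} {m : ℕ} (hm : W.length = m)
    (h : ∀ i < m, matOK (W.getD i ([], [])) = true) : W.all matOK = true := by
  rw [List.all_eq_true]
  intro x hx
  obtain ⟨i, hi, rfl⟩ := List.getElem_of_mem hx
  rw [← List.getD_eq_getElem W ([], []) hi]
  exact h i (hm ▸ hi)

end Cfsg.Agent.Lie.ConwayZeroMult
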