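import Cfsg.Agent.Lib.Lie.CentralRewrite.Main
import Cfsg.Agent.Lib.Lie.PermTable
import Cfsg.Agent.Lib.Spor.Co1Simple
import Cfsg.Agent.Lib.Spor.MclConfig
import Cfsg.Prelude.Def_KGroupFacts

/-!
Automorphisms of the Leech lattice given by eight times their matrices, relations between them on the frame, and a
lower bound for the group they generate.
-/

set_option autoImplicit false
set_option maxRecDepth 100000

namespace Cfsg.Agent.Lie.ConwayZeroMult

open Cfsg Cfsg.Agent.Spor CentralRewrite
open PermTable (force force_eq)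

local notation "Zv" => GolayPt → ℤ

/-- A row: gaps and coefficients. -/
abbrev Row : Type := List (ℕ × ℤ)

/-- The product of a row and a list of coordinates. -/
def dot : Row → List ℤ → ℤ
  | [], _ => 0
  | z :: r, v => match v.drop z.1 with
    | [] => 0
    | a :: t => z.2 * a + dot r t

/-- Evaluates an integer before it is used. -/
def forceI {α : Type} : ℤ → (ℤ → α) → α
  | .ofNat n, k => force n fun m => k (.ofNat m)
  | .negSucc n, k => force n fun m => k (.negSucc m)

/-- Evaluates a list before it is used. -/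
def forceL {α : Type} : List ℤ → (List ℤ → α) → α
  | [], k => k []
  | a :: l, k => forceI a fun a' => forceL l fun l' => k (a' :: l')

theorem forceI_eq {α : Type} (a : ℤ) (k : ℤ → α) : forceI a k = k a := by
  cases a <;> simp [forceI, force_eq]

theorem forceL_eq {α : Type} : ∀ (l : List ℤ) (k : List ℤ → α), forceL l k = k l
  | [], k => rfl
  | a :: l, k => by rw [forceL, forceI_eq, forceL_eq l]

/-- Eight times an element, applied to a vector. -/
def app8 (K : List Row) (x : Zv) : Zv := fun p => dot (K.getD (idx p) []) (rowOf x)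

/-- The element on lists of coordinates. -/
def mv (K : List Row) (v : List ℤ) : List ℤ :=
  (List.range 24).map fun k => dot (K.getD k []) v / 8

/-- A unit vector of the frame. -/
def unitL (q : ℕ) : List ℤ := (List.range 24).map fun k => bif Nat.beq k q then 8 else 0

/-- A vector is sent into the lattice. -/
def genOK (K : List Row) (v : List ℤ) : Bool :=
  (List.range 24).all (fun k => dot (K.getD k []) v % 8 == 0) && leechCheck (vecOf (mv K v))

/-- The generators of the lattice as lists. -/
def latGens : List (List ℤ) :=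
  ((List.range 23).flatMap fun i =>
      [(List.range 24).map fun k => bif Nat.beq k i then (4 : ℤ) else bif Nat.beq k 23 then 4 else 0,
       (List.range 24).map fun k => bif Nat.beq k i then (4 : ℤ) else bif Nat.beq k 23 then -4 else 0]) ++
    (octBasis.map fun o => (List.range 24).map fun k => bif Nat.testBit o k then (2 : ℤ) else 0) ++
    [(List.range 24).map fun k => bif Nat.beq k 23 then (-3 : ℤ) else 1]

/-- Transposed, inverse and preserving the lattice. -/
def matOK (KT : List Row × List Row) : Bool :=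
  ((List.range 24).all fun q => (List.range 24).all fun k =>
      dot (KT.1.getD k []) (unitL q) == dot (KT.2.getD q []) (unitL k)) &&
    ((List.range 24).all fun q => forceL ((List.range 24).map fun k => dot (KT.1.getD k []) (unitL q)) fun v =>
      (List.range 24).all fun k => dot (KT.2.getD k []) v == (bif Nat.beq k q then 512 else 0)) &&
    ((List.range 24).all fun q => forceL ((List.range 24).map fun k => dot (KT.2.getD k []) (unitL q)) fun v =>
      (List.range 24).all fun k => dot (KT.1.getD k []) v == (bif Nat.beq k q then 512 else 0)) &&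
    (latGens.all fun v => genOK KT.1 v && genOK KT.2 v)

theorem dot_map (r : Row) : ∀ (f h : ℕ → ℤ) (l : List ℕ),
    dot r (l.map fun k => f k + h k) = dot r (l.map f) + dot r (l.map h) := by
  induction r with
  | nil => intro f h l; simp [dot]
  | cons z r ih =>
    intro f h l
    simp only [dot, ← List.map_drop]
    cases l.drop z.1 with
    | nil => simp
    | cons a t =>
      simp only [List.map_cons]
      rw [ih]
      ring

theorem dot_smul (r : Row) : ∀ (c : ℤ) (f : ℕ → ℤ) (l : List ℕ),
    dot r (l.map fun k => c * f k) = c * dot r (l.map f) := by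
  induction r with
  | nil => intro c f l; simp [dot]
  | cons z r ih =>
    intro c f l
    simp only [dot, ← List.map_drop]
    cases l.drop z.1 with
    | nil => simp
    | cons a t =>
      simp only [List.map_cons]
      rw [ih]
      ring

theorem app8_add (K : List Row) (x y : Zv) : app8 K (x + y) = app8 K x + app8 K y := funext fun _ => dot_map _ _ _ _

theorem app8_smul (K : List Row) (c : ℤ) (x : Zv) : app8 K (c • x) = c • app8 K x := funext fun _ => dot_smul _ _ _ _

/-- Eight times an element as an additive map. -/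
def app8H (K : List Row) : Zv →+ Zv := AddMonoidHom.mk' (app8 K) (app8_add K)

theorem unit_vec (q : GolayPt) : vecOf (unitL (idx q)) = Pi.single q 8 := by
  revert q
  decide +kernel

theorem app8_vecOf (K : List Row) (v : List ℤ) (hv : v.length = 24) (p : GolayPt) :
    app8 K (vecOf v) p = dot (K.getD (idx p) []) v := by
  refine congrArg (dot _) (List.ext_getElem (by simp [rowOf, hv]) fun k h1 h2 => ?_)
  have hk : k < 24 := hv ▸ h2
  simp only [rowOf, List.getElem_map, List.getElem_range, vecOf]
  rw [idx_pt k hk, List.getD_eq_getElem _ _ h2]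

theorem app8_expand (K : List Row) (x : Zv) (p : GolayPt) :
    8 * app8 K x p = ∑ q, x q * dot (K.getD (idx p) []) (unitL (idx q)) := by
  have hx : (8 : ℤ) • x = ∑ q, x q • (Pi.single q 8 : Zv) := by
    funext k
    simp [Finset.sum_apply, Pi.single_apply, mul_comm]
  calc 8 * app8 K x p = app8 K ((8 : ℤ) • x) p := by rw [app8_smul]; rfl
    _ = app8H K (∑ q, x q • (Pi.single q 8 : Zv)) p := by rw [hx]; rfl
    _ = _ := by
      rw [map_sum, Finset.sum_apply]
      refine Finset.sum_congr rfl fun q _ => ?_
      show app8 K (x q • (Pi.single q 8 : Zv)) p = _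
      rw [app8_smul, ← unit_vec, Pi.smul_apply, app8_vecOf _ _ (by simp [unitL]), smul_eq_mul]

/-- An element from its matrix. -/
def gK (K : List Row) (x : Zv) : Zv := fun p => app8 K x p / 8

theorem latGens_spec :
    (∀ i : GolayPt, i ≠ none → (∃ v ∈ latGens, v.length = 24 ∧ vecOf v = pairVec i none 1) ∧
      ∃ v ∈ latGens, v.length = 24 ∧ vecOf v = pairVec i none (-1)) ∧
    (∀ o ∈ octBasis, ∃ v ∈ latGens, v.length = 24 ∧ vecOf v = dbl (ofMaskW o)) ∧
    ∃ v ∈ latGens, v.length = 24 ∧ vecOf v = oddVec := by decide +kernel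

theorem gK_spec {K : List Row} (h : ∀ v ∈ latGens, genOK K v = true) {x : Zv} (hx : x ∈ leechLattice) :
    gK K x ∈ leechLattice ∧ app8 K x = (8 : ℤ) • gK K x := by
  let M : AddSubgroup Zv :=
    { carrier := {x | x ∈ leechLattice ∧ ∃ y ∈ leechLattice, app8H K x = (8 : ℤ) • y}
      zero_mem' := ⟨zero_mem _, 0, zero_mem _, by simp⟩
      add_mem' := by
        rintro a b ⟨ha, y, hy, ea⟩ ⟨hb, z, hz, eb⟩
        exact ⟨add_mem ha hb, y + z, add_mem hy hz, by rw [map_add, ea, eb, smul_add]⟩
      neg_mem' := by
        rintro a ⟨ha, y, hy, ea⟩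
        exact ⟨neg_mem ha, -y, neg_mem hy, by rw [map_neg, ea, smul_neg]⟩ }
  have mk : ∀ {y : Zv}, y ∈ leechLattice → (∃ v ∈ latGens, v.length = 24 ∧ vecOf v = y) → y ∈ M := by
    rintro y hy ⟨v, hv, hl, rfl⟩
    have hv' := h v hv
    simp only [genOK, Bool.and_eq_true, List.all_eq_true, List.mem_range, beq_iff_eq] at hv'
    refine ⟨hy, vecOf (mv K v), leechCheck_mem hv'.2, funext fun p => ?_⟩
    show app8 K (vecOf v) p = 8 * ((List.range 24).map fun k => dot (K.getD k []) v / 8).getD (idx p) 0
    have hget : ((List.range 24).map fun k => dot (K.getD k []) v / 8).getD (idx p) 0 =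
        dot (K.getD (idx p) []) v / 8 := by
      rw [List.getD_eq_getElem (l := (List.range 24).map fun k => dot (K.getD k []) v / 8) _
        (by simpa using idx_lt p), List.getElem_map, List.getElem_range]
    rw [app8_vecOf _ _ hl, hget, Int.mul_ediv_cancel' (Int.dvd_of_emod_eq_zero (hv'.1 _ (idx_lt p)))]
  obtain ⟨h1, h2, h3⟩ := latGens_spec
  have hle : leechLattice ≤ M := leech_le_of M (fun a ha => ha.1)
    (fun i hi => ⟨mk (pairVec_spec hi (Or.inl rfl)).1 (h1 i hi).1,
      mk (pairVec_spec hi (Or.inr rfl)).1 (h1 i hi).2⟩)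
    (fun o ho => mk (dbl_octBasis ho).1 (h2 o ho)) (mk oddVec_mem h3)
  obtain ⟨-, y, hy, e⟩ := hle hx
  change app8 K x = (8 : ℤ) • y at e
  have : gK K x = y := funext fun p => by simp [gK, e]
  rw [this]; exact ⟨hy, e⟩

theorem exists_elem {KT : List Row × List Row} (h : matOK KT = true) :
    ∃ a : ↥Co0, ∀ v : ↥leechLattice, ((a • v : ↥leechLattice) : Zv) = gK KT.1 v := by
  simp only [matOK, forceL_eq, Bool.and_eq_true, List.all_eq_true, List.mem_range, beq_iff_eq] at h
  obtain ⟨⟨⟨htr, hm1⟩, hm2⟩, hlat⟩ := h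
  have prod : ∀ (A B : List Row), (∀ q < 24, ∀ k < 24,
      dot (B.getD k []) ((List.range 24).map fun l => dot (A.getD l []) (unitL q)) =
        bif Nat.beq k q then 512 else 0) → ∀ x : Zv, app8 B (app8 A x) = (64 : ℤ) • x := by
    intro A B hAB x
    funext p
    have e1 : 8 * app8 B (app8 A x) p = ∑ q, x q * app8 B (fun r => dot (A.getD (idx r) []) (unitL (idx q))) p := by
      have h8 : (8 : ℤ) • app8 A x = ∑ q, x q • (fun r => dot (A.getD (idx r) []) (unitL (idx q)) : Zv) := by
        funext r
        rw [Pi.smul_apply, smul_eq_mul, app8_expand, Finset.sum_apply]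
        rfl
      calc 8 * app8 B (app8 A x) p = app8 B ((8 : ℤ) • app8 A x) p := by rw [app8_smul]; rfl
        _ = app8H B (∑ q, x q • (fun r => dot (A.getD (idx r) []) (unitL (idx q)) : Zv)) p := by rw [h8]; rfl
        _ = _ := by
          rw [map_sum, Finset.sum_apply]
          refine Finset.sum_congr rfl fun q _ => ?_
          show app8 B (x q • _) p = _
          rw [app8_smul]
          rfl
    have e2 : ∀ q, app8 B (fun r => dot (A.getD (idx r) []) (unitL (idx q))) p = if p = q then 512 else 0 := by
      intro q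
      have hl : rowOf (fun r => dot (A.getD (idx r) []) (unitL (idx q))) =
          (List.range 24).map fun l => dot (A.getD l []) (unitL (idx q)) :=
        List.map_congr_left fun k hk => by
          show dot (A.getD (idx (pt k)) []) _ = _
          rw [idx_pt k (List.mem_range.1 hk)]
      rw [app8, hl, hAB _ (idx_lt q) _ (idx_lt p)]
      by_cases e : p = q
      · subst e; simp
      · have : Nat.beq (idx p) (idx q) = false := by
          rw [← Bool.not_eq_true, Nat.beq_eq]
          exact fun e' => e (by rw [← pt_idx p, e', pt_idx])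
        simp [this, e]
    simp only [e2, mul_ite, mul_zero, Finset.sum_ite_eq, Finset.mem_univ, if_true] at e1
    rw [Pi.smul_apply, smul_eq_mul]
    omega
  have hK : ∀ {x : Zv}, x ∈ leechLattice → _ := fun hx => gK_spec (fun v hv => (hlat v hv).1) hx
  have hT : ∀ {x : Zv}, x ∈ leechLattice → _ := fun hx => gK_spec (fun v hv => (hlat v hv).2) hx
  refine exists_aut (gK KT.1) (gK KT.2) (fun _ hv => (hK hv).1) (fun _ hv => (hT hv).1) ?_ ?_ ?_ ?_
  · intro v hv
    have := prod _ _ hm1 v
    rw [(hK hv).2, app8_smul, (hT (hK hv).1).2] at this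
    funext p
    have := congrFun this p
    simp only [Pi.smul_apply, smul_eq_mul] at this
    omega
  · intro v hv
    have := prod _ _ hm2 v
    rw [(hT hv).2, app8_smul, (hK (hT hv).1).2] at this
    funext p
    have := congrFun this p
    simp only [Pi.smul_apply, smul_eq_mul] at this
    omega
  · intro v hv w hw
    funext p
    have e0 := congrFun (app8_add KT.1 v w) p
    have e1 := congrFun (hK hv).2 p
    have e2 := congrFun (hK hw).2 p
    simp only [Pi.add_apply, Pi.smul_apply, smul_eq_mul] at e0 e1 e2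
    simp only [gK, Pi.add_apply] at e1 e2 ⊢
    omega
  · intro v hv
    have hadj : ∀ z : Zv, ∑ p, app8 KT.1 v p * z p = ∑ q, v q * app8 KT.2 z q := by
      intro z
      have e : ∑ p, (8 * app8 KT.1 v p) * z p = ∑ q, v q * (8 * app8 KT.2 z q) := by
        simp only [app8_expand, Finset.sum_mul, Finset.mul_sum]
        rw [Finset.sum_comm]
        refine Finset.sum_congr rfl fun q _ => Finset.sum_congr rfl fun p _ => ?_
        rw [htr _ (idx_lt q) _ (idx_lt p)]
        ring
      simp only [mul_assoc, mul_left_comm _ (8 : ℤ), ← Finset.mul_sum] at e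
      omega
    have := hadj (app8 KT.1 v)
    rw [prod _ _ hm1, (hK hv).2] at this
    simp only [Pi.smul_apply, smul_eq_mul] at this
    have e : 64 * sqNorm (gK KT.1 v) = 64 * sqNorm v := by
      simp only [sqNorm, Finset.mul_sum]
      calc ∑ i, 64 * gK KT.1 v i ^ 2 = ∑ i, 8 * gK KT.1 v i * (8 * gK KT.1 v i) :=
            Finset.sum_congr rfl fun i _ => by ring
        _ = _ := this
        _ = _ := Finset.sum_congr rfl fun i _ => by ring
    linarith

/-- A word applied to a list of coordinates. -/
def ev (W : List (List Row × List Row)) (w : List ℕ) (v : List ℤ) : List ℤ :=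
  w.foldr (fun j a => forceL a fun a' => mv (W.getD j ([], [])).1 a') v

/-- The frame packed into one vector, the digits separating the members. -/
def packV : List ℤ := (List.range 24).map fun k => 8 * 32 ^ k

/-- The two sides of a relation agree on the frame. -/
def relOK (W : List (List Row × List Row)) (u : Rule) : Bool :=
  forceL packV fun v => ev W u.1 v == ev W u.2 v

/-- A number of a list of coordinates. -/
def vcode (l : List ℤ) : ℕ := l.foldl (fun m a => Nat.add (Nat.mul m 1048576) (a + 524288).toNat) 0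

/-- Strictly increasing. -/
def incr : List ℕ → Bool
  | [] => true
  | [_] => true
  | a :: b :: l => Nat.blt a b && incr (b :: l)

/-- A chain of vectors with words of the representatives. -/
def chainV (W : List (List Row × List Row)) (n : ℕ) : List (List ℤ × List (List ℕ)) → List (List ℤ) → Bool
  | [], _ => true
  | L :: Ls, fixed => Nat.beq L.1.length 24 && leechCheck (vecOf L.1) &&
      (L.2.all fun w => w.all (fun j => Nat.blt j n) && fixed.all fun b => ev W w b == b) &&
      incr (L.2.map fun w => vcode (ev W w L.1)) && chainV W n Ls (fixed ++ [L.1])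

/-- The number of products along a chain. -/
def chainProd (Ls : List (List ℤ × List (List ℕ))) : ℕ := (Ls.map fun L => L.2.length).prod

theorem incr_sorted : ∀ l : List ℕ, incr l = true → l.Pairwise (· < ·)
  | [], _ => List.Pairwise.nil
  | [_], _ => List.pairwise_singleton _ _
  | a :: b :: l, h => by
    simp only [incr, Bool.and_eq_true, Nat.blt_eq] at h
    have ih := incr_sorted (b :: l) h.2
    refine List.pairwise_cons.2 ⟨fun c hc => ?_, ih⟩
    rcases List.mem_cons.1 hc with rfl | hc
    · exact h.1
    · exact h.1.trans ((List.pairwise_cons.1 ih).1 c hc)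

theorem mv_spec (K : List Row) (x : Zv) : rowOf (gK K x) = mv K (rowOf x) :=
  List.map_congr_left fun k hk => by simp [gK, app8, idx_pt k (List.mem_range.1 hk)]

theorem exists_gens {W : List (List Row × List Row)} (h : W.all matOK = true) :
    ∃ g : ℕ → ↥Co0, ∀ j < W.length, ∀ v : ↥leechLattice,
      rowOf ((g j • v : ↥leechLattice) : Zv) = mv (W.getD j ([], [])).1 (rowOf (v : Zv)) := by
  have H : ∀ j, ∃ a : ↥Co0, j < W.length → ∀ v : ↥leechLattice,
      rowOf ((a • v : ↥leechLattice) : Zv) = mv (W.getD j ([], [])).1 (rowOf (v : Zv)) := by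
    intro j
    by_cases hj : j < W.length
    · obtain ⟨a, ha⟩ := exists_elem (List.all_eq_true.1 h _ (List.getElem_mem hj))
      refine ⟨a, fun _ v => ?_⟩
      rw [ha, mv_spec, List.getD_eq_getElem _ _ hj]
    · exact ⟨1, fun h' => absurd h' hj⟩
  choose g hg using H
  exact ⟨g, hg⟩

theorem lval_row {W : List (List Row × List Row)} {g : ℕ → ↥Co0}
    (hg : ∀ j < W.length, ∀ v : ↥leechLattice,
      rowOf ((g j • v : ↥leechLattice) : Zv) = mv (W.getD j ([], [])).1 (rowOf (v : Zv))) :
    ∀ w : List ℕ, (∀ j ∈ w, j < W.length) → ∀ v : ↥leechLattice,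
      rowOf ((lval g w • v : ↥leechLattice) : Zv) = ev W w (rowOf (v : Zv))
  | [], _, v => by simp [lval, ev]
  | j :: w, hw, v => by
    rw [lval_cons, mul_smul, hg j (hw j List.mem_cons_self), lval_row hg w
      (fun i hi => hw i (List.mem_cons_of_mem _ hi))]
    simp only [ev, List.foldr_cons, forceL_eq]

theorem digits_zero : ∀ (n : ℕ) (d : ℕ → ℤ), (∀ i < n, -16 ≤ d i ∧ d i ≤ 16) →
    ∑ i ∈ Finset.range n, d i * 32 ^ i = 0 → ∀ i < n, d i = 0
  | 0, _, _, _ => fun i hi => absurd hi (Nat.not_lt_zero i)
  | n + 1, d, hd, hs => by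
    rw [Finset.sum_range_succ'] at hs
    have e : ∑ i ∈ Finset.range n, d (i + 1) * 32 ^ (i + 1) = 32 * ∑ i ∈ Finset.range n, d (i + 1) * 32 ^ i := by
      rw [Finset.mul_sum]
      exact Finset.sum_congr rfl fun i _ => by rw [pow_succ]; ring
    rw [e, pow_zero, mul_one] at hs
    have hb := hd 0 (Nat.succ_pos n)
    have hS : ∑ i ∈ Finset.range n, d (i + 1) * 32 ^ i = 0 := by omega
    have h0 : d 0 = 0 := by omega
    have ih := digits_zero n (fun i => d (i + 1)) (fun i hi => hd _ (Nat.succ_lt_succ hi)) hS
    intro i hi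
    cases i with
    | zero => exact h0
    | succ i => exact ih i (Nat.lt_of_succ_lt_succ hi)

theorem rel_true {W : List (List Row × List Row)} {g : ℕ → ↥Co0}
    (hg : ∀ j < W.length, ∀ v : ↥leechLattice,
      rowOf ((g j • v : ↥leechLattice) : Zv) = mv (W.getD j ([], [])).1 (rowOf (v : Zv)))
    {u : Rule} (h1 : ∀ j ∈ u.1, j < W.length) (h2 : ∀ j ∈ u.2, j < W.length) (h : relOK W u = true) :
    lval g u.1 = lval g u.2 := by
  simp only [relOK, forceL_eq, beq_iff_eq] at h
  have hpk : vecOf packV ∈ leechLattice := by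
    have e : vecOf packV = ∑ q : GolayPt, ((32 : ℤ) ^ idx q) • (e8 q : Zv) := by
      funext p
      simp [vecOf, packV, e8, Finset.sum_apply, Pi.single_apply, idx_lt p, mul_comm]
    rw [e]
    exact sum_mem fun q _ => zsmul_mem (e8 q).2 _
  let P : ↥leechLattice := ⟨vecOf packV, hpk⟩
  have hP : rowOf (P : Zv) = packV := List.map_congr_left fun k hk => by
    have hk' := List.mem_range.1 hk
    simp [P, vecOf, packV, idx_pt k hk', hk']
  have hP2 : ∀ q, (P : Zv) q = 8 * 32 ^ idx q := fun q => by simp [P, vecOf, packV, idx_lt q]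
  have hd : ∀ k, ((lval g u.1 • P : ↥leechLattice) : Zv) k = ((lval g u.2 • P : ↥leechLattice) : Zv) k := fun k => by
    rw [← vecOf_rowOf ((lval g u.1 • P : ↥leechLattice) : Zv), lval_row hg _ h1, hP, h, ← hP, ← lval_row hg _ h2,
      vecOf_rowOf]
  have hbd : ∀ (a : ↥Co0) q k, -8 ≤ ((a • e8 q : ↥leechLattice) : Zv) k ∧
      ((a • e8 q : ↥leechLattice) : Zv) k ≤ 8 := fun a q k => by
    have hn : sqNorm ((a • e8 q : ↥leechLattice) : Zv) = 64 := (a.2.2 _).trans (e8_norm q)
    have hle : ((a • e8 q : ↥leechLattice) : Zv) k ^ 2 ≤ 64 := by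
      rw [← hn]
      exact Finset.single_le_sum (f := fun i => ((a • e8 q : ↥leechLattice) : Zv) i ^ 2)
        (fun i _ => sq_nonneg _) (Finset.mem_univ k)
    constructor <;> nlinarith
  have hre : ∀ f : GolayPt → ℤ, ∑ q, f q * 32 ^ idx q = ∑ i ∈ Finset.range 24, f (pt i) * 32 ^ i := fun f => by
    refine Finset.sum_nbij' idx pt (fun q _ => Finset.mem_range.2 (idx_lt q)) (fun i _ => Finset.mem_univ _)
      (fun q _ => pt_idx q) (fun i hi => idx_pt i (Finset.mem_range.1 hi)) fun q _ => by rw [pt_idx]
  have he : ∀ q k, ((lval g u.1 • e8 q : ↥leechLattice) : Zv) k = ((lval g u.2 • e8 q : ↥leechLattice) : Zv) k := by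
    intro q k
    have e1 := eight_expand (lval g u.1) P k
    have e2 := eight_expand (lval g u.2) P k
    simp only [hP2, mul_assoc, ← Finset.mul_sum] at e1 e2
    have e3 : ∑ q, (((lval g u.1 • e8 q : ↥leechLattice) : Zv) k - ((lval g u.2 • e8 q : ↥leechLattice) : Zv) k) *
        32 ^ idx q = 0 := by
      have := hd k
      simp only [sub_mul, Finset.sum_sub_distrib]
      simp only [mul_comm _ ((32 : ℤ) ^ idx _)]
      linarith
    rw [hre] at e3
    have h0 := digits_zero 24 _ (fun i _ => by
      have b1 := hbd (lval g u.1) (pt i) k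
      have b2 := hbd (lval g u.2) (pt i) k
      constructor <;> linarith [b1.1, b1.2, b2.1, b2.2]) e3 (idx q) (idx_lt q)
    rw [pt_idx] at h0
    linarith
  refine Subtype.ext (Equiv.ext fun v => Subtype.ext (funext fun k => ?_))
  have e1 := eight_expand (lval g u.1) v k
  have e2 := eight_expand (lval g u.2) v k
  simp only [he] at e1
  show ((lval g u.1 • v : ↥leechLattice) : Zv) k = ((lval g u.2 • v : ↥leechLattice) : Zv) k
  omega

theorem chain_card {W : List (List Row × List Row)} {g : ℕ → ↥Co0}
    (hg : ∀ j < W.length, ∀ v : ↥leechLattice,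
      rowOf ((g j • v : ↥leechLattice) : Zv) = mv (W.getD j ([], [])).1 (rowOf (v : Zv)))
    {n : ℕ} (hn : n ≤ W.length) : ∀ (Ls : List (List ℤ × List (List ℕ))) (fixed : List (List ℤ)),
    chainV W n Ls fixed = true →
      chainProd Ls ≤ Set.ncard {k : ↥Co0 | k ∈ Subgroup.closure (g '' Set.Ico 0 n) ∧
        ∀ v : ↥leechLattice, rowOf (v : Zv) ∈ fixed → k • v = v}
  | [], fixed, _ => by
    haveI := co0_finite
    show 1 ≤ _
    exact (Set.ncard_pos (Set.toFinite _)).2 ⟨1, one_mem _, fun v _ => one_smul _ v⟩
  | L :: Ls, fixed, h => by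
    haveI := co0_finite
    simp only [chainV, Bool.and_eq_true, List.all_eq_true, Nat.beq_eq, Nat.blt_eq, beq_iff_eq] at h
    obtain ⟨⟨⟨⟨hlen, hmem⟩, hw⟩, hinc⟩, hrest⟩ := h
    have ih := chain_card hg hn Ls _ hrest
    set K := Subgroup.closure (g '' Set.Ico 0 n)
    let b : ↥leechLattice := ⟨vecOf L.1, leechCheck_mem hmem⟩
    have hb : rowOf (b : Zv) = L.1 := List.ext_getElem (by simp [rowOf, hlen]) fun k h1 h2 => by
      have hk : k < 24 := hlen ▸ h2
      simp only [b, rowOf, List.getElem_map, List.getElem_range, vecOf, idx_pt k hk,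
        List.getD_eq_getElem _ _ h2]
    set S' := {k : ↥Co0 | k ∈ K ∧ ∀ v : ↥leechLattice, rowOf (v : Zv) ∈ fixed ++ [L.1] → k • v = v}
    have hu : ∀ i : Fin L.2.length, lval g L.2[i] ∈ K ∧
        (∀ v : ↥leechLattice, rowOf (v : Zv) ∈ fixed → lval g L.2[i] • v = v) := by
      intro i
      have hi := hw _ (List.getElem_mem i.2)
      refine ⟨Subgroup.list_prod_mem _ fun y hy => ?_, fun v hv => ?_⟩
      · obtain ⟨j, hj, rfl⟩ := List.mem_map.1 hy
        exact Subgroup.subset_closure ⟨j, ⟨Nat.zero_le j, hi.1 j hj⟩, rfl⟩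
      · refine Subtype.ext ?_
        have e := lval_row hg L.2[i] (fun j hj => lt_of_lt_of_le (hi.1 j hj) hn) v
        rw [← vecOf_rowOf ((lval g L.2[i] • v : ↥leechLattice) : Zv)]
        exact (congrArg vecOf (e.trans (hi.2 _ hv))).trans (vecOf_rowOf _)
    let f : Fin L.2.length × S' →
        {k : ↥Co0 | k ∈ K ∧ ∀ v : ↥leechLattice, rowOf (v : Zv) ∈ fixed → k • v = v} := fun z =>
      ⟨lval g L.2[z.1] * z.2.1, K.mul_mem (hu z.1).1 z.2.2.1, fun v hv => by
        rw [mul_smul, z.2.2.2 v (List.mem_append_left _ hv)]; exact (hu z.1).2 v hv⟩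
    have hf : Function.Injective f := by
      rintro ⟨i, k⟩ ⟨i', k'⟩ e
      have e1 : lval g L.2[i] * k.1 = lval g L.2[i'] * k'.1 := congrArg Subtype.val e
      have e2 := congrArg (fun a : ↥Co0 => rowOf ((a • b : ↥leechLattice) : Zv)) e1
      have hk : ∀ k : S', k.1 • b = b := fun k => k.2.2 b (List.mem_append_right _ (by simp [hb]))
      simp only [mul_smul, hk] at e2
      have hl : ∀ i : Fin L.2.length, ∀ j ∈ L.2[i], j < W.length := fun i j hj =>
        lt_of_lt_of_le ((hw _ (List.getElem_mem i.2)).1 j hj) hn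
      rw [lval_row hg _ (hl i), lval_row hg _ (hl i'), hb] at e2
      have hnd := (incr_sorted _ hinc).nodup
      have hii : i = i' := Fin.ext ((hnd.getElem_inj_iff (hi := by simp) (hj := by simp)).1
        (by rw [List.getElem_map, List.getElem_map]; exact congrArg vcode e2))
      subst hii
      exact Prod.ext rfl (Subtype.ext (mul_left_cancel e1))
    have hc := Nat.card_le_card_of_injective f hf
    rw [Nat.card_prod, Nat.card_fin, Nat.card_coe_set_eq, Nat.card_coe_set_eq] at hc
    calc chainProd (L :: Ls) = L.2.length * chainProd Ls := by simp [chainProd]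
      _ ≤ L.2.length * S'.ncard := Nat.mul_le_mul_left _ ih
      _ ≤ _ := hc

/-- No stem kernel of prime order over Co0. -/
theorem no_kernel {C : Cert} (hC : C.Valid) (hp : C.p.Prime) {W : List (List Row × List Row)}
    (hW : W.all matOK = true) (hlen : C.ng = W.length) (hrel : C.rels.all (relOK W) = true)
    {ch : List (List ℤ × List (List ℕ))} (hch : chainV W C.n ch [] = true) (hsize : C.p ^ C.n ≤ chainProd ch)
    (hidx : ¬ C.p ∣ 8315553613086720000 / C.p ^ C.n) {Δ : Type*} [Group Δ] [Finite Δ] {τ : Δ →* ↥Co0}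
    (hτ : Cfsg.IsStemExtension τ) (hcard : Nat.card τ.ker = C.p) : False := by
  obtain ⟨g, hg⟩ := exists_gens hW
  obtain ⟨hs, hc, hd⟩ := hτ
  have hnn : C.n ≤ W.length := hlen ▸ hC.nng
  have hlet := hC.letters
  simp only [List.all_eq_true, Bool.and_eq_true, Nat.blt_eq] at hlet
  refine no_prime hC hp τ hs hc hd hcard g ?_ ?_ ?_
  · intro u hu
    exact rel_true hg (fun j hj => hlen ▸ (hlet u hu).1 j hj) (fun j hj => hlen ▸ (hlet u hu).2 j hj)
      (List.all_eq_true.1 hrel u hu)
  · refine hsize.trans ((chain_card hg hnn ch [] hch).trans ?_)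
    haveI := co0_finite
    exact (Set.ncard_le_ncard (fun k hk => hk.1) (Set.toFinite _)).trans
      (Nat.card_coe_set_eq (Subgroup.closure (g '' Set.Ico 0 C.n) : Set ↥Co0)).ge
  · rw [card_co0]; exact hidx

end Cfsg.Agent.Lie.ConwayZeroMult
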