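import Cfsg.Agent.Lib.Lie.CentralRewrite.Main

/-!
Data for the part at the prime 5 of the multiplier of the double cover of the first Conway group: matrices,
relations, pairs of derivations and combinations.
-/

set_option autoImplicit false
set_option maxRecDepth 100000

namespace Cfsg.Agent.Lie.ConwayZeroMult

open CentralRewrite

/-- part of the generators and their transposes -/
def fiveW0 : List (List (List (ℕ × ℤ)) × List (List (ℕ × ℤ))) :=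
  [([[(1, 2), (2, 4), (0, 2), (1, (-2)), (0, (-2)), (4, 2), (0, (-2)), (0, (-2)), (2, 2), (0, (-2)), (0, 2), (1, (-2)), (0, (-2))],
      [(0, (-4)), (0, (-2)), (3, (-2)), (1, 2), (0, 2), (4, 2), (0, (-2)), (0, 2), (2, 2), (0, (-2)), (0, 2), (1, (-2)), (0, 2)],
      [(0, 2), (1, (-2)), (0, 2), (0, (-2)), (1, (-2)), (2, 2), (0, (-2)), (0, 2), (0, (-2)), (3, 2), (0, (-2)), (3, (-2)), (0, (-4))],
      [(1, (-2)), (3, (-2)), (1, (-2)), (0, 2), (4, 2), (0, (-2)), (0, (-2)), (0, 4), (1, 2), (0, 2), (0, (-2)), (1, 2), (0, (-2))],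
      [(0, 2), (1, 2), (0, (-2)), (0, (-2)), (1, (-2)), (2, (-2)), (0, 2), (0, 2), (0, 2), (3, 2), (0, (-2)), (2, 4), (0, 2)],
      [(1, 2), (1, 4), (1, 2), (1, (-2)), (0, 2), (4, (-2)), (0, (-2)), (0, 2), (2, 2), (0, 2), (0, 2), (1, 2), (0, 2)],
      [(0, 2), (1, (-2)), (0, 2), (0, 2), (1, 2), (0, 4), (1, (-2)), (0, 2), (0, (-2)), (0, 2), (3, 2), (0, (-2)), (3, (-2))],
      [(1, 2), (3, (-2)), (1, 2), (0, (-2)), (2, 4), (1, (-2)), (0, (-2)), (0, (-2)), (2, 2), (0, (-2)), (0, (-2)), (1, 2), (0, 2)],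
      [(0, 2), (0, (-4)), (0, (-2)), (0, 2), (0, 2), (1, (-2)), (2, 2), (0, 2), (0, 2), (0, 2), (3, (-2)), (0, 2), (3, 2)],
      [(0, 2), (1, 2), (0, 2), (0, 2), (0, (-4)), (0, (-2)), (2, (-2)), (0, (-2)), (0, (-2)), (0, (-2)), (3, (-2)), (0, (-2)), (3, 2)],
      [(1, (-2)), (3, 2), (1, (-2)), (0, (-2)), (4, 2), (0, 2), (0, 2), (1, (-4)), (0, 2), (0, (-2)), (0, (-2)), (1, 2), (0, 2)],
      [(1, (-2)), (3, 2), (1, 2), (0, 2), (1, (-4)), (2, (-2)), (0, 2), (0, (-2)), (2, 2), (0, (-2)), (0, 2), (1, 2), (0, (-2))],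
      [(1, 2), (3, 2), (0, (-4)), (0, 2), (0, 2), (4, 2), (0, (-2)), (0, 2), (2, (-2)), (0, (-2)), (0, (-2)), (1, 2), (0, (-2))],
      [(0, (-2)), (1, 2), (0, 2), (0, 2), (1, (-2)), (2, (-2)), (0, 2), (0, 2), (0, (-2)), (1, 4), (1, 2), (0, 2), (3, (-2))],
      [(1, (-2)), (3, 2), (1, (-2)), (0, 2), (0, (-4)), (3, (-2)), (0, (-2)), (0, (-2)), (2, (-2)), (0, (-2)), (0, (-2)), (1, (-2)), (0, 2)],
      [(0, (-2)), (1, (-2)), (0, 2), (0, (-2)), (1, 2), (2, (-2)), (0, 2), (0, 2), (0, (-2)), (3, (-2)), (0, (-2)), (3, 2), (1, (-4))],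
      [(0, (-2)), (1, (-2)), (0, (-2)), (0, 2), (1, (-2)), (2, 2), (0, 2), (0, (-2)), (0, (-2)), (0, (-4)), (2, 2), (0, (-2)), (3, 2)],
      [(1, 2), (3, (-2)), (1, (-2)), (0, 2), (3, 4), (0, (-2)), (0, 2), (0, 2), (2, 2), (0, (-2)), (0, (-2)), (1, (-2)), (0, (-2))],
      [(0, 2), (1, (-2)), (0, (-2)), (0, 2), (1, 2), (2, (-2)), (0, (-2)), (0, 2), (0, (-2)), (2, 4), (0, 2), (0, 2), (3, 2)],
      [(1, 2), (0, (-4)), (2, (-2)), (1, (-2)), (0, 2), (4, 2), (0, 2), (0, (-2)), (2, (-2)), (0, (-2)), (0, 2), (1, 2), (0, 2)],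
      [(1, 2), (3, 2), (1, 2), (0, 2), (4, 2), (0, 2), (0, (-2)), (2, 2), (0, 2), (0, (-2)), (0, 4), (0, (-2)), (0, 2)],
      [(0, 2), (1, 2), (0, (-2)), (0, 2), (1, 2), (1, 4), (0, 2), (0, 2), (0, 2), (0, (-2)), (3, (-2)), (0, (-2)), (3, (-2))],
      [(0, 2), (1, (-2)), (0, (-2)), (0, (-2)), (1, (-2)), (2, (-2)), (0, 2), (0, (-2)), (0, (-2)), (3, (-2)), (0, 2), (0, 4), (2, (-2))],
      [(0, 2), (1, 2), (0, 2), (0, (-2)), (1, 2), (2, 2), (0, 2), (0, (-2)), (0, (-2)), (3, 2), (0, 2), (1, (-4)), (1, 2)]],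
     [[(1, (-4)), (0, 2), (1, 2), (1, 2), (1, 2), (0, 2), (3, (-2)), (1, (-2)), (0, (-2)), (1, 2), (2, 2), (0, 2), (0, 2)],
      [(0, 2), (0, (-2)), (1, (-2)), (1, 2), (1, 2), (0, (-4)), (1, (-2)), (0, (-2)), (0, 2), (1, (-2)), (2, 2), (1, 2), (0, 2)],
      [(2, (-2)), (1, 2), (1, (-2)), (1, (-2)), (0, 2), (3, 2), (1, (-2)), (0, (-2)), (1, (-2)), (0, (-4)), (1, 2), (0, (-2)), (0, 2)],
      [(2, 2), (1, (-2)), (0, 4), (0, 2), (1, 2), (0, 2), (3, 2), (1, 2), (0, (-2)), (1, (-2)), (2, (-2)), (0, (-2)), (0, 2)],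
      [(0, 4), (1, (-2)), (1, (-2)), (1, 2), (1, 2), (0, 2), (3, 2), (1, (-2)), (0, 2), (1, 2), (2, 2), (0, (-2)), (0, (-2))],
      [(0, 2), (0, (-2)), (1, (-2)), (1, 2), (1, (-2)), (1, (-4)), (0, 2), (0, 2), (0, 2), (1, 2), (2, (-2)), (1, (-2)), (0, 2)],
      [(2, (-2)), (1, (-2)), (1, 2), (1, (-2)), (0, (-2)), (2, (-4)), (0, (-2)), (1, 2), (0, (-2)), (1, 2), (2, 2), (0, (-2)), (0, 2)],
      [(0, (-2)), (0, 2), (1, (-2)), (1, (-2)), (0, 4), (0, 2), (2, (-2)), (0, 2), (0, 2), (1, (-2)), (2, (-2)), (1, (-2)), (0, 2)],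
      [(0, (-2)), (0, 2), (1, 2), (1, 2), (1, (-2)), (2, (-2)), (0, 2), (0, 2), (1, 2), (2, 2), (1, 2), (0, 2), (0, 4)],
      [(2, 2), (1, (-2)), (1, (-2)), (1, 2), (0, (-2)), (3, (-2)), (0, (-4)), (0, (-2)), (0, 2), (1, (-2)), (2, 2), (0, (-2)), (0, 2)],
      [(2, (-2)), (1, 2), (1, 2), (1, 2), (0, (-2)), (1, (-4)), (1, 2), (1, 2), (0, 2), (1, (-2)), (2, 2), (0, 2), (0, 2)],
      [(2, 2), (1, 2), (1, (-2)), (0, 4), (0, 2), (0, (-2)), (3, 2), (1, 2), (0, (-2)), (1, 2), (2, 2), (0, (-2)), (0, (-2))],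
      [(2, (-2)), (1, 2), (1, 2), (1, 2), (0, (-2)), (3, (-2)), (1, (-2)), (0, (-2)), (0, 4), (0, (-2)), (2, (-2)), (0, (-2)), (0, (-2))],
      [(0, 2), (0, 2), (1, 2), (1, (-2)), (1, (-2)), (2, 2), (0, (-2)), (0, 2), (1, (-2)), (1, (-4)), (0, (-2)), (1, 2), (0, 2)],
      [(0, (-2)), (0, (-2)), (1, (-2)), (1, (-2)), (1, (-2)), (2, 2), (0, 2), (0, (-2)), (0, 4), (0, (-2)), (2, 2), (1, 2), (0, 2)],
      [(0, (-2)), (0, 2), (1, (-2)), (1, 2), (1, (-2)), (2, 2), (0, (-2)), (0, 2), (1, (-2)), (2, 2), (0, 4), (0, (-2)), (0, (-2))],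
      [(2, 2), (0, 4), (0, 2), (1, 2), (1, (-2)), (0, (-2)), (3, 2), (1, (-2)), (0, 2), (1, 2), (2, (-2)), (0, (-2)), (0, 2)],
      [(2, (-2)), (1, (-2)), (1, (-2)), (1, 2), (0, (-2)), (0, (-4)), (2, 2), (1, (-2)), (0, (-2)), (1, 2), (2, (-2)), (0, 2), (0, 2)],
      [(0, 2), (0, 2), (1, 2), (1, 2), (1, 2), (2, 2), (0, 2), (0, (-2)), (1, (-2)), (2, 2), (1, (-2)), (0, 2), (1, 4)],
      [(0, (-2)), (0, (-2)), (1, 2), (1, 2), (1, (-2)), (2, (-2)), (0, (-2)), (0, (-2)), (1, (-2)), (2, (-2)), (1, (-2)), (0, 2), (2, (-4))],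
      [(0, 2), (0, 2), (1, (-2)), (0, 4), (0, 2), (1, (-2)), (2, (-2)), (0, 2), (0, (-2)), (1, (-2)), (2, (-2)), (1, 2), (0, (-2))],
      [(2, (-2)), (1, 2), (1, (-2)), (1, 2), (0, 2), (3, (-2)), (1, 2), (0, 2), (1, 2), (1, 4), (0, (-2)), (0, (-2)), (0, 2)],
      [(0, (-2)), (0, (-2)), (0, (-4)), (0, 2), (1, 2), (1, 2), (2, 2), (0, 2), (0, 2), (1, (-2)), (2, (-2)), (1, 2), (0, (-2))],
      [(0, (-2)), (0, 2), (1, (-2)), (1, 2), (1, 2), (2, 2), (0, (-2)), (0, (-2)), (1, 2), (0, (-4)), (1, (-2)), (1, 2), (0, 2)]]),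
    ([[(0, (-3)), (0, 1), (0, 1), (0, 1), (0, 1), (0, (-1)), (0, 3), (0, 1), (0, 1), (0, 1), (0, 1), (0, (-1)), (0, 1), (0, 1), (0, 1), (0, 1), (0, (-1)), (0, 1), (0, 1), (0, 3), (0, 3), (0, 3), (0, 1), (0, (-1))],
      [(0, 3), (0, (-1)), (0, (-1)), (0, (-1)), (0, (-1)), (0, (-3)), (0, 1), (0, (-1)), (0, (-1)), (0, (-1)), (0, (-1)), (0, (-3)), (0, (-1)), (0, (-1)), (0, (-1)), (0, (-1)), (0, (-3)), (0, (-1)), (0, (-1)), (0, 1), (0, 1), (0, 1), (0, (-1)), (0, (-3))],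
      [(0, 1), (0, 1), (0, (-3)), (0, 1), (0, 1), (0, (-1)), (0, (-1)), (0, 1), (0, 1), (0, 1), (0, 1), (0, 3), (0, 1), (0, 1), (0, 1), (0, (-3)), (0, (-1)), (0, 1), (0, (-3)), (0, (-1)), (0, (-1)), (0, 3), (0, 1), (0, (-1))],
      [(0, (-1)), (0, 3), (0, (-1)), (0, (-1)), (0, (-1)), (0, 1), (0, 1), (0, (-1)), (0, (-1)), (0, 3), (0, (-1)), (0, 1), (0, (-1)), (0, 3), (0, (-1)), (0, (-1)), (0, (-3)), (0, (-1)), (0, (-1)), (0, 1), (0, 1), (0, (-3)), (0, (-1)), (0, 1)],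
      [(0, 1), (0, 1), (0, (-3)), (0, 1), (0, (-3)), (0, (-1)), (0, 3), (0, 1), (0, 1), (0, 1), (0, (-3)), (0, (-1)), (0, 1), (0, 1), (0, 1), (0, 1), (0, 3), (0, 1), (0, 1), (0, (-1)), (0, (-1)), (0, (-1)), (0, 1), (0, (-1))],
      [(0, (-1)), (0, 3), (0, (-1)), (0, (-1)), (0, (-1)), (0, (-3)), (0, (-3)), (0, (-1)), (0, (-1)), (0, (-1)), (0, (-1)), (0, 1), (0, (-1)), (0, (-1)), (0, 3), (0, 3), (0, 1), (0, (-1)), (0, (-1)), (0, 1), (0, 1), (0, 1), (0, (-1)), (0, 1)],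
      [(0, (-3)), (0, (-3)), (0, 1), (0, 1), (0, (-3)), (0, (-1)), (0, (-1)), (0, 1), (0, 1), (0, 1), (0, 1), (0, (-1)), (0, 1), (0, 1), (0, 1), (0, 1), (0, (-1)), (0, (-3)), (0, (-3)), (0, (-1)), (0, (-1)), (0, (-1)), (0, 1), (0, (-1))],
      [(0, (-1)), (0, (-1)), (0, (-1)), (0, 3), (0, (-1)), (0, 1), (0, 1), (0, (-1)), (0, (-5)), (0, (-1)), (0, (-1)), (0, 1), (0, (-1)), (0, (-1)), (0, (-1)), (0, (-1)), (0, 1), (0, (-1)), (0, (-1)), (0, 1), (0, 1), (0, 1), (0, 3), (0, 1)],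
      [(0, 3), (0, (-1)), (0, (-1)), (0, (-1)), (0, (-1)), (0, 1), (0, 1), (0, 3), (0, (-1)), (0, 3), (0, 3), (0, 1), (0, (-1)), (0, (-1)), (0, (-1)), (0, 3), (0, 1), (0, (-1)), (0, (-1)), (0, 1), (0, 1), (0, 1), (0, (-1)), (0, 1)],
      [(0, (-1)), (0, 3), (0, (-1)), (0, (-1)), (0, (-1)), (0, 1), (0, 1), (0, (-1)), (0, (-1)), (0, (-1)), (0, 3), (0, (-3)), (0, 3), (0, (-1)), (0, (-1)), (0, (-1)), (0, 1), (0, (-1)), (0, (-1)), (0, (-3)), (0, 1), (0, 1), (0, (-1)), (0, 1)],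
      [(0, (-1)), (0, (-1)), (0, (-1)), (0, (-1)), (0, (-1)), (0, 1), (0, (-3)), (0, 3), (0, (-1)), (0, (-1)), (0, (-1)), (0, (-3)), (0, (-1)), (0, 3), (0, (-1)), (0, (-1)), (0, 1), (0, 3), (0, (-1)), (0, 1), (0, 1), (0, 1), (0, (-1)), (0, 1)],
      [(0, 1), (0, 1), (0, 1), (0, 1), (0, 1), (0, (-1)), (0, (-1)), (0, (-3)), (0, 1), (0, 1), (0, 1), (0, (-1)), (0, 1), (0, 1), (0, (-3)), (0, 1), (0, 3), (0, 1), (0, (-3)), (0, 3), (0, (-1)), (0, (-1)), (0, 1), (0, (-1))],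
      [(0, (-3)), (0, 1), (0, (-3)), (0, 1), (0, 1), (0, (-1)), (0, (-1)), (0, 1), (0, 1), (0, 1), (0, 1), (0, (-1)), (0, (-3)), (0, (-3)), (0, (-3)), (0, 1), (0, (-1)), (0, 1), (0, 1), (0, (-1)), (0, (-1)), (0, (-1)), (0, 1), (0, (-1))],
      [(0, 1), (0, 1), (0, 1), (0, 1), (0, (-3)), (0, (-1)), (0, (-1)), (0, 1), (0, 1), (0, 1), (0, 1), (0, (-1)), (0, 1), (0, (-3)), (0, 1), (0, (-3)), (0, (-1)), (0, 1), (0, 1), (0, 3), (0, (-1)), (0, (-1)), (0, 1), (0, 3)],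
      [(0, (-1)), (0, (-1)), (0, 3), (0, (-1)), (0, (-1)), (0, (-3)), (0, 1), (0, (-1)), (0, (-1)), (0, 3), (0, (-1)), (0, 1), (0, (-1)), (0, (-1)), (0, (-1)), (0, (-1)), (0, 1), (0, 3), (0, (-1)), (0, (-3)), (0, 1), (0, 1), (0, (-1)), (0, 1)],
      [(0, 1), (0, 1), (0, 1), (0, 1), (0, 1), (0, (-1)), (0, (-1)), (0, 1), (0, 1), (0, 1), (0, 1), (0, (-1)), (0, (-3)), (0, 1), (0, 1), (0, (-3)), (0, 3), (0, (-3)), (0, 1), (0, (-1)), (0, 3), (0, (-1)), (0, 1), (0, (-1))],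
      [(0, 1), (0, 1), (0, 1), (0, 5), (0, 1), (0, (-1)), (0, (-1)), (0, 1), (0, (-3)), (0, 1), (0, 1), (0, (-1)), (0, 1), (0, 1), (0, 1), (0, 1), (0, (-1)), (0, 1), (0, 1), (0, (-1)), (0, (-1)), (0, (-1)), (0, (-3)), (0, (-1))],
      [(0, 1), (0, 1), (0, 1), (0, 1), (0, 1), (0, (-1)), (0, (-1)), (0, 1), (0, 1), (0, 1), (0, (-3)), (0, (-1)), (0, 1), (0, 1), (0, (-3)), (0, 1), (0, (-1)), (0, (-3)), (0, 1), (0, (-1)), (0, (-1)), (0, 3), (0, 1), (0, 3)],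
      [(0, 1), (0, 1), (0, 1), (0, 1), (0, 1), (0, (-1)), (0, 3), (0, 1), (0, 1), (0, (-3)), (0, 1), (0, (-1)), (0, (-3)), (0, 1), (0, 1), (0, 1), (0, (-1)), (0, 1), (0, (-3)), (0, (-1)), (0, (-1)), (0, (-1)), (0, 1), (0, 3)],
      [(0, (-1)), (0, (-1)), (0, (-1)), (0, (-1)), (0, 3), (0, 1), (0, 1), (0, (-1)), (0, (-1)), (0, 3), (0, (-1)), (0, (-3)), (0, (-1)), (0, (-1)), (0, 3), (0, (-1)), (0, 1), (0, (-1)), (0, (-1)), (0, 1), (0, (-3)), (0, 1), (0, (-1)), (0, 1)],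
      [(0, (-1)), (0, 3), (0, 3), (0, (-1)), (0, (-1)), (0, 1), (0, 1), (0, 3), (0, (-1)), (0, (-1)), (0, (-1)), (0, 1), (0, (-1)), (0, (-1)), (0, (-1)), (0, (-1)), (0, 1), (0, (-1)), (0, (-1)), (0, 1), (0, (-3)), (0, 1), (0, (-1)), (0, (-3))],
      [(0, (-1)), (0, (-1)), (0, (-1)), (0, (-1)), (0, 3), (0, (-3)), (0, 1), (0, 3), (0, (-1)), (0, (-1)), (0, (-1)), (0, 1), (0, 3), (0, (-1)), (0, (-1)), (0, (-1)), (0, 1), (0, (-1)), (0, (-1)), (0, 1), (0, 1), (0, (-3)), (0, (-1)), (0, 1)],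
      [(0, (-1)), (0, (-1)), (0, (-1)), (0, 3), (0, (-1)), (0, 1), (0, 1), (0, (-1)), (0, 3), (0, (-1)), (0, (-1)), (0, 1), (0, (-1)), (0, (-1)), (0, (-1)), (0, (-1)), (0, 1), (0, (-1)), (0, (-1)), (0, 1), (0, 1), (0, 1), (0, (-5)), (0, 1)],
      [(0, 1), (0, 1), (0, 1), (0, 1), (0, 1), (0, 3), (0, (-1)), (0, 1), (0, 1), (0, 1), (0, (-3)), (0, (-1)), (0, 1), (0, (-3)), (0, 1), (0, 1), (0, (-1)), (0, 1), (0, (-3)), (0, (-1)), (0, 3), (0, (-1)), (0, 1), (0, (-1))]],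
     [[(0, (-3)), (0, 3), (0, 1), (0, (-1)), (0, 1), (0, (-1)), (0, (-3)), (0, (-1)), (0, 3), (0, (-1)), (0, (-1)), (0, 1), (0, (-3)), (0, 1), (0, (-1)), (0, 1), (0, 1), (0, 1), (0, 1), (0, (-1)), (0, (-1)), (0, (-1)), (0, (-1)), (0, 1)],
      [(0, 1), (0, (-1)), (0, 1), (0, 3), (0, 1), (0, 3), (0, (-3)), (0, (-1)), (0, (-1)), (0, 3), (0, (-1)), (0, 1), (0, 1), (0, 1), (0, (-1)), (0, 1), (0, 1), (0, 1), (0, 1), (0, (-1)), (0, 3), (0, (-1)), (0, (-1)), (0, 1)],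
      [(0, 1), (0, (-1)), (0, (-3)), (0, (-1)), (0, (-3)), (0, (-1)), (0, 1), (0, (-1)), (0, (-1)), (0, (-1)), (0, (-1)), (0, 1), (0, (-3)), (0, 1), (0, 3), (0, 1), (0, 1), (0, 1), (0, 1), (0, (-1)), (0, 3), (0, (-1)), (0, (-1)), (0, 1)],
      [(0, 1), (0, (-1)), (0, 1), (0, (-1)), (0, 1), (0, (-1)), (0, 1), (0, 3), (0, (-1)), (0, (-1)), (0, (-1)), (0, 1), (0, 1), (0, 1), (0, (-1)), (0, 1), (0, 5), (0, 1), (0, 1), (0, (-1)), (0, (-1)), (0, (-1)), (0, 3), (0, 1)],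
      [(0, 1), (0, (-1)), (0, 1), (0, (-1)), (0, (-3)), (0, (-1)), (0, (-3)), (0, (-1)), (0, (-1)), (0, (-1)), (0, (-1)), (0, 1), (0, 1), (0, (-3)), (0, (-1)), (0, 1), (0, 1), (0, 1), (0, 1), (0, 3), (0, (-1)), (0, 3), (0, (-1)), (0, 1)],
      [(0, (-1)), (0, (-3)), (0, (-1)), (0, 1), (0, (-1)), (0, (-3)), (0, (-1)), (0, 1), (0, 1), (0, 1), (0, 1), (0, (-1)), (0, (-1)), (0, (-1)), (0, (-3)), (0, (-1)), (0, (-1)), (0, (-1)), (0, (-1)), (0, 1), (0, 1), (0, (-3)), (0, 1), (0, 3)],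
      [(0, 3), (0, 1), (0, (-1)), (0, 1), (0, 3), (0, (-3)), (0, (-1)), (0, 1), (0, 1), (0, 1), (0, (-3)), (0, (-1)), (0, (-1)), (0, (-1)), (0, 1), (0, (-1)), (0, (-1)), (0, (-1)), (0, 3), (0, 1), (0, 1), (0, 1), (0, 1), (0, (-1))],
      [(0, 1), (0, (-1)), (0, 1), (0, (-1)), (0, 1), (0, (-1)), (0, 1), (0, (-1)), (0, 3), (0, (-1)), (0, 3), (0, (-3)), (0, 1), (0, 1), (0, (-1)), (0, 1), (0, 1), (0, 1), (0, 1), (0, (-1)), (0, 3), (0, 3), (0, (-1)), (0, 1)],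
      [(0, 1), (0, (-1)), (0, 1), (0, (-1)), (0, 1), (0, (-1)), (0, 1), (0, (-5)), (0, (-1)), (0, (-1)), (0, (-1)), (0, 1), (0, 1), (0, 1), (0, (-1)), (0, 1), (0, (-3)), (0, 1), (0, 1), (0, (-1)), (0, (-1)), (0, (-1)), (0, 3), (0, 1)],
      [(0, 1), (0, (-1)), (0, 1), (0, 3), (0, 1), (0, (-1)), (0, 1), (0, (-1)), (0, 3), (0, (-1)), (0, (-1)), (0, 1), (0, 1), (0, 1), (0, 3), (0, 1), (0, 1), (0, 1), (0, (-3)), (0, 3), (0, (-1)), (0, (-1)), (0, (-1)), (0, 1)],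
      [(0, 1), (0, (-1)), (0, 1), (0, (-1)), (0, (-3)), (0, (-1)), (0, 1), (0, (-1)), (0, 3), (0, 3), (0, (-1)), (0, 1), (0, 1), (0, 1), (0, (-1)), (0, 1), (0, 1), (0, (-3)), (0, 1), (0, (-1)), (0, (-1)), (0, (-1)), (0, (-1)), (0, (-3))],
      [(0, (-1)), (0, (-3)), (0, 3), (0, 1), (0, (-1)), (0, 1), (0, (-1)), (0, 1), (0, 1), (0, (-3)), (0, (-3)), (0, (-1)), (0, (-1)), (0, (-1)), (0, 1), (0, (-1)), (0, (-1)), (0, (-1)), (0, (-1)), (0, (-3)), (0, 1), (0, 1), (0, 1), (0, (-1))],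
      [(0, 1), (0, (-1)), (0, 1), (0, (-1)), (0, 1), (0, (-1)), (0, 1), (0, (-1)), (0, (-1)), (0, 3), (0, (-1)), (0, 1), (0, (-3)), (0, 1), (0, (-1)), (0, (-3)), (0, 1), (0, 1), (0, (-3)), (0, (-1)), (0, (-1)), (0, 3), (0, (-1)), (0, 1)],
      [(0, 1), (0, (-1)), (0, 1), (0, 3), (0, 1), (0, (-1)), (0, 1), (0, (-1)), (0, (-1)), (0, (-1)), (0, 3), (0, 1), (0, (-3)), (0, (-3)), (0, (-1)), (0, 1), (0, 1), (0, 1), (0, 1), (0, (-1)), (0, (-1)), (0, (-1)), (0, (-1)), (0, (-3))],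
      [(0, 1), (0, (-1)), (0, 1), (0, (-1)), (0, 1), (0, 3), (0, 1), (0, (-1)), (0, (-1)), (0, (-1)), (0, (-1)), (0, (-3)), (0, (-3)), (0, 1), (0, (-1)), (0, 1), (0, 1), (0, (-3)), (0, 1), (0, 3), (0, (-1)), (0, (-1)), (0, (-1)), (0, 1)],
      [(0, 1), (0, (-1)), (0, (-3)), (0, (-1)), (0, 1), (0, 3), (0, 1), (0, (-1)), (0, 3), (0, (-1)), (0, (-1)), (0, 1), (0, 1), (0, (-3)), (0, (-1)), (0, (-3)), (0, 1), (0, 1), (0, 1), (0, (-1)), (0, (-1)), (0, (-1)), (0, (-1)), (0, 1)],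
      [(0, (-1)), (0, (-3)), (0, (-1)), (0, (-3)), (0, 3), (0, 1), (0, (-1)), (0, 1), (0, 1), (0, 1), (0, 1), (0, 3), (0, (-1)), (0, (-1)), (0, 1), (0, 3), (0, (-1)), (0, (-1)), (0, (-1)), (0, 1), (0, 1), (0, 1), (0, 1), (0, (-1))],
      [(0, 1), (0, (-1)), (0, 1), (0, (-1)), (0, 1), (0, (-1)), (0, (-3)), (0, (-1)), (0, (-1)), (0, (-1)), (0, 3), (0, 1), (0, 1), (0, 1), (0, 3), (0, (-3)), (0, 1), (0, (-3)), (0, 1), (0, (-1)), (0, (-1)), (0, (-1)), (0, (-1)), (0, 1)],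
      [(0, 1), (0, (-1)), (0, (-3)), (0, (-1)), (0, 1), (0, (-1)), (0, (-3)), (0, (-1)), (0, (-1)), (0, (-1)), (0, (-1)), (0, (-3)), (0, 1), (0, 1), (0, (-1)), (0, 1), (0, 1), (0, 1), (0, (-3)), (0, (-1)), (0, (-1)), (0, (-1)), (0, (-1)), (0, (-3))],
      [(0, 3), (0, 1), (0, (-1)), (0, 1), (0, (-1)), (0, 1), (0, (-1)), (0, 1), (0, 1), (0, (-3)), (0, 1), (0, 3), (0, (-1)), (0, 3), (0, (-3)), (0, (-1)), (0, (-1)), (0, (-1)), (0, (-1)), (0, 1), (0, 1), (0, 1), (0, 1), (0, (-1))],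
      [(0, 3), (0, 1), (0, (-1)), (0, 1), (0, (-1)), (0, 1), (0, (-1)), (0, 1), (0, 1), (0, 1), (0, 1), (0, (-1)), (0, (-1)), (0, (-1)), (0, 1), (0, 3), (0, (-1)), (0, (-1)), (0, (-1)), (0, (-3)), (0, (-3)), (0, 1), (0, 1), (0, 3)],
      [(0, 3), (0, 1), (0, 3), (0, (-3)), (0, (-1)), (0, 1), (0, (-1)), (0, 1), (0, 1), (0, 1), (0, 1), (0, (-1)), (0, (-1)), (0, (-1)), (0, 1), (0, (-1)), (0, (-1)), (0, 3), (0, (-1)), (0, 1), (0, 1), (0, (-3)), (0, 1), (0, (-1))],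
      [(0, 1), (0, (-1)), (0, 1), (0, (-1)), (0, 1), (0, (-1)), (0, 1), (0, 3), (0, (-1)), (0, (-1)), (0, (-1)), (0, 1), (0, 1), (0, 1), (0, (-1)), (0, 1), (0, (-3)), (0, 1), (0, 1), (0, (-1)), (0, (-1)), (0, (-1)), (0, (-5)), (0, 1)],
      [(0, (-1)), (0, (-3)), (0, (-1)), (0, 1), (0, (-1)), (0, 1), (0, (-1)), (0, 1), (0, 1), (0, 1), (0, 1), (0, (-1)), (0, (-1)), (0, 3), (0, 1), (0, (-1)), (0, (-1)), (0, 3), (0, 3), (0, 1), (0, (-3)), (0, 1), (0, 1), (0, (-1))]])]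

/-- part of the generators and their transposes -/
def fiveW1 : List (List (List (ℕ × ℤ)) × List (List (ℕ × ℤ))) :=
  [([[(0, 1), (0, 1), (0, (-1)), (0, 1), (0, (-1)), (0, (-1)), (0, 1), (0, (-3)), (0, (-3)), (0, 1), (0, 1), (0, 1), (0, 1), (0, 3), (0, (-1)), (0, (-1)), (0, (-1)), (0, 1), (0, 1), (0, (-1)), (0, 3), (0, 3), (0, (-1)), (0, (-1))],
      [(0, 1), (0, 1), (0, 3), (0, 1), (0, (-1)), (0, (-1)), (0, 1), (0, 1), (0, 1), (0, 1), (0, 1), (0, (-3)), (0, 1), (0, (-1)), (0, 3), (0, (-1)), (0, (-1)), (0, 1), (0, (-3)), (0, (-1)), (0, (-1)), (0, 3), (0, (-1)), (0, (-1))],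
      [(0, 1), (0, 1), (0, 3), (0, 1), (0, 3), (0, (-1)), (0, 1), (0, (-3)), (0, 1), (0, 1), (0, 1), (0, 1), (0, 1), (0, (-1)), (0, (-1)), (0, (-1)), (0, (-1)), (0, (-3)), (0, 1), (0, (-1)), (0, (-1)), (0, (-1)), (0, 3), (0, (-1))],
      [(0, 1), (0, 1), (0, (-1)), (0, 1), (0, 3), (0, (-1)), (0, 1), (0, 1), (0, 1), (0, 1), (0, 1), (0, 1), (0, 1), (0, 3), (0, 3), (0, (-1)), (0, (-1)), (0, 1), (0, 1), (0, 3), (0, (-1)), (0, (-1)), (0, (-1)), (0, 3)],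
      [(0, (-1)), (0, (-1)), (0, 1), (0, (-1)), (0, 1), (0, 1), (0, (-1)), (0, (-1)), (0, (-1)), (0, (-1)), (0, 3), (0, (-1)), (0, (-1)), (0, 1), (0, 1), (0, (-3)), (0, 1), (0, 3), (0, (-1)), (0, 1), (0, 1), (0, (-3)), (0, 1), (0, (-3))],
      [(0, (-1)), (0, 3), (0, 1), (0, (-1)), (0, 1), (0, 5), (0, 3), (0, (-1)), (0, (-1)), (0, (-1)), (0, (-1)), (0, (-1)), (0, (-1)), (0, 1), (0, 1), (0, 1), (0, 1), (0, (-1)), (0, (-1)), (0, 1), (0, 1), (0, 1), (0, 1), (0, 1)],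
      [(0, (-1)), (0, (-1)), (0, 1), (0, (-1)), (0, 1), (0, 1), (0, (-1)), (0, (-1)), (0, (-1)), (0, (-1)), (0, (-1)), (0, (-1)), (0, 3), (0, 1), (0, (-3)), (0, 1), (0, (-3)), (0, 3), (0, (-1)), (0, 1), (0, (-3)), (0, 1), (0, 1), (0, 1)],
      [(0, 1), (0, 1), (0, (-1)), (0, 1), (0, (-1)), (0, (-1)), (0, 1), (0, 1), (0, 1), (0, (-3)), (0, 1), (0, 1), (0, (-3)), (0, (-1)), (0, (-1)), (0, (-1)), (0, (-1)), (0, 1), (0, 1), (0, 3), (0, (-1)), (0, 3), (0, 3), (0, (-1))],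
      [(0, 1), (0, 5), (0, (-1)), (0, 1), (0, (-1)), (0, 3), (0, (-3)), (0, 1), (0, 1), (0, 1), (0, 1), (0, 1), (0, 1), (0, (-1)), (0, (-1)), (0, (-1)), (0, (-1)), (0, 1), (0, 1), (0, (-1)), (0, (-1)), (0, (-1)), (0, (-1)), (0, (-1))],
      [(0, 1), (0, 1), (0, (-1)), (0, (-3)), (0, (-1)), (0, (-1)), (0, 1), (0, (-3)), (0, 1), (0, 1), (0, 1), (0, (-3)), (0, (-3)), (0, (-1)), (0, (-1)), (0, (-1)), (0, (-1)), (0, 1), (0, 1), (0, (-1)), (0, (-1)), (0, (-1)), (0, (-1)), (0, 3)],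
      [(0, 1), (0, 1), (0, (-1)), (0, 1), (0, 3), (0, (-1)), (0, 1), (0, 1), (0, 1), (0, (-3)), (0, 1), (0, (-3)), (0, 1), (0, (-1)), (0, (-1)), (0, 3), (0, (-1)), (0, 1), (0, 1), (0, (-1)), (0, 3), (0, (-1)), (0, (-1)), (0, (-1))],
      [(0, 1), (0, 1), (0, (-1)), (0, 1), (0, (-1)), (0, (-1)), (0, 1), (0, (-3)), (0, 1), (0, 1), (0, 1), (0, 1), (0, 1), (0, (-1)), (0, (-1)), (0, 3), (0, 3), (0, 1), (0, (-3)), (0, 3), (0, (-1)), (0, (-1)), (0, (-1)), (0, (-1))],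
      [(0, (-1)), (0, (-1)), (0, 1), (0, (-1)), (0, (-3)), (0, 1), (0, (-1)), (0, (-1)), (0, 3), (0, (-1)), (0, 3), (0, (-1)), (0, 3), (0, 1), (0, 1), (0, 1), (0, 1), (0, (-1)), (0, 3), (0, 1), (0, 1), (0, 1), (0, 1), (0, 1)],
      [(0, 1), (0, 1), (0, (-1)), (0, 1), (0, (-1)), (0, (-1)), (0, 1), (0, 1), (0, 1), (0, 1), (0, (-3)), (0, (-3)), (0, 1), (0, 3), (0, (-1)), (0, (-1)), (0, 3), (0, 1), (0, 1), (0, (-1)), (0, (-1)), (0, (-1)), (0, 3), (0, (-1))],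
      [(0, (-3)), (0, 1), (0, (-1)), (0, 1), (0, (-1)), (0, (-1)), (0, 1), (0, (-3)), (0, 1), (0, (-3)), (0, (-3)), (0, 1), (0, 1), (0, (-1)), (0, 3), (0, (-1)), (0, (-1)), (0, 1), (0, 1), (0, (-1)), (0, (-1)), (0, (-1)), (0, (-1)), (0, (-1))],
      [(0, (-1)), (0, 3), (0, 1), (0, (-1)), (0, 1), (0, (-3)), (0, (-5)), (0, (-1)), (0, (-1)), (0, (-1)), (0, (-1)), (0, (-1)), (0, (-1)), (0, 1), (0, 1), (0, 1), (0, 1), (0, (-1)), (0, (-1)), (0, 1), (0, 1), (0, 1), (0, 1), (0, 1)],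
      [(0, 3), (0, (-1)), (0, 1), (0, (-1)), (0, 1), (0, 1), (0, (-1)), (0, (-1)), (0, (-1)), (0, (-1)), (0, (-1)), (0, (-1)), (0, (-1)), (0, 1), (0, 1), (0, 1), (0, 1), (0, (-1)), (0, 3), (0, 1), (0, (-3)), (0, 1), (0, (-3)), (0, (-3))],
      [(0, (-3)), (0, 1), (0, 3), (0, 1), (0, (-1)), (0, (-1)), (0, 1), (0, 1), (0, 1), (0, 1), (0, 1), (0, 1), (0, (-3)), (0, 3), (0, (-1)), (0, 3), (0, (-1)), (0, 1), (0, 1), (0, (-1)), (0, (-1)), (0, (-1)), (0, (-1)), (0, (-1))],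
      [(0, 1), (0, 1), (0, 3), (0, 1), (0, (-1)), (0, (-1)), (0, 1), (0, 1), (0, (-3)), (0, (-3)), (0, 1), (0, 1), (0, 1), (0, (-1)), (0, (-1)), (0, (-1)), (0, 3), (0, 1), (0, 1), (0, (-1)), (0, (-1)), (0, (-1)), (0, (-1)), (0, 3)],
      [(0, (-3)), (0, 1), (0, (-1)), (0, 1), (0, (-1)), (0, (-1)), (0, 1), (0, 1), (0, (-3)), (0, 1), (0, 1), (0, (-3)), (0, 1), (0, (-1)), (0, (-1)), (0, (-1)), (0, (-1)), (0, (-3)), (0, 1), (0, 3), (0, (-1)), (0, (-1)), (0, (-1)), (0, (-1))],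
      [(0, 1), (0, 1), (0, 3), (0, (-3)), (0, (-1)), (0, (-1)), (0, 1), (0, 1), (0, 1), (0, 1), (0, (-3)), (0, 1), (0, 1), (0, (-1)), (0, (-1)), (0, (-1)), (0, (-1)), (0, 1), (0, 1), (0, 3), (0, 3), (0, (-1)), (0, (-1)), (0, (-1))],
      [(0, 1), (0, 1), (0, (-1)), (0, (-3)), (0, (-1)), (0, (-1)), (0, 1), (0, 1), (0, 1), (0, (-3)), (0, 1), (0, 1), (0, 1), (0, 3), (0, (-1)), (0, (-1)), (0, (-1)), (0, (-3)), (0, (-3)), (0, (-1)), (0, (-1)), (0, (-1)), (0, (-1)), (0, (-1))],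
      [(0, (-1)), (0, (-1)), (0, 1), (0, 3), (0, 1), (0, 1), (0, (-1)), (0, (-1)), (0, 3), (0, (-1)), (0, (-1)), (0, (-1)), (0, (-1)), (0, 1), (0, (-3)), (0, (-3)), (0, 1), (0, (-1)), (0, (-1)), (0, 1), (0, 1), (0, 1), (0, (-3)), (0, 1)],
      [(0, 3), (0, (-1)), (0, 1), (0, 3), (0, (-3)), (0, 1), (0, (-1)), (0, (-1)), (0, (-1)), (0, (-1)), (0, (-1)), (0, (-1)), (0, (-1)), (0, 1), (0, 1), (0, 1), (0, (-3)), (0, (-1)), (0, (-1)), (0, 1), (0, 1), (0, (-3)), (0, 1), (0, 1)]],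
     [[(0, 1), (0, 1), (0, 1), (0, 1), (0, (-1)), (0, (-1)), (0, (-1)), (0, 1), (0, 1), (0, 1), (0, 1), (0, 1), (0, (-1)), (0, 1), (0, (-3)), (0, (-1)), (0, 3), (0, (-3)), (0, 1), (0, (-3)), (0, 1), (0, 1), (0, (-1)), (0, 3)],
      [(0, 1), (0, 1), (0, 1), (0, 1), (0, (-1)), (0, 3), (0, (-1)), (0, 1), (0, 5), (0, 1), (0, 1), (0, 1), (0, (-1)), (0, 1), (0, 1), (0, 3), (0, (-1)), (0, 1), (0, 1), (0, 1), (0, 1), (0, 1), (0, (-1)), (0, (-1))],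
      [(0, (-1)), (0, 3), (0, 3), (0, (-1)), (0, 1), (0, 1), (0, 1), (0, (-1)), (0, (-1)), (0, (-1)), (0, (-1)), (0, (-1)), (0, 1), (0, (-1)), (0, (-1)), (0, 1), (0, 1), (0, 3), (0, 3), (0, (-1)), (0, 3), (0, (-1)), (0, 1), (0, 1)],
      [(0, 1), (0, 1), (0, 1), (0, 1), (0, (-1)), (0, (-1)), (0, (-1)), (0, 1), (0, 1), (0, (-3)), (0, 1), (0, 1), (0, (-1)), (0, 1), (0, 1), (0, (-1)), (0, (-1)), (0, 1), (0, 1), (0, 1), (0, (-3)), (0, (-3)), (0, 3), (0, 3)],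
      [(0, (-1)), (0, (-1)), (0, 3), (0, 3), (0, 1), (0, 1), (0, 1), (0, (-1)), (0, (-1)), (0, (-1)), (0, 3), (0, (-1)), (0, (-3)), (0, (-1)), (0, (-1)), (0, 1), (0, 1), (0, (-1)), (0, (-1)), (0, (-1)), (0, (-1)), (0, (-1)), (0, 1), (0, (-3))],
      [(0, (-1)), (0, (-1)), (0, (-1)), (0, (-1)), (0, 1), (0, 5), (0, 1), (0, (-1)), (0, 3), (0, (-1)), (0, (-1)), (0, (-1)), (0, 1), (0, (-1)), (0, (-1)), (0, (-3)), (0, 1), (0, (-1)), (0, (-1)), (0, (-1)), (0, (-1)), (0, (-1)), (0, 1), (0, 1)],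
      [(0, 1), (0, 1), (0, 1), (0, 1), (0, (-1)), (0, 3), (0, (-1)), (0, 1), (0, (-3)), (0, 1), (0, 1), (0, 1), (0, (-1)), (0, 1), (0, 1), (0, (-5)), (0, (-1)), (0, 1), (0, 1), (0, 1), (0, 1), (0, 1), (0, (-1)), (0, (-1))],
      [(0, (-3)), (0, 1), (0, (-3)), (0, 1), (0, (-1)), (0, (-1)), (0, (-1)), (0, 1), (0, 1), (0, (-3)), (0, 1), (0, (-3)), (0, (-1)), (0, 1), (0, (-3)), (0, (-1)), (0, (-1)), (0, 1), (0, 1), (0, 1), (0, 1), (0, 1), (0, (-1)), (0, (-1))],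
      [(0, (-3)), (0, 1), (0, 1), (0, 1), (0, (-1)), (0, (-1)), (0, (-1)), (0, 1), (0, 1), (0, 1), (0, 1), (0, 1), (0, 3), (0, 1), (0, 1), (0, (-1)), (0, (-1)), (0, 1), (0, (-3)), (0, (-3)), (0, 1), (0, 1), (0, 3), (0, (-1))],
      [(0, 1), (0, 1), (0, 1), (0, 1), (0, (-1)), (0, (-1)), (0, (-1)), (0, (-3)), (0, 1), (0, 1), (0, (-3)), (0, 1), (0, (-1)), (0, 1), (0, (-3)), (0, (-1)), (0, (-1)), (0, 1), (0, (-3)), (0, 1), (0, 1), (0, (-3)), (0, (-1)), (0, (-1))],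
      [(0, 1), (0, 1), (0, 1), (0, 1), (0, 3), (0, (-1)), (0, (-1)), (0, 1), (0, 1), (0, 1), (0, 1), (0, 1), (0, 3), (0, (-3)), (0, (-3)), (0, (-1)), (0, (-1)), (0, 1), (0, 1), (0, 1), (0, (-3)), (0, 1), (0, (-1)), (0, (-1))],
      [(0, 1), (0, (-3)), (0, 1), (0, 1), (0, (-1)), (0, (-1)), (0, (-1)), (0, 1), (0, 1), (0, (-3)), (0, (-3)), (0, 1), (0, (-1)), (0, (-3)), (0, 1), (0, (-1)), (0, (-1)), (0, 1), (0, 1), (0, (-3)), (0, 1), (0, 1), (0, (-1)), (0, (-1))],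
      [(0, 1), (0, 1), (0, 1), (0, 1), (0, (-1)), (0, (-1)), (0, 3), (0, (-3)), (0, 1), (0, (-3)), (0, 1), (0, 1), (0, 3), (0, 1), (0, 1), (0, (-1)), (0, (-1)), (0, (-3)), (0, 1), (0, 1), (0, 1), (0, 1), (0, (-1)), (0, (-1))],
      [(0, 3), (0, (-1)), (0, (-1)), (0, 3), (0, 1), (0, 1), (0, 1), (0, (-1)), (0, (-1)), (0, (-1)), (0, (-1)), (0, (-1)), (0, 1), (0, 3), (0, (-1)), (0, 1), (0, 1), (0, 3), (0, (-1)), (0, (-1)), (0, (-1)), (0, 3), (0, 1), (0, 1)],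
      [(0, (-1)), (0, 3), (0, (-1)), (0, 3), (0, 1), (0, 1), (0, (-3)), (0, (-1)), (0, (-1)), (0, (-1)), (0, (-1)), (0, (-1)), (0, 1), (0, (-1)), (0, 3), (0, 1), (0, 1), (0, (-1)), (0, (-1)), (0, (-1)), (0, (-1)), (0, (-1)), (0, (-3)), (0, 1)],
      [(0, (-1)), (0, (-1)), (0, (-1)), (0, (-1)), (0, (-3)), (0, 1), (0, 1), (0, (-1)), (0, (-1)), (0, (-1)), (0, 3), (0, 3), (0, 1), (0, (-1)), (0, (-1)), (0, 1), (0, 1), (0, 3), (0, (-1)), (0, (-1)), (0, (-1)), (0, (-1)), (0, (-3)), (0, 1)],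
      [(0, (-1)), (0, (-1)), (0, (-1)), (0, (-1)), (0, 1), (0, 1), (0, (-3)), (0, (-1)), (0, (-1)), (0, (-1)), (0, (-1)), (0, 3), (0, 1), (0, 3), (0, (-1)), (0, 1), (0, 1), (0, (-1)), (0, 3), (0, (-1)), (0, (-1)), (0, (-1)), (0, 1), (0, (-3))],
      [(0, 1), (0, 1), (0, (-3)), (0, 1), (0, 3), (0, (-1)), (0, 3), (0, 1), (0, 1), (0, 1), (0, 1), (0, 1), (0, (-1)), (0, 1), (0, 1), (0, (-1)), (0, (-1)), (0, 1), (0, 1), (0, (-3)), (0, 1), (0, (-3)), (0, (-1)), (0, (-1))],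
      [(0, 1), (0, (-3)), (0, 1), (0, 1), (0, (-1)), (0, (-1)), (0, (-1)), (0, 1), (0, 1), (0, 1), (0, 1), (0, (-3)), (0, 3), (0, 1), (0, 1), (0, (-1)), (0, 3), (0, 1), (0, 1), (0, 1), (0, 1), (0, (-3)), (0, (-1)), (0, (-1))],
      [(0, (-1)), (0, (-1)), (0, (-1)), (0, 3), (0, 1), (0, 1), (0, 1), (0, 3), (0, (-1)), (0, (-1)), (0, (-1)), (0, 3), (0, 1), (0, (-1)), (0, (-1)), (0, 1), (0, 1), (0, (-1)), (0, (-1)), (0, 3), (0, 3), (0, (-1)), (0, 1), (0, 1)],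
      [(0, 3), (0, (-1)), (0, (-1)), (0, (-1)), (0, 1), (0, 1), (0, (-3)), (0, (-1)), (0, (-1)), (0, (-1)), (0, 3), (0, (-1)), (0, 1), (0, (-1)), (0, (-1)), (0, 1), (0, (-3)), (0, (-1)), (0, (-1)), (0, (-1)), (0, 3), (0, (-1)), (0, 1), (0, 1)],
      [(0, 3), (0, 3), (0, (-1)), (0, (-1)), (0, (-3)), (0, 1), (0, 1), (0, 3), (0, (-1)), (0, (-1)), (0, (-1)), (0, (-1)), (0, 1), (0, (-1)), (0, (-1)), (0, 1), (0, 1), (0, (-1)), (0, (-1)), (0, (-1)), (0, (-1)), (0, (-1)), (0, 1), (0, (-3))],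
      [(0, (-1)), (0, (-1)), (0, 3), (0, (-1)), (0, 1), (0, 1), (0, 1), (0, 3), (0, (-1)), (0, (-1)), (0, (-1)), (0, (-1)), (0, 1), (0, 3), (0, (-1)), (0, 1), (0, (-3)), (0, (-1)), (0, (-1)), (0, (-1)), (0, (-1)), (0, (-1)), (0, (-3)), (0, 1)],
      [(0, (-1)), (0, (-1)), (0, (-1)), (0, 3), (0, (-3)), (0, 1), (0, 1), (0, (-1)), (0, (-1)), (0, 3), (0, (-1)), (0, (-1)), (0, 1), (0, (-1)), (0, (-1)), (0, 1), (0, (-3)), (0, (-1)), (0, 3), (0, (-1)), (0, (-1)), (0, (-1)), (0, 1), (0, 1)]]),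
    ([[(0, (-3)), (0, 1), (0, 1), (0, 1), (0, (-3)), (0, (-3)), (0, (-1)), (0, (-1)), (0, 1), (0, 3), (0, (-1)), (0, 1), (0, 1), (0, 1), (0, 1), (0, (-1)), (0, 1), (0, 1), (0, 1), (0, (-1)), (0, (-1)), (0, 3), (0, 1), (0, 1)],
      [(0, 1), (0, (-3)), (0, 1), (0, (-3)), (0, 1), (0, 1), (0, 3), (0, (-1)), (0, 1), (0, 3), (0, (-1)), (0, 1), (0, 1), (0, 1), (0, 1), (0, (-1)), (0, (-3)), (0, 1), (0, 1), (0, (-1)), (0, (-1)), (0, (-1)), (0, 1), (0, 1)],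
      [(0, (-1)), (0, (-1)), (0, (-1)), (0, 3), (0, (-1)), (0, (-1)), (0, 1), (0, (-3)), (0, (-1)), (0, 1), (0, 1), (0, 3), (0, (-1)), (0, (-1)), (0, (-1)), (0, 1), (0, (-1)), (0, 3), (0, (-1)), (0, 1), (0, 1), (0, (-3)), (0, (-1)), (0, (-1))],
      [(0, 1), (0, 1), (0, 1), (0, 1), (0, 1), (0, (-3)), (0, 3), (0, (-1)), (0, 1), (0, (-1)), (0, (-1)), (0, (-3)), (0, 1), (0, 1), (0, (-3)), (0, (-1)), (0, 1), (0, 1), (0, 1), (0, 3), (0, (-1)), (0, (-1)), (0, 1), (0, 1)],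
      [(0, (-1)), (0, (-1)), (0, 3), (0, (-1)), (0, 3), (0, (-1)), (0, (-3)), (0, 1), (0, (-1)), (0, 1), (0, 1), (0, (-1)), (0, (-1)), (0, (-1)), (0, (-1)), (0, 1), (0, (-1)), (0, 3), (0, (-1)), (0, 1), (0, (-3)), (0, 1), (0, (-1)), (0, (-1))],
      [(0, (-1)), (0, (-1)), (0, (-1)), (0, (-1)), (0, (-1)), (0, (-1)), (0, 1), (0, 1), (0, (-1)), (0, 1), (0, (-3)), (0, (-1)), (0, (-5)), (0, (-1)), (0, (-1)), (0, (-3)), (0, (-1)), (0, (-1)), (0, (-1)), (0, 1), (0, 1), (0, 1), (0, (-1)), (0, (-1))],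
      [(0, 1), (0, 1), (0, (-3)), (0, 1), (0, 1), (0, 1), (0, (-1)), (0, 3), (0, 1), (0, 3), (0, (-1)), (0, 1), (0, 1), (0, (-3)), (0, (-3)), (0, (-1)), (0, 1), (0, 1), (0, 1), (0, (-1)), (0, (-1)), (0, (-1)), (0, 1), (0, 1)],
      [(0, 1), (0, 1), (0, 1), (0, 1), (0, 1), (0, 1), (0, (-1)), (0, (-1)), (0, 1), (0, (-1)), (0, (-1)), (0, 1), (0, 1), (0, 1), (0, (-3)), (0, (-1)), (0, (-3)), (0, 1), (0, 1), (0, (-1)), (0, 3), (0, 3), (0, 1), (0, (-3))],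
      [(0, 1), (0, 1), (0, 1), (0, 1), (0, 1), (0, 1), (0, (-1)), (0, (-1)), (0, (-3)), (0, 3), (0, (-1)), (0, (-3)), (0, 1), (0, 1), (0, 1), (0, (-1)), (0, 1), (0, 1), (0, (-3)), (0, (-1)), (0, 3), (0, (-1)), (0, 1), (0, 1)],
      [(0, (-3)), (0, 1), (0, (-3)), (0, 1), (0, 1), (0, 1), (0, (-1)), (0, (-1)), (0, 1), (0, (-1)), (0, (-1)), (0, (-3)), (0, 1), (0, 1), (0, 1), (0, (-1)), (0, (-3)), (0, 1), (0, 1), (0, (-1)), (0, (-1)), (0, (-1)), (0, (-3)), (0, 1)],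
      [(0, (-1)), (0, 3), (0, 3), (0, (-1)), (0, (-1)), (0, (-1)), (0, 1), (0, 1), (0, (-1)), (0, 1), (0, 1), (0, (-1)), (0, (-1)), (0, (-1)), (0, (-1)), (0, 1), (0, (-1)), (0, (-1)), (0, 3), (0, (-3)), (0, 1), (0, (-3)), (0, (-1)), (0, (-1))],
      [(0, 1), (0, 1), (0, 1), (0, 1), (0, 1), (0, 1), (0, (-1)), (0, (-1)), (0, 1), (0, 3), (0, (-1)), (0, 1), (0, 1), (0, 1), (0, 1), (0, (-1)), (0, 1), (0, (-3)), (0, 1), (0, 3), (0, (-1)), (0, (-1)), (0, (-3)), (0, (-3))],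
      [(0, 3), (0, (-1)), (0, (-1)), (0, (-1)), (0, (-1)), (0, (-1)), (0, (-3)), (0, (-3)), (0, (-1)), (0, 1), (0, 1), (0, (-1)), (0, (-1)), (0, (-1)), (0, (-1)), (0, 1), (0, (-1)), (0, (-1)), (0, 3), (0, 1), (0, 1), (0, 1), (0, (-1)), (0, 3)],
      [(0, 3), (0, (-1)), (0, (-1)), (0, 3), (0, (-1)), (0, (-1)), (0, 1), (0, 1), (0, (-1)), (0, 1), (0, 1), (0, (-1)), (0, (-1)), (0, 3), (0, (-1)), (0, 1), (0, (-1)), (0, (-1)), (0, (-1)), (0, (-3)), (0, (-3)), (0, 1), (0, (-1)), (0, (-1))],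
      [(0, (-3)), (0, (-3)), (0, 1), (0, 1), (0, 1), (0, 1), (0, (-1)), (0, (-1)), (0, (-3)), (0, (-1)), (0, (-1)), (0, 1), (0, 1), (0, 1), (0, (-3)), (0, (-1)), (0, 1), (0, (-3)), (0, 1), (0, (-1)), (0, (-1)), (0, (-1)), (0, 1), (0, 1)],
      [(0, 1), (0, 1), (0, 1), (0, 1), (0, 1), (0, 1), (0, 3), (0, (-1)), (0, (-3)), (0, (-1)), (0, (-1)), (0, 1), (0, 1), (0, (-3)), (0, 1), (0, (-1)), (0, 1), (0, 1), (0, 1), (0, (-1)), (0, (-1)), (0, 3), (0, (-3)), (0, 1)],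
      [(0, 1), (0, 1), (0, (-3)), (0, (-3)), (0, 1), (0, (-3)), (0, (-1)), (0, (-1)), (0, (-3)), (0, (-1)), (0, (-1)), (0, 1), (0, 1), (0, 1), (0, 1), (0, (-1)), (0, 1), (0, 1), (0, 1), (0, (-1)), (0, (-1)), (0, (-1)), (0, 1), (0, (-3))],
      [(0, 1), (0, 1), (0, 1), (0, 1), (0, 1), (0, 1), (0, (-1)), (0, (-1)), (0, 1), (0, (-1)), (0, 3), (0, 1), (0, (-3)), (0, 1), (0, 1), (0, (-5)), (0, 1), (0, 1), (0, 1), (0, (-1)), (0, (-1)), (0, (-1)), (0, 1), (0, 1)],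
      [(0, 1), (0, (-3)), (0, 1), (0, 1), (0, 1), (0, (-3)), (0, (-1)), (0, 3), (0, 1), (0, (-1)), (0, (-1)), (0, 1), (0, 1), (0, 1), (0, 1), (0, (-1)), (0, 1), (0, 1), (0, 1), (0, (-1)), (0, 3), (0, (-1)), (0, (-3)), (0, 1)],
      [(0, (-1)), (0, (-1)), (0, (-1)), (0, (-1)), (0, (-1)), (0, (-1)), (0, 1), (0, 1), (0, (-1)), (0, 1), (0, 5), (0, (-1)), (0, 3), (0, (-1)), (0, (-1)), (0, (-3)), (0, (-1)), (0, (-1)), (0, (-1)), (0, 1), (0, 1), (0, 1), (0, (-1)), (0, (-1))],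
      [(0, 1), (0, 1), (0, 1), (0, 1), (0, 1), (0, (-3)), (0, (-1)), (0, (-1)), (0, 1), (0, (-1)), (0, (-1)), (0, 1), (0, 1), (0, (-3)), (0, 1), (0, (-1)), (0, (-3)), (0, (-3)), (0, (-3)), (0, (-1)), (0, (-1)), (0, (-1)), (0, 1), (0, 1)],
      [(0, 1), (0, 1), (0, 1), (0, (-3)), (0, (-3)), (0, 1), (0, (-1)), (0, (-1)), (0, 1), (0, (-1)), (0, (-1)), (0, 1), (0, 1), (0, 1), (0, (-3)), (0, (-1)), (0, 1), (0, 1), (0, (-3)), (0, (-1)), (0, (-1)), (0, (-1)), (0, (-3)), (0, 1)],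
      [(0, (-1)), (0, 3), (0, (-1)), (0, (-1)), (0, 3), (0, (-1)), (0, 1), (0, 1), (0, (-1)), (0, 1), (0, 1), (0, 3), (0, (-1)), (0, 3), (0, (-1)), (0, 1), (0, (-1)), (0, (-1)), (0, (-1)), (0, 1), (0, 1), (0, 1), (0, (-1)), (0, 3)],
      [(0, 1), (0, 1), (0, 1), (0, 1), (0, (-3)), (0, 1), (0, (-1)), (0, 3), (0, (-3)), (0, (-1)), (0, (-1)), (0, 1), (0, 1), (0, 1), (0, 1), (0, (-1)), (0, (-3)), (0, 1), (0, 1), (0, 3), (0, (-1)), (0, (-1)), (0, 1), (0, 1)]],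
     [[(0, (-3)), (0, 1), (0, (-1)), (0, 1), (0, (-1)), (0, (-1)), (0, 1), (0, 1), (0, 1), (0, (-3)), (0, (-1)), (0, 1), (0, 3), (0, 3), (0, (-3)), (0, 1), (0, 1), (0, 1), (0, 1), (0, (-1)), (0, 1), (0, 1), (0, (-1)), (0, 1)],
      [(0, 1), (0, (-3)), (0, (-1)), (0, 1), (0, (-1)), (0, (-1)), (0, 1), (0, 1), (0, 1), (0, 1), (0, 3), (0, 1), (0, (-1)), (0, (-1)), (0, (-3)), (0, 1), (0, 1), (0, 1), (0, (-3)), (0, (-1)), (0, 1), (0, 1), (0, 3), (0, 1)],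
      [(0, 1), (0, 1), (0, (-1)), (0, 1), (0, 3), (0, (-1)), (0, (-3)), (0, 1), (0, 1), (0, (-3)), (0, 3), (0, 1), (0, (-1)), (0, (-1)), (0, 1), (0, 1), (0, (-3)), (0, 1), (0, 1), (0, (-1)), (0, 1), (0, 1), (0, (-1)), (0, 1)],
      [(0, 1), (0, (-3)), (0, 3), (0, 1), (0, (-1)), (0, (-1)), (0, 1), (0, 1), (0, 1), (0, 1), (0, (-1)), (0, 1), (0, (-1)), (0, 3), (0, 1), (0, 1), (0, (-3)), (0, 1), (0, 1), (0, (-1)), (0, 1), (0, (-3)), (0, (-1)), (0, 1)],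
      [(0, (-3)), (0, 1), (0, (-1)), (0, 1), (0, 3), (0, (-1)), (0, 1), (0, 1), (0, 1), (0, 1), (0, (-1)), (0, 1), (0, (-1)), (0, (-1)), (0, 1), (0, 1), (0, 1), (0, 1), (0, 1), (0, (-1)), (0, 1), (0, (-3)), (0, 3), (0, (-3))],
      [(0, (-3)), (0, 1), (0, (-1)), (0, (-3)), (0, (-1)), (0, (-1)), (0, 1), (0, 1), (0, 1), (0, 1), (0, (-1)), (0, 1), (0, (-1)), (0, (-1)), (0, 1), (0, 1), (0, (-3)), (0, 1), (0, (-3)), (0, (-1)), (0, (-3)), (0, 1), (0, (-1)), (0, 1)],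
      [(0, (-1)), (0, 3), (0, 1), (0, 3), (0, (-3)), (0, 1), (0, (-1)), (0, (-1)), (0, (-1)), (0, (-1)), (0, 1), (0, (-1)), (0, (-3)), (0, 1), (0, (-1)), (0, 3), (0, (-1)), (0, (-1)), (0, (-1)), (0, 1), (0, (-1)), (0, (-1)), (0, 1), (0, (-1))],
      [(0, (-1)), (0, (-1)), (0, (-3)), (0, (-1)), (0, 1), (0, 1), (0, 3), (0, (-1)), (0, (-1)), (0, (-1)), (0, 1), (0, (-1)), (0, (-3)), (0, 1), (0, (-1)), (0, (-1)), (0, (-1)), (0, (-1)), (0, 3), (0, 1), (0, (-1)), (0, (-1)), (0, 1), (0, 3)],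
      [(0, 1), (0, 1), (0, (-1)), (0, 1), (0, (-1)), (0, (-1)), (0, 1), (0, 1), (0, (-3)), (0, 1), (0, (-1)), (0, 1), (0, (-1)), (0, (-1)), (0, (-3)), (0, (-3)), (0, (-3)), (0, 1), (0, 1), (0, (-1)), (0, 1), (0, 1), (0, (-1)), (0, (-3))],
      [(0, 3), (0, 3), (0, 1), (0, (-1)), (0, 1), (0, 1), (0, 3), (0, (-1)), (0, 3), (0, (-1)), (0, 1), (0, 3), (0, 1), (0, 1), (0, (-1)), (0, (-1)), (0, (-1)), (0, (-1)), (0, (-1)), (0, 1), (0, (-1)), (0, (-1)), (0, 1), (0, (-1))],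
      [(0, (-1)), (0, (-1)), (0, 1), (0, (-1)), (0, 1), (0, (-3)), (0, (-1)), (0, (-1)), (0, (-1)), (0, (-1)), (0, 1), (0, (-1)), (0, 1), (0, 1), (0, (-1)), (0, (-1)), (0, (-1)), (0, 3), (0, (-1)), (0, 5), (0, (-1)), (0, (-1)), (0, 1), (0, (-1))],
      [(0, 1), (0, 1), (0, 3), (0, (-3)), (0, (-1)), (0, (-1)), (0, 1), (0, 1), (0, (-3)), (0, (-3)), (0, (-1)), (0, 1), (0, (-1)), (0, (-1)), (0, 1), (0, 1), (0, 1), (0, 1), (0, 1), (0, (-1)), (0, 1), (0, 1), (0, 3), (0, 1)],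
      [(0, 1), (0, 1), (0, (-1)), (0, 1), (0, (-1)), (0, (-5)), (0, 1), (0, 1), (0, 1), (0, 1), (0, (-1)), (0, 1), (0, (-1)), (0, (-1)), (0, 1), (0, 1), (0, 1), (0, (-3)), (0, 1), (0, 3), (0, 1), (0, 1), (0, (-1)), (0, 1)],
      [(0, 1), (0, 1), (0, (-1)), (0, 1), (0, (-1)), (0, (-1)), (0, (-3)), (0, 1), (0, 1), (0, 1), (0, (-1)), (0, 1), (0, (-1)), (0, 3), (0, 1), (0, (-3)), (0, 1), (0, 1), (0, 1), (0, (-1)), (0, (-3)), (0, 1), (0, 3), (0, 1)],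
      [(0, 1), (0, 1), (0, (-1)), (0, (-3)), (0, (-1)), (0, (-1)), (0, (-3)), (0, (-3)), (0, 1), (0, 1), (0, (-1)), (0, 1), (0, (-1)), (0, (-1)), (0, (-3)), (0, 1), (0, 1), (0, 1), (0, 1), (0, (-1)), (0, 1), (0, (-3)), (0, (-1)), (0, 1)],
      [(0, (-1)), (0, (-1)), (0, 1), (0, (-1)), (0, 1), (0, (-3)), (0, (-1)), (0, (-1)), (0, (-1)), (0, (-1)), (0, 1), (0, (-1)), (0, 1), (0, 1), (0, (-1)), (0, (-1)), (0, (-1)), (0, (-5)), (0, (-1)), (0, (-3)), (0, (-1)), (0, (-1)), (0, 1), (0, (-1))],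
      [(0, 1), (0, (-3)), (0, (-1)), (0, 1), (0, (-1)), (0, (-1)), (0, 1), (0, (-3)), (0, 1), (0, (-3)), (0, (-1)), (0, 1), (0, (-1)), (0, (-1)), (0, 1), (0, 1), (0, 1), (0, 1), (0, 1), (0, (-1)), (0, (-3)), (0, 1), (0, (-1)), (0, (-3))],
      [(0, 1), (0, 1), (0, 3), (0, 1), (0, 3), (0, (-1)), (0, 1), (0, 1), (0, 1), (0, 1), (0, (-1)), (0, (-3)), (0, (-1)), (0, (-1)), (0, (-3)), (0, 1), (0, 1), (0, 1), (0, 1), (0, (-1)), (0, (-3)), (0, 1), (0, (-1)), (0, 1)],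
      [(0, 1), (0, 1), (0, (-1)), (0, 1), (0, (-1)), (0, (-1)), (0, 1), (0, 1), (0, (-3)), (0, 1), (0, 3), (0, 1), (0, 3), (0, (-1)), (0, 1), (0, 1), (0, 1), (0, 1), (0, 1), (0, (-1)), (0, (-3)), (0, (-3)), (0, (-1)), (0, 1)],
      [(0, (-1)), (0, (-1)), (0, 1), (0, 3), (0, 1), (0, 1), (0, (-1)), (0, (-1)), (0, (-1)), (0, (-1)), (0, (-3)), (0, 3), (0, 1), (0, (-3)), (0, (-1)), (0, (-1)), (0, (-1)), (0, (-1)), (0, (-1)), (0, 1), (0, (-1)), (0, (-1)), (0, 1), (0, 3)],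
      [(0, (-1)), (0, (-1)), (0, 1), (0, (-1)), (0, (-3)), (0, 1), (0, (-1)), (0, 3), (0, 3), (0, (-1)), (0, 1), (0, (-1)), (0, 1), (0, (-3)), (0, (-1)), (0, (-1)), (0, (-1)), (0, (-1)), (0, 3), (0, 1), (0, (-1)), (0, (-1)), (0, 1), (0, (-1))],
      [(0, 3), (0, (-1)), (0, (-3)), (0, (-1)), (0, 1), (0, 1), (0, (-1)), (0, 3), (0, (-1)), (0, (-1)), (0, (-3)), (0, (-1)), (0, 1), (0, 1), (0, (-1)), (0, 3), (0, (-1)), (0, (-1)), (0, (-1)), (0, 1), (0, (-1)), (0, (-1)), (0, 1), (0, (-1))],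
      [(0, 1), (0, 1), (0, (-1)), (0, 1), (0, (-1)), (0, (-1)), (0, 1), (0, 1), (0, 1), (0, (-3)), (0, (-1)), (0, (-3)), (0, (-1)), (0, (-1)), (0, 1), (0, (-3)), (0, 1), (0, 1), (0, (-3)), (0, (-1)), (0, 1), (0, (-3)), (0, (-1)), (0, 1)],
      [(0, 1), (0, 1), (0, (-1)), (0, 1), (0, (-1)), (0, (-1)), (0, 1), (0, (-3)), (0, 1), (0, 1), (0, (-1)), (0, (-3)), (0, 3), (0, (-1)), (0, 1), (0, 1), (0, (-3)), (0, 1), (0, 1), (0, (-1)), (0, 1), (0, 1), (0, 3), (0, 1)]])]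

/-- part of the generators and their transposes -/
def fiveW2 : List (List (List (ℕ × ℤ)) × List (List (ℕ × ℤ))) :=
  [([[(0, 3), (0, 1), (0, 1), (0, 3), (0, 1), (0, 1), (0, (-1)), (0, (-1)), (0, 3), (0, (-1)), (0, 1), (0, (-1)), (0, (-1)), (0, 3), (0, 1), (0, 1), (0, 1), (0, (-1)), (0, (-1)), (0, (-1)), (0, (-1)), (0, (-1)), (0, (-1)), (0, 3)],
      [(0, 1), (0, (-1)), (0, (-1)), (0, (-3)), (0, (-1)), (0, (-1)), (0, 1), (0, (-3)), (0, 1), (0, 1), (0, (-1)), (0, 1), (0, 1), (0, 1), (0, (-1)), (0, (-1)), (0, (-1)), (0, 1), (0, (-3)), (0, 1), (0, 1), (0, (-3)), (0, (-3)), (0, 1)],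
      [(0, 1), (0, (-1)), (0, 3), (0, (-3)), (0, (-1)), (0, 3), (0, 1), (0, 1), (0, 1), (0, 1), (0, (-1)), (0, 1), (0, 1), (0, 1), (0, (-1)), (0, (-1)), (0, (-1)), (0, 1), (0, 1), (0, (-3)), (0, (-3)), (0, 1), (0, 1), (0, 1)],
      [(0, 1), (0, (-1)), (0, (-1)), (0, (-3)), (0, (-1)), (0, (-1)), (0, 1), (0, 1), (0, 1), (0, (-3)), (0, (-1)), (0, 1), (0, (-3)), (0, 1), (0, (-1)), (0, 3), (0, 3), (0, 1), (0, 1), (0, 1), (0, 1), (0, 1), (0, 1), (0, 1)],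
      [(0, 1), (0, (-1)), (0, (-1)), (0, 1), (0, (-1)), (0, 3), (0, 1), (0, 1), (0, 1), (0, 1), (0, (-1)), (0, (-3)), (0, 1), (0, (-3)), (0, (-1)), (0, (-1)), (0, 3), (0, 1), (0, 1), (0, 1), (0, 1), (0, 1), (0, (-3)), (0, 1)],
      [(0, (-1)), (0, 1), (0, 1), (0, (-1)), (0, 1), (0, 1), (0, (-1)), (0, (-1)), (0, (-1)), (0, (-1)), (0, 1), (0, (-1)), (0, (-1)), (0, 3), (0, (-3)), (0, (-3)), (0, 1), (0, (-1)), (0, 3), (0, (-1)), (0, 3), (0, (-1)), (0, (-1)), (0, (-1))],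
      [(0, 3), (0, 1), (0, 1), (0, (-1)), (0, (-3)), (0, 1), (0, (-1)), (0, (-1)), (0, (-1)), (0, (-1)), (0, 1), (0, (-1)), (0, (-1)), (0, (-1)), (0, 1), (0, (-3)), (0, 1), (0, (-1)), (0, (-1)), (0, 3), (0, (-1)), (0, (-1)), (0, 3), (0, (-1))],
      [(0, (-3)), (0, (-1)), (0, (-1)), (0, 1), (0, (-1)), (0, (-1)), (0, 1), (0, 1), (0, 1), (0, 1), (0, (-1)), (0, (-3)), (0, (-3)), (0, 1), (0, (-1)), (0, (-1)), (0, (-1)), (0, 1), (0, 1), (0, 1), (0, (-3)), (0, (-3)), (0, 1), (0, 1)],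
      [(0, 1), (0, (-1)), (0, (-1)), (0, 1), (0, (-1)), (0, (-1)), (0, 1), (0, (-3)), (0, 1), (0, 1), (0, (-1)), (0, 1), (0, (-3)), (0, (-3)), (0, (-1)), (0, (-1)), (0, (-1)), (0, (-3)), (0, 1), (0, (-3)), (0, 1), (0, 1), (0, 1), (0, 1)],
      [(0, (-1)), (0, 1), (0, 1), (0, (-1)), (0, (-3)), (0, (-3)), (0, (-1)), (0, (-1)), (0, 3), (0, (-1)), (0, 1), (0, (-1)), (0, 3), (0, (-1)), (0, 1), (0, 1), (0, 1), (0, (-1)), (0, 3), (0, (-1)), (0, (-1)), (0, (-1)), (0, (-1)), (0, (-1))],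
      [(0, (-1)), (0, 1), (0, 1), (0, (-1)), (0, 1), (0, 1), (0, (-1)), (0, (-1)), (0, (-1)), (0, 3), (0, 1), (0, 3), (0, (-1)), (0, (-1)), (0, 1), (0, 1), (0, 1), (0, (-1)), (0, 3), (0, 3), (0, (-1)), (0, (-1)), (0, (-1)), (0, 3)],
      [(0, (-1)), (0, 1), (0, (-3)), (0, (-1)), (0, (-3)), (0, 1), (0, (-1)), (0, (-1)), (0, (-1)), (0, 3), (0, 1), (0, (-1)), (0, (-1)), (0, 3), (0, 1), (0, 1), (0, 1), (0, (-1)), (0, (-1)), (0, (-1)), (0, (-1)), (0, 3), (0, (-1)), (0, (-1))],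
      [(0, 1), (0, (-1)), (0, 3), (0, 1), (0, (-1)), (0, (-1)), (0, 1), (0, (-3)), (0, (-3)), (0, 1), (0, (-1)), (0, (-3)), (0, 1), (0, 1), (0, (-1)), (0, 3), (0, (-1)), (0, 1), (0, 1), (0, 1), (0, 1), (0, 1), (0, 1), (0, 1)],
      [(0, 1), (0, (-1)), (0, (-1)), (0, (-3)), (0, 3), (0, (-1)), (0, 1), (0, 1), (0, 1), (0, 1), (0, (-1)), (0, (-3)), (0, 1), (0, 1), (0, 3), (0, (-1)), (0, (-1)), (0, (-3)), (0, 1), (0, 1), (0, 1), (0, 1), (0, 1), (0, 1)],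
      [(0, 3), (0, 1), (0, 1), (0, (-1)), (0, 1), (0, (-3)), (0, (-1)), (0, 3), (0, (-1)), (0, 3), (0, 1), (0, (-1)), (0, (-1)), (0, (-1)), (0, (-3)), (0, 1), (0, 1), (0, (-1)), (0, (-1)), (0, (-1)), (0, (-1)), (0, (-1)), (0, (-1)), (0, (-1))],
      [(0, (-1)), (0, 1), (0, 1), (0, (-1)), (0, 1), (0, (-3)), (0, (-1)), (0, (-1)), (0, (-1)), (0, (-1)), (0, 1), (0, (-1)), (0, (-1)), (0, (-1)), (0, 1), (0, (-3)), (0, 1), (0, 3), (0, (-1)), (0, (-1)), (0, (-1)), (0, 3), (0, (-1)), (0, 3)],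
      [(0, (-3)), (0, (-1)), (0, 3), (0, 1), (0, (-1)), (0, (-1)), (0, 1), (0, 1), (0, 1), (0, 1), (0, (-1)), (0, 1), (0, 1), (0, 1), (0, (-1)), (0, (-1)), (0, 3), (0, (-3)), (0, (-3)), (0, 1), (0, 1), (0, 1), (0, 1), (0, 1)],
      [(0, 1), (0, (-1)), (0, 3), (0, 1), (0, (-1)), (0, (-1)), (0, 1), (0, 1), (0, 1), (0, 1), (0, (-1)), (0, 1), (0, (-3)), (0, 1), (0, 3), (0, (-1)), (0, (-1)), (0, 1), (0, 1), (0, 1), (0, 1), (0, 1), (0, (-3)), (0, (-3))],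
      [(0, (-1)), (0, (-3)), (0, 1), (0, (-1)), (0, 1), (0, 1), (0, 3), (0, (-1)), (0, (-1)), (0, (-1)), (0, 5), (0, (-1)), (0, (-1)), (0, (-1)), (0, 1), (0, 1), (0, 1), (0, (-1)), (0, (-1)), (0, (-1)), (0, (-1)), (0, (-1)), (0, (-1)), (0, (-1))],
      [(0, 1), (0, (-1)), (0, (-1)), (0, 1), (0, (-1)), (0, (-1)), (0, 1), (0, 1), (0, (-3)), (0, (-3)), (0, (-1)), (0, 1), (0, 1), (0, 1), (0, (-1)), (0, (-1)), (0, (-1)), (0, (-3)), (0, 1), (0, 1), (0, (-3)), (0, 1), (0, (-3)), (0, 1)],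
      [(0, (-1)), (0, 5), (0, 1), (0, (-1)), (0, 1), (0, 1), (0, 3), (0, (-1)), (0, (-1)), (0, (-1)), (0, (-3)), (0, (-1)), (0, (-1)), (0, (-1)), (0, 1), (0, 1), (0, 1), (0, (-1)), (0, (-1)), (0, (-1)), (0, (-1)), (0, (-1)), (0, (-1)), (0, (-1))],
      [(0, (-1)), (0, (-3)), (0, 1), (0, (-1)), (0, 1), (0, 1), (0, (-5)), (0, (-1)), (0, (-1)), (0, (-1)), (0, (-3)), (0, (-1)), (0, (-1)), (0, (-1)), (0, 1), (0, 1), (0, 1), (0, (-1)), (0, (-1)), (0, (-1)), (0, (-1)), (0, (-1)), (0, (-1)), (0, (-1))],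
      [(0, 1), (0, (-1)), (0, (-1)), (0, 1), (0, 3), (0, (-1)), (0, 1), (0, (-3)), (0, 1), (0, 1), (0, (-1)), (0, 1), (0, 1), (0, 1), (0, (-1)), (0, (-1)), (0, 3), (0, 1), (0, 1), (0, 1), (0, (-3)), (0, 1), (0, 1), (0, (-3))],
      [(0, (-1)), (0, 1), (0, 1), (0, (-1)), (0, 1), (0, 1), (0, (-1)), (0, (-1)), (0, 3), (0, (-1)), (0, 1), (0, (-1)), (0, (-1)), (0, (-1)), (0, (-3)), (0, 1), (0, (-3)), (0, (-1)), (0, (-1)), (0, 3), (0, (-1)), (0, 3), (0, (-1)), (0, (-1))]],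
     [[(0, 3), (0, 1), (0, 1), (0, 1), (0, 1), (0, (-1)), (0, 3), (0, (-3)), (0, 1), (0, (-1)), (0, (-1)), (0, (-1)), (0, 1), (0, 1), (0, 3), (0, (-1)), (0, (-3)), (0, 1), (0, (-1)), (0, 1), (0, (-1)), (0, (-1)), (0, 1), (0, (-1))],
      [(0, 1), (0, (-1)), (0, (-1)), (0, (-1)), (0, (-1)), (0, 1), (0, 1), (0, (-1)), (0, (-1)), (0, 1), (0, 1), (0, 1), (0, (-1)), (0, (-1)), (0, 1), (0, 1), (0, (-1)), (0, (-1)), (0, (-3)), (0, (-1)), (0, 5), (0, (-3)), (0, (-1)), (0, 1)],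
      [(0, 1), (0, (-1)), (0, 3), (0, (-1)), (0, (-1)), (0, 1), (0, 1), (0, (-1)), (0, (-1)), (0, 1), (0, 1), (0, (-3)), (0, 3), (0, (-1)), (0, 1), (0, 1), (0, 3), (0, 3), (0, 1), (0, (-1)), (0, 1), (0, 1), (0, (-1)), (0, 1)],
      [(0, 3), (0, (-3)), (0, (-3)), (0, (-3)), (0, 1), (0, (-1)), (0, (-1)), (0, 1), (0, 1), (0, (-1)), (0, (-1)), (0, (-1)), (0, 1), (0, (-3)), (0, (-1)), (0, (-1)), (0, 1), (0, 1), (0, (-1)), (0, 1), (0, (-1)), (0, (-1)), (0, 1), (0, (-1))],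
      [(0, 1), (0, (-1)), (0, (-1)), (0, (-1)), (0, (-1)), (0, 1), (0, (-3)), (0, (-1)), (0, (-1)), (0, (-3)), (0, 1), (0, (-3)), (0, (-1)), (0, 3), (0, 1), (0, 1), (0, (-1)), (0, (-1)), (0, 1), (0, (-1)), (0, 1), (0, 1), (0, 3), (0, 1)],
      [(0, 1), (0, (-1)), (0, 3), (0, (-1)), (0, 3), (0, 1), (0, 1), (0, (-1)), (0, (-1)), (0, (-3)), (0, 1), (0, 1), (0, (-1)), (0, (-1)), (0, (-3)), (0, (-3)), (0, (-1)), (0, (-1)), (0, 1), (0, (-1)), (0, 1), (0, 1), (0, (-1)), (0, 1)],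
      [(0, (-1)), (0, 1), (0, 1), (0, 1), (0, 1), (0, (-1)), (0, (-1)), (0, 1), (0, 1), (0, (-1)), (0, (-1)), (0, (-1)), (0, 1), (0, 1), (0, (-1)), (0, (-1)), (0, 1), (0, 1), (0, 3), (0, 1), (0, 3), (0, (-5)), (0, 1), (0, (-1))],
      [(0, (-1)), (0, (-3)), (0, 1), (0, 1), (0, 1), (0, (-1)), (0, (-1)), (0, 1), (0, (-3)), (0, (-1)), (0, (-1)), (0, (-1)), (0, (-3)), (0, 1), (0, 3), (0, (-1)), (0, 1), (0, 1), (0, (-1)), (0, 1), (0, (-1)), (0, (-1)), (0, (-3)), (0, (-1))],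
      [(0, 3), (0, 1), (0, 1), (0, 1), (0, 1), (0, (-1)), (0, (-1)), (0, 1), (0, 1), (0, 3), (0, (-1)), (0, (-1)), (0, (-3)), (0, 1), (0, (-1)), (0, (-1)), (0, 1), (0, 1), (0, (-1)), (0, (-3)), (0, (-1)), (0, (-1)), (0, 1), (0, 3)],
      [(0, (-1)), (0, 1), (0, 1), (0, (-3)), (0, 1), (0, (-1)), (0, (-1)), (0, 1), (0, 1), (0, (-1)), (0, 3), (0, 3), (0, 1), (0, 1), (0, 3), (0, (-1)), (0, 1), (0, 1), (0, (-1)), (0, (-3)), (0, (-1)), (0, (-1)), (0, 1), (0, (-1))],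
      [(0, 1), (0, (-1)), (0, (-1)), (0, (-1)), (0, (-1)), (0, 1), (0, 1), (0, (-1)), (0, (-1)), (0, 1), (0, 1), (0, 1), (0, (-1)), (0, (-1)), (0, 1), (0, 1), (0, (-1)), (0, (-1)), (0, 5), (0, (-1)), (0, (-3)), (0, (-3)), (0, (-1)), (0, 1)],
      [(0, (-1)), (0, 1), (0, 1), (0, 1), (0, (-3)), (0, (-1)), (0, (-1)), (0, (-3)), (0, 1), (0, (-1)), (0, 3), (0, (-1)), (0, (-3)), (0, (-3)), (0, (-1)), (0, (-1)), (0, 1), (0, 1), (0, (-1)), (0, 1), (0, (-1)), (0, (-1)), (0, 1), (0, (-1))],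
      [(0, (-1)), (0, 1), (0, 1), (0, (-3)), (0, 1), (0, (-1)), (0, (-1)), (0, (-3)), (0, (-3)), (0, 3), (0, (-1)), (0, (-1)), (0, 1), (0, 1), (0, (-1)), (0, (-1)), (0, 1), (0, (-3)), (0, (-1)), (0, 1), (0, (-1)), (0, (-1)), (0, 1), (0, (-1))],
      [(0, 3), (0, 1), (0, 1), (0, 1), (0, (-3)), (0, 3), (0, (-1)), (0, 1), (0, (-3)), (0, (-1)), (0, (-1)), (0, 3), (0, 1), (0, 1), (0, (-1)), (0, (-1)), (0, 1), (0, 1), (0, (-1)), (0, 1), (0, (-1)), (0, (-1)), (0, 1), (0, (-1))],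
      [(0, 1), (0, (-1)), (0, (-1)), (0, (-1)), (0, (-1)), (0, (-3)), (0, 1), (0, (-1)), (0, (-1)), (0, 1), (0, 1), (0, 1), (0, (-1)), (0, 3), (0, (-3)), (0, 1), (0, (-1)), (0, 3), (0, 1), (0, (-1)), (0, 1), (0, 1), (0, (-1)), (0, (-3))],
      [(0, 1), (0, (-1)), (0, (-1)), (0, 3), (0, (-1)), (0, (-3)), (0, (-3)), (0, (-1)), (0, (-1)), (0, 1), (0, 1), (0, 1), (0, 3), (0, (-1)), (0, 1), (0, (-3)), (0, (-1)), (0, (-1)), (0, 1), (0, (-1)), (0, 1), (0, 1), (0, (-1)), (0, 1)],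
      [(0, 1), (0, (-1)), (0, (-1)), (0, 3), (0, 3), (0, 1), (0, 1), (0, (-1)), (0, (-1)), (0, 1), (0, 1), (0, 1), (0, (-1)), (0, (-1)), (0, 1), (0, 1), (0, 3), (0, (-1)), (0, 1), (0, (-1)), (0, 1), (0, 1), (0, 3), (0, (-3))],
      [(0, (-1)), (0, 1), (0, 1), (0, 1), (0, 1), (0, (-1)), (0, (-1)), (0, 1), (0, (-3)), (0, (-1)), (0, (-1)), (0, (-1)), (0, 1), (0, (-3)), (0, (-1)), (0, 3), (0, (-3)), (0, 1), (0, (-1)), (0, (-3)), (0, (-1)), (0, (-1)), (0, 1), (0, (-1))],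
      [(0, (-1)), (0, (-3)), (0, 1), (0, 1), (0, 1), (0, 3), (0, (-1)), (0, 1), (0, 1), (0, 3), (0, 3), (0, (-1)), (0, 1), (0, 1), (0, (-1)), (0, (-1)), (0, (-3)), (0, 1), (0, (-1)), (0, 1), (0, (-1)), (0, (-1)), (0, 1), (0, (-1))],
      [(0, (-1)), (0, 1), (0, (-3)), (0, 1), (0, 1), (0, (-1)), (0, 3), (0, 1), (0, (-3)), (0, (-1)), (0, 3), (0, (-1)), (0, 1), (0, 1), (0, (-1)), (0, (-1)), (0, 1), (0, 1), (0, (-1)), (0, 1), (0, (-1)), (0, (-1)), (0, 1), (0, 3)],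
      [(0, (-1)), (0, 1), (0, (-3)), (0, 1), (0, 1), (0, 3), (0, (-1)), (0, (-3)), (0, 1), (0, (-1)), (0, (-1)), (0, (-1)), (0, 1), (0, 1), (0, (-1)), (0, (-1)), (0, 1), (0, 1), (0, (-1)), (0, (-3)), (0, (-1)), (0, (-1)), (0, (-3)), (0, (-1))],
      [(0, (-1)), (0, (-3)), (0, 1), (0, 1), (0, 1), (0, (-1)), (0, (-1)), (0, (-3)), (0, 1), (0, (-1)), (0, (-1)), (0, 3), (0, 1), (0, 1), (0, (-1)), (0, 3), (0, 1), (0, 1), (0, (-1)), (0, 1), (0, (-1)), (0, (-1)), (0, 1), (0, 3)],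
      [(0, (-1)), (0, (-3)), (0, 1), (0, 1), (0, (-3)), (0, (-1)), (0, 3), (0, 1), (0, 1), (0, (-1)), (0, (-1)), (0, (-1)), (0, 1), (0, 1), (0, (-1)), (0, (-1)), (0, 1), (0, (-3)), (0, (-1)), (0, (-3)), (0, (-1)), (0, (-1)), (0, 1), (0, (-1))],
      [(0, 3), (0, 1), (0, 1), (0, 1), (0, 1), (0, (-1)), (0, (-1)), (0, 1), (0, 1), (0, (-1)), (0, 3), (0, (-1)), (0, 1), (0, 1), (0, (-1)), (0, 3), (0, 1), (0, (-3)), (0, (-1)), (0, 1), (0, (-1)), (0, (-1)), (0, (-3)), (0, (-1))]]),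
    ([[(0, (-1)), (0, 1), (0, (-3)), (0, 1), (0, (-1)), (0, 1), (0, 3), (0, 1), (0, (-1)), (0, (-1)), (0, 1), (0, (-1)), (0, 1), (0, (-1)), (0, (-1)), (0, (-1)), (0, (-1)), (0, (-3)), (0, 3), (0, 1), (0, (-1)), (0, (-3)), (0, 1), (0, 1)],
      [(0, 1), (0, 3), (0, (-1)), (0, (-1)), (0, 1), (0, (-1)), (0, (-3)), (0, (-1)), (0, 1), (0, (-3)), (0, (-1)), (0, 1), (0, (-1)), (0, 1), (0, 1), (0, 1), (0, 1), (0, (-1)), (0, 1), (0, (-1)), (0, 1), (0, (-1)), (0, 3), (0, 3)],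
      [(0, 1), (0, (-1)), (0, (-1)), (0, (-1)), (0, 1), (0, (-1)), (0, 1), (0, (-5)), (0, 1), (0, 1), (0, (-1)), (0, 1), (0, (-1)), (0, (-3)), (0, 1), (0, (-3)), (0, 1), (0, (-1)), (0, 1), (0, (-1)), (0, 1), (0, (-1)), (0, (-1)), (0, (-1))],
      [(0, (-1)), (0, (-3)), (0, 1), (0, 1), (0, (-1)), (0, (-3)), (0, (-1)), (0, 1), (0, (-1)), (0, (-1)), (0, 1), (0, 3), (0, 1), (0, (-1)), (0, 3), (0, (-1)), (0, (-1)), (0, (-3)), (0, (-1)), (0, 1), (0, (-1)), (0, 1), (0, 1), (0, 1)],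
      [(0, (-1)), (0, 1), (0, 1), (0, 1), (0, 3), (0, 1), (0, (-1)), (0, 1), (0, (-1)), (0, (-1)), (0, 1), (0, (-1)), (0, 1), (0, (-1)), (0, 3), (0, (-1)), (0, 3), (0, 1), (0, 3), (0, 1), (0, (-1)), (0, 1), (0, 1), (0, (-3))],
      [(0, 1), (0, (-1)), (0, (-1)), (0, (-1)), (0, 1), (0, (-1)), (0, 1), (0, 3), (0, 1), (0, 1), (0, (-1)), (0, 1), (0, (-1)), (0, 5), (0, 1), (0, (-3)), (0, 1), (0, (-1)), (0, 1), (0, (-1)), (0, 1), (0, (-1)), (0, (-1)), (0, (-1))],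
      [(0, (-1)), (0, 1), (0, (-3)), (0, 1), (0, (-1)), (0, (-3)), (0, (-1)), (0, 1), (0, 3), (0, (-1)), (0, 1), (0, (-1)), (0, 1), (0, (-1)), (0, (-1)), (0, (-1)), (0, 3), (0, 1), (0, (-1)), (0, 1), (0, (-1)), (0, 1), (0, (-3)), (0, 1)],
      [(0, 1), (0, 3), (0, (-1)), (0, 3), (0, 1), (0, (-1)), (0, 1), (0, (-1)), (0, (-3)), (0, 1), (0, (-1)), (0, 1), (0, 3), (0, 1), (0, 1), (0, 1), (0, 1), (0, (-1)), (0, (-3)), (0, (-1)), (0, 1), (0, (-1)), (0, (-1)), (0, (-1))],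
      [(0, 1), (0, (-1)), (0, (-1)), (0, (-1)), (0, 1), (0, (-1)), (0, (-3)), (0, (-1)), (0, 1), (0, 1), (0, (-1)), (0, (-3)), (0, 3), (0, 1), (0, 1), (0, 1), (0, (-3)), (0, (-1)), (0, 1), (0, (-1)), (0, (-3)), (0, (-1)), (0, (-1)), (0, (-1))],
      [(0, 1), (0, 3), (0, 3), (0, (-1)), (0, (-3)), (0, (-1)), (0, 1), (0, (-1)), (0, 1), (0, 1), (0, (-1)), (0, 1), (0, (-1)), (0, 1), (0, 1), (0, 1), (0, 1), (0, (-1)), (0, 1), (0, 3), (0, (-3)), (0, (-1)), (0, (-1)), (0, (-1))],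
      [(0, (-3)), (0, (-1)), (0, (-1)), (0, (-1)), (0, 1), (0, (-1)), (0, (-3)), (0, (-1)), (0, (-3)), (0, 1), (0, (-1)), (0, 1), (0, (-1)), (0, 1), (0, (-3)), (0, 1), (0, 1), (0, (-1)), (0, 1), (0, 3), (0, 1), (0, (-1)), (0, (-1)), (0, (-1))],
      [(0, 3), (0, 1), (0, 1), (0, 1), (0, 3), (0, 1), (0, (-1)), (0, 1), (0, (-1)), (0, (-1)), (0, 1), (0, (-1)), (0, (-3)), (0, (-1)), (0, (-1)), (0, (-1)), (0, (-1)), (0, (-3)), (0, (-1)), (0, 1), (0, (-1)), (0, 1), (0, (-3)), (0, 1)],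
      [(0, (-1)), (0, 1), (0, 1), (0, 1), (0, (-1)), (0, 1), (0, (-1)), (0, 1), (0, 3), (0, (-1)), (0, (-3)), (0, (-1)), (0, 1), (0, (-1)), (0, (-1)), (0, (-1)), (0, (-1)), (0, (-3)), (0, (-1)), (0, 1), (0, 3), (0, 1), (0, 1), (0, (-3))],
      [(0, 3), (0, 1), (0, 1), (0, 1), (0, (-1)), (0, (-3)), (0, (-1)), (0, 1), (0, (-1)), (0, 3), (0, 1), (0, (-1)), (0, 1), (0, (-1)), (0, (-1)), (0, (-1)), (0, (-1)), (0, 1), (0, 3), (0, 1), (0, 3), (0, 1), (0, 1), (0, 1)],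
      [(0, 1), (0, (-1)), (0, (-1)), (0, (-1)), (0, 1), (0, (-1)), (0, 1), (0, (-1)), (0, 1), (0, 1), (0, 3), (0, (-3)), (0, (-1)), (0, 1), (0, 1), (0, 1), (0, 1), (0, (-1)), (0, (-3)), (0, 3), (0, 1), (0, (-1)), (0, 3), (0, (-1))],
      [(0, (-3)), (0, 3), (0, (-1)), (0, (-1)), (0, 1), (0, (-1)), (0, 1), (0, (-1)), (0, 1), (0, 1), (0, 3), (0, 1), (0, (-1)), (0, 1), (0, 1), (0, 1), (0, (-3)), (0, (-1)), (0, 1), (0, (-1)), (0, 1), (0, 3), (0, (-1)), (0, (-1))],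
      [(0, (-1)), (0, 1), (0, 1), (0, 1), (0, 3), (0, 1), (0, (-1)), (0, 1), (0, 3), (0, 3), (0, 1), (0, 3), (0, 1), (0, (-1)), (0, (-1)), (0, (-1)), (0, (-1)), (0, 1), (0, (-1)), (0, 1), (0, (-1)), (0, (-3)), (0, 1), (0, 1)],
      [(0, 1), (0, (-1)), (0, 3), (0, (-1)), (0, 1), (0, (-1)), (0, 1), (0, (-1)), (0, 1), (0, (-3)), (0, 3), (0, 1), (0, 3), (0, 1), (0, (-3)), (0, 1), (0, 1), (0, (-1)), (0, 1), (0, (-1)), (0, 1), (0, (-1)), (0, (-1)), (0, (-1))],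
      [(0, (-1)), (0, 1), (0, 1), (0, (-3)), (0, (-1)), (0, 1), (0, (-1)), (0, 1), (0, (-1)), (0, (-1)), (0, 1), (0, (-1)), (0, 1), (0, (-1)), (0, 3), (0, (-1)), (0, (-1)), (0, 1), (0, (-1)), (0, 1), (0, 3), (0, (-3)), (0, (-3)), (0, 1)],
      [(0, (-1)), (0, 1), (0, 1), (0, (-3)), (0, (-1)), (0, 1), (0, (-1)), (0, 1), (0, (-1)), (0, 3), (0, 1), (0, (-1)), (0, 1), (0, (-1)), (0, (-1)), (0, (-1)), (0, 3), (0, (-3)), (0, (-1)), (0, (-3)), (0, (-1)), (0, 1), (0, 1), (0, 1)],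
      [(0, 3), (0, 1), (0, (-3)), (0, (-3)), (0, (-1)), (0, 1), (0, (-1)), (0, 1), (0, (-1)), (0, (-1)), (0, 1), (0, 3), (0, 1), (0, (-1)), (0, (-1)), (0, (-1)), (0, (-1)), (0, 1), (0, (-1)), (0, 1), (0, (-1)), (0, 1), (0, 1), (0, (-3))],
      [(0, (-1)), (0, 1), (0, 1), (0, 1), (0, (-1)), (0, 1), (0, (-1)), (0, (-3)), (0, (-1)), (0, (-1)), (0, 1), (0, (-1)), (0, 1), (0, 3), (0, (-1)), (0, (-5)), (0, (-1)), (0, 1), (0, (-1)), (0, 1), (0, (-1)), (0, 1), (0, 1), (0, 1)],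
      [(0, 1), (0, (-1)), (0, (-1)), (0, 3), (0, (-3)), (0, 3), (0, (-3)), (0, (-1)), (0, 1), (0, 1), (0, 3), (0, 1), (0, (-1)), (0, 1), (0, 1), (0, 1), (0, 1), (0, (-1)), (0, 1), (0, (-1)), (0, 1), (0, (-1)), (0, (-1)), (0, (-1))],
      [(0, 1), (0, (-1)), (0, (-1)), (0, (-1)), (0, 1), (0, 3), (0, 1), (0, (-1)), (0, 1), (0, 1), (0, (-1)), (0, 1), (0, 3), (0, 1), (0, 1), (0, 1), (0, 1), (0, (-1)), (0, 1), (0, 3), (0, 1), (0, 3), (0, (-1)), (0, 3)]],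
     [[(0, (-1)), (0, 1), (0, 1), (0, (-1)), (0, (-1)), (0, 1), (0, (-1)), (0, 1), (0, 1), (0, 1), (0, (-3)), (0, 3), (0, (-1)), (0, 3), (0, 1), (0, (-3)), (0, (-1)), (0, 1), (0, (-1)), (0, (-1)), (0, 3), (0, (-1)), (0, 1), (0, 1)],
      [(0, 1), (0, 3), (0, (-1)), (0, (-3)), (0, 1), (0, (-1)), (0, 1), (0, 3), (0, (-1)), (0, 3), (0, (-1)), (0, 1), (0, 1), (0, 1), (0, (-1)), (0, 3), (0, 1), (0, (-1)), (0, 1), (0, 1), (0, 1), (0, 1), (0, (-1)), (0, (-1))],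
      [(0, (-3)), (0, (-1)), (0, (-1)), (0, 1), (0, 1), (0, (-1)), (0, (-3)), (0, (-1)), (0, (-1)), (0, 3), (0, (-1)), (0, 1), (0, 1), (0, 1), (0, (-1)), (0, (-1)), (0, 1), (0, 3), (0, 1), (0, 1), (0, (-3)), (0, 1), (0, (-1)), (0, (-1))],
      [(0, 1), (0, (-1)), (0, (-1)), (0, 1), (0, 1), (0, (-1)), (0, 1), (0, 3), (0, (-1)), (0, (-1)), (0, (-1)), (0, 1), (0, 1), (0, 1), (0, (-1)), (0, (-1)), (0, 1), (0, (-1)), (0, (-3)), (0, (-3)), (0, (-3)), (0, 1), (0, 3), (0, (-1))],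
      [(0, (-1)), (0, 1), (0, 1), (0, (-1)), (0, 3), (0, 1), (0, (-1)), (0, 1), (0, 1), (0, (-3)), (0, 1), (0, 3), (0, (-1)), (0, (-1)), (0, 1), (0, 1), (0, 3), (0, 1), (0, (-1)), (0, (-1)), (0, (-1)), (0, (-1)), (0, (-3)), (0, 1)],
      [(0, 1), (0, (-1)), (0, (-1)), (0, (-3)), (0, 1), (0, (-1)), (0, (-3)), (0, (-1)), (0, (-1)), (0, (-1)), (0, (-1)), (0, 1), (0, 1), (0, (-3)), (0, (-1)), (0, (-1)), (0, 1), (0, (-1)), (0, 1), (0, 1), (0, 1), (0, 1), (0, 3), (0, 3)],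
      [(0, 3), (0, (-3)), (0, 1), (0, (-1)), (0, (-1)), (0, 1), (0, (-1)), (0, 1), (0, (-3)), (0, 1), (0, (-3)), (0, (-1)), (0, (-1)), (0, (-1)), (0, 1), (0, 1), (0, (-1)), (0, 1), (0, (-1)), (0, (-1)), (0, (-1)), (0, (-1)), (0, (-3)), (0, 1)],
      [(0, 1), (0, (-1)), (0, (-5)), (0, 1), (0, 1), (0, 3), (0, 1), (0, (-1)), (0, (-1)), (0, (-1)), (0, (-1)), (0, 1), (0, 1), (0, 1), (0, (-1)), (0, (-1)), (0, 1), (0, (-1)), (0, 1), (0, 1), (0, 1), (0, (-3)), (0, (-1)), (0, (-1))],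
      [(0, (-1)), (0, 1), (0, 1), (0, (-1)), (0, (-1)), (0, 1), (0, 3), (0, (-3)), (0, 1), (0, 1), (0, (-3)), (0, (-1)), (0, 3), (0, (-1)), (0, 1), (0, 1), (0, 3), (0, 1), (0, (-1)), (0, (-1)), (0, (-1)), (0, (-1)), (0, 1), (0, 1)],
      [(0, (-1)), (0, (-3)), (0, 1), (0, (-1)), (0, (-1)), (0, 1), (0, (-1)), (0, 1), (0, 1), (0, 1), (0, 1), (0, (-1)), (0, (-1)), (0, 3), (0, 1), (0, 1), (0, 3), (0, (-3)), (0, (-1)), (0, 3), (0, (-1)), (0, (-1)), (0, 1), (0, 1)],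
      [(0, 1), (0, (-1)), (0, (-1)), (0, 1), (0, 1), (0, (-1)), (0, 1), (0, (-1)), (0, (-1)), (0, (-1)), (0, (-1)), (0, 1), (0, (-3)), (0, 1), (0, 3), (0, 3), (0, 1), (0, 3), (0, 1), (0, 1), (0, 1), (0, 1), (0, 3), (0, (-1))],
      [(0, (-1)), (0, 1), (0, 1), (0, 3), (0, (-1)), (0, 1), (0, (-1)), (0, 1), (0, (-3)), (0, 1), (0, 1), (0, (-1)), (0, (-1)), (0, (-1)), (0, (-3)), (0, 1), (0, 3), (0, 1), (0, (-1)), (0, (-1)), (0, 3), (0, (-1)), (0, 1), (0, 1)],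
      [(0, 1), (0, (-1)), (0, (-1)), (0, 1), (0, 1), (0, (-1)), (0, 1), (0, 3), (0, 3), (0, (-1)), (0, (-1)), (0, (-3)), (0, 1), (0, 1), (0, (-1)), (0, (-1)), (0, 1), (0, 3), (0, 1), (0, 1), (0, 1), (0, 1), (0, (-1)), (0, 3)],
      [(0, (-1)), (0, 1), (0, (-3)), (0, (-1)), (0, (-1)), (0, 5), (0, (-1)), (0, 1), (0, 1), (0, 1), (0, 1), (0, (-1)), (0, (-1)), (0, (-1)), (0, 1), (0, 1), (0, (-1)), (0, 1), (0, (-1)), (0, (-1)), (0, (-1)), (0, 3), (0, 1), (0, 1)],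
      [(0, (-1)), (0, 1), (0, 1), (0, 3), (0, 3), (0, 1), (0, (-1)), (0, 1), (0, 1), (0, 1), (0, (-3)), (0, (-1)), (0, (-1)), (0, (-1)), (0, 1), (0, 1), (0, (-1)), (0, (-3)), (0, 3), (0, (-1)), (0, (-1)), (0, (-1)), (0, 1), (0, 1)],
      [(0, (-1)), (0, 1), (0, (-3)), (0, (-1)), (0, (-1)), (0, (-3)), (0, (-1)), (0, 1), (0, 1), (0, 1), (0, 1), (0, (-1)), (0, (-1)), (0, (-1)), (0, 1), (0, 1), (0, (-1)), (0, 1), (0, (-1)), (0, (-1)), (0, (-1)), (0, (-5)), (0, 1), (0, 1)],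
      [(0, (-1)), (0, 1), (0, 1), (0, (-1)), (0, 3), (0, 1), (0, 3), (0, 1), (0, (-3)), (0, 1), (0, 1), (0, (-1)), (0, (-1)), (0, (-1)), (0, 1), (0, (-3)), (0, (-1)), (0, 1), (0, (-1)), (0, 3), (0, (-1)), (0, (-1)), (0, 1), (0, 1)],
      [(0, (-3)), (0, (-1)), (0, (-1)), (0, (-3)), (0, 1), (0, (-1)), (0, 1), (0, (-1)), (0, (-1)), (0, (-1)), (0, (-1)), (0, (-3)), (0, (-3)), (0, 1), (0, (-1)), (0, (-1)), (0, 1), (0, (-1)), (0, 1), (0, (-3)), (0, 1), (0, 1), (0, (-1)), (0, (-1))],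
      [(0, 3), (0, 1), (0, 1), (0, (-1)), (0, 3), (0, 1), (0, (-1)), (0, (-3)), (0, 1), (0, 1), (0, 1), (0, (-1)), (0, (-1)), (0, 3), (0, (-3)), (0, 1), (0, (-1)), (0, 1), (0, (-1)), (0, (-1)), (0, (-1)), (0, (-1)), (0, 1), (0, 1)],
      [(0, 1), (0, (-1)), (0, (-1)), (0, 1), (0, 1), (0, (-1)), (0, 1), (0, (-1)), (0, (-1)), (0, 3), (0, 3), (0, 1), (0, 1), (0, 1), (0, 3), (0, (-1)), (0, 1), (0, (-1)), (0, 1), (0, (-3)), (0, 1), (0, 1), (0, (-1)), (0, 3)],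
      [(0, (-1)), (0, 1), (0, 1), (0, (-1)), (0, (-1)), (0, 1), (0, (-1)), (0, 1), (0, (-3)), (0, (-3)), (0, 1), (0, (-1)), (0, 3), (0, 3), (0, 1), (0, 1), (0, (-1)), (0, 1), (0, 3), (0, (-1)), (0, (-1)), (0, (-1)), (0, 1), (0, 1)],
      [(0, (-3)), (0, (-1)), (0, (-1)), (0, 1), (0, 1), (0, (-1)), (0, 1), (0, (-1)), (0, (-1)), (0, (-1)), (0, (-1)), (0, 1), (0, 1), (0, 1), (0, (-1)), (0, 3), (0, (-3)), (0, (-1)), (0, (-3)), (0, 1), (0, 1), (0, 1), (0, (-1)), (0, 3)],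
      [(0, 1), (0, 3), (0, (-1)), (0, 1), (0, 1), (0, (-1)), (0, (-3)), (0, (-1)), (0, (-1)), (0, (-1)), (0, (-1)), (0, (-3)), (0, 1), (0, 1), (0, 3), (0, (-1)), (0, 1), (0, (-1)), (0, (-3)), (0, 1), (0, 1), (0, 1), (0, (-1)), (0, (-1))],
      [(0, 1), (0, 3), (0, (-1)), (0, 1), (0, (-3)), (0, (-1)), (0, 1), (0, (-1)), (0, (-1)), (0, (-1)), (0, (-1)), (0, 1), (0, (-3)), (0, 1), (0, (-1)), (0, (-1)), (0, 1), (0, (-1)), (0, 1), (0, 1), (0, (-3)), (0, 1), (0, (-1)), (0, 3)]])]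

/-- the generators and their transposes -/
def fiveW : List (List (List (ℕ × ℤ)) × List (List (ℕ × ℤ))) := fiveW0 ++ fiveW1 ++ fiveW2

/-- part of the relations -/
def fiveRels0 : List Rule :=
  [([0, 0, 0, 0, 0], []),
    ([1, 0], [0, 1, 2, 2]),
    ([1, 1, 1, 1, 1], []),
    ([2, 0], [0, 2, 3, 3]),
    ([2, 1], [1, 2]),
    ([2, 2, 2, 2, 2], []),
    ([3, 0], [0, 3]),
    ([3, 1], [1, 3]),
    ([3, 2], [2, 3]),
    ([3, 3, 3, 3, 3], []),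
    ([4, 1], [1, 1, 1, 1, 2, 2, 2, 4]),
    ([4, 2], [1, 1, 2, 3, 3, 4]),
    ([4, 3], [1, 1, 1, 3, 3, 4]),
    ([5, 0], [0, 0, 1, 1, 1, 1, 2, 3, 3, 3, 5]),
    ([5, 1], [1, 1, 1, 2, 3, 3, 3, 3, 5]),
    ([5, 2], [2, 3, 3, 3, 5]),
    ([5, 3], [3, 3, 5])]

/-- the relations -/
def fiveRels : List Rule := fiveRels0

/-- part of the pairs -/
def fiveEqs0 : List Pair :=
  [([3, 1, 0], [(0, 7, true), (1, 6, true), (0, 1, true)], [(1, 1, true), (0, 6, true), (1, 7, true), (2, 8, true), (3, 8, true)]),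
    ([2, 1, 0], [(0, 4, true), (1, 3, true), (0, 1, true)], [(1, 1, true), (0, 3, true), (3, 7, true), (2, 7, true), (1, 4, true), (4, 8, true), (3, 8, true), (5, 8, true), (4, 8, true)]),
    ([1, 1, 1, 1, 1, 0], [(0, 2, true)], [(4, 1, true), (3, 1, true), (2, 1, true), (1, 1, true), (0, 1, true), (3, 4, true), (2, 4, true), (6, 4, true), (5, 4, true), (4, 4, true), (3, 4, true), (4, 5, true), (4, 4, true), (7, 4, true), (6, 4, true), (5, 4, true), (1, 2, true), (1, 5, true)]),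
    ([2, 2, 2, 2, 2, 0], [(0, 5, true)], [(4, 3, true), (3, 3, true), (2, 3, true), (1, 3, true), (0, 3, true), (3, 8, true), (2, 8, true), (6, 8, true), (5, 8, true), (4, 8, true), (3, 8, true), (4, 9, true), (4, 8, true), (7, 8, true), (6, 8, true), (5, 8, true), (1, 5, true), (1, 9, true)]),
    ([4, 1, 1, 1, 1, 1], [(0, 10, true), (7, 10, true), (14, 10, true), (21, 10, true), (28, 10, true), (6, 4, true), (5, 4, true), (4, 4, true), (0, 2, true), (2, 4, true), (1, 4, true), (0, 4, true), (3, 4, true), (2, 4, true), (1, 4, true), (4, 4, true), (3, 4, true), (2, 4, true), (3, 5, true), (3, 4, true), (4, 4, true), (0, 2, true), (0, 4, true), (1, 4, true), (5, 4, true), (4, 4, true), (3, 4, true), (2, 4, true), (6, 4, true), (5, 4, true), (4, 4, true), (3, 4, true), (7, 4, true), (6, 4, true), (5, 4, true), (4, 4, true), (0, 2, true),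 (3, 4, true), (2, 4, true), (1, 4, true), (0, 4, true), (1, 5, true), (2, 4, true), (1, 4, true), (3, 4, true), (2, 4, true), (4, 4, true), (3, 4, true), (5, 4, true), (4, 4, true), (0, 2, true), (0, 5, true)], [(1, 2, true)]),
    ([4, 2, 1], [(0, 11, true), (5, 10, true), (4, 7, true), (3, 7, true), (2, 4, true), (5, 7, true), (4, 7, true), (3, 4, true), (6, 7, true), (5, 7, true), (4, 4, true), (0, 2, true), (2, 7, true), (1, 7, true), (0, 4, true), (3, 8, true), (2, 8, true), (4, 8, true), (3, 8, true), (5, 8, true), (4, 8, true)], [(1, 4, true), (0, 10, true), (7, 11, true), (6, 4, true), (5, 4, true), (4, 4, true), (0, 2, true), (2, 4, true), (1, 4, true), (0, 4, true)]),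
    ([5, 0, 0, 0, 0, 0], [(0, 13, true), (10, 13, true), (20, 13, true), (30, 13, true), (40, 13, true), (9, 6, true), (8, 6, true), (7, 6, true), (6, 3, true), (5, 1, true), (4, 1, true), (3, 1, true), (2, 1, true), (5, 4, true), (4, 4, true), (8, 4, true), (7, 4, true), (6, 4, true), (5, 4, true), (6, 5, true), (6, 4, true), (11, 9, true), (10, 3, true), (9, 3, true), (8, 3, true), (7, 3, true), (6, 1, true), (5, 1, true), (4, 1, true), (3, 1, true), (6, 4, true), (5, 4, true), (9, 4, true), (8, 4, true), (7, 4, true), (6, 4, true), (7, 5, true), (7, 4, true), (13, 8, true), (12, 8, true), (8, 5, true), (11, 8, true), (10, 8, true), (9, 8, true), (8, 8, true), (9, 9, true), (9, 8, true), (12, 7, true), (11, 7, true), (10, 7, true), (9, 4, true), (8, 4, true), (4, 2, true), (8, 7, true), (7, 7, true), (6, 7, true), (5, 4, true),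 (4, 4, true), (9, 7, true), (8, 7, true), (7, 7, true), (6, 4, true), (5, 4, true), (10, 7, true), (9, 7, true), (8, 7, true), (7, 4, true), (6, 4, true), (11, 8, true), (10, 8, true), (9, 8, true), (10, 9, true), (10, 6, true), (9, 3, true), (8, 3, true), (7, 3, true), (6, 1, true), (5, 1, true), (4, 1, true), (0, 0, true), (2, 4, true), (1, 4, true), (5, 4, true), (4, 4, true), (3, 4, true), (2, 4, true), (3, 5, true), (6, 8, true), (5, 8, true), (9, 8, true), (8, 8, true), (7, 8, true), (6, 8, true), (7, 9, true), (8, 6, true), (7, 6, true), (6, 3, true), (5, 3, true), (4, 3, true), (3, 3, true), (2, 1, true), (1, 1, true), (0, 1, true), (3, 4, true), (2, 4, true), (6, 4, true), (5, 4, true), (4, 4, true), (3, 4, true), (4, 5, true), (7, 8, true), (6, 8, true), (10, 8, true), (9, 8, true), (8, 8, true), (7, 8, true), (8, 9, true),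 (8, 8, true), (4, 5, true), (4, 9, true), (1, 2, true), (6, 6, true), (5, 6, true), (4, 6, true), (3, 3, true), (2, 1, true), (1, 1, true), (4, 4, true), (3, 4, true), (4, 5, true), (4, 9, true), (3, 1, true), (2, 1, true), (5, 4, true), (4, 4, true), (8, 4, true), (7, 4, true), (6, 4, true), (5, 4, true), (9, 4, true), (8, 4, true), (7, 4, true), (6, 4, true), (10, 4, true), (9, 4, true), (8, 4, true), (7, 4, true), (3, 2, true), (6, 4, true), (5, 4, true), (4, 4, true), (3, 4, true), (4, 5, true), (6, 6, true), (5, 6, true), (4, 6, true), (3, 1, true), (9, 6, true), (8, 6, true), (7, 6, true), (6, 3, true), (5, 3, true), (4, 1, true), (0, 0, true), (5, 8, true), (4, 8, true), (5, 9, true), (6, 7, true), (5, 7, true), (4, 4, true), (3, 4, true), (2, 4, true), (1, 4, true), (7, 7, true), (6, 7, true), (5, 4, true), (4, 4, true), (3,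 4, true), (2, 4, true), (8, 7, true), (7, 7, true), (6, 4, true), (5, 4, true), (4, 4, true), (3, 4, true), (9, 7, true), (8, 7, true), (7, 4, true), (6, 4, true), (5, 4, true), (4, 4, true), (0, 2, true), (5, 8, true), (4, 8, true), (0, 5, true), (0, 9, true)], [(1, 0, true)]),
    ([5, 1, 0], [(0, 14, true), (8, 13, true), (7, 6, true), (6, 6, true), (5, 6, true), (4, 6, true), (3, 3, true), (2, 1, true), (1, 1, true), (0, 1, true), (3, 4, true), (2, 4, true), (6, 4, true), (5, 4, true), (4, 4, true), (3, 4, true), (4, 5, true), (6, 9, true), (6, 6, true), (5, 3, true), (4, 3, true), (3, 1, true), (2, 1, true), (1, 1, true), (4, 4, true), (3, 4, true), (7, 4, true), (6, 4, true), (5, 4, true), (4, 4, true), (5, 5, true), (8, 8, true), (7, 8, true), (8, 9, true), (7, 4, true), (6, 4, true), (5, 4, true), (8, 4, true), (7, 4, true),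 (6, 4, true), (2, 2, true), (4, 4, true), (3, 4, true), (2, 4, true), (5, 4, true), (4, 4, true), (3, 4, true)], [(1, 1, true), (0, 13, true), (10, 14, true), (18, 15, true), (22, 15, true), (9, 7, true), (8, 7, true), (7, 7, true), (6, 4, true), (2, 2, true), (5, 7, true), (4, 7, true), (3, 7, true), (2, 4, true), (6, 7, true), (5, 7, true), (4, 7, true), (3, 4, true), (7, 8, true), (6, 8, true), (5, 8, true), (6, 9, true), (7, 8, true), (6, 8, true), (7, 9, true)]),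
    ([5, 2, 0], [(0, 15, true), (4, 13, true), (3, 6, true), (2, 6, true), (1, 6, true), (0, 3, true), (2, 9, true), (1, 3, true), (4, 7, true), (3, 7, true), (2, 4, true), (5, 7, true), (4, 7, true), (3, 4, true), (6, 7, true), (5, 7, true), (4, 4, true), (7, 7, true), (6, 7, true), (5, 4, true), (8, 8, true), (7, 8, true), (8, 9, true)], [(1, 3, true), (0, 13, true), (10, 15, true), (14, 16, true), (16, 16, true), (9, 8, true), (8, 8, true), (7, 8, true), (8, 9, true), (8, 9, true)]),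
    ([5, 3, 0], [(0, 16, true), (2, 13, true), (1, 6, true), (0, 6, true), (2, 6, true), (1, 6, true), (3, 7, true), (2, 7, true), (4, 7, true), (3, 7, true), (5, 7, true), (4, 7, true), (6, 7, true), (5, 7, true), (7, 8, true), (6, 8, true), (7, 9, true)], [(1, 6, true), (0, 13, true), (10, 16, true), (7, 9, true)])]

/-- the pairs -/
def fiveEqs : List Pair := fiveEqs0

/-- part of the exponents -/
def fiveVecs0 : List (List ℤ) :=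
  [[0, 0, 0, 0, 0, 0, 0, 0, (-2), 0, 0, 0, 0, 0, 0, 0, 0],
    [0, 0, 0, 0, 0, 0, 0, (-2), 1, 0, 0, 0, 0, 0, 0, 0, 0],
    [0, 0, 0, 0, 0, (-2), 0, 0, 0, 0, 0, 0, 0, 0, 0, 0, 0],
    [0, 0, 0, 0, 0, 0, 0, 0, 0, (-2), 0, 0, 0, 0, 0, 0, 0],
    [0, 0, (-2), 0, 0, (-2), 0, 0, 0, 0, 0, 0, 0, 0, 0, 0, 0],
    [0, 0, 0, 0, 2, 0, 0, (-2), 1, 0, 0, 0, 0, 0, 0, 0, 0],
    [1, 0, (-1), 0, 0, (-1), 0, 0, 2, (-1), 0, 0, 0, 0, 0, 0, 0],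
    [0, 0, 0, (-2), 1, 2, 0, 1, 2, 0, 0, 0, 0, 0, 0, (-2), 0],
    [0, 0, 0, 1, (-1), 0, (-2), (-2), (-1), 0, 0, 0, 0, 0, 0, 0, (-2)],
    [0, 0, 0, 0, 0, 0, (-2), (-2), 2, 0, 0, 0, 0, 0, 0, 0, 0]]

/-- the exponents -/
def fiveVecs : List (List ℤ) := fiveVecs0

/-- part of the change of lifts -/
def fiveGauge0 : List (List (ℕ × ℤ)) :=
  [[],
    [],
    [(1, (-2))],
    [(3, (-2))],
    [],
    []]

/-- the change of lifts -/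
def fiveGauge : List (List (ℕ × ℤ)) := fiveGauge0

/-- part of the combinations -/
def fiveCombs0 : List (List (ℕ × ℤ)) :=
  [[(0, 1), (3, 2), (4, 2), (6, 1)],
    [],
    [(2, (-2)), (4, 2)],
    [],
    [(1, 2), (5, (-2))],
    [(2, 2)],
    [(0, 1), (1, (-2)), (9, 2)],
    [(0, 1), (1, 2)],
    [(0, 2)],
    [(3, 2)]]

/-- the combinations -/
def fiveCombs : List (List (ℕ × ℤ)) := fiveCombs0

/-- part of the representatives -/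
def fiveLvlW0_0 : List (List ℕ) :=
  [[1, 1],
    [0, 0],
    [1],
    [],
    [0]]

/-- the representatives -/
def fiveLvlW0_ : List (List ℕ) := fiveLvlW0_0

/-- part of the representatives -/
def fiveLvlW1_0 : List (List ℕ) :=
  [[2, 3, 3, 3, 3, 0, 1, 0, 1, 2, 3, 3, 3, 3],
    [2, 3, 3, 3, 3, 2, 3, 3, 3, 3, 0, 1, 2, 3, 3, 3, 3, 2, 3, 3, 3, 3],
    [0, 1, 2, 3, 3, 3, 3, 2, 3, 3, 3, 3, 2, 3, 3, 3, 3],
    [0, 1, 0, 1, 0, 1],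
    [0, 1, 2, 3, 3, 3, 3],
    [2, 3, 3, 3, 3, 0, 1, 2, 3, 3, 3, 3, 2, 3, 3, 3, 3, 2, 3, 3, 3, 3],
    [2, 3, 3, 3, 3, 0, 1],
    [0, 1, 0, 1, 0, 1, 0, 1],
    [2, 3, 3, 3, 3, 0, 1, 2, 3, 3, 3, 3, 2, 3, 3, 3, 3],
    [2, 3, 3, 3, 3, 2, 3, 3, 3, 3, 0, 1, 2, 3, 3, 3, 3],
    [],
    [2, 3, 3, 3, 3],
    [2, 3, 3, 3, 3, 2, 3, 3, 3, 3, 2, 3, 3, 3, 3, 2, 3, 3, 3, 3],
    [2, 3, 3, 3, 3, 2, 3, 3, 3, 3, 0, 1],
    [2, 3, 3, 3, 3, 0, 1, 2, 3, 3, 3, 3],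
    [2, 3, 3, 3, 3, 2, 3, 3, 3, 3, 2, 3, 3, 3, 3, 2, 3, 3, 3, 3, 0, 1],
    [0, 1, 0, 1, 2, 3, 3, 3, 3],
    [0, 1],
    [2, 3, 3, 3, 3, 2, 3, 3, 3, 3, 2, 3, 3, 3, 3, 0, 1],
    [0, 1, 2, 3, 3, 3, 3, 2, 3, 3, 3, 3],
    [2, 3, 3, 3, 3, 2, 3, 3, 3, 3],
    [0, 1, 2, 3, 3, 3, 3, 0, 1],
    [0, 1, 0, 1],
    [2, 3, 3, 3, 3, 2, 3, 3, 3, 3, 2, 3, 3, 3, 3],
    [2, 3, 3, 3, 3, 2, 3, 3, 3, 3, 2, 3, 3, 3, 3, 0, 1, 2, 3, 3, 3, 3]]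

/-- the representatives -/
def fiveLvlW1_ : List (List ℕ) := fiveLvlW1_0

/-- part of the representatives -/
def fiveLvlW2_0 : List (List ℕ) :=
  [[0, 0, 0, 0, 1, 1, 1, 1, 2, 2, 3, 3, 3, 3],
    [0, 0, 0, 0, 1, 1, 1, 1, 2, 2, 3, 3, 3, 3, 0, 0, 0, 0, 1, 1, 1, 1, 2, 2, 3, 3, 3, 3],
    [0, 0, 0, 0, 1, 1, 1, 1, 2, 2, 3, 3, 3, 3, 0, 0, 0, 0, 1, 1, 1, 1, 2, 2, 3, 3, 3, 3, 0, 0, 0, 0, 1, 1, 1, 1, 2, 2, 3, 3, 3, 3, 0, 0, 0, 0, 1, 1, 1, 1, 2, 2, 3, 3, 3, 3],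
    [0, 0, 0, 0, 1, 1, 1, 1, 2, 2, 3, 3, 3, 3, 0, 0, 0, 0, 1, 1, 1, 1, 2, 2, 3, 3, 3, 3, 0, 0, 0, 0, 1, 1, 1, 1, 2, 2, 3, 3, 3, 3],
    []]

/-- the representatives -/
def fiveLvlW2_ : List (List ℕ) := fiveLvlW2_0

/-- the chain -/
def fiveChain : List (List ℤ × List (List ℕ)) := [([0, 0, 2, 2, 4, (-2), 0, 0, 0, 0, 2, 0, (-2), 2, 0, 0, 2, 4, 2, (-2), (-2), (-2), 0, (-2)], fiveLvlW0_),
  ([0, (-4), 0, 0, (-2), (-2), (-4), (-4), 0, (-4), (-2), 4, 0, (-4), 4, (-2), 4, 0, 2, 2, (-2), 0, 0, (-2)], fiveLvlW1_),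
  ([0, 0, 2, 0, 2, 2, 0, 2, 2, 2, 2, 0, 0, 0, 0, 0, 0, 0, 0, 0, 2, 0, 0, 0], fiveLvlW2_)]

/-- the certificate -/
def fiveCert : Cert where
  p := 5
  n := 4
  ng := 6
  M := 10
  rels := fiveRels
  eqs := fiveEqs
  vecs := fiveVecs
  gauge := fiveGauge
  combs := fiveCombs

end Cfsg.Agent.Lie.ConwayZeroMult
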