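import Cfsg.Agent.Lib.Lie.ConwayZeroMult.Defs
import Cfsg.Agent.Lib.Lie.ConwayZeroMult.FiveData

/-!
The checks for the part at one prime (five) of the multiplier of the double cover of the first Conway group: the matrices, the relations and the chain.
-/

set_option autoImplicit false
set_option maxRecDepth 100000
set_option Elab.async false

namespace Cfsg.Agent.Lie.ConwayZeroMult

open CentralRewrite

theorem five_mats : fiveW.all matOK = true := by decide +kernel

theorem five_len : fiveCert.ng = fiveW.length := by decide +kernel

theorem five_rels : fiveCert.rels.all (relOK fiveW) = true := by decide +kernel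

theorem five_chain : chainV fiveW fiveCert.n fiveChain [] = true := by decide +kernel

theorem five_size : fiveCert.p ^ fiveCert.n ≤ chainProd fiveChain := by decide +kernel

theorem five_index : ¬ fiveCert.p ∣ 8315553613086720000 / fiveCert.p ^ fiveCert.n := by decide +kernel

end Cfsg.Agent.Lie.ConwayZeroMult
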