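import Cfsg.Agent.Lib.Lie.CentralRewrite.Main

/-!
Data for the part at the prime 7 of the multiplier of the double cover of the first Conway group: matrices,
relations, pairs of derivations and combinations.
-/

set_option autoImplicit false
set_option maxRecDepth 100000

namespace Cfsg.Agent.Lie.ConwayZeroMult

open CentralRewrite

/-- part of the generators and their transposes -/
def sevenW0 : List (List (List (ℕ × ℤ)) × List (List (ℕ × ℤ))) :=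
  [([[(0, 3), (0, (-1)), (0, 3), (0, (-1)), (0, 3), (0, (-1)), (0, (-1)), (0, 1), (0, 3), (0, 1), (0, (-1)), (0, 3), (0, 1), (0, (-1)), (0, (-1)), (0, 1), (0, 1), (0, (-1)), (0, 1), (0, (-1)), (0, (-1)), (0, 1), (0, 1), (0, (-1))],
      [(0, (-1)), (0, 3), (0, 3), (0, (-1)), (0, (-1)), (0, (-1)), (0, (-1)), (0, 1), (0, (-1)), (0, (-3)), (0, 3), (0, (-1)), (0, 1), (0, (-1)), (0, (-1)), (0, 1), (0, (-3)), (0, (-1)), (0, 1), (0, (-1)), (0, (-1)), (0, 1), (0, 1), (0, (-1))],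
      [(0, 1), (0, 1), (0, 1), (0, (-3)), (0, 1), (0, 1), (0, 1), (0, (-1)), (0, 1), (0, 3), (0, 1), (0, (-3)), (0, (-1)), (0, 1), (0, 1), (0, (-1)), (0, (-1)), (0, 1), (0, (-1)), (0, 1), (0, 1), (0, 3), (0, (-1)), (0, (-3))],
      [(0, (-3)), (0, 1), (0, 1), (0, 1), (0, 1), (0, 1), (0, 1), (0, (-1)), (0, 1), (0, (-1)), (0, 1), (0, 1), (0, (-1)), (0, 1), (0, 1), (0, 3), (0, 3), (0, 1), (0, (-1)), (0, 1), (0, (-3)), (0, (-1)), (0, (-1)), (0, (-3))],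
      [(0, 1), (0, 1), (0, 1), (0, 1), (0, 1), (0, (-3)), (0, 1), (0, (-1)), (0, 1), (0, (-1)), (0, 1), (0, (-3)), (0, 3), (0, 1), (0, 1), (0, (-1)), (0, 3), (0, (-3)), (0, (-1)), (0, 1), (0, 1), (0, (-1)), (0, (-1)), (0, 1)],
      [(0, (-3)), (0, (-3)), (0, 1), (0, (-3)), (0, 1), (0, (-3)), (0, 1), (0, (-1)), (0, 1), (0, (-1)), (0, 1), (0, 1), (0, (-1)), (0, (-3)), (0, 1), (0, (-1)), (0, (-1)), (0, 1), (0, (-1)), (0, 1), (0, 1), (0, (-1)), (0, (-1)), (0, 1)],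
      [(0, 1), (0, 1), (0, 1), (0, 1), (0, 1), (0, 1), (0, 1), (0, (-5)), (0, 1), (0, (-1)), (0, 1), (0, 1), (0, (-1)), (0, 1), (0, 1), (0, (-1)), (0, (-1)), (0, 1), (0, (-1)), (0, (-3)), (0, 1), (0, (-1)), (0, 3), (0, 1)],
      [(0, (-1)), (0, (-1)), (0, 3), (0, (-1)), (0, (-1)), (0, (-1)), (0, (-1)), (0, 1), (0, (-1)), (0, 1), (0, (-1)), (0, (-1)), (0, 1), (0, 3), (0, 3), (0, 1), (0, 1), (0, 3), (0, 1), (0, (-1)), (0, (-1)), (0, 1), (0, 1), (0, 3)],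
      [(0, 1), (0, 1), (0, (-3)), (0, (-3)), (0, 1), (0, 1), (0, (-3)), (0, (-1)), (0, 1), (0, (-1)), (0, 1), (0, 1), (0, 3), (0, 1), (0, 1), (0, 3), (0, (-1)), (0, 1), (0, (-1)), (0, 1), (0, 1), (0, (-1)), (0, (-1)), (0, 1)],
      [(0, (-1)), (0, 3), (0, (-1)), (0, (-1)), (0, (-1)), (0, (-1)), (0, (-1)), (0, 1), (0, 3), (0, 1), (0, (-1)), (0, (-1)), (0, 1), (0, (-1)), (0, (-1)), (0, (-3)), (0, 1), (0, 3), (0, 1), (0, (-1)), (0, (-1)), (0, (-3)), (0, 1), (0, (-1))],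
      [(0, (-3)), (0, 1), (0, 1), (0, 1), (0, 1), (0, 1), (0, (-3)), (0, (-1)), (0, 1), (0, 3), (0, 1), (0, 1), (0, (-1)), (0, 1), (0, 1), (0, (-1)), (0, (-1)), (0, (-3)), (0, 3), (0, 1), (0, 1), (0, (-1)), (0, (-1)), (0, 1)],
      [(0, 1), (0, 1), (0, 1), (0, (-3)), (0, (-3)), (0, 1), (0, 1), (0, (-1)), (0, 1), (0, (-1)), (0, (-3)), (0, 1), (0, (-1)), (0, 1), (0, 1), (0, (-1)), (0, (-1)), (0, (-3)), (0, (-1)), (0, 1), (0, (-3)), (0, (-1)), (0, (-1)), (0, 1)],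
      [(0, (-1)), (0, (-1)), (0, (-1)), (0, (-1)), (0, (-1)), (0, (-1)), (0, (-1)), (0, (-3)), (0, (-1)), (0, 1), (0, (-1)), (0, (-1)), (0, 1), (0, (-1)), (0, (-1)), (0, 1), (0, 1), (0, (-1)), (0, 1), (0, (-5)), (0, (-1)), (0, 1), (0, (-3)), (0, (-1))],
      [(0, (-1)), (0, (-1)), (0, (-1)), (0, (-1)), (0, 3), (0, (-1)), (0, 3), (0, 1), (0, (-1)), (0, 1), (0, (-1)), (0, (-1)), (0, 1), (0, 3), (0, (-1)), (0, 1), (0, (-3)), (0, (-1)), (0, 1), (0, (-1)), (0, (-1)), (0, (-3)), (0, 1), (0, (-1))],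
      [(0, 1), (0, 1), (0, 1), (0, 1), (0, 1), (0, 1), (0, 1), (0, (-1)), (0, (-3)), (0, 3), (0, 1), (0, 1), (0, 3), (0, (-3)), (0, 1), (0, (-1)), (0, (-1)), (0, 1), (0, (-1)), (0, 1), (0, (-3)), (0, (-1)), (0, (-1)), (0, 1)],
      [(0, 1), (0, 1), (0, 1), (0, 1), (0, 1), (0, (-3)), (0, (-3)), (0, (-1)), (0, (-3)), (0, (-1)), (0, (-3)), (0, 1), (0, (-1)), (0, 1), (0, 1), (0, (-1)), (0, (-1)), (0, 1), (0, (-1)), (0, 1), (0, 1), (0, (-1)), (0, (-1)), (0, (-3))],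
      [(0, (-1)), (0, (-1)), (0, 3), (0, (-1)), (0, (-1)), (0, 3), (0, (-1)), (0, 1), (0, (-1)), (0, 1), (0, (-1)), (0, (-1)), (0, 1), (0, (-1)), (0, (-1)), (0, 1), (0, 1), (0, (-1)), (0, (-3)), (0, (-1)), (0, 3), (0, (-3)), (0, 1), (0, (-1))],
      [(0, 3), (0, (-1)), (0, (-1)), (0, (-1)), (0, (-1)), (0, (-1)), (0, (-1)), (0, 1), (0, (-1)), (0, 1), (0, 3), (0, (-1)), (0, (-3)), (0, (-1)), (0, 3), (0, 1), (0, 1), (0, (-1)), (0, 1), (0, (-1)), (0, (-1)), (0, (-3)), (0, 1), (0, (-1))],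
      [(0, 1), (0, 1), (0, 1), (0, 1), (0, 1), (0, 1), (0, 1), (0, (-1)), (0, 1), (0, (-1)), (0, (-3)), (0, (-3)), (0, (-1)), (0, (-3)), (0, 1), (0, 3), (0, (-1)), (0, 1), (0, 3), (0, 1), (0, 1), (0, (-1)), (0, (-1)), (0, 1)],
      [(0, (-1)), (0, 3), (0, (-1)), (0, (-1)), (0, 3), (0, (-1)), (0, (-1)), (0, 1), (0, (-1)), (0, 1), (0, (-1)), (0, (-1)), (0, (-3)), (0, (-1)), (0, (-1)), (0, 1), (0, 1), (0, (-1)), (0, (-3)), (0, (-1)), (0, (-1)), (0, 1), (0, 1), (0, 3)],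
      [(0, 1), (0, 1), (0, 1), (0, (-3)), (0, 1), (0, 1), (0, 1), (0, (-1)), (0, (-3)), (0, (-1)), (0, 1), (0, 1), (0, (-1)), (0, 1), (0, (-3)), (0, (-1)), (0, 3), (0, 1), (0, 3), (0, 1), (0, 1), (0, (-1)), (0, (-1)), (0, 1)],
      [(0, (-1)), (0, 3), (0, (-1)), (0, (-1)), (0, (-1)), (0, (-1)), (0, 3), (0, 1), (0, (-1)), (0, 1), (0, (-1)), (0, 3), (0, 1), (0, (-1)), (0, 3), (0, 1), (0, 1), (0, (-1)), (0, 1), (0, (-1)), (0, 3), (0, 1), (0, 1), (0, (-1))],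
      [(0, (-1)), (0, (-1)), (0, (-1)), (0, (-1)), (0, (-1)), (0, (-1)), (0, (-1)), (0, (-3)), (0, (-1)), (0, 1), (0, (-1)), (0, (-1)), (0, 1), (0, (-1)), (0, (-1)), (0, 1), (0, 1), (0, (-1)), (0, 1), (0, 3), (0, (-1)), (0, 1), (0, 5), (0, (-1))],
      [(0, (-1)), (0, (-1)), (0, (-1)), (0, (-1)), (0, 3), (0, 3), (0, (-1)), (0, 1), (0, (-1)), (0, (-3)), (0, (-1)), (0, (-1)), (0, 1), (0, (-1)), (0, 3), (0, (-3)), (0, 1), (0, (-1)), (0, 1), (0, (-1)), (0, (-1)), (0, 1), (0, 1), (0, (-1))]],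
     [[(0, 3), (0, (-1)), (0, 1), (0, (-3)), (0, 1), (0, (-3)), (0, 1), (0, (-1)), (0, 1), (0, (-1)), (0, (-3)), (0, 1), (0, (-1)), (0, (-1)), (0, 1), (0, 1), (0, (-1)), (0, 3), (0, 1), (0, (-1)), (0, 1), (0, (-1)), (0, (-1)), (0, (-1))],
      [(0, (-1)), (0, 3), (0, 1), (0, 1), (0, 1), (0, (-3)), (0, 1), (0, (-1)), (0, 1), (0, 3), (0, 1), (0, 1), (0, (-1)), (0, (-1)), (0, 1), (0, 1), (0, (-1)), (0, (-1)), (0, 1), (0, 3), (0, 1), (0, 3), (0, (-1)), (0, (-1))],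
      [(0, 3), (0, 3), (0, 1), (0, 1), (0, 1), (0, 1), (0, 1), (0, 3), (0, (-3)), (0, (-1)), (0, 1), (0, 1), (0, (-1)), (0, (-1)), (0, 1), (0, 1), (0, 3), (0, (-1)), (0, 1), (0, (-1)), (0, 1), (0, (-1)), (0, (-1)), (0, (-1))],
      [(0, (-1)), (0, (-1)), (0, (-3)), (0, 1), (0, 1), (0, (-3)), (0, 1), (0, (-1)), (0, (-3)), (0, (-1)), (0, 1), (0, (-3)), (0, (-1)), (0, (-1)), (0, 1), (0, 1), (0, (-1)), (0, (-1)), (0, 1), (0, (-1)), (0, (-3)), (0, (-1)), (0, (-1)), (0, (-1))],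
      [(0, 3), (0, (-1)), (0, 1), (0, 1), (0, 1), (0, 1), (0, 1), (0, (-1)), (0, 1), (0, (-1)), (0, 1), (0, (-3)), (0, (-1)), (0, 3), (0, 1), (0, 1), (0, (-1)), (0, (-1)), (0, 1), (0, 3), (0, 1), (0, (-1)), (0, (-1)), (0, 3)],
      [(0, (-1)), (0, (-1)), (0, 1), (0, 1), (0, (-3)), (0, (-3)), (0, 1), (0, (-1)), (0, 1), (0, (-1)), (0, 1), (0, 1), (0, (-1)), (0, (-1)), (0, 1), (0, (-3)), (0, 3), (0, (-1)), (0, 1), (0, (-1)), (0, 1), (0, (-1)), (0, (-1)), (0, 3)],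
      [(0, (-1)), (0, (-1)), (0, 1), (0, 1), (0, 1), (0, 1), (0, 1), (0, (-1)), (0, (-3)), (0, (-1)), (0, (-3)), (0, 1), (0, (-1)), (0, 3), (0, 1), (0, (-3)), (0, (-1)), (0, (-1)), (0, 1), (0, (-1)), (0, 1), (0, 3), (0, (-1)), (0, (-1))],
      [(0, 1), (0, 1), (0, (-1)), (0, (-1)), (0, (-1)), (0, (-1)), (0, (-5)), (0, 1), (0, (-1)), (0, 1), (0, (-1)), (0, (-1)), (0, (-3)), (0, 1), (0, (-1)), (0, (-1)), (0, 1), (0, 1), (0, (-1)), (0, 1), (0, (-1)), (0, 1), (0, (-3)), (0, 1)],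
      [(0, 3), (0, (-1)), (0, 1), (0, 1), (0, 1), (0, 1), (0, 1), (0, (-1)), (0, 1), (0, 3), (0, 1), (0, 1), (0, (-1)), (0, (-1)), (0, (-3)), (0, (-3)), (0, (-1)), (0, (-1)), (0, 1), (0, (-1)), (0, (-3)), (0, (-1)), (0, (-1)), (0, (-1))],
      [(0, 1), (0, (-3)), (0, 3), (0, (-1)), (0, (-1)), (0, (-1)), (0, (-1)), (0, 1), (0, (-1)), (0, 1), (0, 3), (0, (-1)), (0, 1), (0, 1), (0, 3), (0, (-1)), (0, 1), (0, 1), (0, (-1)), (0, 1), (0, (-1)), (0, 1), (0, 1), (0, (-3))],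
      [(0, (-1)), (0, 3), (0, 1), (0, 1), (0, 1), (0, 1), (0, 1), (0, (-1)), (0, 1), (0, (-1)), (0, 1), (0, (-3)), (0, (-1)), (0, (-1)), (0, 1), (0, (-3)), (0, (-1)), (0, 3), (0, (-3)), (0, (-1)), (0, 1), (0, (-1)), (0, (-1)), (0, (-1))],
      [(0, 3), (0, (-1)), (0, (-3)), (0, 1), (0, (-3)), (0, 1), (0, 1), (0, (-1)), (0, 1), (0, (-1)), (0, 1), (0, 1), (0, (-1)), (0, (-1)), (0, 1), (0, 1), (0, (-1)), (0, (-1)), (0, (-3)), (0, (-1)), (0, 1), (0, 3), (0, (-1)), (0, (-1))],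
      [(0, 1), (0, 1), (0, (-1)), (0, (-1)), (0, 3), (0, (-1)), (0, (-1)), (0, 1), (0, 3), (0, 1), (0, (-1)), (0, (-1)), (0, 1), (0, 1), (0, 3), (0, (-1)), (0, 1), (0, (-3)), (0, (-1)), (0, (-3)), (0, (-1)), (0, 1), (0, 1), (0, 1)],
      [(0, (-1)), (0, (-1)), (0, 1), (0, 1), (0, 1), (0, (-3)), (0, 1), (0, 3), (0, 1), (0, (-1)), (0, 1), (0, 1), (0, (-1)), (0, 3), (0, (-3)), (0, 1), (0, (-1)), (0, (-1)), (0, (-3)), (0, (-1)), (0, 1), (0, (-1)), (0, (-1)), (0, (-1))],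
      [(0, (-1)), (0, (-1)), (0, 1), (0, 1), (0, 1), (0, 1), (0, 1), (0, 3), (0, 1), (0, (-1)), (0, 1), (0, 1), (0, (-1)), (0, (-1)), (0, 1), (0, 1), (0, (-1)), (0, 3), (0, 1), (0, (-1)), (0, (-3)), (0, 3), (0, (-1)), (0, 3)],
      [(0, 1), (0, 1), (0, (-1)), (0, 3), (0, (-1)), (0, (-1)), (0, (-1)), (0, 1), (0, 3), (0, (-3)), (0, (-1)), (0, (-1)), (0, 1), (0, 1), (0, (-1)), (0, (-1)), (0, 1), (0, 1), (0, 3), (0, 1), (0, (-1)), (0, 1), (0, 1), (0, (-3))],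
      [(0, 1), (0, (-3)), (0, (-1)), (0, 3), (0, 3), (0, (-1)), (0, (-1)), (0, 1), (0, (-1)), (0, 1), (0, (-1)), (0, (-1)), (0, 1), (0, (-3)), (0, (-1)), (0, (-1)), (0, 1), (0, 1), (0, (-1)), (0, 1), (0, 3), (0, 1), (0, 1), (0, 1)],
      [(0, (-1)), (0, (-1)), (0, 1), (0, 1), (0, (-3)), (0, 1), (0, 1), (0, 3), (0, 1), (0, 3), (0, (-3)), (0, (-3)), (0, (-1)), (0, (-1)), (0, 1), (0, 1), (0, (-1)), (0, (-1)), (0, 1), (0, (-1)), (0, 1), (0, (-1)), (0, (-1)), (0, (-1))],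
      [(0, 1), (0, 1), (0, (-1)), (0, (-1)), (0, (-1)), (0, (-1)), (0, (-1)), (0, 1), (0, (-1)), (0, 1), (0, 3), (0, (-1)), (0, 1), (0, 1), (0, (-1)), (0, (-1)), (0, (-3)), (0, 1), (0, 3), (0, (-3)), (0, 3), (0, 1), (0, 1), (0, 1)],
      [(0, (-1)), (0, (-1)), (0, 1), (0, 1), (0, 1), (0, 1), (0, (-3)), (0, (-1)), (0, 1), (0, (-1)), (0, 1), (0, 1), (0, (-5)), (0, (-1)), (0, 1), (0, 1), (0, (-1)), (0, (-1)), (0, 1), (0, (-1)), (0, 1), (0, (-1)), (0, 3), (0, (-1))],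
      [(0, (-1)), (0, (-1)), (0, 1), (0, (-3)), (0, 1), (0, 1), (0, 1), (0, (-1)), (0, 1), (0, (-1)), (0, 1), (0, (-3)), (0, (-1)), (0, (-1)), (0, (-3)), (0, 1), (0, 3), (0, (-1)), (0, 1), (0, (-1)), (0, 1), (0, 3), (0, (-1)), (0, (-1))],
      [(0, 1), (0, 1), (0, 3), (0, (-1)), (0, (-1)), (0, (-1)), (0, (-1)), (0, 1), (0, (-1)), (0, (-3)), (0, (-1)), (0, (-1)), (0, 1), (0, (-3)), (0, (-1)), (0, (-1)), (0, (-3)), (0, (-3)), (0, (-1)), (0, 1), (0, (-1)), (0, 1), (0, 1), (0, 1)],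
      [(0, 1), (0, 1), (0, (-1)), (0, (-1)), (0, (-1)), (0, (-1)), (0, 3), (0, 1), (0, (-1)), (0, 1), (0, (-1)), (0, (-1)), (0, (-3)), (0, 1), (0, (-1)), (0, (-1)), (0, 1), (0, 1), (0, (-1)), (0, 1), (0, (-1)), (0, 1), (0, 5), (0, 1)],
      [(0, (-1)), (0, (-1)), (0, (-3)), (0, (-3)), (0, 1), (0, 1), (0, 1), (0, 3), (0, 1), (0, (-1)), (0, 1), (0, 1), (0, (-1)), (0, (-1)), (0, 1), (0, (-3)), (0, (-1)), (0, (-1)), (0, 1), (0, 3), (0, 1), (0, (-1)), (0, (-1)), (0, (-1))]]),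
    ([[(0, (-1)), (0, 3), (0, (-1)), (0, (-1)), (0, (-1)), (0, 3), (0, 1), (0, (-1)), (0, 1), (0, (-1)), (0, (-1)), (0, 3), (0, (-1)), (0, 1), (0, 1), (0, (-1)), (0, 1), (0, (-1)), (0, (-1)), (0, (-1)), (0, 1), (0, 3), (0, (-3)), (0, 1)],
      [(0, 1), (0, (-3)), (0, 1), (0, 1), (0, 1), (0, 1), (0, (-1)), (0, 1), (0, 3), (0, 1), (0, 1), (0, 1), (0, 1), (0, 3), (0, 3), (0, 1), (0, (-1)), (0, 1), (0, 1), (0, (-3)), (0, (-1)), (0, 1), (0, (-1)), (0, (-1))],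
      [(0, (-1)), (0, (-1)), (0, (-1)), (0, (-1)), (0, (-1)), (0, (-1)), (0, 1), (0, (-1)), (0, (-3)), (0, (-1)), (0, (-1)), (0, (-1)), (0, 3), (0, 1), (0, 1), (0, 3), (0, (-3)), (0, (-1)), (0, (-1)), (0, (-1)), (0, 1), (0, (-1)), (0, (-3)), (0, 1)],
      [(0, 3), (0, 3), (0, (-1)), (0, (-1)), (0, (-1)), (0, (-1)), (0, (-3)), (0, 3), (0, 1), (0, (-1)), (0, (-1)), (0, (-1)), (0, (-1)), (0, 1), (0, 1), (0, 3), (0, 1), (0, (-1)), (0, (-1)), (0, (-1)), (0, 1), (0, (-1)), (0, 1), (0, 1)],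
      [(0, (-1)), (0, (-1)), (0, (-1)), (0, (-1)), (0, (-1)), (0, (-1)), (0, 1), (0, 3), (0, 1), (0, (-1)), (0, (-1)), (0, 3), (0, (-1)), (0, 1), (0, (-3)), (0, (-1)), (0, (-3)), (0, (-1)), (0, (-1)), (0, (-1)), (0, 1), (0, (-1)), (0, 1), (0, (-3))],
      [(0, (-1)), (0, (-1)), (0, (-1)), (0, (-1)), (0, 3), (0, 3), (0, (-3)), (0, (-1)), (0, (-3)), (0, (-1)), (0, (-1)), (0, (-1)), (0, (-1)), (0, 1), (0, 1), (0, (-1)), (0, 1), (0, (-1)), (0, (-1)), (0, (-1)), (0, 1), (0, (-1)), (0, 1), (0, (-3))],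
      [(0, 1), (0, (-3)), (0, (-3)), (0, 1), (0, (-3)), (0, 1), (0, (-1)), (0, 1), (0, (-1)), (0, (-3)), (0, 1), (0, 1), (0, 1), (0, (-1)), (0, (-1)), (0, 1), (0, 3), (0, 1), (0, 1), (0, 1), (0, (-1)), (0, 1), (0, (-1)), (0, (-1))],
      [(0, (-1)), (0, 3), (0, (-1)), (0, (-1)), (0, (-1)), (0, (-1)), (0, 1), (0, (-1)), (0, 1), (0, (-1)), (0, 3), (0, (-1)), (0, 3), (0, 1), (0, 1), (0, (-1)), (0, 1), (0, (-1)), (0, 3), (0, (-1)), (0, 1), (0, (-1)), (0, 1), (0, (-3))],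
      [(0, 3), (0, (-1)), (0, 3), (0, (-1)), (0, (-1)), (0, (-1)), (0, 1), (0, (-1)), (0, (-3)), (0, (-1)), (0, 3), (0, 3), (0, (-1)), (0, 1), (0, 1), (0, (-1)), (0, 1), (0, (-1)), (0, (-1)), (0, (-1)), (0, 1), (0, (-1)), (0, 1), (0, 1)],
      [(0, 1), (0, 1), (0, 1), (0, 1), (0, 1), (0, 1), (0, 3), (0, 1), (0, (-1)), (0, (-3)), (0, 1), (0, (-3)), (0, (-3)), (0, (-1)), (0, (-1)), (0, 1), (0, (-1)), (0, 1), (0, 1), (0, (-3)), (0, (-1)), (0, 1), (0, (-1)), (0, (-1))],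
      [(0, 1), (0, 1), (0, 1), (0, 1), (0, 1), (0, 1), (0, 3), (0, 1), (0, (-1)), (0, 1), (0, (-3)), (0, 1), (0, 1), (0, 3), (0, (-1)), (0, 1), (0, 3), (0, 1), (0, 1), (0, 1), (0, (-1)), (0, (-3)), (0, (-1)), (0, (-1))],
      [(0, (-1)), (0, (-1)), (0, 3), (0, (-1)), (0, (-1)), (0, 3), (0, 1), (0, 3), (0, 1), (0, (-1)), (0, (-1)), (0, (-1)), (0, 3), (0, (-3)), (0, 1), (0, (-1)), (0, 1), (0, (-1)), (0, (-1)), (0, (-1)), (0, 1), (0, (-1)), (0, 1), (0, 1)],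
      [(0, 3), (0, (-1)), (0, (-1)), (0, (-1)), (0, (-1)), (0, 3), (0, 1), (0, (-1)), (0, 1), (0, (-1)), (0, (-1)), (0, (-1)), (0, (-1)), (0, 1), (0, 1), (0, (-1)), (0, (-3)), (0, (-1)), (0, 3), (0, 3), (0, 1), (0, (-1)), (0, 1), (0, 1)],
      [(0, 1), (0, 1), (0, 1), (0, 1), (0, (-3)), (0, 1), (0, (-1)), (0, (-3)), (0, (-1)), (0, 1), (0, (-3)), (0, 1), (0, 1), (0, (-1)), (0, (-1)), (0, 1), (0, (-1)), (0, 1), (0, 1), (0, (-3)), (0, (-1)), (0, 1), (0, 3), (0, (-1))],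
      [(0, (-1)), (0, (-1)), (0, 3), (0, (-1)), (0, (-1)), (0, (-1)), (0, (-3)), (0, (-1)), (0, 1), (0, (-1)), (0, (-1)), (0, (-1)), (0, (-1)), (0, 1), (0, (-3)), (0, (-1)), (0, 1), (0, (-1)), (0, 3), (0, (-1)), (0, 1), (0, (-1)), (0, (-3)), (0, 1)],
      [(0, 1), (0, 1), (0, 1), (0, (-3)), (0, 1), (0, 1), (0, (-1)), (0, 1), (0, (-1)), (0, 1), (0, 1), (0, 1), (0, 1), (0, (-1)), (0, (-1)), (0, 1), (0, (-1)), (0, (-3)), (0, 1), (0, 1), (0, (-5)), (0, 1), (0, (-1)), (0, (-1))],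
      [(0, (-3)), (0, 1), (0, 1), (0, 1), (0, 1), (0, 1), (0, (-1)), (0, 1), (0, (-1)), (0, (-3)), (0, 1), (0, 1), (0, 1), (0, 3), (0, (-1)), (0, 1), (0, (-1)), (0, 1), (0, 1), (0, 1), (0, (-1)), (0, 1), (0, 3), (0, 3)],
      [(0, 1), (0, 1), (0, 1), (0, 5), (0, 1), (0, 1), (0, (-1)), (0, 1), (0, (-1)), (0, 1), (0, 1), (0, 1), (0, 1), (0, (-1)), (0, (-1)), (0, 1), (0, (-1)), (0, (-3)), (0, 1), (0, 1), (0, 3), (0, 1), (0, (-1)), (0, (-1))],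
      [(0, 1), (0, 1), (0, 1), (0, 1), (0, 1), (0, 1), (0, (-1)), (0, (-3)), (0, 3), (0, (-3)), (0, 1), (0, 1), (0, 1), (0, (-1)), (0, (-1)), (0, 1), (0, (-1)), (0, 1), (0, (-3)), (0, 1), (0, (-1)), (0, (-3)), (0, (-1)), (0, (-1))],
      [(0, 1), (0, 1), (0, 1), (0, 1), (0, (-3)), (0, 1), (0, (-1)), (0, 1), (0, (-1)), (0, 1), (0, 1), (0, (-3)), (0, 1), (0, 3), (0, (-1)), (0, (-3)), (0, (-1)), (0, 1), (0, (-3)), (0, 1), (0, (-1)), (0, 1), (0, (-1)), (0, (-1))],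
      [(0, (-1)), (0, (-1)), (0, (-1)), (0, 3), (0, (-1)), (0, (-1)), (0, 1), (0, (-1)), (0, 1), (0, (-1)), (0, (-1)), (0, (-1)), (0, (-1)), (0, 1), (0, 1), (0, (-1)), (0, 1), (0, (-5)), (0, (-1)), (0, (-1)), (0, (-3)), (0, (-1)), (0, 1), (0, 1)],
      [(0, 1), (0, 1), (0, (-3)), (0, 1), (0, 1), (0, 1), (0, (-1)), (0, 1), (0, (-1)), (0, 1), (0, 1), (0, 1), (0, 1), (0, (-1)), (0, (-1)), (0, (-3)), (0, (-1)), (0, 1), (0, 1), (0, (-3)), (0, (-1)), (0, (-3)), (0, (-1)), (0, 3)],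
      [(0, (-3)), (0, 1), (0, 1), (0, 1), (0, (-3)), (0, 1), (0, (-1)), (0, 1), (0, (-1)), (0, 1), (0, 1), (0, 1), (0, (-3)), (0, (-1)), (0, 3), (0, 1), (0, (-1)), (0, 1), (0, 1), (0, 1), (0, (-1)), (0, (-3)), (0, (-1)), (0, (-1))],
      [(0, (-1)), (0, (-1)), (0, (-1)), (0, (-1)), (0, (-1)), (0, 3), (0, 1), (0, (-1)), (0, 1), (0, 3), (0, 3), (0, (-1)), (0, (-1)), (0, 1), (0, (-3)), (0, 3), (0, 1), (0, (-1)), (0, (-1)), (0, (-1)), (0, 1), (0, (-1)), (0, 1), (0, 1)]],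
     [[(0, (-1)), (0, 1), (0, (-1)), (0, 3), (0, (-1)), (0, (-1)), (0, 1), (0, (-1)), (0, 3), (0, 1), (0, 1), (0, (-1)), (0, 3), (0, 1), (0, (-1)), (0, 1), (0, (-3)), (0, 1), (0, 1), (0, 1), (0, (-1)), (0, 1), (0, (-3)), (0, (-1))],
      [(0, 3), (0, (-3)), (0, (-1)), (0, 3), (0, (-1)), (0, (-1)), (0, (-3)), (0, 3), (0, (-1)), (0, 1), (0, 1), (0, (-1)), (0, (-1)), (0, 1), (0, (-1)), (0, 1), (0, 1), (0, 1), (0, 1), (0, 1), (0, (-1)), (0, 1), (0, 1), (0, (-1))],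
      [(0, (-1)), (0, 1), (0, (-1)), (0, (-1)), (0, (-1)), (0, (-1)), (0, (-3)), (0, (-1)), (0, 3), (0, 1), (0, 1), (0, 3), (0, (-1)), (0, 1), (0, 3), (0, 1), (0, 1), (0, 1), (0, 1), (0, 1), (0, (-1)), (0, (-3)), (0, 1), (0, (-1))],
      [(0, (-1)), (0, 1), (0, (-1)), (0, (-1)), (0, (-1)), (0, (-1)), (0, 1), (0, (-1)), (0, (-1)), (0, 1), (0, 1), (0, (-1)), (0, (-1)), (0, 1), (0, (-1)), (0, (-3)), (0, 1), (0, 5), (0, 1), (0, 1), (0, 3), (0, 1), (0, 1), (0, (-1))],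
      [(0, (-1)), (0, 1), (0, (-1)), (0, (-1)), (0, (-1)), (0, 3), (0, (-3)), (0, (-1)), (0, (-1)), (0, 1), (0, 1), (0, (-1)), (0, (-1)), (0, (-3)), (0, (-1)), (0, 1), (0, 1), (0, 1), (0, 1), (0, (-3)), (0, (-1)), (0, 1), (0, (-3)), (0, (-1))],
      [(0, 3), (0, 1), (0, (-1)), (0, (-1)), (0, (-1)), (0, 3), (0, 1), (0, (-1)), (0, (-1)), (0, 1), (0, 1), (0, 3), (0, 3), (0, 1), (0, (-1)), (0, 1), (0, 1), (0, 1), (0, 1), (0, 1), (0, (-1)), (0, 1), (0, 1), (0, 3)],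
      [(0, 1), (0, (-1)), (0, 1), (0, (-3)), (0, 1), (0, (-3)), (0, (-1)), (0, 1), (0, 1), (0, 3), (0, 3), (0, 1), (0, 1), (0, (-1)), (0, (-3)), (0, (-1)), (0, (-1)), (0, (-1)), (0, (-1)), (0, (-1)), (0, 1), (0, (-1)), (0, (-1)), (0, 1)],
      [(0, (-1)), (0, 1), (0, (-1)), (0, 3), (0, 3), (0, (-1)), (0, 1), (0, (-1)), (0, (-1)), (0, 1), (0, 1), (0, 3), (0, (-1)), (0, (-3)), (0, (-1)), (0, 1), (0, 1), (0, 1), (0, (-3)), (0, 1), (0, (-1)), (0, 1), (0, 1), (0, (-1))],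
      [(0, 1), (0, 3), (0, (-3)), (0, 1), (0, 1), (0, (-3)), (0, (-1)), (0, 1), (0, (-3)), (0, (-1)), (0, (-1)), (0, 1), (0, 1), (0, (-1)), (0, 1), (0, (-1)), (0, (-1)), (0, (-1)), (0, 3), (0, (-1)), (0, 1), (0, (-1)), (0, (-1)), (0, 1)],
      [(0, (-1)), (0, 1), (0, (-1)), (0, (-1)), (0, (-1)), (0, (-1)), (0, (-3)), (0, (-1)), (0, (-1)), (0, (-3)), (0, 1), (0, (-1)), (0, (-1)), (0, 1), (0, (-1)), (0, 1), (0, (-3)), (0, 1), (0, (-3)), (0, 1), (0, (-1)), (0, 1), (0, 1), (0, 3)],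
      [(0, (-1)), (0, 1), (0, (-1)), (0, (-1)), (0, (-1)), (0, (-1)), (0, 1), (0, 3), (0, 3), (0, 1), (0, (-3)), (0, (-1)), (0, (-1)), (0, (-3)), (0, (-1)), (0, 1), (0, 1), (0, 1), (0, 1), (0, 1), (0, (-1)), (0, 1), (0, 1), (0, 3)],
      [(0, 3), (0, 1), (0, (-1)), (0, (-1)), (0, 3), (0, (-1)), (0, 1), (0, (-1)), (0, 3), (0, (-3)), (0, 1), (0, (-1)), (0, (-1)), (0, 1), (0, (-1)), (0, 1), (0, 1), (0, 1), (0, 1), (0, (-3)), (0, (-1)), (0, 1), (0, 1), (0, (-1))],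
      [(0, (-1)), (0, 1), (0, 3), (0, (-1)), (0, (-1)), (0, (-1)), (0, 1), (0, 3), (0, (-1)), (0, (-3)), (0, 1), (0, 3), (0, (-1)), (0, 1), (0, (-1)), (0, 1), (0, 1), (0, 1), (0, 1), (0, 1), (0, (-1)), (0, 1), (0, (-3)), (0, (-1))],
      [(0, 1), (0, 3), (0, 1), (0, 1), (0, 1), (0, 1), (0, (-1)), (0, 1), (0, 1), (0, (-1)), (0, 3), (0, (-3)), (0, 1), (0, (-1)), (0, 1), (0, (-1)), (0, 3), (0, (-1)), (0, (-1)), (0, 3), (0, 1), (0, (-1)), (0, (-1)), (0, 1)],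
      [(0, 1), (0, 3), (0, 1), (0, 1), (0, (-3)), (0, 1), (0, (-1)), (0, 1), (0, 1), (0, (-1)), (0, (-1)), (0, 1), (0, 1), (0, (-1)), (0, (-3)), (0, (-1)), (0, (-1)), (0, (-1)), (0, (-1)), (0, (-1)), (0, 1), (0, (-1)), (0, 3), (0, (-3))],
      [(0, (-1)), (0, 1), (0, 3), (0, 3), (0, (-1)), (0, (-1)), (0, 1), (0, (-1)), (0, (-1)), (0, 1), (0, 1), (0, (-1)), (0, (-1)), (0, 1), (0, (-1)), (0, 1), (0, 1), (0, 1), (0, 1), (0, (-3)), (0, (-1)), (0, (-3)), (0, 1), (0, 3)],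
      [(0, 1), (0, (-1)), (0, (-3)), (0, 1), (0, (-3)), (0, 1), (0, 3), (0, 1), (0, 1), (0, (-1)), (0, 3), (0, 1), (0, (-3)), (0, (-1)), (0, 1), (0, (-1)), (0, (-1)), (0, (-1)), (0, (-1)), (0, (-1)), (0, 1), (0, (-1)), (0, (-1)), (0, 1)],
      [(0, (-1)), (0, 1), (0, (-1)), (0, (-1)), (0, (-1)), (0, (-1)), (0, 1), (0, (-1)), (0, (-1)), (0, 1), (0, 1), (0, (-1)), (0, (-1)), (0, 1), (0, (-1)), (0, (-3)), (0, 1), (0, (-3)), (0, 1), (0, 1), (0, (-5)), (0, 1), (0, 1), (0, (-1))],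
      [(0, (-1)), (0, 1), (0, (-1)), (0, (-1)), (0, (-1)), (0, (-1)), (0, 1), (0, 3), (0, (-1)), (0, 1), (0, 1), (0, (-1)), (0, 3), (0, 1), (0, 3), (0, 1), (0, 1), (0, 1), (0, (-3)), (0, (-3)), (0, (-1)), (0, 1), (0, 1), (0, (-1))],
      [(0, (-1)), (0, (-3)), (0, (-1)), (0, (-1)), (0, (-1)), (0, (-1)), (0, 1), (0, (-1)), (0, (-1)), (0, (-3)), (0, 1), (0, (-1)), (0, 3), (0, (-3)), (0, (-1)), (0, 1), (0, 1), (0, 1), (0, 1), (0, 1), (0, (-1)), (0, (-3)), (0, 1), (0, (-1))],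
      [(0, 1), (0, (-1)), (0, 1), (0, 1), (0, 1), (0, 1), (0, (-1)), (0, 1), (0, 1), (0, (-1)), (0, (-1)), (0, 1), (0, 1), (0, (-1)), (0, 1), (0, (-5)), (0, (-1)), (0, 3), (0, (-1)), (0, (-1)), (0, (-3)), (0, (-1)), (0, (-1)), (0, 1)],
      [(0, 3), (0, 1), (0, (-1)), (0, (-1)), (0, (-1)), (0, (-1)), (0, 1), (0, (-1)), (0, (-1)), (0, 1), (0, (-3)), (0, (-1)), (0, (-1)), (0, 1), (0, (-1)), (0, 1), (0, 1), (0, 1), (0, (-3)), (0, 1), (0, (-1)), (0, (-3)), (0, (-3)), (0, (-1))],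
      [(0, (-3)), (0, (-1)), (0, (-3)), (0, 1), (0, 1), (0, 1), (0, (-1)), (0, 1), (0, 1), (0, (-1)), (0, (-1)), (0, 1), (0, 1), (0, 3), (0, (-3)), (0, (-1)), (0, 3), (0, (-1)), (0, (-1)), (0, (-1)), (0, 1), (0, (-1)), (0, (-1)), (0, 1)],
      [(0, 1), (0, (-1)), (0, 1), (0, 1), (0, (-3)), (0, (-3)), (0, (-1)), (0, (-3)), (0, 1), (0, (-1)), (0, (-1)), (0, 1), (0, 1), (0, (-1)), (0, 1), (0, (-1)), (0, 3), (0, (-1)), (0, (-1)), (0, (-1)), (0, 1), (0, 3), (0, (-1)), (0, 1)]])]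

/-- part of the generators and their transposes -/
def sevenW1 : List (List (List (ℕ × ℤ)) × List (List (ℕ × ℤ))) :=
  [([[(0, (-1)), (0, 1), (0, 1), (0, (-1)), (0, (-3)), (0, (-1)), (0, 1), (0, (-1)), (0, 1), (0, 1), (0, 1), (0, 3), (0, (-1)), (0, (-1)), (0, 3), (0, 1), (0, 1), (0, (-1)), (0, 1), (0, (-3)), (0, (-3)), (0, (-1)), (0, (-1)), (0, (-1))],
      [(0, 1), (0, 3), (0, (-1)), (0, 1), (0, (-1)), (0, 1), (0, (-1)), (0, 1), (0, (-1)), (0, 3), (0, 3), (0, (-3)), (0, (-3)), (0, 1), (0, 1), (0, (-1)), (0, (-1)), (0, 1), (0, (-1)), (0, (-1)), (0, (-1)), (0, 1), (0, 1), (0, 1)],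
      [(0, (-1)), (0, (-3)), (0, 1), (0, (-1)), (0, 1), (0, (-1)), (0, 1), (0, (-1)), (0, 1), (0, 1), (0, 1), (0, (-1)), (0, (-1)), (0, 3), (0, (-1)), (0, 1), (0, (-3)), (0, (-1)), (0, 1), (0, (-3)), (0, 1), (0, 3), (0, (-1)), (0, (-1))],
      [(0, 1), (0, (-1)), (0, (-1)), (0, (-3)), (0, (-1)), (0, 1), (0, (-1)), (0, 1), (0, 3), (0, 3), (0, (-1)), (0, 1), (0, 1), (0, 1), (0, 1), (0, (-1)), (0, (-1)), (0, 1), (0, (-1)), (0, 3), (0, (-1)), (0, 1), (0, (-3)), (0, 1)],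
      [(0, 3), (0, (-3)), (0, 1), (0, 3), (0, 1), (0, (-1)), (0, 1), (0, (-1)), (0, 1), (0, 1), (0, 1), (0, (-1)), (0, (-1)), (0, (-1)), (0, 3), (0, 1), (0, 1), (0, (-1)), (0, 1), (0, 1), (0, 1), (0, (-1)), (0, (-1)), (0, 3)],
      [(0, (-3)), (0, (-1)), (0, (-1)), (0, 1), (0, (-1)), (0, 1), (0, (-1)), (0, 1), (0, (-1)), (0, (-1)), (0, (-1)), (0, (-3)), (0, 1), (0, (-3)), (0, 1), (0, (-1)), (0, (-1)), (0, 1), (0, 3), (0, (-1)), (0, (-1)), (0, 1), (0, (-3)), (0, 1)],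
      [(0, (-1)), (0, 1), (0, 1), (0, 3), (0, (-3)), (0, (-1)), (0, 1), (0, (-1)), (0, 1), (0, 1), (0, (-3)), (0, (-1)), (0, (-1)), (0, (-1)), (0, (-1)), (0, 1), (0, 1), (0, (-1)), (0, (-3)), (0, 1), (0, 1), (0, 3), (0, (-1)), (0, (-1))],
      [(0, (-1)), (0, 1), (0, 1), (0, (-1)), (0, 1), (0, (-1)), (0, 1), (0, 3), (0, 1), (0, (-3)), (0, 1), (0, (-1)), (0, (-1)), (0, (-1)), (0, 3), (0, 1), (0, (-3)), (0, (-1)), (0, (-3)), (0, 1), (0, 1), (0, (-1)), (0, (-1)), (0, (-1))],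
      [(0, (-1)), (0, (-3)), (0, 1), (0, (-1)), (0, 1), (0, (-1)), (0, 1), (0, (-1)), (0, (-3)), (0, 1), (0, 1), (0, (-1)), (0, (-1)), (0, (-1)), (0, (-1)), (0, (-3)), (0, 1), (0, (-1)), (0, (-3)), (0, 1), (0, (-3)), (0, (-1)), (0, (-1)), (0, (-1))],
      [(0, 1), (0, (-1)), (0, (-1)), (0, 1), (0, (-1)), (0, 1), (0, 3), (0, 1), (0, 3), (0, (-1)), (0, 3), (0, 1), (0, 1), (0, (-3)), (0, (-3)), (0, (-1)), (0, (-1)), (0, 1), (0, (-1)), (0, (-1)), (0, (-1)), (0, 1), (0, 1), (0, 1)],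
      [(0, 1), (0, (-1)), (0, 3), (0, 1), (0, (-1)), (0, 5), (0, (-1)), (0, 1), (0, (-1)), (0, (-1)), (0, (-1)), (0, 1), (0, 1), (0, 1), (0, 1), (0, (-1)), (0, (-1)), (0, (-3)), (0, (-1)), (0, (-1)), (0, (-1)), (0, 1), (0, 1), (0, 1)],
      [(0, 1), (0, (-1)), (0, (-1)), (0, 1), (0, (-1)), (0, 1), (0, (-1)), (0, 1), (0, (-1)), (0, (-1)), (0, 3), (0, 1), (0, 1), (0, 1), (0, 1), (0, (-1)), (0, 3), (0, 1), (0, (-1)), (0, (-1)), (0, 3), (0, 1), (0, (-3)), (0, (-3))],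
      [(0, 1), (0, (-1)), (0, (-1)), (0, (-3)), (0, (-1)), (0, 1), (0, 3), (0, 1), (0, (-1)), (0, (-1)), (0, (-1)), (0, (-3)), (0, 1), (0, 1), (0, 1), (0, 3), (0, 3), (0, 1), (0, (-1)), (0, (-1)), (0, (-1)), (0, 1), (0, 1), (0, 1)],
      [(0, (-1)), (0, 1), (0, 1), (0, (-1)), (0, 1), (0, (-1)), (0, 1), (0, (-1)), (0, 1), (0, 1), (0, 1), (0, (-1)), (0, 3), (0, (-1)), (0, 3), (0, (-3)), (0, 1), (0, (-1)), (0, 1), (0, 1), (0, 1), (0, 3), (0, 3), (0, (-1))],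
      [(0, (-1)), (0, 1), (0, 1), (0, (-1)), (0, (-3)), (0, (-1)), (0, 1), (0, (-1)), (0, 1), (0, (-3)), (0, 1), (0, (-1)), (0, (-1)), (0, 3), (0, (-1)), (0, (-3)), (0, 1), (0, (-1)), (0, 1), (0, 1), (0, 1), (0, (-1)), (0, (-1)), (0, 3)],
      [(0, (-3)), (0, (-1)), (0, (-1)), (0, 1), (0, (-1)), (0, 1), (0, 3), (0, 1), (0, (-1)), (0, 3), (0, (-1)), (0, 1), (0, 1), (0, 1), (0, 1), (0, (-1)), (0, (-1)), (0, 1), (0, (-1)), (0, (-1)), (0, 3), (0, (-3)), (0, 1), (0, 1)],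
      [(0, (-1)), (0, 1), (0, 1), (0, (-1)), (0, 1), (0, (-1)), (0, 1), (0, 3), (0, (-3)), (0, 1), (0, 1), (0, 3), (0, (-1)), (0, (-1)), (0, (-1)), (0, 1), (0, 1), (0, (-1)), (0, 1), (0, 1), (0, 1), (0, 3), (0, (-1)), (0, 3)],
      [(0, (-1)), (0, (-3)), (0, 1), (0, (-1)), (0, (-3)), (0, (-1)), (0, (-3)), (0, 3), (0, 1), (0, 1), (0, 1), (0, (-1)), (0, (-1)), (0, (-1)), (0, (-1)), (0, 1), (0, 1), (0, (-1)), (0, 1), (0, 1), (0, 1), (0, (-1)), (0, 3), (0, (-1))],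
      [(0, 3), (0, 1), (0, 1), (0, (-1)), (0, 1), (0, (-1)), (0, 1), (0, 3), (0, 1), (0, 1), (0, (-3)), (0, (-1)), (0, (-1)), (0, (-1)), (0, (-1)), (0, (-3)), (0, 1), (0, (-1)), (0, 1), (0, (-3)), (0, 1), (0, (-1)), (0, (-1)), (0, (-1))],
      [(0, 1), (0, (-1)), (0, (-5)), (0, 1), (0, (-1)), (0, (-3)), (0, (-1)), (0, 1), (0, (-1)), (0, (-1)), (0, (-1)), (0, 1), (0, 1), (0, 1), (0, 1), (0, (-1)), (0, (-1)), (0, (-3)), (0, (-1)), (0, (-1)), (0, (-1)), (0, 1), (0, 1), (0, 1)],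
      [(0, (-3)), (0, (-1)), (0, (-1)), (0, 1), (0, 3), (0, 1), (0, (-1)), (0, 1), (0, 3), (0, (-1)), (0, (-1)), (0, 1), (0, (-3)), (0, 1), (0, 1), (0, (-1)), (0, 3), (0, 1), (0, (-1)), (0, (-1)), (0, (-1)), (0, 1), (0, 1), (0, 1)],
      [(0, 1), (0, (-1)), (0, (-1)), (0, (-3)), (0, (-1)), (0, 1), (0, (-1)), (0, (-3)), (0, (-1)), (0, (-1)), (0, (-1)), (0, 1), (0, (-3)), (0, (-3)), (0, 1), (0, (-1)), (0, (-1)), (0, 1), (0, (-1)), (0, (-1)), (0, 3), (0, 1), (0, 1), (0, 1)],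
      [(0, (-1)), (0, 1), (0, 1), (0, (-1)), (0, 1), (0, (-1)), (0, (-3)), (0, (-1)), (0, 1), (0, 1), (0, 1), (0, (-1)), (0, 3), (0, (-1)), (0, (-1)), (0, 1), (0, 1), (0, (-1)), (0, (-3)), (0, (-3)), (0, 1), (0, (-1)), (0, (-1)), (0, 3)],
      [(0, 1), (0, (-1)), (0, 3), (0, 1), (0, (-1)), (0, (-3)), (0, (-1)), (0, 1), (0, (-1)), (0, (-1)), (0, (-1)), (0, 1), (0, 1), (0, 1), (0, 1), (0, (-1)), (0, (-1)), (0, 5), (0, (-1)), (0, (-1)), (0, (-1)), (0, 1), (0, 1), (0, 1)]],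
     [[(0, (-1)), (0, 1), (0, (-1)), (0, 1), (0, 3), (0, (-3)), (0, (-1)), (0, (-1)), (0, (-1)), (0, 1), (0, 1), (0, 1), (0, 1), (0, (-1)), (0, (-1)), (0, (-3)), (0, (-1)), (0, (-1)), (0, 3), (0, 1), (0, (-3)), (0, 1), (0, (-1)), (0, 1)],
      [(0, 1), (0, 3), (0, (-3)), (0, (-1)), (0, (-3)), (0, (-1)), (0, 1), (0, 1), (0, (-3)), (0, (-1)), (0, (-1)), (0, (-1)), (0, (-1)), (0, 1), (0, 1), (0, (-1)), (0, 1), (0, (-3)), (0, 1), (0, (-1)), (0, (-1)), (0, (-1)), (0, 1), (0, (-1))],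
      [(0, 1), (0, (-1)), (0, 1), (0, (-1)), (0, 1), (0, (-1)), (0, 1), (0, 1), (0, 1), (0, (-1)), (0, 3), (0, (-1)), (0, (-1)), (0, 1), (0, 1), (0, (-1)), (0, 1), (0, 1), (0, 1), (0, (-5)), (0, (-1)), (0, (-1)), (0, 1), (0, 3)],
      [(0, (-1)), (0, 1), (0, (-1)), (0, (-3)), (0, 3), (0, 1), (0, 3), (0, (-1)), (0, (-1)), (0, 1), (0, 1), (0, 1), (0, (-3)), (0, (-1)), (0, (-1)), (0, 1), (0, (-1)), (0, (-1)), (0, (-1)), (0, 1), (0, 1), (0, (-3)), (0, (-1)), (0, 1)],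
      [(0, (-3)), (0, (-1)), (0, 1), (0, (-1)), (0, 1), (0, (-1)), (0, (-3)), (0, 1), (0, 1), (0, (-1)), (0, (-1)), (0, (-1)), (0, (-1)), (0, 1), (0, (-3)), (0, (-1)), (0, 1), (0, (-3)), (0, 1), (0, (-1)), (0, 3), (0, (-1)), (0, 1), (0, (-1))],
      [(0, (-1)), (0, 1), (0, (-1)), (0, 1), (0, (-1)), (0, 1), (0, (-1)), (0, (-1)), (0, (-1)), (0, 1), (0, 5), (0, 1), (0, 1), (0, (-1)), (0, (-1)), (0, 1), (0, (-1)), (0, (-1)), (0, (-1)), (0, (-3)), (0, 1), (0, 1), (0, (-1)), (0, (-3))],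
      [(0, 1), (0, (-1)), (0, 1), (0, (-1)), (0, 1), (0, (-1)), (0, 1), (0, 1), (0, 1), (0, 3), (0, (-1)), (0, (-1)), (0, 3), (0, 1), (0, 1), (0, 3), (0, 1), (0, (-3)), (0, 1), (0, (-1)), (0, (-1)), (0, (-1)), (0, (-3)), (0, (-1))],
      [(0, (-1)), (0, 1), (0, (-1)), (0, 1), (0, (-1)), (0, 1), (0, (-1)), (0, 3), (0, (-1)), (0, 1), (0, 1), (0, 1), (0, 1), (0, (-1)), (0, (-1)), (0, 1), (0, 3), (0, 3), (0, 3), (0, 1), (0, 1), (0, (-3)), (0, (-1)), (0, 1)],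
      [(0, 1), (0, (-1)), (0, 1), (0, 3), (0, 1), (0, (-1)), (0, 1), (0, 1), (0, (-3)), (0, 3), (0, (-1)), (0, (-1)), (0, (-1)), (0, 1), (0, 1), (0, (-1)), (0, (-3)), (0, 1), (0, 1), (0, (-1)), (0, 3), (0, (-1)), (0, 1), (0, (-1))],
      [(0, 1), (0, 3), (0, 1), (0, 3), (0, 1), (0, (-1)), (0, 1), (0, (-3)), (0, 1), (0, (-1)), (0, (-1)), (0, (-1)), (0, (-1)), (0, 1), (0, (-3)), (0, 3), (0, 1), (0, 1), (0, 1), (0, (-1)), (0, (-1)), (0, (-1)), (0, 1), (0, (-1))],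
      [(0, 1), (0, 3), (0, 1), (0, (-1)), (0, 1), (0, (-1)), (0, (-3)), (0, 1), (0, 1), (0, 3), (0, (-1)), (0, 3), (0, (-1)), (0, 1), (0, 1), (0, (-1)), (0, 1), (0, 1), (0, (-3)), (0, (-1)), (0, (-1)), (0, (-1)), (0, 1), (0, (-1))],
      [(0, 3), (0, (-3)), (0, (-1)), (0, 1), (0, (-1)), (0, (-3)), (0, (-1)), (0, (-1)), (0, (-1)), (0, 1), (0, 1), (0, 1), (0, (-3)), (0, (-1)), (0, (-1)), (0, 1), (0, 3), (0, (-1)), (0, (-1)), (0, 1), (0, 1), (0, 1), (0, (-1)), (0, 1)],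
      [(0, (-1)), (0, (-3)), (0, (-1)), (0, 1), (0, (-1)), (0, 1), (0, (-1)), (0, (-1)), (0, (-1)), (0, 1), (0, 1), (0, 1), (0, 1), (0, 3), (0, (-1)), (0, 1), (0, (-1)), (0, (-1)), (0, (-1)), (0, 1), (0, (-3)), (0, (-3)), (0, 3), (0, 1)],
      [(0, (-1)), (0, 1), (0, 3), (0, 1), (0, (-1)), (0, (-3)), (0, (-1)), (0, (-1)), (0, (-1)), (0, (-3)), (0, 1), (0, 1), (0, 1), (0, (-1)), (0, 3), (0, 1), (0, (-1)), (0, (-1)), (0, (-1)), (0, 1), (0, 1), (0, (-3)), (0, (-1)), (0, 1)],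
      [(0, 3), (0, 1), (0, (-1)), (0, 1), (0, 3), (0, 1), (0, (-1)), (0, 3), (0, (-1)), (0, (-3)), (0, 1), (0, 1), (0, 1), (0, 3), (0, (-1)), (0, 1), (0, (-1)), (0, (-1)), (0, (-1)), (0, 1), (0, 1), (0, 1), (0, (-1)), (0, 1)],
      [(0, 1), (0, (-1)), (0, 1), (0, (-1)), (0, 1), (0, (-1)), (0, 1), (0, 1), (0, (-3)), (0, (-1)), (0, (-1)), (0, (-1)), (0, 3), (0, (-3)), (0, (-3)), (0, (-1)), (0, 1), (0, 1), (0, (-3)), (0, (-1)), (0, (-1)), (0, (-1)), (0, 1), (0, (-1))],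
      [(0, 1), (0, (-1)), (0, (-3)), (0, (-1)), (0, 1), (0, (-1)), (0, 1), (0, (-3)), (0, 1), (0, (-1)), (0, (-1)), (0, 3), (0, 3), (0, 1), (0, 1), (0, (-1)), (0, 1), (0, 1), (0, 1), (0, (-1)), (0, 3), (0, (-1)), (0, 1), (0, (-1))],
      [(0, (-1)), (0, 1), (0, (-1)), (0, 1), (0, (-1)), (0, 1), (0, (-1)), (0, (-1)), (0, (-1)), (0, 1), (0, (-3)), (0, 1), (0, 1), (0, (-1)), (0, (-1)), (0, 1), (0, (-1)), (0, (-1)), (0, (-1)), (0, (-3)), (0, 1), (0, 1), (0, (-1)), (0, 5)],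
      [(0, 1), (0, (-1)), (0, 1), (0, (-1)), (0, 1), (0, 3), (0, (-3)), (0, (-3)), (0, (-3)), (0, (-1)), (0, (-1)), (0, (-1)), (0, (-1)), (0, 1), (0, 1), (0, (-1)), (0, 1), (0, 1), (0, 1), (0, (-1)), (0, (-1)), (0, (-1)), (0, (-3)), (0, (-1))],
      [(0, (-3)), (0, (-1)), (0, (-3)), (0, 3), (0, 1), (0, (-1)), (0, 1), (0, 1), (0, 1), (0, (-1)), (0, (-1)), (0, (-1)), (0, (-1)), (0, 1), (0, 1), (0, (-1)), (0, 1), (0, 1), (0, (-3)), (0, (-1)), (0, (-1)), (0, (-1)), (0, (-3)), (0, (-1))],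
      [(0, (-3)), (0, (-1)), (0, 1), (0, (-1)), (0, 1), (0, (-1)), (0, 1), (0, 1), (0, (-3)), (0, (-1)), (0, (-1)), (0, 3), (0, (-1)), (0, 1), (0, 1), (0, 3), (0, 1), (0, 1), (0, 1), (0, (-1)), (0, (-1)), (0, 3), (0, 1), (0, (-1))],
      [(0, (-1)), (0, 1), (0, 3), (0, 1), (0, (-1)), (0, 1), (0, 3), (0, (-1)), (0, (-1)), (0, 1), (0, 1), (0, 1), (0, 1), (0, 3), (0, (-1)), (0, (-3)), (0, 3), (0, (-1)), (0, (-1)), (0, 1), (0, 1), (0, 1), (0, (-1)), (0, 1)],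
      [(0, (-1)), (0, 1), (0, (-1)), (0, (-3)), (0, (-1)), (0, (-3)), (0, (-1)), (0, (-1)), (0, (-1)), (0, 1), (0, 1), (0, (-3)), (0, 1), (0, 3), (0, (-1)), (0, 1), (0, (-1)), (0, 3), (0, (-1)), (0, 1), (0, 1), (0, 1), (0, (-1)), (0, 1)],
      [(0, (-1)), (0, 1), (0, (-1)), (0, 1), (0, 3), (0, 1), (0, (-1)), (0, (-1)), (0, (-1)), (0, 1), (0, 1), (0, (-3)), (0, 1), (0, (-1)), (0, 3), (0, 1), (0, 3), (0, (-1)), (0, (-1)), (0, 1), (0, 1), (0, 1), (0, 3), (0, 1)]]),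
    ([[(0, (-1)), (0, 1), (0, 1), (0, 1), (0, (-3)), (0, (-1)), (0, 3), (0, 1), (0, 1), (0, (-1)), (0, (-1)), (0, (-1)), (0, (-3)), (0, 1), (0, (-1)), (0, (-1)), (0, (-3)), (0, 1), (0, (-1)), (0, (-3)), (0, (-1)), (0, (-1)), (0, 1), (0, (-1))],
      [(0, (-1)), (0, 1), (0, 1), (0, (-3)), (0, 1), (0, (-1)), (0, (-1)), (0, 1), (0, 1), (0, (-1)), (0, 3), (0, (-1)), (0, 1), (0, 1), (0, (-1)), (0, (-1)), (0, (-3)), (0, 1), (0, (-1)), (0, 1), (0, (-1)), (0, 3), (0, 1), (0, 3)],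
      [(0, 1), (0, (-1)), (0, (-1)), (0, (-1)), (0, (-1)), (0, 1), (0, 1), (0, (-1)), (0, 3), (0, 1), (0, 1), (0, 1), (0, (-1)), (0, (-1)), (0, (-3)), (0, 1), (0, 3), (0, 3), (0, 1), (0, (-1)), (0, 1), (0, 1), (0, 3), (0, 1)],
      [(0, (-3)), (0, (-1)), (0, (-1)), (0, 3), (0, (-1)), (0, 1), (0, (-3)), (0, (-1)), (0, (-1)), (0, (-3)), (0, 1), (0, 1), (0, (-1)), (0, (-1)), (0, 1), (0, 1), (0, (-1)), (0, (-1)), (0, 1), (0, (-1)), (0, 1), (0, 1), (0, 3), (0, 1)],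
      [(0, 1), (0, (-1)), (0, (-1)), (0, (-1)), (0, 3), (0, 1), (0, 1), (0, (-1)), (0, (-1)), (0, 1), (0, (-3)), (0, 1), (0, (-1)), (0, (-1)), (0, 1), (0, 1), (0, (-1)), (0, (-1)), (0, (-3)), (0, (-1)), (0, (-3)), (0, 1), (0, 3), (0, 1)],
      [(0, 3), (0, 1), (0, 1), (0, 1), (0, 1), (0, (-1)), (0, (-1)), (0, 1), (0, (-3)), (0, (-1)), (0, (-1)), (0, (-1)), (0, (-3)), (0, 1), (0, (-1)), (0, (-1)), (0, 1), (0, 1), (0, 3), (0, 1), (0, (-1)), (0, (-1)), (0, 1), (0, 3)],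
      [(0, (-1)), (0, 5), (0, (-3)), (0, 1), (0, 1), (0, (-1)), (0, (-1)), (0, 1), (0, 1), (0, (-1)), (0, (-1)), (0, 3), (0, 1), (0, 1), (0, (-1)), (0, (-1)), (0, 1), (0, 1), (0, (-1)), (0, 1), (0, (-1)), (0, (-1)), (0, 1), (0, (-1))],
      [(0, (-1)), (0, 1), (0, 1), (0, 1), (0, 1), (0, (-1)), (0, 3), (0, (-3)), (0, (-3)), (0, (-1)), (0, 3), (0, (-1)), (0, 1), (0, 1), (0, (-1)), (0, 3), (0, 1), (0, 1), (0, (-1)), (0, 1), (0, (-1)), (0, (-1)), (0, 1), (0, (-1))],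
      [(0, (-1)), (0, 1), (0, 1), (0, 1), (0, 1), (0, (-1)), (0, (-1)), (0, (-3)), (0, 1), (0, (-1)), (0, (-1)), (0, (-1)), (0, (-3)), (0, (-3)), (0, (-1)), (0, (-1)), (0, 1), (0, 1), (0, (-1)), (0, 1), (0, (-1)), (0, 3), (0, (-3)), (0, (-1))],
      [(0, 1), (0, (-1)), (0, (-1)), (0, 3), (0, (-1)), (0, 1), (0, 1), (0, 3), (0, (-1)), (0, 1), (0, 1), (0, 1), (0, (-1)), (0, (-1)), (0, 1), (0, 1), (0, (-1)), (0, 3), (0, (-3)), (0, 3), (0, 1), (0, 1), (0, (-1)), (0, 1)],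
      [(0, 1), (0, 3), (0, (-5)), (0, (-1)), (0, (-1)), (0, 1), (0, 1), (0, (-1)), (0, (-1)), (0, 1), (0, 1), (0, (-3)), (0, (-1)), (0, (-1)), (0, 1), (0, 1), (0, (-1)), (0, (-1)), (0, 1), (0, (-1)), (0, 1), (0, 1), (0, (-1)), (0, 1)],
      [(0, (-1)), (0, 1), (0, 1), (0, 1), (0, 1), (0, (-1)), (0, 3), (0, 1), (0, 1), (0, (-1)), (0, (-1)), (0, (-1)), (0, 1), (0, (-3)), (0, (-1)), (0, (-1)), (0, 1), (0, (-3)), (0, (-1)), (0, 1), (0, 3), (0, (-1)), (0, 1), (0, 3)],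
      [(0, (-1)), (0, 1), (0, 1), (0, (-3)), (0, (-3)), (0, 3), (0, (-1)), (0, 1), (0, (-3)), (0, (-1)), (0, (-1)), (0, (-1)), (0, 1), (0, (-3)), (0, (-1)), (0, (-1)), (0, 1), (0, 1), (0, (-1)), (0, 1), (0, (-1)), (0, (-1)), (0, 1), (0, (-1))],
      [(0, 1), (0, (-1)), (0, (-1)), (0, (-1)), (0, 3), (0, 1), (0, 1), (0, 3), (0, (-1)), (0, (-3)), (0, 1), (0, 1), (0, (-1)), (0, (-1)), (0, (-3)), (0, 1), (0, (-1)), (0, (-1)), (0, 1), (0, (-1)), (0, 1), (0, 1), (0, (-1)), (0, (-3))],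
      [(0, 3), (0, 1), (0, 1), (0, 1), (0, (-3)), (0, (-1)), (0, (-1)), (0, 1), (0, 1), (0, (-1)), (0, (-1)), (0, (-1)), (0, 1), (0, 1), (0, (-1)), (0, 3), (0, 1), (0, (-3)), (0, (-1)), (0, 1), (0, (-1)), (0, 3), (0, 1), (0, (-1))],
      [(0, (-1)), (0, 1), (0, 1), (0, (-3)), (0, 1), (0, (-1)), (0, (-1)), (0, 1), (0, 1), (0, (-1)), (0, (-1)), (0, (-1)), (0, (-3)), (0, 1), (0, 3), (0, 3), (0, 1), (0, 1), (0, (-1)), (0, 1), (0, 3), (0, (-1)), (0, 1), (0, (-1))],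
      [(0, 1), (0, 3), (0, 3), (0, (-1)), (0, (-1)), (0, 1), (0, 1), (0, (-1)), (0, (-1)), (0, 1), (0, 1), (0, 5), (0, (-1)), (0, (-1)), (0, 1), (0, 1), (0, (-1)), (0, (-1)), (0, 1), (0, (-1)), (0, 1), (0, 1), (0, (-1)), (0, 1)],
      [(0, 1), (0, (-1)), (0, (-1)), (0, (-1)), (0, (-1)), (0, 1), (0, 1), (0, (-1)), (0, (-1)), (0, (-3)), (0, 1), (0, 1), (0, (-1)), (0, 3), (0, 1), (0, (-3)), (0, 3), (0, (-1)), (0, (-3)), (0, (-1)), (0, 1), (0, 1), (0, (-1)), (0, 1)],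
      [(0, 3), (0, 1), (0, 1), (0, 1), (0, 1), (0, 3), (0, (-1)), (0, (-3)), (0, 1), (0, (-1)), (0, (-1)), (0, (-1)), (0, 1), (0, 1), (0, (-1)), (0, (-1)), (0, (-3)), (0, 1), (0, (-1)), (0, 1), (0, 3), (0, (-1)), (0, 1), (0, (-1))],
      [(0, 1), (0, (-1)), (0, (-1)), (0, (-1)), (0, (-1)), (0, (-3)), (0, (-3)), (0, (-1)), (0, (-1)), (0, 1), (0, 1), (0, 1), (0, (-1)), (0, (-1)), (0, (-3)), (0, 1), (0, (-1)), (0, (-1)), (0, (-3)), (0, (-1)), (0, 1), (0, (-3)), (0, (-1)), (0, 1)],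
      [(0, (-1)), (0, 1), (0, 1), (0, 1), (0, 1), (0, 3), (0, (-1)), (0, 1), (0, 1), (0, 3), (0, 3), (0, (-1)), (0, (-3)), (0, 1), (0, (-1)), (0, (-1)), (0, 1), (0, (-3)), (0, (-1)), (0, 1), (0, (-1)), (0, (-1)), (0, 1), (0, (-1))],
      [(0, 1), (0, (-1)), (0, (-1)), (0, (-1)), (0, (-1)), (0, 1), (0, 1), (0, (-1)), (0, 3), (0, (-3)), (0, 1), (0, 1), (0, (-1)), (0, (-1)), (0, 1), (0, 1), (0, (-1)), (0, (-1)), (0, 1), (0, 3), (0, (-3)), (0, (-3)), (0, (-1)), (0, 1)],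
      [(0, 1), (0, (-1)), (0, (-1)), (0, (-1)), (0, (-1)), (0, (-3)), (0, 1), (0, (-1)), (0, (-1)), (0, 1), (0, 1), (0, 1), (0, (-1)), (0, (-1)), (0, 1), (0, (-3)), (0, (-1)), (0, (-1)), (0, 1), (0, 3), (0, 1), (0, 1), (0, 3), (0, (-3))],
      [(0, (-3)), (0, (-1)), (0, (-1)), (0, (-1)), (0, (-1)), (0, 1), (0, 1), (0, (-1)), (0, (-1)), (0, 1), (0, (-3)), (0, 1), (0, (-1)), (0, 3), (0, (-3)), (0, 1), (0, (-1)), (0, (-1)), (0, 1), (0, 3), (0, 1), (0, 1), (0, (-1)), (0, 1)]],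
     [[(0, (-1)), (0, (-1)), (0, 1), (0, (-3)), (0, 1), (0, 3), (0, (-1)), (0, (-1)), (0, (-1)), (0, 1), (0, 1), (0, (-1)), (0, (-1)), (0, 1), (0, 3), (0, (-1)), (0, 1), (0, 1), (0, 3), (0, 1), (0, (-1)), (0, 1), (0, 1), (0, (-3))],
      [(0, 1), (0, 1), (0, (-1)), (0, (-1)), (0, (-1)), (0, 1), (0, 5), (0, 1), (0, 1), (0, (-1)), (0, 3), (0, 1), (0, 1), (0, (-1)), (0, 1), (0, 1), (0, 3), (0, (-1)), (0, 1), (0, (-1)), (0, 1), (0, (-1)), (0, (-1)), (0, (-1))],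
      [(0, 1), (0, 1), (0, (-1)), (0, (-1)), (0, (-1)), (0, 1), (0, (-3)), (0, 1), (0, 1), (0, (-1)), (0, (-5)), (0, 1), (0, 1), (0, (-1)), (0, 1), (0, 1), (0, 3), (0, (-1)), (0, 1), (0, (-1)), (0, 1), (0, (-1)), (0, (-1)), (0, (-1))],
      [(0, 1), (0, (-3)), (0, (-1)), (0, 3), (0, (-1)), (0, 1), (0, 1), (0, 1), (0, 1), (0, 3), (0, (-1)), (0, 1), (0, (-3)), (0, (-1)), (0, 1), (0, (-3)), (0, (-1)), (0, (-1)), (0, 1), (0, (-1)), (0, 1), (0, (-1)), (0, (-1)), (0, (-1))],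
      [(0, (-3)), (0, 1), (0, (-1)), (0, (-1)), (0, 3), (0, 1), (0, 1), (0, 1), (0, 1), (0, (-1)), (0, (-1)), (0, 1), (0, (-3)), (0, 3), (0, (-3)), (0, 1), (0, (-1)), (0, (-1)), (0, 1), (0, (-1)), (0, 1), (0, (-1)), (0, (-1)), (0, (-1))],
      [(0, (-1)), (0, (-1)), (0, 1), (0, 1), (0, 1), (0, (-1)), (0, (-1)), (0, (-1)), (0, (-1)), (0, 1), (0, 1), (0, (-1)), (0, 3), (0, 1), (0, (-1)), (0, (-1)), (0, 1), (0, 1), (0, 3), (0, (-3)), (0, 3), (0, 1), (0, (-3)), (0, 1)],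
      [(0, 3), (0, (-1)), (0, 1), (0, (-3)), (0, 1), (0, (-1)), (0, (-1)), (0, 3), (0, (-1)), (0, 1), (0, 1), (0, 3), (0, (-1)), (0, 1), (0, (-1)), (0, (-1)), (0, 1), (0, 1), (0, (-1)), (0, (-3)), (0, (-1)), (0, 1), (0, 1), (0, 1)],
      [(0, 1), (0, 1), (0, (-1)), (0, (-1)), (0, (-1)), (0, 1), (0, 1), (0, (-3)), (0, (-3)), (0, 3), (0, (-1)), (0, 1), (0, 1), (0, 3), (0, 1), (0, 1), (0, (-1)), (0, (-1)), (0, (-3)), (0, (-1)), (0, 1), (0, (-1)), (0, (-1)), (0, (-1))],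
      [(0, 1), (0, 1), (0, 3), (0, (-1)), (0, (-1)), (0, (-3)), (0, 1), (0, (-3)), (0, 1), (0, (-1)), (0, (-1)), (0, 1), (0, (-3)), (0, (-1)), (0, 1), (0, 1), (0, (-1)), (0, (-1)), (0, 1), (0, (-1)), (0, 1), (0, 3), (0, (-1)), (0, (-1))],
      [(0, (-1)), (0, (-1)), (0, 1), (0, (-3)), (0, 1), (0, (-1)), (0, (-1)), (0, (-1)), (0, (-1)), (0, 1), (0, 1), (0, (-1)), (0, (-1)), (0, (-3)), (0, (-1)), (0, (-1)), (0, 1), (0, (-3)), (0, (-1)), (0, 1), (0, 3), (0, (-3)), (0, 1), (0, 1)],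
      [(0, (-1)), (0, 3), (0, 1), (0, 1), (0, (-3)), (0, (-1)), (0, (-1)), (0, 3), (0, (-1)), (0, 1), (0, 1), (0, (-1)), (0, (-1)), (0, 1), (0, (-1)), (0, (-1)), (0, 1), (0, 1), (0, (-1)), (0, 1), (0, 3), (0, 1), (0, 1), (0, (-3))],
      [(0, (-1)), (0, (-1)), (0, 1), (0, 1), (0, 1), (0, (-1)), (0, 3), (0, (-1)), (0, (-1)), (0, 1), (0, (-3)), (0, (-1)), (0, (-1)), (0, 1), (0, (-1)), (0, (-1)), (0, 5), (0, 1), (0, (-1)), (0, 1), (0, (-1)), (0, 1), (0, 1), (0, 1)],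
      [(0, (-3)), (0, 1), (0, (-1)), (0, (-1)), (0, (-1)), (0, (-3)), (0, 1), (0, 1), (0, (-3)), (0, (-1)), (0, (-1)), (0, 1), (0, 1), (0, (-1)), (0, 1), (0, (-3)), (0, (-1)), (0, (-1)), (0, 1), (0, (-1)), (0, (-3)), (0, (-1)), (0, (-1)), (0, (-1))],
      [(0, 1), (0, 1), (0, (-1)), (0, (-1)), (0, (-1)), (0, 1), (0, 1), (0, 1), (0, (-3)), (0, (-1)), (0, (-1)), (0, (-3)), (0, (-3)), (0, (-1)), (0, 1), (0, 1), (0, (-1)), (0, 3), (0, 1), (0, (-1)), (0, 1), (0, (-1)), (0, (-1)), (0, 3)],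
      [(0, (-1)), (0, (-1)), (0, (-3)), (0, 1), (0, 1), (0, (-1)), (0, (-1)), (0, (-1)), (0, (-1)), (0, 1), (0, 1), (0, (-1)), (0, (-1)), (0, (-3)), (0, (-1)), (0, 3), (0, 1), (0, 1), (0, (-1)), (0, (-3)), (0, (-1)), (0, 1), (0, 1), (0, (-3))],
      [(0, (-1)), (0, (-1)), (0, 1), (0, 1), (0, 1), (0, (-1)), (0, (-1)), (0, 3), (0, (-1)), (0, 1), (0, 1), (0, (-1)), (0, (-1)), (0, 1), (0, 3), (0, 3), (0, 1), (0, (-3)), (0, (-1)), (0, 1), (0, (-1)), (0, 1), (0, (-3)), (0, 1)],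
      [(0, (-3)), (0, (-3)), (0, 3), (0, (-1)), (0, (-1)), (0, 1), (0, 1), (0, 1), (0, 1), (0, (-1)), (0, (-1)), (0, 1), (0, 1), (0, (-1)), (0, 1), (0, 1), (0, (-1)), (0, 3), (0, (-3)), (0, (-1)), (0, 1), (0, (-1)), (0, (-1)), (0, (-1))],
      [(0, 1), (0, 1), (0, 3), (0, (-1)), (0, (-1)), (0, 1), (0, 1), (0, 1), (0, 1), (0, 3), (0, (-1)), (0, (-3)), (0, 1), (0, (-1)), (0, (-3)), (0, 1), (0, (-1)), (0, (-1)), (0, 1), (0, (-1)), (0, (-3)), (0, (-1)), (0, (-1)), (0, (-1))],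
      [(0, (-1)), (0, (-1)), (0, 1), (0, 1), (0, (-3)), (0, 3), (0, (-1)), (0, (-1)), (0, (-1)), (0, (-3)), (0, 1), (0, (-1)), (0, (-1)), (0, 1), (0, (-1)), (0, (-1)), (0, 1), (0, (-3)), (0, (-1)), (0, (-3)), (0, (-1)), (0, 1), (0, 1), (0, 1)],
      [(0, (-3)), (0, 1), (0, (-1)), (0, (-1)), (0, (-1)), (0, 1), (0, 1), (0, 1), (0, 1), (0, 3), (0, (-1)), (0, 1), (0, 1), (0, (-1)), (0, 1), (0, 1), (0, (-1)), (0, (-1)), (0, 1), (0, (-1)), (0, 1), (0, 3), (0, 3), (0, 3)],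
      [(0, (-1)), (0, (-1)), (0, 1), (0, 1), (0, (-3)), (0, (-1)), (0, (-1)), (0, (-1)), (0, (-1)), (0, 1), (0, 1), (0, 3), (0, (-1)), (0, 1), (0, (-1)), (0, 3), (0, 1), (0, 1), (0, 3), (0, 1), (0, (-1)), (0, (-3)), (0, 1), (0, 1)],
      [(0, (-1)), (0, 3), (0, 1), (0, 1), (0, 1), (0, (-1)), (0, (-1)), (0, (-1)), (0, 3), (0, 1), (0, 1), (0, (-1)), (0, (-1)), (0, 1), (0, 3), (0, (-1)), (0, 1), (0, 1), (0, (-1)), (0, (-3)), (0, (-1)), (0, (-3)), (0, 1), (0, 1)],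
      [(0, 1), (0, 1), (0, 3), (0, 3), (0, 3), (0, 1), (0, 1), (0, 1), (0, (-3)), (0, (-1)), (0, (-1)), (0, 1), (0, 1), (0, (-1)), (0, 1), (0, 1), (0, (-1)), (0, (-1)), (0, 1), (0, (-1)), (0, 1), (0, (-1)), (0, 3), (0, (-1))],
      [(0, (-1)), (0, 3), (0, 1), (0, 1), (0, 1), (0, 3), (0, (-1)), (0, (-1)), (0, (-1)), (0, 1), (0, 1), (0, 3), (0, (-1)), (0, (-3)), (0, (-1)), (0, (-1)), (0, 1), (0, 1), (0, (-1)), (0, 1), (0, (-1)), (0, 1), (0, (-3)), (0, 1)]])]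

/-- part of the generators and their transposes -/
def sevenW2 : List (List (List (ℕ × ℤ)) × List (List (ℕ × ℤ))) :=
  [([[(0, (-2)), (0, (-2)), (0, 2), (2, 2), (3, (-2)), (2, (-2)), (0, 2), (1, 4), (0, (-2)), (0, 2), (0, 2), (1, (-2)), (2, (-2))],
      [(3, (-2)), (0, 2), (1, 2), (0, (-2)), (0, (-2)), (0, 4), (0, (-2)), (0, (-2)), (2, 2), (0, 2), (3, 2), (1, 2), (0, 2)],
      [(0, 2), (0, (-2)), (0, 2), (2, (-2)), (3, (-2)), (1, (-4)), (0, 2), (0, 2), (2, (-2)), (0, (-2)), (0, 2), (1, 2), (2, 2)],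
      [(3, 2), (0, 2), (1, (-2)), (0, (-2)), (0, (-2)), (1, 2), (0, (-2)), (1, (-4)), (0, (-2)), (0, 2), (3, (-2)), (1, 2), (0, (-2))],
      [(0, (-2)), (0, (-2)), (0, (-2)), (2, 2), (3, (-2)), (2, 2), (0, (-2)), (2, (-2)), (0, 2), (0, (-2)), (1, 2), (1, 4), (0, 2)],
      [(3, 2), (0, (-2)), (1, 2), (0, 2), (0, (-2)), (1, 2), (0, (-2)), (2, (-2)), (0, 2), (0, 4), (2, 2), (1, (-2)), (0, 2)],
      [(0, 2), (0, 2), (0, 2), (1, 4), (0, 2), (3, (-2)), (2, 2), (0, 2), (2, 2), (0, 2), (0, (-2)), (1, 2), (2, (-2))],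
      [(3, (-2)), (0, (-2)), (0, 4), (0, 2), (0, 2), (0, (-2)), (1, (-2)), (0, (-2)), (2, (-2)), (0, (-2)), (3, (-2)), (1, 2), (0, (-2))],
      [(0, 4), (2, (-2)), (0, (-2)), (1, (-2)), (0, (-2)), (0, (-2)), (1, (-2)), (0, 2), (2, (-2)), (0, 2), (3, (-2)), (1, (-2)), (0, 2)],
      [(0, (-2)), (0, 2), (0, (-2)), (2, (-2)), (2, (-4)), (0, (-2)), (2, (-2)), (0, 2), (2, (-2)), (0, (-2)), (0, (-2)), (1, 2), (2, (-2))],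
      [(0, 2), (0, (-2)), (0, (-2)), (0, 4), (1, 2), (3, 2), (2, 2), (0, 2), (2, (-2)), (0, (-2)), (0, (-2)), (1, (-2)), (2, (-2))],
      [(0, (-2)), (0, 2), (0, (-2)), (2, 2), (1, (-4)), (1, (-2)), (2, 2), (0, 2), (2, 2), (0, (-2)), (0, 2), (1, (-2)), (2, 2)],
      [(3, (-2)), (0, (-2)), (1, (-2)), (0, 2), (0, (-2)), (1, 2), (0, 2), (0, 4), (1, 2), (0, 2), (3, 2), (1, 2), (0, (-2))],
      [(0, (-2)), (0, 2), (0, 2), (2, (-2)), (3, 2), (2, 2), (0, 2), (0, (-4)), (1, (-2)), (0, 2), (0, (-2)), (1, (-2)), (2, 2)],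
      [(3, (-2)), (0, (-2)), (1, 2), (0, (-2)), (0, 2), (1, 2), (0, (-2)), (2, 2), (0, 2), (2, (-4)), (0, (-2)), (1, (-2)), (0, (-2))],
      [(3, 2), (0, (-2)), (1, (-2)), (0, (-2)), (0, (-2)), (1, (-2)), (0, (-2)), (2, 2), (0, (-2)), (1, 4), (1, 2), (1, (-2)), (0, (-2))],
      [(0, 2), (0, 2), (0, (-2)), (2, 2), (3, 2), (0, 4), (1, (-2)), (0, 2), (2, (-2)), (0, 2), (0, 2), (1, 2), (2, 2)],
      [(2, (-4)), (0, (-2)), (0, 2), (1, (-2)), (0, 2), (0, 2), (1, (-2)), (0, (-2)), (2, (-2)), (0, 2), (3, 2), (1, (-2)), (0, (-2))],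
      [(0, 2), (0, 2), (0, 2), (2, 2), (3, (-2)), (2, (-2)), (0, (-2)), (2, (-2)), (0, (-2)), (0, (-2)), (0, 4), (0, (-2)), (2, 2)],
      [(0, 2), (0, 2), (0, (-2)), (2, (-2)), (0, 4), (2, (-2)), (2, 2), (0, (-2)), (2, (-2)), (0, 2), (0, 2), (1, (-2)), (2, (-2))],
      [(3, 2), (0, 2), (1, 2), (0, 2), (0, (-2)), (1, (-2)), (0, 2), (2, 2), (0, 2), (3, (-2)), (1, (-2)), (0, (-2)), (0, 4)],
      [(3, (-2)), (0, 2), (1, (-2)), (0, 2), (0, (-2)), (1, 2), (0, (-2)), (2, 2), (0, (-2)), (3, (-2)), (0, (-4)), (0, (-2)), (0, 2)],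
      [(0, 2), (0, (-2)), (0, (-2)), (2, (-2)), (3, (-2)), (2, (-2)), (0, 2), (2, 2), (0, 2), (0, (-2)), (1, (-2)), (0, 4), (1, 2)],
      [(1, 4), (1, 2), (0, (-2)), (1, (-2)), (0, 2), (0, 2), (1, (-2)), (0, (-2)), (2, 2), (0, 2), (3, (-2)), (1, 2), (0, 2)]],
     [[(0, (-2)), (1, 2), (1, (-2)), (1, 2), (1, 4), (0, (-2)), (0, 2), (0, (-2)), (1, (-2)), (2, 2), (1, 2), (0, 2), (2, 2)],
      [(0, (-2)), (1, (-2)), (1, (-2)), (1, 2), (2, 2), (0, (-2)), (0, 2), (1, 2), (2, 2), (1, 2), (0, 2), (2, (-2)), (0, 4)],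
      [(0, 2), (1, 2), (1, (-2)), (1, 2), (2, (-2)), (0, (-2)), (0, (-2)), (1, 2), (2, (-2)), (0, (-4)), (0, 2), (0, (-2)), (2, (-2))],
      [(1, (-2)), (1, 2), (1, 2), (1, (-2)), (0, (-2)), (1, 4), (1, (-2)), (1, (-2)), (0, 2), (1, (-2)), (2, 2), (0, (-2)), (1, 2)],
      [(1, 2), (1, 2), (1, (-2)), (0, 4), (0, (-2)), (0, (-2)), (3, (-2)), (1, (-2)), (0, (-2)), (1, 2), (2, 2), (0, 2), (1, (-2))],
      [(0, 2), (1, (-2)), (1, 2), (1, 2), (0, 4), (1, (-2)), (0, 2), (0, 2), (1, (-2)), (2, 2), (1, 2), (0, (-2)), (2, (-2))],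
      [(1, 2), (1, (-2)), (1, 2), (1, 2), (0, (-2)), (3, (-2)), (1, 2), (0, (-2)), (1, (-2)), (1, 4), (0, 2), (0, (-2)), (1, (-2))],
      [(1, (-2)), (1, (-2)), (1, 2), (1, 2), (0, (-2)), (2, (-4)), (0, 2), (1, (-2)), (0, (-2)), (1, 2), (2, 2), (0, 2), (1, 2)],
      [(1, (-2)), (1, (-2)), (1, (-2)), (1, (-2)), (0, (-2)), (0, (-4)), (2, (-2)), (1, 2), (0, (-2)), (1, 2), (2, (-2)), (0, (-2)), (1, 2)],
      [(0, (-2)), (0, 4), (0, (-2)), (1, (-2)), (1, (-2)), (2, (-2)), (0, 2), (0, (-2)), (1, 2), (2, 2), (1, (-2)), (0, (-2)), (2, (-2))],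
      [(1, (-2)), (1, 2), (1, 2), (1, (-2)), (0, (-2)), (3, 2), (1, 2), (0, (-2)), (0, 4), (0, (-2)), (2, (-2)), (0, 2), (1, (-2))],
      [(1, (-2)), (0, (-4)), (0, (-2)), (1, (-2)), (1, (-2)), (0, 2), (3, 2), (1, (-2)), (0, (-2)), (1, (-2)), (2, 2), (0, (-2)), (1, (-2))],
      [(0, (-2)), (1, 2), (1, 2), (1, 2), (2, (-2)), (0, 2), (0, 2), (0, 4), (0, 2), (2, (-2)), (1, (-2)), (0, 2), (2, (-2))],
      [(0, 2), (1, 2), (0, (-4)), (0, (-2)), (1, 2), (2, 2), (0, 2), (0, 2), (1, 2), (2, 2), (1, (-2)), (0, (-2)), (2, 2)],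
      [(1, 2), (1, (-2)), (1, (-2)), (1, (-2)), (0, (-2)), (3, 2), (0, (-4)), (0, 2), (0, 2), (1, (-2)), (2, 2), (0, 2), (1, 2)],
      [(0, 4), (0, 2), (1, 2), (1, 2), (1, (-2)), (0, 2), (3, 2), (1, 2), (0, (-2)), (1, 2), (2, 2), (0, (-2)), (1, 2)],
      [(0, (-2)), (1, (-2)), (1, (-2)), (0, 4), (0, 2), (2, (-2)), (0, (-2)), (0, 2), (1, (-2)), (2, (-2)), (1, (-2)), (0, (-2)), (2, 2)],
      [(0, 2), (1, (-2)), (1, 2), (1, 2), (2, (-2)), (0, (-2)), (0, (-2)), (1, 2), (1, 4), (0, 2), (1, (-2)), (0, 2), (2, 2)],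
      [(0, 2), (1, 2), (1, (-2)), (1, (-2)), (2, (-2)), (0, (-2)), (0, 2), (1, (-2)), (0, (-4)), (1, 2), (1, (-2)), (0, 2), (2, (-2))],
      [(1, 2), (1, (-2)), (1, 2), (1, (-2)), (0, (-2)), (3, 2), (1, (-2)), (0, 2), (1, 2), (0, 4), (1, (-2)), (0, (-2)), (1, (-2))],
      [(0, (-2)), (1, 2), (1, 2), (1, 2), (2, 2), (0, (-2)), (0, (-2)), (1, (-2)), (2, 2), (1, (-2)), (0, (-2)), (1, (-4)), (0, (-2))],
      [(1, 2), (1, 2), (1, (-2)), (1, 2), (0, (-2)), (3, 2), (1, (-2)), (0, (-2)), (1, (-2)), (2, (-2)), (0, (-2)), (0, 4), (0, 2)],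
      [(1, 2), (1, (-2)), (0, 4), (0, 2), (1, (-2)), (0, 2), (3, (-2)), (1, (-2)), (0, (-2)), (1, (-2)), (2, (-2)), (0, 2), (1, 2)],
      [(0, (-2)), (1, 2), (1, 2), (1, (-2)), (2, (-2)), (0, (-2)), (0, 2), (1, 2), (2, 2), (1, 2), (0, (-2)), (0, 4), (1, 2)]])]

/-- the generators and their transposes -/
def sevenW : List (List (List (ℕ × ℤ)) × List (List (ℕ × ℤ))) := sevenW0 ++ sevenW1 ++ sevenW2

/-- part of the relations -/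
def sevenRels0 : List Rule :=
  [([0, 0, 0, 0, 0, 0, 0], []),
    ([1, 0], [0, 1]),
    ([1, 1, 1, 1, 1, 1, 1], []),
    ([2, 1], [1, 1, 2]),
    ([3, 0], [0, 1, 1, 1, 1, 1, 3]),
    ([3, 1], [1, 1, 1, 1, 3]),
    ([4, 0], [0, 0, 0, 1, 1, 1, 1, 1, 4]),
    ([4, 1], [1, 1, 1, 1, 1, 1, 4])]

/-- the relations -/
def sevenRels : List Rule := sevenRels0

/-- part of the pairs -/
def sevenEqs0 : List Pair :=
  [([2, 1, 1, 1, 1, 1, 1, 1], [(0, 3, true), (2, 3, true), (4, 3, true), (6, 3, true), (8, 3, true), (10, 3, true), (12, 3, true), (0, 2, true), (0, 2, true)], [(1, 2, true)]),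
    ([3, 1, 0], [(0, 5, true), (4, 4, true), (3, 1, true), (2, 1, true), (1, 1, true), (0, 1, true), (1, 2, true)], [(1, 1, true), (0, 4, true), (6, 5, true), (1, 2, true)]),
    ([4, 0, 0, 0, 0, 0, 0, 0], [(0, 6, true), (8, 6, true), (16, 6, true), (24, 6, true), (32, 6, true), (40, 6, true), (48, 6, true), (7, 1, true), (6, 1, true), (5, 1, true), (4, 1, true), (3, 1, true), (8, 1, true), (7, 1, true), (6, 1, true), (5, 1, true), (4, 1, true), (9, 1, true), (8, 1, true), (7, 1, true), (6, 1, true), (5, 1, true), (6, 2, true), (8, 1, true), (7, 1, true), (6, 1, true), (0, 0, true), (2, 1, true), (1, 1, true), (0, 1, true), (3, 1, true), (2, 1, true), (1, 1, true), (2, 2, true), (2, 1, true), (3, 1, true), (4, 1, true), (10, 1, true), (9, 1, true), (8, 1, true), (7, 1, true), (6, 1, true), (5, 1, true), (11, 1, true), (10, 1,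 true), (9, 1, true), (8, 1, true), (7, 1, true), (6, 1, true), (0, 0, true), (5, 1, true), (4, 1, true), (3, 1, true), (2, 1, true), (1, 1, true), (0, 1, true), (1, 2, true), (4, 1, true), (3, 1, true), (2, 1, true), (1, 1, true), (5, 1, true), (4, 1, true), (3, 1, true), (2, 1, true), (6, 1, true), (5, 1, true), (4, 1, true), (3, 1, true), (4, 2, true), (5, 1, true), (4, 1, true), (6, 1, true), (5, 1, true), (7, 1, true), (6, 1, true), (0, 0, true), (0, 2, true)], [(1, 0, true)])]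

/-- the pairs -/
def sevenEqs : List Pair := sevenEqs0

/-- part of the exponents -/
def sevenVecs0 : List (List ℤ) :=
  [[0, 0, 1, 0, 0, 0, 0, 0],
    [0, 3, 0, 0, 0, 0, 0, 0],
    [2, 0, (-2), 0, 0, 0, 0, 0]]

/-- the exponents -/
def sevenVecs : List (List ℤ) := sevenVecs0

/-- part of the change of lifts -/
def sevenGauge0 : List (List (ℕ × ℤ)) :=
  [[],
    [],
    [],
    [],
    []]

/-- the change of lifts -/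
def sevenGauge : List (List (ℕ × ℤ)) := sevenGauge0

/-- part of the combinations -/
def sevenCombs0 : List (List (ℕ × ℤ)) :=
  [[(0, 1), (2, (-3))],
    [(1, (-2))],
    [(0, 1)]]

/-- the combinations -/
def sevenCombs : List (List (ℕ × ℤ)) := sevenCombs0

/-- part of the representatives -/
def sevenLvlW0_0 : List (List ℕ) :=
  [[1, 0, 0],
    [1, 0],
    [1],
    [0],
    [],
    [0, 0],
    [0, 0, 0]]

/-- the representatives -/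
def sevenLvlW0_ : List (List ℕ) := sevenLvlW0_0

/-- part of the representatives -/
def sevenLvlW1_0 : List (List ℕ) :=
  [[0, 0, 0, 0, 0, 0, 1, 1, 0, 0, 0, 0, 0, 0, 1, 1],
    [0, 0, 0, 0, 0, 0, 1, 1],
    [],
    [0, 0, 0, 0, 0, 0, 1, 1, 0, 0, 0, 0, 0, 0, 1, 1, 0, 0, 0, 0, 0, 0, 1, 1, 0, 0, 0, 0, 0, 0, 1, 1, 0, 0, 0, 0, 0, 0, 1, 1, 0, 0, 0, 0, 0, 0, 1, 1],
    [0, 0, 0, 0, 0, 0, 1, 1, 0, 0, 0, 0, 0, 0, 1, 1, 0, 0, 0, 0, 0, 0, 1, 1, 0, 0, 0, 0, 0, 0, 1, 1, 0, 0, 0, 0, 0, 0, 1, 1],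
    [0, 0, 0, 0, 0, 0, 1, 1, 0, 0, 0, 0, 0, 0, 1, 1, 0, 0, 0, 0, 0, 0, 1, 1],
    [0, 0, 0, 0, 0, 0, 1, 1, 0, 0, 0, 0, 0, 0, 1, 1, 0, 0, 0, 0, 0, 0, 1, 1, 0, 0, 0, 0, 0, 0, 1, 1]]

/-- the representatives -/
def sevenLvlW1_ : List (List ℕ) := sevenLvlW1_0

/-- the chain -/
def sevenChain : List (List ℤ × List (List ℕ)) := [([1, 3, (-3), 5, (-1), (-1), 1, (-1), 3, 5, 3, (-1), 5, (-5), (-3), (-1), 3, (-3), (-5), (-3), 3, 1, 1, (-3)], sevenLvlW0_),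
  ([0, 0, 2, 0, 2, 2, 0, 2, 2, 2, 2, 0, 0, 0, 0, 0, 0, 0, 0, 0, 2, 0, 0, 0], sevenLvlW1_)]

/-- the certificate -/
def sevenCert : Cert where
  p := 7
  n := 2
  ng := 5
  M := 3
  rels := sevenRels
  eqs := sevenEqs
  vecs := sevenVecs
  gauge := sevenGauge
  combs := sevenCombs

end Cfsg.Agent.Lie.ConwayZeroMult
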