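import Cfsg.Agent.Lib.Lie.ConwayZeroMult.Defs
import Cfsg.Agent.Lib.Lie.ConwayZeroMult.SevenData

/-!
The checks for the part at one prime (seven) of the multiplier of the double cover of the first Conway group: the derivations and the combinations.
-/

set_option autoImplicit false
set_option maxRecDepth 100000
set_option Elab.async false

namespace Cfsg.Agent.Lie.ConwayZeroMult

open CentralRewrite

theorem seven_series : seriesOK sevenCert.p sevenCert.n sevenCert.M sevenCert.rels = true := by decide +kernel

theorem seven_pairs :
    (List.range sevenCert.eqs.length).all (fun i => pairOK sevenCert.rels (sevenCert.eqs.getD i ([], [], []))) = true := by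
  decide +kernel

theorem seven_vec : vecOK sevenCert.p sevenCert.rels.length sevenCert.eqs sevenCert.vecs = true := by decide +kernel

theorem seven_kill0 : ((List.range' 0 3).all fun b =>
    killOK sevenCert.p sevenCert.rels.length sevenCert.ng sevenCert.rels sevenCert.gauge sevenCert.vecs sevenCert.combs b) = true := by
  decide +kernel

theorem seven_valid : sevenCert.Valid where
  series := seven_series
  pairs := seven_pairs
  vec := seven_vec
  veclen := by decide +kernel
  letters := by decide +kernel
  gaugeOK := by decide +kernel
  nng := by decide +kernel
  kill := fun b hb => by
    change b < 3 at hb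
    exact List.all_eq_true.1 seven_kill0 b (List.mem_range'_1.2 ⟨Nat.zero_le b, by omega⟩)

end Cfsg.Agent.Lie.ConwayZeroMult
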