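import Cfsg.Agent.Lib.Lie.ConwayZeroMult.Defs
import Cfsg.Agent.Lib.Lie.ConwayZeroMult.SevenData

/-!
The checks for the part at one prime (seven) of the multiplier of the double cover of the first Conway group: the matrices, the relations and the chain.
-/

set_option autoImplicit false
set_option maxRecDepth 100000
set_option Elab.async false

namespace Cfsg.Agent.Lie.ConwayZeroMult

open CentralRewrite

theorem seven_mats : sevenW.all matOK = true := by decide +kernel

theorem seven_len : sevenCert.ng = sevenW.length := by decide +kernel

theorem seven_rels : sevenCert.rels.all (relOK sevenW) = true := by decide +kernel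

theorem seven_chain : chainV sevenW sevenCert.n sevenChain [] = true := by decide +kernel

theorem seven_size : sevenCert.p ^ sevenCert.n ≤ chainProd sevenChain := by decide +kernel

theorem seven_index : ¬ sevenCert.p ∣ 8315553613086720000 / sevenCert.p ^ sevenCert.n := by decide +kernel

end Cfsg.Agent.Lie.ConwayZeroMult
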