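import Cfsg.Agent.Lib.Lie.CentralRewrite.Main

/-!
Data for the part at the prime 3 of the multiplier of the double cover of the first Conway group: matrices,
relations, pairs of derivations and combinations.
-/

set_option autoImplicit false
set_option maxRecDepth 100000

namespace Cfsg.Agent.Lie.ConwayZeroMult

open CentralRewrite

/-- part of the generators and their transposes -/
def threeW0 : List (List (List (ℕ × ℤ)) × List (List (ℕ × ℤ))) :=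
  [([[(0, (-1)), (0, 1), (0, 1), (0, (-1)), (0, 3), (0, 1), (0, (-1)), (0, (-1)), (0, 1), (0, (-1)), (0, (-1)), (0, (-1)), (0, (-1)), (0, (-1)), (0, (-1)), (0, 1), (0, (-1)), (0, 1), (0, (-3)), (0, 3), (0, 1), (0, (-1)), (0, 3), (0, 3)],
      [(0, (-1)), (0, (-3)), (0, 1), (0, (-1)), (0, (-1)), (0, 1), (0, (-1)), (0, (-5)), (0, 1), (0, (-1)), (0, (-1)), (0, (-1)), (0, 3), (0, (-1)), (0, (-1)), (0, 1), (0, (-1)), (0, 1), (0, 1), (0, (-1)), (0, 1), (0, (-1)), (0, (-1)), (0, (-1))],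
      [(0, (-3)), (0, (-1)), (0, (-1)), (0, 1), (0, 1), (0, (-1)), (0, 1), (0, 1), (0, (-1)), (0, 1), (0, 1), (0, 1), (0, 1), (0, (-3)), (0, (-3)), (0, (-1)), (0, 1), (0, (-1)), (0, (-1)), (0, 1), (0, 3), (0, 1), (0, 1), (0, (-3))],
      [(0, (-1)), (0, 1), (0, 1), (0, (-1)), (0, (-1)), (0, 1), (0, (-1)), (0, (-1)), (0, (-3)), (0, 3), (0, 3), (0, (-1)), (0, (-1)), (0, (-1)), (0, (-1)), (0, 1), (0, (-1)), (0, 1), (0, 1), (0, (-1)), (0, 1), (0, 3), (0, (-1)), (0, 3)],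
      [(0, (-1)), (0, 1), (0, (-3)), (0, (-1)), (0, (-1)), (0, 1), (0, (-1)), (0, (-1)), (0, 1), (0, (-1)), (0, (-1)), (0, (-1)), (0, (-1)), (0, (-1)), (0, (-1)), (0, (-3)), (0, 3), (0, (-3)), (0, 1), (0, (-1)), (0, 1), (0, (-1)), (0, (-1)), (0, 3)],
      [(0, 1), (0, (-1)), (0, (-1)), (0, 1), (0, (-3)), (0, (-1)), (0, (-3)), (0, 1), (0, (-1)), (0, 1), (0, 1), (0, 1), (0, 1), (0, 1), (0, (-3)), (0, 3), (0, 1), (0, (-1)), (0, (-1)), (0, 1), (0, (-1)), (0, (-3)), (0, 1), (0, 1)],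
      [(0, (-1)), (0, 1), (0, (-3)), (0, (-1)), (0, (-1)), (0, 1), (0, (-1)), (0, (-1)), (0, 1), (0, (-1)), (0, (-1)), (0, 3), (0, (-1)), (0, 3), (0, (-1)), (0, 1), (0, (-1)), (0, 1), (0, 1), (0, (-1)), (0, 1), (0, 3), (0, 3), (0, (-1))],
      [(0, 1), (0, 3), (0, (-1)), (0, 1), (0, 1), (0, (-1)), (0, 1), (0, (-3)), (0, (-1)), (0, 1), (0, 1), (0, 1), (0, 5), (0, 1), (0, 1), (0, (-1)), (0, 1), (0, (-1)), (0, (-1)), (0, 1), (0, (-1)), (0, 1), (0, 1), (0, 1)],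
      [(0, 1), (0, (-1)), (0, (-1)), (0, (-3)), (0, 1), (0, (-1)), (0, 1), (0, 1), (0, (-1)), (0, (-3)), (0, 1), (0, 1), (0, 1), (0, 1), (0, (-3)), (0, (-1)), (0, 1), (0, 3), (0, (-1)), (0, 1), (0, (-1)), (0, 1), (0, (-3)), (0, 1)],
      [(0, (-1)), (0, 1), (0, 1), (0, 3), (0, (-1)), (0, 1), (0, (-1)), (0, (-1)), (0, (-3)), (0, (-1)), (0, (-1)), (0, (-1)), (0, (-1)), (0, 3), (0, (-1)), (0, (-3)), (0, (-1)), (0, 1), (0, (-3)), (0, (-1)), (0, 1), (0, (-1)), (0, (-1)), (0, (-1))],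
      [(0, 1), (0, (-1)), (0, (-1)), (0, (-3)), (0, 1), (0, 3), (0, (-3)), (0, 1), (0, (-1)), (0, 1), (0, 1), (0, (-3)), (0, 1), (0, 1), (0, 1), (0, (-1)), (0, 1), (0, (-1)), (0, (-1)), (0, 1), (0, (-1)), (0, 1), (0, 1), (0, (-3))],
      [(0, 3), (0, 1), (0, 1), (0, (-1)), (0, (-1)), (0, (-3)), (0, (-1)), (0, (-1)), (0, 1), (0, (-1)), (0, (-1)), (0, (-1)), (0, (-1)), (0, (-1)), (0, (-1)), (0, 1), (0, (-1)), (0, (-3)), (0, (-3)), (0, (-1)), (0, 1), (0, 3), (0, (-1)), (0, (-1))],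
      [(0, 1), (0, (-5)), (0, (-1)), (0, 1), (0, 1), (0, (-1)), (0, 1), (0, (-3)), (0, (-1)), (0, 1), (0, 1), (0, 1), (0, (-3)), (0, 1), (0, 1), (0, (-1)), (0, 1), (0, (-1)), (0, (-1)), (0, 1), (0, (-1)), (0, 1), (0, 1), (0, 1)],
      [(0, (-3)), (0, (-1)), (0, (-1)), (0, 1), (0, 1), (0, (-1)), (0, 1), (0, 1), (0, (-1)), (0, (-3)), (0, 1), (0, (-3)), (0, 1), (0, 1), (0, 1), (0, 3), (0, 1), (0, (-1)), (0, (-1)), (0, (-3)), (0, (-1)), (0, 1), (0, 1), (0, 1)],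
      [(0, 1), (0, (-1)), (0, 3), (0, 1), (0, 1), (0, 3), (0, 1), (0, 1), (0, 3), (0, 1), (0, 1), (0, 1), (0, 1), (0, 1), (0, (-3)), (0, (-1)), (0, 1), (0, (-1)), (0, (-1)), (0, (-3)), (0, (-1)), (0, 1), (0, 1), (0, 1)],
      [(0, (-1)), (0, 1), (0, (-3)), (0, (-1)), (0, (-1)), (0, 1), (0, 3), (0, (-1)), (0, 1), (0, 3), (0, (-1)), (0, (-1)), (0, (-1)), (0, (-1)), (0, (-1)), (0, 1), (0, (-1)), (0, 1), (0, (-3)), (0, (-1)), (0, (-3)), (0, (-1)), (0, (-1)), (0, (-1))],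
      [(0, (-1)), (0, 1), (0, 1), (0, (-1)), (0, (-1)), (0, (-3)), (0, (-1)), (0, (-1)), (0, 1), (0, (-1)), (0, 3), (0, (-1)), (0, (-1)), (0, (-1)), (0, (-1)), (0, (-3)), (0, (-1)), (0, 1), (0, 1), (0, (-1)), (0, (-3)), (0, (-1)), (0, 3), (0, (-1))],
      [(0, (-1)), (0, 1), (0, 1), (0, (-1)), (0, 3), (0, 1), (0, (-1)), (0, (-1)), (0, (-3)), (0, (-1)), (0, (-1)), (0, 3), (0, (-1)), (0, (-1)), (0, (-1)), (0, 1), (0, (-1)), (0, (-3)), (0, 1), (0, (-1)), (0, (-3)), (0, (-1)), (0, (-1)), (0, (-1))],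
      [(0, (-1)), (0, 1), (0, 1), (0, (-1)), (0, 3), (0, (-3)), (0, (-1)), (0, (-1)), (0, 1), (0, 3), (0, (-1)), (0, (-1)), (0, (-1)), (0, 3), (0, (-1)), (0, 1), (0, 3), (0, 1), (0, 1), (0, (-1)), (0, 1), (0, (-1)), (0, (-1)), (0, (-1))],
      [(0, (-1)), (0, 1), (0, 1), (0, (-1)), (0, (-1)), (0, 1), (0, (-1)), (0, (-1)), (0, 1), (0, (-1)), (0, 3), (0, 3), (0, (-1)), (0, (-1)), (0, 3), (0, 1), (0, 3), (0, 1), (0, (-3)), (0, (-1)), (0, 1), (0, (-1)), (0, (-1)), (0, (-1))],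
      [(0, 1), (0, (-1)), (0, (-1)), (0, 1), (0, 1), (0, (-1)), (0, (-3)), (0, 1), (0, (-1)), (0, 1), (0, (-3)), (0, 1), (0, 1), (0, (-3)), (0, 1), (0, (-1)), (0, 1), (0, 3), (0, (-1)), (0, (-3)), (0, (-1)), (0, 1), (0, 1), (0, 1)],
      [(0, (-3)), (0, (-1)), (0, 3), (0, (-3)), (0, (-3)), (0, (-1)), (0, 1), (0, 1), (0, (-1)), (0, 1), (0, (-3)), (0, 1), (0, 1), (0, 1), (0, 1), (0, (-1)), (0, 1), (0, (-1)), (0, (-1)), (0, 1), (0, (-1)), (0, 1), (0, 1), (0, 1)],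
      [(0, (-3)), (0, (-1)), (0, (-1)), (0, 1), (0, 1), (0, (-1)), (0, (-3)), (0, 1), (0, 3), (0, 1), (0, 1), (0, 1), (0, 1), (0, 1), (0, 1), (0, (-1)), (0, (-3)), (0, (-1)), (0, (-1)), (0, 1), (0, (-1)), (0, 1), (0, (-3)), (0, 1)],
      [(0, 1), (0, (-1)), (0, (-1)), (0, (-3)), (0, 1), (0, (-1)), (0, 1), (0, 1), (0, (-1)), (0, 1), (0, 1), (0, 1), (0, 1), (0, 1), (0, 1), (0, (-1)), (0, (-3)), (0, (-1)), (0, (-1)), (0, (-3)), (0, 3), (0, (-3)), (0, 1), (0, 1)]],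
     [[(0, (-1)), (0, (-1)), (0, (-3)), (0, (-1)), (0, (-1)), (0, 1), (0, (-1)), (0, 1), (0, 1), (0, (-1)), (0, 1), (0, 3), (0, 1), (0, (-3)), (0, 1), (0, (-1)), (0, (-1)), (0, (-1)), (0, (-1)), (0, (-1)), (0, 1), (0, (-3)), (0, (-3)), (0, 1)],
      [(0, 1), (0, (-3)), (0, (-1)), (0, 1), (0, 1), (0, (-1)), (0, 1), (0, 3), (0, (-1)), (0, 1), (0, (-1)), (0, 1), (0, (-5)), (0, (-1)), (0, (-1)), (0, 1), (0, 1), (0, 1), (0, 1), (0, 1), (0, (-1)), (0, (-1)), (0, (-1)), (0, (-1))],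
      [(0, 1), (0, 1), (0, (-1)), (0, 1), (0, (-3)), (0, (-1)), (0, (-3)), (0, (-1)), (0, (-1)), (0, 1), (0, (-1)), (0, 1), (0, (-1)), (0, (-1)), (0, 3), (0, (-3)), (0, 1), (0, 1), (0, 1), (0, 1), (0, (-1)), (0, 3), (0, (-1)), (0, (-1))],
      [(0, (-1)), (0, (-1)), (0, 1), (0, (-1)), (0, (-1)), (0, 1), (0, (-1)), (0, 1), (0, (-3)), (0, 3), (0, (-3)), (0, (-1)), (0, 1), (0, 1), (0, 1), (0, (-1)), (0, (-1)), (0, (-1)), (0, (-1)), (0, (-1)), (0, 1), (0, (-3)), (0, 1), (0, (-3))],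
      [(0, 3), (0, (-1)), (0, 1), (0, (-1)), (0, (-1)), (0, (-3)), (0, (-1)), (0, 1), (0, 1), (0, (-1)), (0, 1), (0, (-1)), (0, 1), (0, 1), (0, 1), (0, (-1)), (0, (-1)), (0, 3), (0, 3), (0, (-1)), (0, 1), (0, (-3)), (0, 1), (0, 1)],
      [(0, 1), (0, 1), (0, (-1)), (0, 1), (0, 1), (0, (-1)), (0, 1), (0, (-1)), (0, (-1)), (0, 1), (0, 3), (0, (-3)), (0, (-1)), (0, (-1)), (0, 3), (0, 1), (0, (-3)), (0, 1), (0, (-3)), (0, 1), (0, (-1)), (0, (-1)), (0, (-1)), (0, (-1))],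
      [(0, (-1)), (0, (-1)), (0, 1), (0, (-1)), (0, (-1)), (0, (-3)), (0, (-1)), (0, 1), (0, 1), (0, (-1)), (0, (-3)), (0, (-1)), (0, 1), (0, 1), (0, 1), (0, 3), (0, (-1)), (0, (-1)), (0, (-1)), (0, (-1)), (0, (-3)), (0, 1), (0, (-3)), (0, 1)],
      [(0, (-1)), (0, (-5)), (0, 1), (0, (-1)), (0, (-1)), (0, 1), (0, (-1)), (0, (-3)), (0, 1), (0, (-1)), (0, 1), (0, (-1)), (0, (-3)), (0, 1), (0, 1), (0, (-1)), (0, (-1)), (0, (-1)), (0, (-1)), (0, (-1)), (0, 1), (0, 1), (0, 1), (0, 1)],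
      [(0, 1), (0, 1), (0, (-1)), (0, (-3)), (0, 1), (0, (-1)), (0, 1), (0, (-1)), (0, (-1)), (0, (-3)), (0, (-1)), (0, 1), (0, (-1)), (0, (-1)), (0, 3), (0, 1), (0, 1), (0, (-3)), (0, 1), (0, 1), (0, (-1)), (0, (-1)), (0, 3), (0, (-1))],
      [(0, (-1)), (0, (-1)), (0, 1), (0, 3), (0, (-1)), (0, 1), (0, (-1)), (0, 1), (0, (-3)), (0, (-1)), (0, 1), (0, (-1)), (0, 1), (0, (-3)), (0, 1), (0, 3), (0, (-1)), (0, (-1)), (0, 3), (0, (-1)), (0, 1), (0, 1), (0, 1), (0, 1)],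
      [(0, (-1)), (0, (-1)), (0, 1), (0, 3), (0, (-1)), (0, 1), (0, (-1)), (0, 1), (0, 1), (0, (-1)), (0, 1), (0, (-1)), (0, 1), (0, 1), (0, 1), (0, (-1)), (0, 3), (0, (-1)), (0, (-1)), (0, 3), (0, (-3)), (0, (-3)), (0, 1), (0, 1)],
      [(0, (-1)), (0, (-1)), (0, 1), (0, (-1)), (0, (-1)), (0, 1), (0, 3), (0, 1), (0, 1), (0, (-1)), (0, (-3)), (0, (-1)), (0, 1), (0, (-3)), (0, 1), (0, (-1)), (0, (-1)), (0, 3), (0, (-1)), (0, 3), (0, 1), (0, 1), (0, 1), (0, 1)],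
      [(0, (-1)), (0, 3), (0, 1), (0, (-1)), (0, (-1)), (0, 1), (0, (-1)), (0, 5), (0, 1), (0, (-1)), (0, 1), (0, (-1)), (0, (-3)), (0, 1), (0, 1), (0, (-1)), (0, (-1)), (0, (-1)), (0, (-1)), (0, (-1)), (0, 1), (0, 1), (0, 1), (0, 1)],
      [(0, (-1)), (0, (-1)), (0, (-3)), (0, (-1)), (0, (-1)), (0, 1), (0, 3), (0, 1), (0, 1), (0, 3), (0, 1), (0, (-1)), (0, 1), (0, 1), (0, 1), (0, (-1)), (0, (-1)), (0, (-1)), (0, 3), (0, (-1)), (0, (-3)), (0, 1), (0, 1), (0, 1)],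
      [(0, (-1)), (0, (-1)), (0, (-3)), (0, (-1)), (0, (-1)), (0, (-3)), (0, (-1)), (0, 1), (0, (-3)), (0, (-1)), (0, 1), (0, (-1)), (0, 1), (0, 1), (0, (-3)), (0, (-1)), (0, (-1)), (0, (-1)), (0, (-1)), (0, 3), (0, 1), (0, 1), (0, 1), (0, 1)],
      [(0, 1), (0, 1), (0, (-1)), (0, 1), (0, (-3)), (0, 3), (0, 1), (0, (-1)), (0, (-1)), (0, (-3)), (0, (-1)), (0, 1), (0, (-1)), (0, 3), (0, (-1)), (0, 1), (0, (-3)), (0, 1), (0, 1), (0, 1), (0, (-1)), (0, (-1)), (0, (-1)), (0, (-1))],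
      [(0, (-1)), (0, (-1)), (0, 1), (0, (-1)), (0, 3), (0, 1), (0, (-1)), (0, 1), (0, 1), (0, (-1)), (0, 1), (0, (-1)), (0, 1), (0, 1), (0, 1), (0, (-1)), (0, (-1)), (0, (-1)), (0, 3), (0, 3), (0, 1), (0, 1), (0, (-3)), (0, (-3))],
      [(0, 1), (0, 1), (0, (-1)), (0, 1), (0, (-3)), (0, (-1)), (0, 1), (0, (-1)), (0, 3), (0, 1), (0, (-1)), (0, (-3)), (0, (-1)), (0, (-1)), (0, (-1)), (0, 1), (0, 1), (0, (-3)), (0, 1), (0, 1), (0, 3), (0, (-1)), (0, (-1)), (0, (-1))],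
      [(0, (-3)), (0, 1), (0, (-1)), (0, 1), (0, 1), (0, (-1)), (0, 1), (0, (-1)), (0, (-1)), (0, (-3)), (0, (-1)), (0, (-3)), (0, (-1)), (0, (-1)), (0, (-1)), (0, (-3)), (0, 1), (0, 1), (0, 1), (0, (-3)), (0, (-1)), (0, (-1)), (0, (-1)), (0, (-1))],
      [(0, 3), (0, (-1)), (0, 1), (0, (-1)), (0, (-1)), (0, 1), (0, (-1)), (0, 1), (0, 1), (0, (-1)), (0, 1), (0, (-1)), (0, 1), (0, (-3)), (0, (-3)), (0, (-1)), (0, (-1)), (0, (-1)), (0, (-1)), (0, (-1)), (0, (-3)), (0, 1), (0, 1), (0, (-3))],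
      [(0, 1), (0, 1), (0, 3), (0, 1), (0, 1), (0, (-1)), (0, 1), (0, (-1)), (0, (-1)), (0, 1), (0, (-1)), (0, 1), (0, (-1)), (0, (-1)), (0, (-1)), (0, (-3)), (0, (-3)), (0, (-3)), (0, 1), (0, 1), (0, (-1)), (0, (-1)), (0, (-1)), (0, 3)],
      [(0, (-1)), (0, (-1)), (0, 1), (0, 3), (0, (-1)), (0, (-3)), (0, 3), (0, 1), (0, 1), (0, (-1)), (0, 1), (0, 3), (0, 1), (0, 1), (0, 1), (0, (-1)), (0, (-1)), (0, (-1)), (0, (-1)), (0, (-1)), (0, 1), (0, 1), (0, 1), (0, (-3))],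
      [(0, 3), (0, (-1)), (0, 1), (0, (-1)), (0, (-1)), (0, 1), (0, 3), (0, 1), (0, (-3)), (0, (-1)), (0, 1), (0, (-1)), (0, 1), (0, 1), (0, 1), (0, (-1)), (0, 3), (0, (-1)), (0, (-1)), (0, (-1)), (0, 1), (0, 1), (0, (-3)), (0, 1)],
      [(0, 3), (0, (-1)), (0, (-3)), (0, 3), (0, 3), (0, 1), (0, (-1)), (0, 1), (0, 1), (0, (-1)), (0, (-3)), (0, (-1)), (0, 1), (0, 1), (0, 1), (0, (-1)), (0, (-1)), (0, (-1)), (0, (-1)), (0, (-1)), (0, 1), (0, 1), (0, 1), (0, 1)]]),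
    ([[(0, (-2)), (0, 2), (5, (-2)), (0, 2), (2, 2), (0, (-2)), (0, 2), (0, 2), (2, (-2)), (0, (-2)), (0, 2), (2, 2), (0, 4)],
      [(2, 2), (0, 2), (0, 2), (0, 2), (0, (-2)), (2, 2), (0, (-2)), (4, (-2)), (0, 2), (0, 4), (2, 2), (0, 2), (1, 2)],
      [(2, 2), (0, (-2)), (0, 2), (0, (-2)), (0, (-2)), (2, (-2)), (0, 2), (3, (-4)), (0, 2), (0, 2), (3, (-2)), (0, 2), (1, 2)],
      [(0, (-2)), (0, 2), (5, (-2)), (0, (-2)), (2, (-2)), (0, (-2)), (0, 2), (0, 2), (2, 2), (0, 2), (0, (-2)), (0, (-4)), (1, (-2))],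
      [(2, 2), (0, 2), (0, (-2)), (0, 2), (0, (-2)), (2, (-2)), (0, 2), (0, 4), (3, (-2)), (0, 2), (3, (-2)), (0, (-2)), (1, (-2))],
      [(2, 2), (0, 2), (0, (-2)), (0, (-2)), (0, 2), (2, (-2)), (0, 2), (4, (-2)), (0, (-2)), (2, (-4)), (0, 2), (0, 2), (1, 2)],
      [(2, (-2)), (0, 2), (0, 2), (0, (-2)), (0, (-2)), (2, 2), (0, 2), (4, (-2)), (0, (-2)), (3, (-2)), (0, 2), (0, 4), (0, (-2))],
      [(0, (-2)), (0, (-2)), (1, 4), (3, (-2)), (0, 2), (2, (-2)), (0, (-2)), (0, (-2)), (0, (-2)), (2, (-2)), (0, 2), (0, 2), (2, (-2))],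
      [(0, (-2)), (0, (-2)), (3, (-4)), (1, (-2)), (0, (-2)), (2, 2), (0, 2), (0, (-2)), (0, 2), (2, 2), (0, (-2)), (0, 2), (2, (-2))],
      [(1, (-4)), (0, (-2)), (0, (-2)), (0, (-2)), (0, 2), (0, (-2)), (2, (-2)), (0, (-2)), (4, (-2)), (0, (-2)), (3, (-2)), (0, 2), (1, 2)],
      [(0, (-2)), (0, (-2)), (5, 2), (0, (-2)), (2, (-2)), (0, (-2)), (0, (-2)), (0, 2), (1, 4), (0, (-2)), (0, (-2)), (0, (-2)), (2, 2)],
      [(0, 2), (0, 2), (2, (-4)), (2, (-2)), (0, (-2)), (2, (-2)), (0, (-2)), (0, (-2)), (0, (-2)), (2, 2), (0, (-2)), (0, 2), (2, 2)],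
      [(2, 2), (0, 2), (0, (-2)), (0, (-2)), (0, (-2)), (0, 4), (1, 2), (0, (-2)), (4, 2), (0, (-2)), (3, (-2)), (0, (-2)), (1, 2)],
      [(0, (-2)), (0, 2), (0, (-4)), (4, 2), (0, 2), (2, 2), (0, (-2)), (0, (-2)), (0, (-2)), (2, 2), (0, (-2)), (0, (-2)), (2, (-2))],
      [(0, (-2)), (0, (-2)), (4, 4), (0, 2), (0, (-2)), (2, 2), (0, (-2)), (0, 2), (0, (-2)), (2, 2), (0, 2), (0, 2), (2, 2)],
      [(2, 2), (0, (-2)), (0, 2), (0, 2), (0, 2), (2, 2), (0, 2), (2, (-4)), (1, (-2)), (0, (-2)), (3, (-2)), (0, (-2)), (1, 2)],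
      [(2, 2), (0, 2), (0, 2), (0, 2), (0, 2), (2, (-2)), (0, (-2)), (4, 2), (0, (-2)), (1, (-4)), (1, (-2)), (0, 2), (1, (-2))],
      [(0, 4), (1, (-2)), (0, 2), (0, 2), (0, (-2)), (0, 2), (2, (-2)), (0, (-2)), (4, (-2)), (0, 2), (3, (-2)), (0, (-2)), (1, 2)],
      [(2, (-2)), (0, 2), (0, (-2)), (0, 2), (0, 2), (2, 2), (0, 2), (1, 4), (2, 2), (0, 2), (3, (-2)), (0, 2), (1, 2)],
      [(0, (-2)), (0, (-2)), (5, (-2)), (0, 2), (2, (-2)), (0, 2), (0, 2), (0, (-2)), (2, 2), (0, (-2)), (0, (-2)), (1, (-4)), (0, 2)],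
      [(0, 2), (0, (-2)), (5, (-2)), (0, (-2)), (0, 4), (1, 2), (0, (-2)), (0, 2), (0, (-2)), (2, (-2)), (0, (-2)), (0, (-2)), (2, (-2))],
      [(2, (-2)), (0, 2), (0, 2), (0, 2), (0, (-2)), (1, (-4)), (0, (-2)), (0, 2), (4, 2), (0, (-2)), (3, 2), (0, (-2)), (1, 2)],
      [(0, 2), (0, (-2)), (5, (-2)), (0, 2), (2, 2), (0, (-2)), (0, (-2)), (0, 2), (0, 4), (1, 2), (0, 2), (0, (-2)), (2, 2)],
      [(0, (-2)), (0, 2), (5, (-2)), (0, (-2)), (1, (-4)), (0, 2), (0, 2), (0, (-2)), (0, (-2)), (2, (-2)), (0, 2), (0, (-2)), (2, 2)]],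
     [[(0, (-2)), (2, (-2)), (3, (-2)), (0, (-2)), (1, (-2)), (0, 2), (1, (-2)), (0, (-2)), (2, 4), (1, (-2)), (0, 2), (1, 2), (0, (-2))],
      [(0, 2), (2, 2), (3, (-2)), (0, (-2)), (0, (-4)), (0, (-2)), (0, 2), (1, 2), (0, (-2)), (4, (-2)), (0, (-2)), (1, (-2)), (0, 2)],
      [(1, 2), (0, 2), (1, 2), (0, 2), (0, (-2)), (2, (-2)), (2, 2), (0, (-4)), (1, 2), (0, 2), (0, (-2)), (0, (-2)), (2, (-2))],
      [(1, 2), (0, (-2)), (1, 2), (0, 2), (0, 2), (0, 4), (1, (-2)), (2, 2), (2, (-2)), (0, 2), (0, 2), (0, 2), (2, 2)],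
      [(1, 2), (0, 2), (1, (-2)), (0, (-2)), (0, 2), (2, (-2)), (1, (-4)), (0, (-2)), (2, 2), (0, 2), (0, 2), (0, (-2)), (2, 2)],
      [(1, 2), (0, (-2)), (1, 2), (0, (-2)), (0, (-2)), (1, (-4)), (0, 2), (2, (-2)), (2, 2), (0, 2), (0, (-2)), (0, 2), (2, 2)],
      [(1, (-2)), (0, (-2)), (1, (-2)), (0, 2), (0, (-2)), (2, (-2)), (2, (-2)), (1, 4), (0, 2), (0, 2), (0, 2), (0, 2), (2, (-2))],
      [(0, (-2)), (2, (-2)), (3, (-2)), (0, (-2)), (1, 2), (0, (-2)), (0, 4), (0, 2), (0, 2), (4, (-2)), (0, (-2)), (1, (-2)), (0, (-2))],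
      [(0, 2), (2, (-2)), (3, 2), (0, (-2)), (1, (-2)), (0, (-2)), (1, 2), (0, (-2)), (4, 2), (0, (-2)), (0, (-4)), (0, 2), (0, (-2))],
      [(1, 2), (0, (-2)), (1, (-2)), (0, (-2)), (0, 2), (2, (-2)), (2, 2), (2, 2), (0, (-2)), (0, (-2)), (0, 2), (1, 4), (0, (-2))],
      [(1, (-2)), (0, 2), (1, 2), (0, 2), (0, 2), (2, (-2)), (2, (-2)), (2, 2), (0, (-2)), (0, (-2)), (0, 2), (2, 2), (1, (-4))],
      [(0, 2), (2, (-2)), (0, 4), (2, (-2)), (0, 2), (1, (-2)), (0, (-2)), (1, 2), (0, 2), (4, (-2)), (0, 2), (1, 2), (0, 2)],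
      [(0, (-2)), (2, (-2)), (3, (-2)), (0, 2), (1, (-2)), (0, (-2)), (1, (-2)), (0, (-2)), (3, 4), (0, 2), (0, (-2)), (1, (-2)), (0, 2)],
      [(0, 2), (2, 2), (3, (-2)), (0, (-2)), (1, (-2)), (0, (-2)), (1, (-2)), (0, 2), (0, (-4)), (3, 2), (0, 2), (1, (-2)), (0, (-2))],
      [(0, 2), (1, (-4)), (0, 2), (3, (-2)), (0, 2), (1, 2), (0, (-2)), (1, (-2)), (0, (-2)), (4, (-2)), (0, (-2)), (1, 2), (0, (-2))],
      [(1, (-2)), (0, 2), (1, (-2)), (0, (-2)), (0, (-2)), (2, (-2)), (2, 2), (2, (-2)), (0, 2), (0, (-2)), (0, 2), (2, 2), (0, 4)],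
      [(1, 2), (0, 2), (1, 2), (0, (-2)), (0, (-2)), (2, (-2)), (0, 4), (1, (-2)), (2, (-2)), (0, (-2)), (0, 2), (0, 2), (2, (-2))],
      [(0, (-2)), (0, 4), (1, 2), (3, (-2)), (0, 2), (1, (-2)), (0, 2), (1, 2), (0, 2), (4, 2), (0, (-2)), (1, 2), (0, (-2))],
      [(0, (-2)), (2, 2), (3, 2), (0, (-2)), (1, (-2)), (0, (-2)), (1, (-2)), (0, 2), (1, (-4)), (2, (-2)), (0, (-2)), (1, 2), (0, 2)],
      [(0, 2), (2, (-2)), (1, (-4)), (1, 2), (0, 2), (1, (-2)), (0, 2), (1, (-2)), (0, 2), (4, (-2)), (0, (-2)), (1, (-2)), (0, (-2))],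
      [(1, 2), (0, (-2)), (0, (-4)), (0, (-2)), (0, 2), (0, (-2)), (2, (-2)), (2, (-2)), (2, (-2)), (0, (-2)), (0, (-2)), (0, (-2)), (2, 2)],
      [(1, 2), (0, 2), (1, (-2)), (0, 2), (0, 2), (2, 2), (2, (-2)), (2, (-2)), (0, 2), (0, (-2)), (0, 2), (0, (-4)), (1, (-2))],
      [(0, 2), (2, (-2)), (2, 4), (0, (-2)), (0, (-2)), (1, 2), (0, 2), (1, (-2)), (0, 2), (4, 2), (0, (-2)), (1, 2), (0, 2)],
      [(0, 4), (0, 2), (0, 2), (1, (-2)), (0, 2), (0, (-2)), (2, 2), (2, 2), (2, 2), (0, (-2)), (0, 2), (0, 2), (2, 2)]])]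

/-- part of the generators and their transposes -/
def threeW1 : List (List (List (ℕ × ℤ)) × List (List (ℕ × ℤ))) :=
  [([[(1, 2), (3, 2), (0, 2), (2, (-2)), (0, (-2)), (3, (-2)), (0, 2), (0, 2), (2, (-2)), (0, 2), (0, 4), (0, 2), (0, (-2))],
      [(0, 2), (1, 2), (0, 2), (0, 2), (2, (-2)), (0, (-2)), (2, (-2)), (0, 2), (0, 2), (3, (-2)), (0, 2), (2, (-2)), (1, (-4))],
      [(1, (-2)), (1, 4), (1, 2), (0, (-2)), (2, 2), (0, (-2)), (3, 2), (0, 2), (0, 2), (2, (-2)), (0, (-2)), (1, 2), (0, 2)],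
      [(0, (-2)), (1, 2), (0, (-2)), (0, 2), (1, (-4)), (0, (-2)), (0, (-2)), (2, 2), (0, 2), (0, 2), (3, 2), (0, (-2)), (2, 2)],
      [(0, 2), (1, 2), (0, 2), (0, (-2)), (2, (-2)), (0, 2), (2, (-2)), (0, (-2)), (0, 2), (1, (-4)), (1, 2), (0, (-2)), (2, 2)],
      [(1, (-2)), (3, (-2)), (0, (-2)), (2, (-2)), (0, 2), (3, (-2)), (0, (-2)), (0, 2), (0, (-4)), (1, (-2)), (0, 2), (1, 2), (0, 2)],
      [(0, (-2)), (0, 4), (0, (-2)), (0, 2), (0, 2), (2, (-2)), (0, 2), (2, 2), (0, (-2)), (0, 2), (3, (-2)), (0, (-2)), (2, (-2))],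
      [(1, 2), (3, (-2)), (0, 2), (1, (-4)), (0, 2), (0, (-2)), (3, (-2)), (0, (-2)), (0, 2), (2, (-2)), (0, (-2)), (1, (-2)), (0, 2)],
      [(1, (-2)), (3, (-2)), (0, (-2)), (2, 2), (0, (-2)), (1, (-4)), (1, (-2)), (0, 2), (0, 2), (2, 2), (0, 2), (1, (-2)), (0, (-2))],
      [(0, (-2)), (1, (-2)), (0, 2), (0, (-2)), (2, 2), (0, (-2)), (2, (-2)), (0, 2), (0, 2), (3, 2), (0, (-2)), (1, 4), (0, (-2))],
      [(0, (-2)), (1, 2), (0, 2), (0, (-2)), (2, 2), (0, (-2)), (2, 2), (0, (-2)), (0, 2), (2, (-4)), (0, (-2)), (0, 2), (2, 2)],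
      [(0, 2), (1, (-2)), (0, (-2)), (0, 2), (2, 2), (0, (-2)), (2, (-2)), (0, (-2)), (0, 2), (0, 4), (2, (-2)), (0, (-2)), (2, 2)],
      [(1, (-2)), (3, (-2)), (0, 2), (0, (-4)), (1, (-2)), (0, (-2)), (3, 2), (0, 2), (0, (-2)), (2, (-2)), (0, 2), (1, (-2)), (0, 2)],
      [(1, 2), (3, (-2)), (0, (-2)), (2, 2), (0, (-2)), (2, (-4)), (0, 2), (0, (-2)), (0, (-2)), (2, (-2)), (0, 2), (1, 2), (0, (-2))],
      [(0, 4), (0, 2), (3, 2), (0, (-2)), (2, 2), (0, 2), (3, (-2)), (0, 2), (0, (-2)), (2, (-2)), (0, 2), (1, (-2)), (0, 2)],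
      [(1, (-2)), (2, 4), (0, 2), (0, 2), (2, 2), (0, (-2)), (3, (-2)), (0, (-2)), (0, (-2)), (2, 2), (0, 2), (1, 2), (0, 2)],
      [(0, (-2)), (1, (-2)), (0, 2), (0, 2), (2, (-2)), (0, (-2)), (1, 4), (0, (-2)), (0, (-2)), (0, (-2)), (3, 2), (0, 2), (2, 2)],
      [(1, (-2)), (3, 2), (0, 2), (2, 2), (0, 2), (0, 4), (2, 2), (0, (-2)), (0, 2), (2, (-2)), (0, 2), (1, (-2)), (0, (-2))],
      [(1, 2), (0, 4), (2, (-2)), (0, 2), (2, 2), (0, 2), (3, 2), (0, 2), (0, 2), (2, 2), (0, 2), (1, 2), (0, 2)],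
      [(0, (-2)), (1, 2), (0, (-2)), (0, 2), (2, 2), (0, 2), (2, (-2)), (0, (-2)), (0, 2), (3, 2), (0, 2), (0, (-4)), (1, (-2))],
      [(0, (-2)), (1, 2), (0, 2), (0, 2), (2, 2), (0, 2), (2, (-2)), (0, 2), (0, (-2)), (3, (-2)), (0, (-2)), (2, 2), (0, (-4))],
      [(0, (-2)), (1, 2), (0, (-2)), (0, (-2)), (0, 4), (1, (-2)), (0, (-2)), (2, (-2)), (0, (-2)), (0, (-2)), (3, (-2)), (0, (-2)), (2, (-2))],
      [(0, (-2)), (1, (-2)), (0, (-2)), (0, (-2)), (2, (-2)), (0, 2), (0, 4), (1, (-2)), (0, 2), (0, 2), (3, (-2)), (0, 2), (2, 2)],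
      [(1, (-2)), (3, (-2)), (0, 2), (2, 2), (0, 2), (3, (-2)), (0, 2), (0, (-2)), (1, (-4)), (0, (-2)), (0, (-2)), (1, 2), (0, (-2))]],
     [[(1, 2), (1, (-2)), (0, 2), (1, (-2)), (2, (-2)), (0, (-2)), (0, 2), (2, 4), (1, (-2)), (2, (-2)), (0, (-2)), (0, (-2)), (0, (-2))],
      [(0, 2), (1, (-2)), (2, (-2)), (0, 4), (0, 2), (0, (-2)), (3, (-2)), (0, 2), (0, 2), (0, (-2)), (1, (-2)), (0, 2), (4, (-2))],
      [(1, 2), (1, 2), (0, 2), (1, (-2)), (2, (-2)), (0, 2), (0, (-2)), (4, (-2)), (1, 4), (0, 2), (0, 2), (0, 2), (0, (-2))],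
      [(1, 2), (0, 4), (0, (-2)), (0, 2), (1, 2), (2, 2), (0, 2), (0, (-2)), (4, 2), (2, (-2)), (0, 2), (0, (-2)), (0, (-2))],
      [(1, 2), (1, 2), (0, (-2)), (1, 2), (2, (-2)), (0, (-2)), (0, 2), (3, 4), (0, 2), (2, 2), (0, 2), (0, (-2)), (0, (-2))],
      [(0, 2), (1, 2), (2, (-2)), (1, (-2)), (0, (-2)), (3, (-2)), (0, (-2)), (0, 2), (0, 2), (1, 2), (0, (-2)), (2, 4), (1, (-2))],
      [(0, 2), (1, (-2)), (0, (-4)), (1, (-2)), (1, 2), (0, (-2)), (3, 2), (0, (-2)), (0, (-2)), (0, 2), (1, 2), (0, 2), (4, 2)],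
      [(1, (-2)), (1, (-2)), (0, (-2)), (1, (-2)), (2, 2), (0, 2), (0, 2), (0, (-4)), (3, (-2)), (2, 2), (0, 2), (0, (-2)), (0, (-2))],
      [(1, (-2)), (1, (-2)), (0, 2), (1, 2), (0, (-4)), (1, (-2)), (0, (-2)), (0, (-2)), (4, (-2)), (2, 2), (0, 2), (0, (-2)), (0, 2)],
      [(0, (-2)), (1, 2), (2, (-2)), (1, 2), (0, 2), (3, (-2)), (0, 2), (0, 2), (0, 2), (1, 2), (0, 2), (3, 4), (0, 2)],
      [(0, (-2)), (1, (-2)), (2, 2), (1, (-2)), (0, (-2)), (3, (-2)), (0, (-2)), (0, 2), (0, (-2)), (0, 4), (0, 2), (0, 2), (4, 2)],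
      [(1, (-2)), (1, 2), (0, (-2)), (1, 2), (2, (-2)), (0, 2), (0, (-2)), (4, (-2)), (0, 4), (1, (-2)), (0, (-2)), (0, (-2)), (0, (-2))],
      [(1, 2), (1, 2), (0, (-2)), (1, (-2)), (1, (-4)), (0, 2), (0, (-2)), (0, (-2)), (4, (-2)), (2, (-2)), (0, 2), (0, (-2)), (0, 2)],
      [(1, 2), (1, 2), (0, 2), (1, 2), (2, 2), (0, 2), (0, 2), (1, (-4)), (2, (-2)), (2, 2), (0, (-2)), (0, (-2)), (0, 2)],
      [(0, (-2)), (1, 2), (2, (-2)), (1, (-2)), (0, (-2)), (2, 4), (0, 2), (0, 2), (0, (-2)), (0, (-2)), (1, 2), (0, 2), (4, (-2))],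
      [(0, 2), (1, 2), (1, (-4)), (0, (-2)), (1, (-2)), (0, 2), (3, 2), (0, (-2)), (0, 2), (0, (-2)), (1, (-2)), (0, 2), (4, 2)],
      [(0, 2), (1, 2), (2, 2), (1, 2), (0, 2), (1, (-4)), (1, (-2)), (0, (-2)), (0, (-2)), (0, (-2)), (1, 2), (0, 2), (4, (-2))],
      [(1, (-2)), (1, 2), (0, 2), (0, (-4)), (0, (-2)), (2, 2), (0, (-2)), (0, (-2)), (4, 2), (2, 2), (0, (-2)), (0, (-2)), (0, (-2))],
      [(1, 2), (1, (-2)), (0, (-2)), (1, (-2)), (2, (-2)), (0, 2), (0, (-2)), (4, 2), (2, 2), (0, (-2)), (0, (-2)), (0, 2), (0, (-4))],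
      [(0, (-2)), (1, (-2)), (2, (-2)), (1, (-2)), (0, 2), (3, (-2)), (0, (-2)), (0, (-2)), (0, 2), (1, (-2)), (0, 2), (0, (-4)), (3, (-2))],
      [(0, 2), (1, (-2)), (2, 2), (1, (-2)), (0, 2), (0, 4), (2, 2), (0, 2), (0, 2), (0, 2), (1, 2), (0, 2), (4, (-2))],
      [(0, 4), (0, (-2)), (1, 2), (0, 2), (1, (-2)), (2, (-2)), (0, 2), (0, 2), (4, 2), (2, (-2)), (0, 2), (0, (-2)), (0, 2)],
      [(0, 2), (1, 2), (2, 2), (1, (-2)), (0, (-2)), (3, (-2)), (0, 2), (0, (-2)), (0, 2), (1, (-2)), (0, 2), (1, (-4)), (2, 2)],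
      [(0, (-2)), (0, (-4)), (0, 2), (2, 2), (1, 2), (0, (-2)), (3, 2), (0, (-2)), (0, 2), (0, 2), (1, (-2)), (0, 2), (4, (-2))]]),
    ([[(0, 4), (0, (-2)), (1, (-2)), (1, (-2)), (1, (-2)), (0, (-2)), (3, (-2)), (1, (-2)), (0, 2), (1, 2), (2, (-2)), (0, (-2)), (1, 2)],
      [(0, (-2)), (1, 2), (1, (-2)), (1, (-2)), (0, (-4)), (1, 2), (0, 2), (0, (-2)), (1, 2), (2, 2), (1, 2), (0, (-2)), (2, 2)],
      [(0, (-2)), (1, 2), (1, (-2)), (1, 2), (1, (-4)), (0, (-2)), (0, (-2)), (0, (-2)), (1, (-2)), (2, (-2)), (1, (-2)), (0, (-2)), (2, 2)],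
      [(1, 2), (1, 2), (1, 2), (1, (-2)), (0, 2), (0, (-4)), (2, 2), (1, (-2)), (0, 2), (1, 2), (2, 2), (0, (-2)), (1, 2)],
      [(1, (-2)), (1, 2), (0, 4), (0, (-2)), (1, (-2)), (0, (-2)), (3, 2), (1, 2), (0, 2), (1, (-2)), (2, 2), (0, 2), (1, 2)],
      [(0, (-2)), (1, 2), (1, (-2)), (1, (-2)), (2, 2), (0, (-2)), (0, 2), (1, (-2)), (1, 4), (0, 2), (1, (-2)), (0, 2), (2, (-2))],
      [(1, (-2)), (1, (-2)), (1, 2), (0, 4), (0, (-2)), (0, 2), (3, 2), (1, 2), (0, 2), (1, 2), (2, (-2)), (0, 2), (1, (-2))],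
      [(1, 2), (1, (-2)), (1, 2), (1, 2), (0, (-2)), (3, 2), (1, (-2)), (0, 2), (1, (-2)), (0, 4), (1, (-2)), (0, 2), (1, 2)],
      [(0, (-2)), (1, 2), (1, 2), (1, 2), (2, 2), (0, 2), (0, (-2)), (1, (-2)), (2, (-2)), (1, 2), (0, 2), (1, (-4)), (0, (-2))],
      [(0, (-2)), (1, (-2)), (1, (-2)), (1, 2), (2, 2), (0, 2), (0, 2), (1, 2), (2, (-2)), (1, (-2)), (0, (-2)), (2, (-2)), (0, 4)],
      [(0, 2), (1, (-2)), (1, (-2)), (1, (-2)), (2, 2), (0, 2), (0, (-2)), (0, 4), (0, (-2)), (2, (-2)), (1, (-2)), (0, 2), (2, 2)],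
      [(1, (-2)), (1, (-2)), (1, 2), (1, (-2)), (0, (-2)), (2, 4), (0, 2), (1, (-2)), (0, (-2)), (1, (-2)), (2, 2), (0, (-2)), (1, (-2))],
      [(0, (-2)), (1, (-2)), (1, 2), (1, 2), (2, 2), (0, (-2)), (0, (-2)), (1, 2), (0, (-4)), (1, 2), (1, (-2)), (0, 2), (2, 2)],
      [(1, 2), (1, (-2)), (1, (-2)), (1, 2), (0, (-2)), (3, 2), (0, 4), (0, 2), (0, 2), (1, 2), (2, 2), (0, (-2)), (1, (-2))],
      [(1, 2), (1, (-2)), (1, (-2)), (1, (-2)), (0, 2), (1, (-4)), (1, 2), (1, 2), (0, (-2)), (1, (-2)), (2, (-2)), (0, (-2)), (1, 2)],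
      [(1, (-2)), (1, 2), (1, (-2)), (1, 2), (0, 2), (3, 2), (1, (-2)), (0, 2), (1, (-2)), (1, (-4)), (0, (-2)), (0, (-2)), (1, (-2))],
      [(1, (-2)), (1, 2), (1, 2), (1, 2), (0, (-2)), (3, 2), (1, 2), (0, (-2)), (0, 4), (0, 2), (2, (-2)), (0, (-2)), (1, 2)],
      [(1, 2), (1, 2), (1, (-2)), (1, (-2)), (0, (-2)), (3, 2), (1, (-2)), (0, (-2)), (1, 2), (2, (-2)), (0, 2), (0, (-4)), (0, (-2))],
      [(0, (-2)), (0, (-4)), (0, (-2)), (1, (-2)), (1, (-2)), (2, (-2)), (0, (-2)), (0, (-2)), (1, 2), (2, (-2)), (1, 2), (0, 2), (2, (-2))],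
      [(0, (-2)), (1, (-2)), (1, (-2)), (0, (-4)), (0, 2), (2, (-2)), (0, 2), (0, 2), (1, (-2)), (2, 2), (1, 2), (0, 2), (2, 2)],
      [(0, (-2)), (1, (-2)), (1, 2), (1, (-2)), (2, 2), (0, (-2)), (0, 2), (1, (-2)), (2, (-2)), (0, 4), (0, 2), (0, (-2)), (2, 2)],
      [(1, (-2)), (0, 4), (0, (-2)), (1, (-2)), (1, 2), (0, 2), (3, 2), (1, (-2)), (0, (-2)), (1, 2), (2, 2), (0, 2), (1, 2)],
      [(0, (-2)), (1, 2), (1, 2), (1, (-2)), (2, (-2)), (0, 2), (0, 2), (1, 2), (2, (-2)), (1, (-2)), (0, 2), (0, (-4)), (1, 2)],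
      [(0, (-2)), (1, (-2)), (0, (-4)), (0, 2), (1, (-2)), (2, (-2)), (0, 2), (0, (-2)), (1, (-2)), (2, 2), (1, (-2)), (0, (-2)), (2, (-2))]],
     [[(0, 4), (0, (-2)), (0, (-2)), (2, (-2)), (2, (-2)), (0, (-2)), (0, 2), (1, (-2)), (5, (-2)), (0, (-2)), (0, (-2)), (1, (-2)), (0, (-2))],
      [(0, (-2)), (2, 2), (0, (-2)), (1, (-2)), (0, 2), (3, (-2)), (1, 2), (0, 2), (0, (-2)), (0, (-2)), (0, 2), (0, (-4)), (2, (-2))],
      [(1, 2), (0, 2), (2, 2), (2, 2), (0, (-2)), (0, (-2)), (1, (-2)), (5, (-2)), (0, (-2)), (0, (-2)), (0, 4), (0, 2), (0, (-2))],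
      [(0, (-2)), (2, 2), (0, 2), (1, (-2)), (0, (-2)), (3, (-2)), (1, (-2)), (0, (-2)), (0, 2), (0, 2), (0, 2), (3, (-2)), (1, (-4))],
      [(1, (-2)), (0, (-2)), (1, 4), (0, (-2)), (2, 2), (0, (-2)), (0, (-2)), (1, 2), (5, (-2)), (0, (-2)), (0, 2), (1, 2), (0, 2)],
      [(0, (-2)), (2, 2), (0, (-2)), (1, 2), (0, 2), (3, 2), (1, (-2)), (0, (-2)), (0, (-2)), (0, 2), (0, (-2)), (1, (-4)), (1, (-2))],
      [(1, (-2)), (0, 2), (2, (-2)), (0, 4), (1, 2), (0, 2), (0, (-2)), (1, 2), (5, (-2)), (0, 2), (0, (-2)), (1, (-2)), (0, (-2))],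
      [(0, (-2)), (0, (-4)), (1, (-2)), (0, (-2)), (1, (-2)), (0, 2), (3, (-2)), (1, 2), (0, (-2)), (0, 2), (0, 2), (0, (-2)), (3, 2)],
      [(0, (-2)), (1, (-4)), (0, 2), (0, (-2)), (1, 2), (0, (-2)), (3, (-2)), (1, (-2)), (0, 2), (0, 2), (0, (-2)), (0, (-2)), (3, 2)],
      [(1, 2), (0, (-2)), (0, (-4)), (1, 2), (2, 2), (0, 2), (0, 2), (1, 2), (5, (-2)), (0, (-2)), (0, 2), (1, (-2)), (0, (-2))],
      [(1, 2), (0, (-2)), (2, (-2)), (2, 2), (0, 2), (0, 2), (1, (-2)), (1, (-4)), (3, (-2)), (0, 2), (0, (-2)), (1, 2), (0, 2)],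
      [(1, (-2)), (0, (-2)), (2, 2), (2, (-2)), (0, 2), (0, (-2)), (0, 4), (0, (-2)), (5, (-2)), (0, 2), (0, 2), (1, 2), (0, (-2))],
      [(0, (-2)), (2, 2), (0, 2), (1, 2), (0, 2), (2, 4), (0, 2), (1, 2), (0, 2), (0, 2), (0, 2), (0, 2), (3, 2)],
      [(1, 2), (0, (-2)), (2, (-2)), (2, (-2)), (0, 2), (0, (-2)), (1, 2), (0, 4), (4, 2), (0, (-2)), (0, (-2)), (1, 2), (0, (-2))],
      [(0, (-2)), (2, (-2)), (0, 2), (1, 2), (0, (-2)), (3, (-2)), (0, (-4)), (0, 2), (0, 2), (0, (-2)), (0, 2), (0, (-2)), (3, (-2))],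
      [(0, 2), (2, 2), (0, 2), (0, 4), (0, 2), (0, 2), (3, (-2)), (1, 2), (0, (-2)), (0, 2), (0, (-2)), (0, (-2)), (3, (-2))],
      [(1, 2), (0, (-2)), (2, 2), (2, (-2)), (0, (-2)), (0, (-2)), (1, 2), (3, 4), (1, (-2)), (0, 2), (0, (-2)), (1, (-2)), (0, 2)],
      [(0, 2), (2, 2), (0, (-2)), (1, 2), (0, (-2)), (3, (-2)), (1, 2), (0, (-2)), (0, (-2)), (0, 2), (0, 2), (2, 4), (0, 2)],
      [(1, 2), (0, (-2)), (2, (-2)), (1, 4), (0, 2), (0, (-2)), (0, (-2)), (1, (-2)), (5, 2), (0, 2), (0, 2), (1, (-2)), (0, (-2))],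
      [(1, (-2)), (0, (-2)), (2, 2), (2, 2), (0, (-2)), (0, 2), (1, 2), (2, (-4)), (2, 2), (0, 2), (0, (-2)), (1, 2), (0, (-2))],
      [(0, (-2)), (2, 2), (0, 2), (1, (-2)), (0, (-2)), (3, 2), (1, 2), (0, (-2)), (0, (-2)), (0, (-2)), (0, (-2)), (3, 2), (0, (-4))],
      [(0, (-2)), (2, (-2)), (0, 2), (1, 2), (0, 2), (0, (-4)), (2, (-2)), (1, (-2)), (0, (-2)), (0, (-2)), (0, (-2)), (0, 2), (3, 2)],
      [(1, 2), (0, 2), (2, (-2)), (2, (-2)), (0, (-2)), (0, 2), (1, 2), (4, (-4)), (0, (-2)), (0, 2), (0, 2), (1, 2), (0, (-2))],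
      [(0, 2), (2, 2), (0, 2), (1, (-2)), (0, 2), (1, 4), (1, (-2)), (1, (-2)), (0, 2), (0, (-2)), (0, 2), (0, (-2)), (3, 2)]])]

/-- part of the generators and their transposes -/
def threeW2 : List (List (List (ℕ × ℤ)) × List (List (ℕ × ℤ))) :=
  [([[(0, (-3)), (0, 1), (0, 1), (0, 1), (0, (-1)), (0, 1), (0, 1), (0, 1), (0, 1), (0, (-5)), (0, 1), (0, (-1)), (0, (-1)), (0, 1), (0, (-1)), (0, (-1)), (0, (-1)), (0, (-1)), (0, 1), (0, 1), (0, 1), (0, 1), (0, 1), (0, (-3))],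
      [(0, 1), (0, 1), (0, 1), (0, 1), (0, 3), (0, 1), (0, 1), (0, 1), (0, 1), (0, (-1)), (0, 1), (0, 3), (0, (-1)), (0, 1), (0, (-1)), (0, 3), (0, (-1)), (0, (-1)), (0, (-3)), (0, 1), (0, 1), (0, 1), (0, (-3)), (0, 1)],
      [(0, (-1)), (0, (-1)), (0, (-1)), (0, (-1)), (0, 1), (0, 3), (0, (-1)), (0, (-1)), (0, 3), (0, 1), (0, 3), (0, 1), (0, 1), (0, (-1)), (0, 1), (0, 1), (0, 1), (0, (-3)), (0, 3), (0, (-1)), (0, (-1)), (0, (-1)), (0, (-1)), (0, (-1))],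
      [(0, (-1)), (0, (-1)), (0, (-1)), (0, (-1)), (0, 1), (0, (-1)), (0, (-1)), (0, 3), (0, (-1)), (0, 1), (0, (-1)), (0, 1), (0, 1), (0, (-1)), (0, (-3)), (0, (-3)), (0, 1), (0, (-3)), (0, (-1)), (0, (-1)), (0, (-1)), (0, 3), (0, (-1)), (0, (-1))],
      [(0, 1), (0, 1), (0, 1), (0, (-3)), (0, (-1)), (0, 1), (0, 1), (0, 1), (0, 1), (0, (-1)), (0, 1), (0, (-1)), (0, (-1)), (0, (-3)), (0, (-1)), (0, (-1)), (0, (-1)), (0, 3), (0, 1), (0, 1), (0, (-3)), (0, 1), (0, (-3)), (0, 1)],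
      [(0, 1), (0, 1), (0, (-3)), (0, (-3)), (0, 3), (0, 1), (0, 1), (0, 1), (0, (-3)), (0, (-1)), (0, 1), (0, (-1)), (0, (-1)), (0, 1), (0, (-1)), (0, (-1)), (0, (-1)), (0, (-1)), (0, 1), (0, 1), (0, 1), (0, (-3)), (0, 1), (0, 1)],
      [(0, 1), (0, 1), (0, 1), (0, 1), (0, (-1)), (0, 1), (0, (-3)), (0, 1), (0, 1), (0, (-1)), (0, (-3)), (0, (-1)), (0, (-1)), (0, 1), (0, (-1)), (0, (-1)), (0, 3), (0, (-1)), (0, 1), (0, 1), (0, 1), (0, (-3)), (0, (-3)), (0, 1)],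
      [(0, (-1)), (0, (-1)), (0, (-1)), (0, (-1)), (0, 1), (0, (-1)), (0, (-1)), (0, (-1)), (0, 3), (0, 1), (0, (-1)), (0, 1), (0, (-3)), (0, 3), (0, 1), (0, (-3)), (0, (-3)), (0, 1), (0, (-1)), (0, (-1)), (0, (-1)), (0, (-1)), (0, (-1)), (0, (-1))],
      [(0, 1), (0, 1), (0, (-3)), (0, 1), (0, (-1)), (0, 1), (0, 1), (0, 1), (0, 1), (0, (-1)), (0, 1), (0, 3), (0, (-1)), (0, 1), (0, (-1)), (0, (-1)), (0, 3), (0, 3), (0, 1), (0, (-3)), (0, 1), (0, 1), (0, 1), (0, 1)],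
      [(0, 3), (0, (-1)), (0, (-1)), (0, (-1)), (0, 1), (0, (-1)), (0, (-1)), (0, (-1)), (0, (-1)), (0, (-3)), (0, (-1)), (0, 1), (0, 1), (0, (-1)), (0, 1), (0, 1), (0, 1), (0, 1), (0, (-1)), (0, (-1)), (0, (-1)), (0, (-1)), (0, (-1)), (0, (-5))],
      [(0, (-1)), (0, (-1)), (0, 3), (0, (-1)), (0, 1), (0, (-1)), (0, 3), (0, (-1)), (0, (-1)), (0, 1), (0, (-1)), (0, 1), (0, 1), (0, 3), (0, (-3)), (0, 1), (0, 1), (0, 1), (0, 3), (0, (-1)), (0, (-1)), (0, (-1)), (0, (-1)), (0, (-1))],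
      [(0, 1), (0, 1), (0, 1), (0, 1), (0, 3), (0, (-3)), (0, 1), (0, 1), (0, 1), (0, (-1)), (0, 1), (0, (-1)), (0, (-1)), (0, 1), (0, 3), (0, (-1)), (0, 3), (0, (-1)), (0, 1), (0, 1), (0, (-3)), (0, 1), (0, 1), (0, 1)],
      [(0, 1), (0, (-3)), (0, 1), (0, 1), (0, (-1)), (0, 1), (0, 1), (0, 1), (0, (-3)), (0, (-1)), (0, 1), (0, (-1)), (0, (-1)), (0, 1), (0, 3), (0, (-1)), (0, (-1)), (0, (-1)), (0, 1), (0, (-3)), (0, 1), (0, 1), (0, (-3)), (0, 1)],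
      [(0, 1), (0, 1), (0, 1), (0, 1), (0, 3), (0, 1), (0, 1), (0, (-3)), (0, 1), (0, (-1)), (0, (-3)), (0, (-1)), (0, (-1)), (0, (-3)), (0, (-1)), (0, (-1)), (0, (-1)), (0, (-1)), (0, 1), (0, (-3)), (0, 1), (0, 1), (0, 1), (0, 1)],
      [(0, (-1)), (0, (-1)), (0, (-1)), (0, 3), (0, 1), (0, (-1)), (0, (-1)), (0, (-1)), (0, (-1)), (0, 1), (0, 3), (0, (-3)), (0, (-3)), (0, (-1)), (0, (-3)), (0, 1), (0, 1), (0, 1), (0, (-1)), (0, (-1)), (0, (-1)), (0, (-1)), (0, (-1)), (0, (-1))],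
      [(0, (-1)), (0, (-1)), (0, (-1)), (0, (-1)), (0, 1), (0, (-1)), (0, (-1)), (0, (-1)), (0, (-1)), (0, 1), (0, (-1)), (0, 1), (0, (-3)), (0, (-1)), (0, 1), (0, 1), (0, 1), (0, 1), (0, 3), (0, 3), (0, 3), (0, 3), (0, (-1)), (0, (-1))],
      [(0, 1), (0, 1), (0, 1), (0, (-3)), (0, (-1)), (0, (-3)), (0, (-3)), (0, 1), (0, 1), (0, (-1)), (0, 1), (0, (-1)), (0, (-1)), (0, 1), (0, (-1)), (0, 3), (0, (-1)), (0, (-1)), (0, 1), (0, (-3)), (0, 1), (0, 1), (0, 1), (0, 1)],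
      [(0, (-1)), (0, (-1)), (0, 3), (0, (-1)), (0, 1), (0, 3), (0, (-1)), (0, 3), (0, (-1)), (0, 1), (0, (-1)), (0, 1), (0, (-3)), (0, (-1)), (0, 1), (0, 1), (0, 1), (0, 1), (0, (-1)), (0, (-1)), (0, (-1)), (0, (-1)), (0, 3), (0, (-1))],
      [(0, (-1)), (0, 3), (0, 3), (0, (-1)), (0, 1), (0, (-1)), (0, (-1)), (0, (-1)), (0, (-1)), (0, 1), (0, 3), (0, 1), (0, 1), (0, (-1)), (0, 1), (0, (-3)), (0, 1), (0, 1), (0, (-1)), (0, (-1)), (0, 3), (0, (-1)), (0, (-1)), (0, (-1))],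
      [(0, (-1)), (0, 3), (0, (-1)), (0, (-1)), (0, 1), (0, 3), (0, (-1)), (0, (-1)), (0, (-1)), (0, 1), (0, (-1)), (0, (-3)), (0, 1), (0, 3), (0, 1), (0, 1), (0, 1), (0, 1), (0, (-1)), (0, (-1)), (0, (-1)), (0, 3), (0, (-1)), (0, (-1))],
      [(0, 1), (0, (-3)), (0, 1), (0, (-3)), (0, (-1)), (0, 1), (0, 1), (0, (-3)), (0, 1), (0, (-1)), (0, 1), (0, (-1)), (0, (-1)), (0, 1), (0, (-1)), (0, (-1)), (0, 3), (0, (-1)), (0, (-3)), (0, 1), (0, 1), (0, 1), (0, 1), (0, 1)],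
      [(0, (-1)), (0, 3), (0, (-1)), (0, (-1)), (0, (-3)), (0, (-1)), (0, 3), (0, (-1)), (0, (-1)), (0, 1), (0, (-1)), (0, 1), (0, (-3)), (0, (-1)), (0, 1), (0, 1), (0, 1), (0, (-3)), (0, (-1)), (0, (-1)), (0, (-1)), (0, (-1)), (0, (-1)), (0, (-1))],
      [(0, (-1)), (0, (-1)), (0, (-1)), (0, (-1)), (0, 1), (0, (-1)), (0, 3), (0, 3), (0, 3), (0, 1), (0, (-1)), (0, (-3)), (0, 1), (0, (-1)), (0, 1), (0, 1), (0, 1), (0, 1), (0, (-1)), (0, (-1)), (0, 3), (0, (-1)), (0, (-1)), (0, (-1))],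
      [(0, 5), (0, 1), (0, 1), (0, 1), (0, (-1)), (0, 1), (0, 1), (0, 1), (0, 1), (0, 3), (0, 1), (0, (-1)), (0, (-1)), (0, 1), (0, (-1)), (0, (-1)), (0, (-1)), (0, (-1)), (0, 1), (0, 1), (0, 1), (0, 1), (0, 1), (0, (-3))]],
     [[(0, (-3)), (0, 1), (0, (-1)), (0, (-1)), (0, 1), (0, 1), (0, 1), (0, (-1)), (0, 1), (0, 3), (0, (-1)), (0, 1), (0, 1), (0, 1), (0, (-1)), (0, (-1)), (0, 1), (0, (-1)), (0, (-1)), (0, (-1)), (0, 1), (0, (-1)), (0, (-1)), (0, 5)],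
      [(0, 1), (0, 1), (0, (-1)), (0, (-1)), (0, 1), (0, 1), (0, 1), (0, (-1)), (0, 1), (0, (-1)), (0, (-1)), (0, 1), (0, (-3)), (0, 1), (0, (-1)), (0, (-1)), (0, 1), (0, (-1)), (0, 3), (0, 3), (0, (-3)), (0, 3), (0, (-1)), (0, 1)],
      [(0, 1), (0, 1), (0, (-1)), (0, (-1)), (0, 1), (0, (-3)), (0, 1), (0, (-1)), (0, (-3)), (0, (-1)), (0, 3), (0, 1), (0, 1), (0, 1), (0, (-1)), (0, (-1)), (0, 1), (0, 3), (0, 3), (0, (-1)), (0, 1), (0, (-1)), (0, (-1)), (0, 1)],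
      [(0, 1), (0, 1), (0, (-1)), (0, (-1)), (0, (-3)), (0, (-3)), (0, 1), (0, (-1)), (0, 1), (0, (-1)), (0, (-1)), (0, 1), (0, 1), (0, 1), (0, 3), (0, (-1)), (0, (-3)), (0, (-1)), (0, (-1)), (0, (-1)), (0, (-3)), (0, (-1)), (0, (-1)), (0, 1)],
      [(0, (-1)), (0, 3), (0, 1), (0, 1), (0, (-1)), (0, 3), (0, (-1)), (0, 1), (0, (-1)), (0, 1), (0, 1), (0, 3), (0, (-1)), (0, 3), (0, 1), (0, 1), (0, (-1)), (0, 1), (0, 1), (0, 1), (0, (-1)), (0, (-3)), (0, 1), (0, (-1))],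
      [(0, 1), (0, 1), (0, 3), (0, (-1)), (0, 1), (0, 1), (0, 1), (0, (-1)), (0, 1), (0, (-1)), (0, (-1)), (0, (-3)), (0, 1), (0, 1), (0, (-1)), (0, (-1)), (0, (-3)), (0, 3), (0, (-1)), (0, 3), (0, 1), (0, (-1)), (0, (-1)), (0, 1)],
      [(0, 1), (0, 1), (0, (-1)), (0, (-1)), (0, 1), (0, 1), (0, (-3)), (0, (-1)), (0, 1), (0, (-1)), (0, 3), (0, 1), (0, 1), (0, 1), (0, (-1)), (0, (-1)), (0, (-3)), (0, (-1)), (0, (-1)), (0, (-1)), (0, 1), (0, 3), (0, 3), (0, 1)],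
      [(0, 1), (0, 1), (0, (-1)), (0, 3), (0, 1), (0, 1), (0, 1), (0, (-1)), (0, 1), (0, (-1)), (0, (-1)), (0, 1), (0, 1), (0, (-3)), (0, (-1)), (0, (-1)), (0, 1), (0, 3), (0, (-1)), (0, (-1)), (0, (-3)), (0, (-1)), (0, 3), (0, 1)],
      [(0, 1), (0, 1), (0, 3), (0, (-1)), (0, 1), (0, (-3)), (0, 1), (0, 3), (0, 1), (0, (-1)), (0, (-1)), (0, 1), (0, (-3)), (0, 1), (0, (-1)), (0, (-1)), (0, 1), (0, (-1)), (0, (-1)), (0, (-1)), (0, 1), (0, (-1)), (0, 3), (0, 1)],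
      [(0, (-5)), (0, (-1)), (0, 1), (0, 1), (0, (-1)), (0, (-1)), (0, (-1)), (0, 1), (0, (-1)), (0, (-3)), (0, 1), (0, (-1)), (0, (-1)), (0, (-1)), (0, 1), (0, 1), (0, (-1)), (0, 1), (0, 1), (0, 1), (0, (-1)), (0, 1), (0, 1), (0, 3)],
      [(0, 1), (0, 1), (0, 3), (0, (-1)), (0, 1), (0, 1), (0, (-3)), (0, (-1)), (0, 1), (0, (-1)), (0, (-1)), (0, 1), (0, 1), (0, (-3)), (0, 3), (0, (-1)), (0, 1), (0, (-1)), (0, 3), (0, (-1)), (0, 1), (0, (-1)), (0, (-1)), (0, 1)],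
      [(0, (-1)), (0, 3), (0, 1), (0, 1), (0, (-1)), (0, (-1)), (0, (-1)), (0, 1), (0, 3), (0, 1), (0, 1), (0, (-1)), (0, (-1)), (0, (-1)), (0, (-3)), (0, 1), (0, (-1)), (0, 1), (0, 1), (0, (-3)), (0, (-1)), (0, 1), (0, (-3)), (0, (-1))],
      [(0, (-1)), (0, (-1)), (0, 1), (0, 1), (0, (-1)), (0, (-1)), (0, (-1)), (0, (-3)), (0, (-1)), (0, 1), (0, 1), (0, (-1)), (0, (-1)), (0, (-1)), (0, (-3)), (0, (-3)), (0, (-1)), (0, (-3)), (0, 1), (0, 1), (0, (-1)), (0, (-3)), (0, 1), (0, (-1))],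
      [(0, 1), (0, 1), (0, (-1)), (0, (-1)), (0, (-3)), (0, 1), (0, 1), (0, 3), (0, 1), (0, (-1)), (0, 3), (0, 1), (0, 1), (0, (-3)), (0, (-1)), (0, (-1)), (0, 1), (0, (-1)), (0, (-1)), (0, 3), (0, 1), (0, (-1)), (0, (-1)), (0, 1)],
      [(0, (-1)), (0, (-1)), (0, 1), (0, (-3)), (0, (-1)), (0, (-1)), (0, (-1)), (0, 1), (0, (-1)), (0, 1), (0, (-3)), (0, 3), (0, 3), (0, (-1)), (0, (-3)), (0, 1), (0, (-1)), (0, 1), (0, 1), (0, 1), (0, (-1)), (0, 1), (0, 1), (0, (-1))],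
      [(0, (-1)), (0, 3), (0, 1), (0, (-3)), (0, (-1)), (0, (-1)), (0, (-1)), (0, (-3)), (0, (-1)), (0, 1), (0, 1), (0, (-1)), (0, (-1)), (0, (-1)), (0, 1), (0, 1), (0, 3), (0, 1), (0, (-3)), (0, 1), (0, (-1)), (0, 1), (0, 1), (0, (-1))],
      [(0, (-1)), (0, (-1)), (0, 1), (0, 1), (0, (-1)), (0, (-1)), (0, 3), (0, (-3)), (0, 3), (0, 1), (0, 1), (0, 3), (0, (-1)), (0, (-1)), (0, 1), (0, 1), (0, (-1)), (0, 1), (0, 1), (0, 1), (0, 3), (0, 1), (0, 1), (0, (-1))],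
      [(0, (-1)), (0, (-1)), (0, (-3)), (0, (-3)), (0, 3), (0, (-1)), (0, (-1)), (0, 1), (0, 3), (0, 1), (0, 1), (0, (-1)), (0, (-1)), (0, (-1)), (0, 1), (0, 1), (0, (-1)), (0, 1), (0, 1), (0, 1), (0, (-1)), (0, (-3)), (0, 1), (0, (-1))],
      [(0, 1), (0, (-3)), (0, 3), (0, (-1)), (0, 1), (0, 1), (0, 1), (0, (-1)), (0, 1), (0, (-1)), (0, 3), (0, 1), (0, 1), (0, 1), (0, (-1)), (0, 3), (0, 1), (0, (-1)), (0, (-1)), (0, (-1)), (0, (-3)), (0, (-1)), (0, (-1)), (0, 1)],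
      [(0, 1), (0, 1), (0, (-1)), (0, (-1)), (0, 1), (0, 1), (0, 1), (0, (-1)), (0, (-3)), (0, (-1)), (0, (-1)), (0, 1), (0, (-3)), (0, (-3)), (0, (-1)), (0, 3), (0, (-3)), (0, (-1)), (0, (-1)), (0, (-1)), (0, 1), (0, (-1)), (0, (-1)), (0, 1)],
      [(0, 1), (0, 1), (0, (-1)), (0, (-1)), (0, (-3)), (0, 1), (0, 1), (0, (-1)), (0, 1), (0, (-1)), (0, (-1)), (0, (-3)), (0, 1), (0, 1), (0, (-1)), (0, 3), (0, 1), (0, (-1)), (0, 3), (0, (-1)), (0, 1), (0, (-1)), (0, 3), (0, 1)],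
      [(0, 1), (0, 1), (0, (-1)), (0, 3), (0, 1), (0, (-3)), (0, (-3)), (0, (-1)), (0, 1), (0, (-1)), (0, (-1)), (0, 1), (0, 1), (0, 1), (0, (-1)), (0, 3), (0, 1), (0, (-1)), (0, (-1)), (0, 3), (0, 1), (0, (-1)), (0, (-1)), (0, 1)],
      [(0, 1), (0, (-3)), (0, (-1)), (0, (-1)), (0, (-3)), (0, 1), (0, (-3)), (0, (-1)), (0, 1), (0, (-1)), (0, (-1)), (0, 1), (0, (-3)), (0, 1), (0, (-1)), (0, (-1)), (0, 1), (0, 3), (0, (-1)), (0, (-1)), (0, 1), (0, (-1)), (0, (-1)), (0, 1)],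
      [(0, (-3)), (0, 1), (0, (-1)), (0, (-1)), (0, 1), (0, 1), (0, 1), (0, (-1)), (0, 1), (0, (-5)), (0, (-1)), (0, 1), (0, 1), (0, 1), (0, (-1)), (0, (-1)), (0, 1), (0, (-1)), (0, (-1)), (0, (-1)), (0, 1), (0, (-1)), (0, (-1)), (0, (-3))]]),
    ([[(0, (-4)), (1, (-2)), (1, (-2)), (0, 2), (1, 2), (1, (-2)), (0, 2), (0, 2), (5, 2), (0, 2), (0, 2), (2, (-2)), (0, (-2))],
      [(1, (-4)), (0, 2), (1, 2), (0, (-2)), (1, 2), (1, 2), (0, 2), (0, 2), (5, 2), (0, (-2)), (0, (-2)), (2, (-2)), (0, (-2))],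
      [(0, 2), (0, (-2)), (0, (-4)), (0, (-2)), (2, (-2)), (1, (-2)), (3, 2), (0, 2), (0, 2), (0, (-2)), (0, (-2)), (3, (-2)), (0, 2)],
      [(2, 2), (0, (-4)), (0, (-2)), (0, 2), (1, 2), (1, (-2)), (0, (-2)), (0, 2), (5, 2), (0, (-2)), (0, (-2)), (2, 2), (0, 2)],
      [(0, 2), (0, (-2)), (1, 2), (0, (-4)), (1, (-2)), (1, (-2)), (3, (-2)), (0, (-2)), (0, 2), (0, 2), (0, 2), (3, (-2)), (0, (-2))],
      [(0, (-2)), (0, 2), (1, (-2)), (1, (-4)), (0, 2), (1, (-2)), (3, (-2)), (0, (-2)), (0, 2), (0, 2), (0, (-2)), (3, (-2)), (0, 2)],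
      [(2, 2), (1, 2), (0, (-2)), (0, (-4)), (0, 2), (1, (-2)), (0, (-2)), (0, (-2)), (5, 2), (0, 2), (0, 2), (2, (-2)), (0, 2)],
      [(0, (-2)), (0, (-2)), (1, (-2)), (2, (-2)), (0, (-4)), (0, 2), (3, (-2)), (0, 2), (0, 2), (0, 2), (0, (-2)), (3, 2), (0, (-2))],
      [(2, 2), (1, 2), (0, 2), (1, (-2)), (0, (-4)), (0, (-2)), (0, 2), (0, (-2)), (5, 2), (0, 2), (0, (-2)), (2, 2), (0, (-2))],
      [(0, 2), (0, (-2)), (1, 2), (2, 2), (1, 2), (0, (-4)), (2, 2), (0, (-2)), (0, 2), (0, 2), (0, (-2)), (3, 2), (0, 2)],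
      [(0, (-2)), (0, (-2)), (1, 2), (2, 2), (1, (-2)), (1, (-4)), (1, 2), (0, 2), (0, (-2)), (0, 2), (0, (-2)), (3, (-2)), (0, (-2))],
      [(0, (-2)), (0, (-2)), (1, (-2)), (2, 2), (1, 2), (2, (-4)), (0, 2), (0, (-2)), (0, 2), (0, (-2)), (0, 2), (3, (-2)), (0, (-2))],
      [(2, (-2)), (1, 2), (0, 2), (1, 2), (1, (-2)), (0, (-2)), (0, (-2)), (0, (-4)), (4, (-2)), (0, (-2)), (0, (-2)), (2, (-2)), (0, (-2))],
      [(2, (-2)), (1, 2), (0, 2), (1, (-2)), (1, 2), (0, (-2)), (0, 2), (1, (-4)), (3, 2), (0, 2), (0, (-2)), (2, (-2)), (0, 2)],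
      [(2, (-2)), (1, (-2)), (0, (-2)), (1, (-2)), (1, (-2)), (0, 2), (0, (-2)), (2, (-4)), (2, 2), (0, (-2)), (0, (-2)), (2, (-2)), (0, 2)],
      [(2, 2), (1, (-2)), (0, (-2)), (1, (-2)), (1, (-2)), (0, (-2)), (0, 2), (3, (-4)), (1, (-2)), (0, 2), (0, (-2)), (2, (-2)), (0, (-2))],
      [(2, 2), (1, (-2)), (0, 2), (1, 2), (1, 2), (0, 2), (0, (-2)), (4, (-4)), (0, (-2)), (0, 2), (0, (-2)), (2, (-2)), (0, 2)],
      [(0, (-2)), (0, (-2)), (1, (-2)), (2, (-2)), (1, (-2)), (3, 2), (0, (-2)), (0, (-2)), (0, 2), (0, 2), (0, (-4)), (2, 2), (0, 2)],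
      [(0, (-2)), (0, 2), (1, 2), (2, (-2)), (1, (-2)), (3, 2), (0, (-2)), (0, 2), (0, (-2)), (0, (-2)), (1, (-4)), (1, 2), (0, (-2))],
      [(0, (-2)), (0, 2), (1, 2), (2, (-2)), (1, 2), (3, 2), (0, 2), (0, 2), (0, 2), (0, 2), (2, (-4)), (0, (-2)), (0, 2)],
      [(2, 2), (1, 2), (0, 2), (1, (-2)), (1, (-2)), (0, 2), (0, 2), (5, (-2)), (0, (-2)), (0, 2), (0, (-4)), (1, (-2)), (0, 2)],
      [(2, (-2)), (1, 2), (0, (-2)), (1, 2), (1, (-2)), (0, 2), (0, 2), (5, (-2)), (0, 2), (0, (-2)), (1, (-4)), (0, 2), (0, 2)],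
      [(0, 2), (0, 2), (1, (-2)), (2, 2), (1, (-2)), (3, 2), (0, 2), (0, 2), (0, 2), (0, 2), (3, 2), (0, (-2)), (0, (-4))],
      [(0, 2), (0, 2), (1, (-2)), (2, (-2)), (1, 2), (3, 2), (0, (-2)), (0, (-2)), (0, 2), (0, (-2)), (3, (-2)), (0, (-2)), (1, (-4))]],
     [[(0, (-4)), (1, 2), (1, 2), (0, (-2)), (1, (-2)), (1, 2), (0, (-2)), (0, (-2)), (5, (-2)), (0, (-2)), (0, (-2)), (2, 2), (0, 2)],
      [(1, (-4)), (0, (-2)), (1, (-2)), (0, 2), (1, (-2)), (1, (-2)), (0, (-2)), (0, (-2)), (5, (-2)), (0, 2), (0, 2), (2, 2), (0, 2)],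
      [(0, (-2)), (0, 2), (0, (-4)), (0, 2), (2, 2), (1, 2), (3, (-2)), (0, (-2)), (0, (-2)), (0, 2), (0, 2), (3, 2), (0, (-2))],
      [(2, (-2)), (0, (-4)), (0, 2), (0, (-2)), (1, (-2)), (1, 2), (0, 2), (0, (-2)), (5, (-2)), (0, 2), (0, 2), (2, (-2)), (0, (-2))],
      [(0, (-2)), (0, 2), (1, (-2)), (0, (-4)), (1, 2), (1, 2), (3, 2), (0, 2), (0, (-2)), (0, (-2)), (0, (-2)), (3, 2), (0, 2)],
      [(0, 2), (0, (-2)), (1, 2), (1, (-4)), (0, (-2)), (1, 2), (3, 2), (0, 2), (0, (-2)), (0, (-2)), (0, 2), (3, 2), (0, (-2))],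
      [(2, (-2)), (1, (-2)), (0, 2), (0, (-4)), (0, (-2)), (1, 2), (0, 2), (0, 2), (5, (-2)), (0, (-2)), (0, (-2)), (2, 2), (0, (-2))],
      [(0, 2), (0, 2), (1, 2), (2, 2), (0, (-4)), (0, (-2)), (3, 2), (0, (-2)), (0, (-2)), (0, (-2)), (0, 2), (3, (-2)), (0, 2)],
      [(2, (-2)), (1, (-2)), (0, (-2)), (1, 2), (0, (-4)), (0, 2), (0, (-2)), (0, 2), (5, (-2)), (0, (-2)), (0, 2), (2, (-2)), (0, 2)],
      [(0, (-2)), (0, 2), (1, (-2)), (2, (-2)), (1, (-2)), (0, (-4)), (2, (-2)), (0, 2), (0, (-2)), (0, (-2)), (0, 2), (3, (-2)), (0, (-2))],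
      [(0, 2), (0, 2), (1, (-2)), (2, (-2)), (1, 2), (1, (-4)), (1, (-2)), (0, (-2)), (0, 2), (0, (-2)), (0, 2), (3, 2), (0, 2)],
      [(0, 2), (0, 2), (1, 2), (2, (-2)), (1, (-2)), (2, (-4)), (0, (-2)), (0, 2), (0, (-2)), (0, 2), (0, (-2)), (3, 2), (0, 2)],
      [(2, 2), (1, (-2)), (0, (-2)), (1, (-2)), (1, 2), (0, 2), (0, 2), (0, (-4)), (4, 2), (0, 2), (0, 2), (2, 2), (0, 2)],
      [(2, 2), (1, (-2)), (0, (-2)), (1, 2), (1, (-2)), (0, 2), (0, (-2)), (1, (-4)), (3, (-2)), (0, (-2)), (0, 2), (2, 2), (0, (-2))],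
      [(2, 2), (1, 2), (0, 2), (1, 2), (1, 2), (0, (-2)), (0, 2), (2, (-4)), (2, (-2)), (0, 2), (0, 2), (2, 2), (0, (-2))],
      [(2, (-2)), (1, 2), (0, 2), (1, 2), (1, 2), (0, 2), (0, (-2)), (3, (-4)), (1, 2), (0, (-2)), (0, 2), (2, 2), (0, 2)],
      [(2, (-2)), (1, 2), (0, (-2)), (1, (-2)), (1, (-2)), (0, (-2)), (0, 2), (4, (-4)), (0, 2), (0, (-2)), (0, 2), (2, 2), (0, (-2))],
      [(0, 2), (0, 2), (1, 2), (2, 2), (1, 2), (3, (-2)), (0, 2), (0, 2), (0, (-2)), (0, (-2)), (0, (-4)), (2, (-2)), (0, (-2))],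
      [(0, 2), (0, (-2)), (1, (-2)), (2, 2), (1, 2), (3, (-2)), (0, 2), (0, (-2)), (0, 2), (0, 2), (1, (-4)), (1, (-2)), (0, 2)],
      [(0, 2), (0, (-2)), (1, (-2)), (2, 2), (1, (-2)), (3, (-2)), (0, (-2)), (0, (-2)), (0, (-2)), (0, (-2)), (2, (-4)), (0, 2), (0, (-2))],
      [(2, (-2)), (1, (-2)), (0, (-2)), (1, 2), (1, 2), (0, (-2)), (0, (-2)), (5, 2), (0, 2), (0, (-2)), (0, (-4)), (1, 2), (0, (-2))],
      [(2, 2), (1, (-2)), (0, 2), (1, (-2)), (1, 2), (0, (-2)), (0, (-2)), (5, 2), (0, (-2)), (0, 2), (1, (-4)), (0, (-2)), (0, (-2))],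
      [(0, (-2)), (0, (-2)), (1, 2), (2, (-2)), (1, 2), (3, (-2)), (0, (-2)), (0, (-2)), (0, (-2)), (0, (-2)), (3, (-2)), (0, 2), (0, (-4))],
      [(0, (-2)), (0, (-2)), (1, 2), (2, 2), (1, (-2)), (3, (-2)), (0, 2), (0, 2), (0, (-2)), (0, 2), (3, 2), (0, 2), (1, (-4))]])]

/-- part of the generators and their transposes -/
def threeW3 : List (List (List (ℕ × ℤ)) × List (List (ℕ × ℤ))) :=
  [([[(0, 1), (0, (-1)), (0, (-1)), (0, (-3)), (0, (-1)), (0, (-3)), (0, 3), (0, (-1)), (0, (-3)), (0, (-1)), (0, (-1)), (0, 1), (0, (-1)), (0, (-1)), (0, 3), (0, (-1)), (0, 1), (0, (-1)), (0, (-1)), (0, (-1)), (0, (-1)), (0, (-1)), (0, 1), (0, 1)],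
      [(0, (-3)), (0, (-1)), (0, (-1)), (0, 1), (0, (-1)), (0, 1), (0, (-1)), (0, (-1)), (0, (-3)), (0, (-1)), (0, (-1)), (0, (-3)), (0, (-1)), (0, 3), (0, (-1)), (0, (-1)), (0, 1), (0, (-1)), (0, (-1)), (0, (-1)), (0, 3), (0, (-1)), (0, 1), (0, 1)],
      [(0, 1), (0, 3), (0, (-1)), (0, 1), (0, (-1)), (0, 1), (0, (-1)), (0, (-1)), (0, 1), (0, (-1)), (0, (-1)), (0, 1), (0, (-1)), (0, (-1)), (0, (-1)), (0, 3), (0, 1), (0, (-1)), (0, (-1)), (0, (-1)), (0, (-1)), (0, (-1)), (0, 5), (0, 1)],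
      [(0, (-1)), (0, 1), (0, 1), (0, (-1)), (0, 1), (0, (-1)), (0, (-3)), (0, (-3)), (0, (-1)), (0, (-3)), (0, 1), (0, (-1)), (0, 1), (0, (-3)), (0, 1), (0, 1), (0, (-1)), (0, 1), (0, 1), (0, 1), (0, 1), (0, 1), (0, (-1)), (0, 3)],
      [(0, 1), (0, (-1)), (0, 3), (0, 1), (0, (-1)), (0, 1), (0, 3), (0, (-1)), (0, 1), (0, (-1)), (0, (-1)), (0, 1), (0, (-1)), (0, (-1)), (0, (-1)), (0, (-1)), (0, (-3)), (0, (-1)), (0, (-1)), (0, (-1)), (0, 3), (0, 3), (0, 1), (0, 1)],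
      [(0, 1), (0, (-1)), (0, (-1)), (0, 1), (0, (-1)), (0, (-3)), (0, (-1)), (0, 3), (0, 1), (0, (-1)), (0, 3), (0, 1), (0, 3), (0, (-1)), (0, (-1)), (0, (-1)), (0, 1), (0, (-1)), (0, (-1)), (0, (-1)), (0, 3), (0, (-1)), (0, 1), (0, 1)],
      [(0, 1), (0, (-5)), (0, (-1)), (0, 1), (0, (-1)), (0, 1), (0, (-1)), (0, (-1)), (0, 1), (0, (-1)), (0, (-1)), (0, 1), (0, (-1)), (0, (-1)), (0, (-1)), (0, 3), (0, 1), (0, (-1)), (0, (-1)), (0, (-1)), (0, (-1)), (0, (-1)), (0, (-3)), (0, 1)],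
      [(0, (-1)), (0, 1), (0, 1), (0, (-1)), (0, (-3)), (0, (-1)), (0, 1), (0, 1), (0, (-1)), (0, 1), (0, 1), (0, (-1)), (0, 1), (0, 1), (0, (-3)), (0, 1), (0, (-1)), (0, (-3)), (0, 1), (0, 1), (0, (-3)), (0, 1), (0, (-1)), (0, 3)],
      [(0, (-1)), (0, 1), (0, (-3)), (0, 3), (0, 1), (0, (-1)), (0, 1), (0, 1), (0, (-1)), (0, 1), (0, (-3)), (0, (-1)), (0, 1), (0, (-3)), (0, 1), (0, 1), (0, (-1)), (0, (-3)), (0, 1), (0, 1), (0, 1), (0, 1), (0, (-1)), (0, (-1))],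
      [(0, (-1)), (0, 1), (0, (-3)), (0, (-1)), (0, 1), (0, 3), (0, 1), (0, 1), (0, (-1)), (0, 1), (0, 1), (0, 3), (0, 1), (0, 1), (0, 1), (0, 1), (0, (-1)), (0, 1), (0, 1), (0, (-3)), (0, 1), (0, 1), (0, (-1)), (0, 3)],
      [(0, (-1)), (0, 1), (0, 1), (0, (-1)), (0, 1), (0, (-1)), (0, 1), (0, 1), (0, 3), (0, 1), (0, (-3)), (0, (-1)), (0, 1), (0, 1), (0, 1), (0, 1), (0, 3), (0, 1), (0, (-3)), (0, 1), (0, 1), (0, 1), (0, (-1)), (0, 3)],
      [(0, 3), (0, 1), (0, (-3)), (0, (-1)), (0, 1), (0, (-1)), (0, 1), (0, (-3)), (0, (-1)), (0, 1), (0, 1), (0, (-1)), (0, 1), (0, 1), (0, (-3)), (0, 1), (0, (-1)), (0, 1), (0, (-3)), (0, 1), (0, 1), (0, 1), (0, (-1)), (0, (-1))],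
      [(0, (-1)), (0, 1), (0, 1), (0, (-1)), (0, 1), (0, (-1)), (0, 1), (0, 1), (0, (-1)), (0, 1), (0, 1), (0, (-1)), (0, (-3)), (0, (-3)), (0, (-3)), (0, 1), (0, 3), (0, 1), (0, 1), (0, (-3)), (0, 1), (0, 1), (0, (-1)), (0, (-1))],
      [(0, 3), (0, 1), (0, 1), (0, (-1)), (0, (-3)), (0, (-1)), (0, (-3)), (0, 1), (0, (-1)), (0, 1), (0, (-3)), (0, (-1)), (0, 1), (0, 1), (0, 1), (0, 1), (0, (-1)), (0, 1), (0, 1), (0, (-3)), (0, 1), (0, 1), (0, (-1)), (0, (-1))],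
      [(0, (-1)), (0, 1), (0, 1), (0, (-1)), (0, 1), (0, (-1)), (0, 1), (0, 1), (0, (-1)), (0, (-3)), (0, (-3)), (0, 3), (0, 1), (0, 1), (0, (-3)), (0, 1), (0, (-1)), (0, 1), (0, 1), (0, 1), (0, 1), (0, (-3)), (0, (-1)), (0, (-1))],
      [(0, 1), (0, (-1)), (0, (-1)), (0, (-3)), (0, 3), (0, 1), (0, (-1)), (0, 3), (0, 1), (0, (-1)), (0, (-1)), (0, (-3)), (0, (-1)), (0, (-1)), (0, (-1)), (0, (-1)), (0, (-3)), (0, (-1)), (0, (-1)), (0, (-1)), (0, (-1)), (0, (-1)), (0, 1), (0, 1)],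
      [(0, 1), (0, (-1)), (0, (-1)), (0, 1), (0, (-1)), (0, 1), (0, (-1)), (0, 3), (0, (-3)), (0, (-1)), (0, (-1)), (0, 1), (0, (-1)), (0, (-1)), (0, (-1)), (0, (-1)), (0, 1), (0, 3), (0, (-1)), (0, 3), (0, (-1)), (0, 3), (0, 1), (0, 1)],
      [(0, 1), (0, 3), (0, (-1)), (0, 1), (0, (-1)), (0, 1), (0, (-1)), (0, (-1)), (0, 1), (0, (-1)), (0, (-1)), (0, 1), (0, (-1)), (0, (-1)), (0, (-1)), (0, (-5)), (0, 1), (0, (-1)), (0, (-1)), (0, (-1)), (0, (-1)), (0, (-1)), (0, (-3)), (0, 1)],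
      [(0, (-1)), (0, 1), (0, (-3)), (0, (-1)), (0, (-3)), (0, (-1)), (0, 1), (0, 1), (0, 3), (0, (-3)), (0, 1), (0, (-1)), (0, (-3)), (0, 1), (0, 1), (0, 1), (0, (-1)), (0, 1), (0, 1), (0, 1), (0, 1), (0, 1), (0, (-1)), (0, (-1))],
      [(0, 1), (0, (-1)), (0, (-1)), (0, 1), (0, (-1)), (0, 1), (0, 3), (0, (-1)), (0, 1), (0, (-1)), (0, (-1)), (0, (-3)), (0, 3), (0, (-1)), (0, (-1)), (0, (-1)), (0, 1), (0, 3), (0, 3), (0, (-1)), (0, (-1)), (0, (-1)), (0, 1), (0, 1)],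
      [(0, (-3)), (0, (-1)), (0, (-1)), (0, 1), (0, (-1)), (0, (-3)), (0, (-1)), (0, (-1)), (0, 1), (0, 3), (0, (-1)), (0, 1), (0, (-1)), (0, (-1)), (0, (-1)), (0, (-1)), (0, (-3)), (0, 3), (0, (-1)), (0, (-1)), (0, (-1)), (0, (-1)), (0, 1), (0, 1)],
      [(0, (-1)), (0, 1), (0, 1), (0, (-1)), (0, (-3)), (0, 3), (0, 1), (0, 1), (0, (-1)), (0, 1), (0, 1), (0, (-1)), (0, 1), (0, (-3)), (0, 1), (0, 1), (0, (-1)), (0, 1), (0, (-3)), (0, 1), (0, 1), (0, (-3)), (0, (-1)), (0, (-1))],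
      [(0, (-1)), (0, 1), (0, 1), (0, 3), (0, 1), (0, (-1)), (0, 1), (0, 1), (0, (-1)), (0, (-3)), (0, 1), (0, (-1)), (0, 1), (0, 1), (0, 1), (0, 1), (0, (-1)), (0, 1), (0, (-3)), (0, (-3)), (0, (-3)), (0, 1), (0, (-1)), (0, (-1))],
      [(0, (-3)), (0, (-1)), (0, (-1)), (0, (-3)), (0, (-1)), (0, 1), (0, (-1)), (0, (-1)), (0, 1), (0, (-1)), (0, (-1)), (0, 1), (0, 3), (0, (-1)), (0, (-1)), (0, (-1)), (0, 1), (0, (-1)), (0, (-1)), (0, (-1)), (0, (-1)), (0, 3), (0, 1), (0, (-3))]],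
     [[(0, 1), (0, (-3)), (0, 1), (0, (-1)), (0, 1), (0, 1), (0, 1), (0, (-1)), (0, (-1)), (0, (-1)), (0, (-1)), (0, 3), (0, (-1)), (0, 3), (0, (-1)), (0, 1), (0, 1), (0, 1), (0, (-1)), (0, 1), (0, (-3)), (0, (-1)), (0, (-1)), (0, (-3))],
      [(0, (-1)), (0, (-1)), (0, 3), (0, 1), (0, (-1)), (0, (-1)), (0, (-5)), (0, 1), (0, 1), (0, 1), (0, 1), (0, 1), (0, 1), (0, 1), (0, 1), (0, (-1)), (0, (-1)), (0, 3), (0, 1), (0, (-1)), (0, (-1)), (0, 1), (0, 1), (0, (-1))],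
      [(0, (-1)), (0, (-1)), (0, (-1)), (0, 1), (0, 3), (0, (-1)), (0, (-1)), (0, 1), (0, (-3)), (0, (-3)), (0, 1), (0, (-3)), (0, 1), (0, 1), (0, 1), (0, (-1)), (0, (-1)), (0, (-1)), (0, (-3)), (0, (-1)), (0, (-1)), (0, 1), (0, 1), (0, (-1))],
      [(0, (-3)), (0, 1), (0, 1), (0, (-1)), (0, 1), (0, 1), (0, 1), (0, (-1)), (0, 3), (0, (-1)), (0, (-1)), (0, (-1)), (0, (-1)), (0, (-1)), (0, (-1)), (0, (-3)), (0, 1), (0, 1), (0, (-1)), (0, 1), (0, 1), (0, (-1)), (0, 3), (0, (-3))],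
      [(0, (-1)), (0, (-1)), (0, (-1)), (0, 1), (0, (-1)), (0, (-1)), (0, (-1)), (0, (-3)), (0, 1), (0, 1), (0, 1), (0, 1), (0, 1), (0, (-3)), (0, 1), (0, 3), (0, (-1)), (0, (-1)), (0, (-3)), (0, (-1)), (0, (-1)), (0, (-3)), (0, 1), (0, (-1))],
      [(0, (-3)), (0, 1), (0, 1), (0, (-1)), (0, 1), (0, (-3)), (0, 1), (0, (-1)), (0, (-1)), (0, 3), (0, (-1)), (0, (-1)), (0, (-1)), (0, (-1)), (0, (-1)), (0, 1), (0, 1), (0, 1), (0, (-1)), (0, 1), (0, (-3)), (0, 3), (0, (-1)), (0, 1)],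
      [(0, 3), (0, (-1)), (0, (-1)), (0, (-3)), (0, 3), (0, (-1)), (0, (-1)), (0, 1), (0, 1), (0, 1), (0, 1), (0, 1), (0, 1), (0, (-3)), (0, 1), (0, (-1)), (0, (-1)), (0, (-1)), (0, 1), (0, 3), (0, (-1)), (0, 1), (0, 1), (0, (-1))],
      [(0, (-1)), (0, (-1)), (0, (-1)), (0, (-3)), (0, (-1)), (0, 3), (0, (-1)), (0, 1), (0, 1), (0, 1), (0, 1), (0, (-3)), (0, 1), (0, 1), (0, 1), (0, 3), (0, 3), (0, (-1)), (0, 1), (0, (-1)), (0, (-1)), (0, 1), (0, 1), (0, (-1))],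
      [(0, (-3)), (0, (-3)), (0, 1), (0, (-1)), (0, 1), (0, 1), (0, 1), (0, (-1)), (0, (-1)), (0, (-1)), (0, 3), (0, (-1)), (0, (-1)), (0, (-1)), (0, (-1)), (0, 1), (0, (-3)), (0, 1), (0, 3), (0, 1), (0, 1), (0, (-1)), (0, (-1)), (0, 1)],
      [(0, (-1)), (0, (-1)), (0, (-1)), (0, (-3)), (0, (-1)), (0, (-1)), (0, (-1)), (0, 1), (0, 1), (0, 1), (0, 1), (0, 1), (0, 1), (0, 1), (0, (-3)), (0, (-1)), (0, (-1)), (0, (-1)), (0, (-3)), (0, (-1)), (0, 3), (0, 1), (0, (-3)), (0, (-1))],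
      [(0, (-1)), (0, (-1)), (0, (-1)), (0, 1), (0, (-1)), (0, 3), (0, (-1)), (0, 1), (0, (-3)), (0, 1), (0, (-3)), (0, 1), (0, 1), (0, (-3)), (0, (-3)), (0, (-1)), (0, (-1)), (0, (-1)), (0, 1), (0, (-1)), (0, (-1)), (0, 1), (0, 1), (0, (-1))],
      [(0, 1), (0, (-3)), (0, 1), (0, (-1)), (0, 1), (0, 1), (0, 1), (0, (-1)), (0, (-1)), (0, 3), (0, (-1)), (0, (-1)), (0, (-1)), (0, (-1)), (0, 3), (0, (-3)), (0, 1), (0, 1), (0, (-1)), (0, (-3)), (0, 1), (0, (-1)), (0, (-1)), (0, 1)],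
      [(0, (-1)), (0, (-1)), (0, (-1)), (0, 1), (0, (-1)), (0, 3), (0, (-1)), (0, 1), (0, 1), (0, 1), (0, 1), (0, 1), (0, (-3)), (0, 1), (0, 1), (0, (-1)), (0, (-1)), (0, (-1)), (0, (-3)), (0, 3), (0, (-1)), (0, 1), (0, 1), (0, 3)],
      [(0, (-1)), (0, 3), (0, (-1)), (0, (-3)), (0, (-1)), (0, (-1)), (0, (-1)), (0, 1), (0, (-3)), (0, 1), (0, 1), (0, 1), (0, (-3)), (0, 1), (0, 1), (0, (-1)), (0, (-1)), (0, (-1)), (0, 1), (0, (-1)), (0, (-1)), (0, (-3)), (0, 1), (0, (-1))],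
      [(0, 3), (0, (-1)), (0, (-1)), (0, 1), (0, (-1)), (0, (-1)), (0, (-1)), (0, (-3)), (0, 1), (0, 1), (0, 1), (0, (-3)), (0, (-3)), (0, 1), (0, (-3)), (0, (-1)), (0, (-1)), (0, (-1)), (0, 1), (0, (-1)), (0, (-1)), (0, 1), (0, 1), (0, (-1))],
      [(0, (-1)), (0, (-1)), (0, 3), (0, 1), (0, (-1)), (0, (-1)), (0, 3), (0, 1), (0, 1), (0, 1), (0, 1), (0, 1), (0, 1), (0, 1), (0, 1), (0, (-1)), (0, (-1)), (0, (-5)), (0, 1), (0, (-1)), (0, (-1)), (0, 1), (0, 1), (0, (-1))],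
      [(0, 1), (0, 1), (0, 1), (0, (-1)), (0, (-3)), (0, 1), (0, 1), (0, (-1)), (0, (-1)), (0, (-1)), (0, 3), (0, (-1)), (0, 3), (0, (-1)), (0, (-1)), (0, (-3)), (0, 1), (0, 1), (0, (-1)), (0, 1), (0, (-3)), (0, (-1)), (0, (-1)), (0, 1)],
      [(0, (-1)), (0, (-1)), (0, (-1)), (0, 1), (0, (-1)), (0, (-1)), (0, (-1)), (0, (-3)), (0, (-3)), (0, 1), (0, 1), (0, 1), (0, 1), (0, 1), (0, 1), (0, (-1)), (0, 3), (0, (-1)), (0, 1), (0, 3), (0, 3), (0, 1), (0, 1), (0, (-1))],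
      [(0, (-1)), (0, (-1)), (0, (-1)), (0, 1), (0, (-1)), (0, (-1)), (0, (-1)), (0, 1), (0, 1), (0, 1), (0, (-3)), (0, (-3)), (0, 1), (0, 1), (0, 1), (0, (-1)), (0, (-1)), (0, (-1)), (0, 1), (0, 3), (0, (-1)), (0, (-3)), (0, (-3)), (0, (-1))],
      [(0, (-1)), (0, (-1)), (0, (-1)), (0, 1), (0, (-1)), (0, (-1)), (0, (-1)), (0, 1), (0, 1), (0, (-3)), (0, 1), (0, 1), (0, (-3)), (0, (-3)), (0, 1), (0, (-1)), (0, 3), (0, (-1)), (0, 1), (0, (-1)), (0, (-1)), (0, 1), (0, (-3)), (0, (-1))],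
      [(0, (-1)), (0, 3), (0, (-1)), (0, 1), (0, 3), (0, 3), (0, (-1)), (0, (-3)), (0, 1), (0, 1), (0, 1), (0, 1), (0, 1), (0, 1), (0, 1), (0, (-1)), (0, (-1)), (0, (-1)), (0, 1), (0, (-1)), (0, (-1)), (0, 1), (0, (-3)), (0, (-1))],
      [(0, (-1)), (0, (-1)), (0, (-1)), (0, 1), (0, 3), (0, (-1)), (0, (-1)), (0, 1), (0, 1), (0, 1), (0, 1), (0, 1), (0, 1), (0, 1), (0, (-3)), (0, (-1)), (0, 3), (0, (-1)), (0, 1), (0, (-1)), (0, (-1)), (0, (-3)), (0, 1), (0, 3)],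
      [(0, 1), (0, 1), (0, 5), (0, (-1)), (0, 1), (0, 1), (0, (-3)), (0, (-1)), (0, (-1)), (0, (-1)), (0, (-1)), (0, (-1)), (0, (-1)), (0, (-1)), (0, (-1)), (0, 1), (0, 1), (0, (-3)), (0, (-1)), (0, 1), (0, 1), (0, (-1)), (0, (-1)), (0, 1)],
      [(0, 1), (0, 1), (0, 1), (0, 3), (0, 1), (0, 1), (0, 1), (0, 3), (0, (-1)), (0, 3), (0, 3), (0, (-1)), (0, (-1)), (0, (-1)), (0, (-1)), (0, 1), (0, 1), (0, 1), (0, (-1)), (0, 1), (0, 1), (0, (-1)), (0, (-1)), (0, (-3))]]),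
    ([[(0, 2), (0, (-2)), (0, (-4)), (3, 2), (0, 2), (0, 2), (1, 4), (1, (-2)), (3, (-2)), (5, (-2))],
      [(0, (-2)), (0, 2), (4, (-2)), (0, 2), (0, 2), (3, (-2)), (3, 2), (0, 4), (0, (-4)), (3, (-2))],
      [(2, 2), (0, (-2)), (0, (-2)), (0, 2), (3, 2), (0, 2), (0, 2), (1, 2), (0, 2), (0, (-2)), (1, 2), (0, 2), (0, (-2)), (0, (-2)), (0, 2), (1, (-2))],
      [(0, 2), (0, (-2)), (1, 4), (0, (-4)), (1, (-2)), (0, 2), (0, (-2)), (3, (-2)), (3, 2), (5, 2)],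
      [(0, 2), (0, (-2)), (1, (-4)), (0, 4), (1, (-2)), (0, 2), (0, (-2)), (3, (-2)), (3, 2), (5, 2)],
      [(0, (-2)), (0, 2), (3, 4), (0, 2), (0, 2), (0, (-2)), (3, (-2)), (3, (-2)), (4, (-4)), (0, 2)],
      [(0, 2), (0, (-2)), (0, 4), (3, 2), (0, 2), (0, 2), (1, (-4)), (1, (-2)), (3, (-2)), (5, (-2))],
      [(0, (-2)), (0, (-2)), (4, (-2)), (0, (-2)), (0, 2), (3, (-2)), (0, 4), (2, (-2)), (3, 4), (1, 2)],
      [(0, 2), (0, 2), (4, 2), (0, (-2)), (0, 2), (0, (-4)), (2, (-2)), (3, 2), (2, (-4)), (2, 2)],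
      [(2, 2), (0, 2), (0, 2), (0, 2), (3, 2), (0, 2), (0, (-2)), (1, (-2)), (0, 2), (0, 2), (1, (-2)), (0, (-2)), (0, (-2)), (0, 2), (0, 2), (1, (-2))],
      [(2, 2), (0, 2), (0, 2), (0, (-2)), (3, 2), (0, 2), (0, (-2)), (1, 2), (0, (-2)), (0, 2), (1, 2), (0, 2), (0, (-2)), (0, (-2)), (0, (-2)), (1, 2)],
      [(0, (-2)), (0, (-2)), (4, 2), (0, 2), (0, 2), (2, 4), (0, 2), (2, 4), (0, 2), (5, 2)],
      [(0, (-2)), (0, (-2)), (4, (-2)), (0, 2), (0, (-2)), (0, (-4)), (2, 2), (3, (-2)), (2, (-4)), (2, (-2))],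
      [(2, (-2)), (0, 2), (0, 2), (0, 2), (3, 2), (0, (-2)), (0, 2), (1, (-2)), (0, (-2)), (0, (-2)), (1, 2), (0, 2), (0, (-2)), (0, 2), (0, 2), (1, 2)],
      [(0, (-2)), (0, (-2)), (4, 2), (0, (-2)), (0, (-2)), (3, (-2)), (1, 4), (1, 2), (5, (-2)), (0, 4)],
      [(0, 2), (0, 2), (4, (-2)), (0, (-2)), (0, (-2)), (2, 4), (0, (-2)), (2, 4), (0, (-2)), (5, (-2))],
      [(0, (-2)), (0, 2), (4, (-2)), (0, 2), (0, 2), (3, (-2)), (3, 2), (0, (-4)), (0, 4), (3, (-2))],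
      [(2, 2), (0, (-2)), (0, (-2)), (0, 2), (3, (-2)), (0, 2), (0, (-2)), (1, (-2)), (0, (-2)), (0, 2), (1, 2), (0, 2), (0, 2), (0, 2), (0, 2), (1, 2)],
      [(2, 2), (0, 2), (0, 2), (0, (-2)), (3, (-2)), (0, 2), (0, 2), (1, (-2)), (0, 2), (0, (-2)), (1, 2), (0, 2), (0, 2), (0, 2), (0, (-2)), (1, (-2))],
      [(2, (-2)), (0, 2), (0, 2), (0, 2), (3, (-2)), (0, (-2)), (0, (-2)), (1, 2), (0, 2), (0, 2), (1, 2), (0, 2), (0, 2), (0, (-2)), (0, 2), (1, (-2))],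
      [(2, 2), (0, 2), (0, 2), (0, 2), (3, (-2)), (0, 2), (0, 2), (1, 2), (0, (-2)), (0, (-2)), (1, (-2)), (0, (-2)), (0, 2), (0, (-2)), (0, 2), (1, 2)],
      [(0, (-2)), (0, 2), (3, (-4)), (0, 2), (0, 2), (0, (-2)), (3, (-2)), (3, (-2)), (4, 4), (0, 2)],
      [(0, 2), (0, 2), (4, 2), (0, 2), (0, (-2)), (3, 2), (0, 4), (2, 2), (3, 4), (1, (-2))],
      [(0, 2), (0, 2), (4, (-2)), (0, 2), (0, 2), (3, 2), (1, 4), (1, (-2)), (5, 2), (0, 4)]],
     [[(0, 2), (0, (-2)), (1, 2), (0, 2), (0, (-2)), (0, 2), (0, (-2)), (0, 2), (2, (-2)), (0, (-2)), (1, (-2)), (0, 2), (0, (-2)), (4, (-2)), (0, 2), (0, 2)],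
      [(0, (-2)), (0, 2), (1, (-2)), (0, (-2)), (0, 2), (0, (-2)), (0, (-2)), (0, 2), (2, (-2)), (0, (-2)), (1, (-2)), (0, 2), (0, 2), (4, 2), (0, 2), (0, 2)],
      [(0, (-4)), (1, 2), (3, 4), (2, 2), (0, 2), (2, (-2)), (3, 2), (0, 2), (0, (-2)), (0, 2)],
      [(2, (-2)), (0, 4), (0, (-4)), (4, 2), (0, 2), (2, 2), (3, (-2)), (0, 2), (0, 2), (0, 2)],
      [(2, (-2)), (0, (-4)), (0, 4), (4, 2), (0, 2), (2, 2), (3, (-2)), (0, 2), (0, 2), (0, 2)],
      [(2, 2), (2, 4), (3, 2), (0, (-2)), (2, 2), (3, 2), (0, (-2)), (0, 2), (0, 2), (0, (-4))],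
      [(0, 2), (0, (-2)), (1, (-2)), (0, (-2)), (0, 2), (0, 2), (0, (-2)), (0, 2), (2, 2), (0, (-2)), (1, 2), (0, (-2)), (0, (-2)), (4, 2), (0, 2), (0, (-2))],
      [(0, 2), (0, 2), (1, 2), (0, 2), (0, 2), (0, 2), (0, (-2)), (0, (-2)), (2, 2), (0, 2), (1, (-2)), (0, (-2)), (0, 2), (4, 2), (0, 2), (0, 2)],
      [(0, 2), (0, 2), (1, (-2)), (0, (-2)), (0, (-2)), (0, 2), (0, 2), (0, 2), (2, 2), (0, (-2)), (1, (-2)), (0, (-2)), (0, 2), (4, (-2)), (0, (-2)), (0, 2)],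
      [(2, 2), (5, (-4)), (0, 2), (0, 2), (1, (-4)), (0, 2), (3, (-2)), (0, (-2)), (0, (-2)), (0, (-2))],
      [(0, 4), (1, 2), (3, (-4)), (2, 2), (0, 2), (2, (-2)), (3, 2), (0, 2), (0, (-2)), (0, 2)],
      [(2, 2), (6, (-2)), (0, (-2)), (0, 4), (1, 2), (1, 4), (1, (-2)), (0, 2), (0, (-2)), (0, 2)],
      [(0, (-2)), (0, (-2)), (1, (-2)), (0, (-2)), (0, (-2)), (0, (-2)), (0, (-2)), (0, (-2)), (2, 2), (0, 2), (1, (-2)), (0, (-2)), (0, (-2)), (4, (-2)), (0, 2), (0, 2)],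
      [(2, 2), (4, 4), (1, (-2)), (0, 2), (2, (-2)), (3, (-2)), (0, (-2)), (0, 2), (0, 2), (1, 4)],
      [(2, 2), (6, 2), (0, (-2)), (2, (-2)), (0, 4), (2, (-2)), (0, 2), (0, 2), (0, (-2)), (2, 4)],
      [(2, (-2)), (6, 2), (0, 2), (0, 4), (1, (-2)), (1, 4), (1, 2), (0, (-2)), (0, 2), (0, (-2))],
      [(0, (-2)), (0, 2), (1, 2), (0, 2), (0, (-2)), (0, (-2)), (0, (-2)), (0, 2), (2, 2), (0, (-2)), (1, 2), (0, (-2)), (0, 2), (4, (-2)), (0, 2), (0, (-2))],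
      [(1, 4), (0, 2), (6, (-2)), (0, 2), (2, 2), (2, (-4)), (0, 2), (0, 2), (0, 2), (0, (-2))],
      [(1, (-4)), (0, 2), (6, (-2)), (0, 2), (2, 2), (2, 4), (0, 2), (0, 2), (0, 2), (0, (-2))],
      [(2, (-2)), (5, (-4)), (0, (-2)), (0, (-2)), (1, (-4)), (0, (-2)), (3, 2), (0, 2), (0, 2), (0, 2)],
      [(2, (-2)), (4, 4), (1, 2), (0, (-2)), (2, 2), (3, 2), (0, 2), (0, (-2)), (0, (-2)), (1, 4)],
      [(2, 2), (2, (-4)), (3, 2), (0, (-2)), (2, 2), (3, 2), (0, (-2)), (0, 2), (0, 2), (0, 4)],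
      [(0, (-2)), (0, (-2)), (1, 2), (0, 2), (0, 2), (0, (-2)), (0, 2), (0, 2), (2, 2), (0, (-2)), (1, (-2)), (0, (-2)), (0, (-2)), (4, 2), (0, (-2)), (0, 2)],
      [(2, (-2)), (6, (-2)), (0, 2), (2, 2), (0, 4), (2, 2), (0, (-2)), (0, (-2)), (0, 2), (2, 4)]])]

/-- part of the generators and their transposes -/
def threeW4 : List (List (List (ℕ × ℤ)) × List (List (ℕ × ℤ))) :=
  [([[(0, (-1)), (0, 1), (0, (-3)), (0, 1), (0, 1), (0, (-1)), (0, 1), (0, 1), (0, (-1)), (0, 3), (0, 3), (0, (-1)), (0, 1), (0, (-1)), (0, (-3)), (0, (-1)), (0, (-1)), (0, 1), (0, (-1)), (0, (-3)), (0, 1), (0, (-1)), (0, (-1)), (0, 1)],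
      [(0, (-1)), (0, (-3)), (0, (-3)), (0, 1), (0, (-3)), (0, (-1)), (0, 1), (0, 1), (0, (-1)), (0, (-1)), (0, (-1)), (0, (-1)), (0, (-3)), (0, (-1)), (0, 1), (0, (-1)), (0, (-1)), (0, 1), (0, (-1)), (0, 1), (0, (-3)), (0, (-1)), (0, (-1)), (0, 1)],
      [(0, 1), (0, 3), (0, (-1)), (0, (-1)), (0, (-1)), (0, 1), (0, 3), (0, (-1)), (0, 1), (0, 1), (0, (-3)), (0, 1), (0, (-1)), (0, 1), (0, (-1)), (0, (-3)), (0, 1), (0, 3), (0, 1), (0, (-1)), (0, (-1)), (0, 1), (0, 1), (0, (-1))],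
      [(0, 1), (0, (-1)), (0, (-1)), (0, (-1)), (0, (-1)), (0, (-3)), (0, (-1)), (0, (-1)), (0, 1), (0, 1), (0, 1), (0, 1), (0, (-1)), (0, 1), (0, (-1)), (0, 1), (0, 1), (0, (-1)), (0, 1), (0, (-1)), (0, (-1)), (0, (-3)), (0, 1), (0, (-5))],
      [(0, (-1)), (0, 1), (0, (-3)), (0, (-3)), (0, 1), (0, (-1)), (0, (-3)), (0, 1), (0, (-1)), (0, (-1)), (0, (-1)), (0, (-1)), (0, 1), (0, 3), (0, 1), (0, (-1)), (0, (-1)), (0, 1), (0, (-1)), (0, 1), (0, 1), (0, (-1)), (0, 3), (0, 1)],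
      [(0, (-1)), (0, 1), (0, 1), (0, 1), (0, 1), (0, 3), (0, 1), (0, 1), (0, (-1)), (0, (-1)), (0, (-1)), (0, (-1)), (0, 1), (0, (-1)), (0, 1), (0, (-1)), (0, (-1)), (0, 1), (0, (-1)), (0, 1), (0, 1), (0, (-5)), (0, (-1)), (0, (-3))],
      [(0, (-3)), (0, (-1)), (0, 3), (0, (-1)), (0, (-1)), (0, 1), (0, (-1)), (0, (-1)), (0, 1), (0, 1), (0, 1), (0, 1), (0, (-1)), (0, 1), (0, (-1)), (0, (-3)), (0, (-3)), (0, (-1)), (0, (-3)), (0, (-1)), (0, (-1)), (0, 1), (0, 1), (0, (-1))],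
      [(0, (-1)), (0, (-3)), (0, 1), (0, 1), (0, 1), (0, (-1)), (0, 1), (0, (-3)), (0, (-1)), (0, (-1)), (0, (-1)), (0, (-1)), (0, 1), (0, (-1)), (0, (-3)), (0, (-1)), (0, 3), (0, 1), (0, (-1)), (0, 1), (0, 1), (0, (-1)), (0, 3), (0, 1)],
      [(0, 3), (0, 1), (0, 1), (0, 1), (0, (-3)), (0, (-1)), (0, 1), (0, 1), (0, (-1)), (0, (-1)), (0, (-1)), (0, (-1)), (0, 1), (0, (-1)), (0, 1), (0, (-1)), (0, (-1)), (0, (-3)), (0, (-1)), (0, (-3)), (0, 1), (0, (-1)), (0, 3), (0, 1)],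
      [(0, (-3)), (0, 3), (0, (-1)), (0, (-1)), (0, (-1)), (0, 1), (0, (-1)), (0, (-1)), (0, 1), (0, (-3)), (0, 1), (0, (-3)), (0, (-1)), (0, (-3)), (0, (-1)), (0, 1), (0, 1), (0, (-1)), (0, 1), (0, (-1)), (0, (-1)), (0, 1), (0, 1), (0, (-1))],
      [(0, 3), (0, 1), (0, 1), (0, 1), (0, 1), (0, (-1)), (0, (-3)), (0, 1), (0, 3), (0, (-1)), (0, (-1)), (0, (-1)), (0, (-3)), (0, (-1)), (0, (-3)), (0, (-1)), (0, (-1)), (0, 1), (0, (-1)), (0, 1), (0, 1), (0, (-1)), (0, (-1)), (0, 1)],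
      [(0, (-3)), (0, (-1)), (0, (-1)), (0, 3), (0, (-1)), (0, 1), (0, (-1)), (0, 3), (0, 1), (0, 1), (0, (-3)), (0, 1), (0, (-1)), (0, 1), (0, (-1)), (0, 1), (0, 1), (0, (-1)), (0, 1), (0, (-1)), (0, 3), (0, 1), (0, 1), (0, (-1))],
      [(0, (-1)), (0, 1), (0, 1), (0, 1), (0, 1), (0, (-1)), (0, 1), (0, 1), (0, (-1)), (0, (-1)), (0, 3), (0, 3), (0, (-3)), (0, (-1)), (0, 1), (0, (-1)), (0, (-1)), (0, 1), (0, 3), (0, 1), (0, 1), (0, (-1)), (0, 3), (0, 1)],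
      [(0, 1), (0, (-1)), (0, (-1)), (0, (-1)), (0, (-1)), (0, 1), (0, (-1)), (0, 3), (0, 1), (0, 1), (0, 1), (0, 1), (0, 3), (0, (-3)), (0, (-1)), (0, (-3)), (0, 1), (0, (-1)), (0, 1), (0, 3), (0, (-1)), (0, 1), (0, 1), (0, (-1))],
      [(0, (-1)), (0, 1), (0, 1), (0, (-3)), (0, 1), (0, (-1)), (0, 1), (0, 1), (0, (-1)), (0, 3), (0, (-1)), (0, (-1)), (0, (-3)), (0, (-1)), (0, 1), (0, (-1)), (0, 3), (0, (-3)), (0, (-1)), (0, 1), (0, 1), (0, (-1)), (0, (-1)), (0, 1)],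
      [(0, 1), (0, 3), (0, (-1)), (0, 3), (0, (-1)), (0, 1), (0, (-1)), (0, (-1)), (0, (-3)), (0, 1), (0, 1), (0, 1), (0, (-1)), (0, 1), (0, (-1)), (0, 1), (0, 1), (0, (-1)), (0, (-3)), (0, 3), (0, (-1)), (0, 1), (0, 1), (0, (-1))],
      [(0, (-1)), (0, 1), (0, (-3)), (0, 1), (0, 1), (0, (-1)), (0, 1), (0, (-3)), (0, 3), (0, (-1)), (0, (-1)), (0, 3), (0, 1), (0, (-1)), (0, 1), (0, (-1)), (0, (-1)), (0, (-3)), (0, (-1)), (0, 1), (0, 1), (0, (-1)), (0, (-1)), (0, 1)],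
      [(0, 1), (0, (-1)), (0, (-1)), (0, (-1)), (0, (-1)), (0, 1), (0, 3), (0, (-1)), (0, 1), (0, 1), (0, 1), (0, (-3)), (0, (-1)), (0, 1), (0, (-1)), (0, 1), (0, (-3)), (0, (-1)), (0, 1), (0, 3), (0, 3), (0, 1), (0, 1), (0, (-1))],
      [(0, 1), (0, (-1)), (0, (-1)), (0, (-1)), (0, 3), (0, 1), (0, 3), (0, 3), (0, 1), (0, (-3)), (0, 1), (0, 1), (0, (-1)), (0, 1), (0, (-1)), (0, 1), (0, 1), (0, (-1)), (0, (-3)), (0, (-1)), (0, (-1)), (0, 1), (0, 1), (0, (-1))],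
      [(0, 1), (0, (-1)), (0, (-1)), (0, (-1)), (0, 3), (0, 1), (0, (-1)), (0, (-1)), (0, (-3)), (0, 1), (0, (-3)), (0, 1), (0, (-1)), (0, (-3)), (0, (-1)), (0, 1), (0, (-3)), (0, (-1)), (0, 1), (0, (-1)), (0, (-1)), (0, 1), (0, 1), (0, (-1))],
      [(0, (-1)), (0, 1), (0, 1), (0, 1), (0, 1), (0, (-1)), (0, 1), (0, 1), (0, (-1)), (0, (-1)), (0, (-1)), (0, (-1)), (0, 1), (0, 3), (0, (-3)), (0, (-1)), (0, (-1)), (0, (-3)), (0, 3), (0, 1), (0, (-3)), (0, (-1)), (0, (-1)), (0, 1)],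
      [(0, (-1)), (0, 1), (0, 1), (0, 1), (0, 1), (0, (-5)), (0, 1), (0, 1), (0, (-1)), (0, (-1)), (0, (-1)), (0, (-1)), (0, 1), (0, (-1)), (0, 1), (0, (-1)), (0, (-1)), (0, 1), (0, (-1)), (0, 1), (0, 1), (0, 3), (0, (-1)), (0, (-3))],
      [(0, 1), (0, (-1)), (0, (-1)), (0, (-1)), (0, (-1)), (0, 1), (0, (-1)), (0, (-1)), (0, (-3)), (0, (-3)), (0, 1), (0, 1), (0, (-1)), (0, 1), (0, (-1)), (0, (-3)), (0, 1), (0, (-1)), (0, 1), (0, (-1)), (0, 3), (0, 1), (0, (-3)), (0, (-1))],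
      [(0, 1), (0, (-1)), (0, (-1)), (0, 3), (0, 3), (0, 1), (0, (-1)), (0, (-1)), (0, 1), (0, 1), (0, 1), (0, (-3)), (0, (-1)), (0, 1), (0, 3), (0, (-3)), (0, 1), (0, (-1)), (0, 1), (0, (-1)), (0, (-1)), (0, 1), (0, 1), (0, (-1))]],
     [[(0, (-1)), (0, (-1)), (0, 1), (0, 1), (0, (-1)), (0, (-1)), (0, (-3)), (0, (-1)), (0, 3), (0, (-3)), (0, 3), (0, (-3)), (0, (-1)), (0, 1), (0, (-1)), (0, 1), (0, (-1)), (0, 1), (0, 1), (0, 1), (0, (-1)), (0, (-1)), (0, 1), (0, 1)],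
      [(0, 1), (0, (-3)), (0, 3), (0, (-1)), (0, 1), (0, 1), (0, (-1)), (0, (-3)), (0, 1), (0, 3), (0, 1), (0, (-1)), (0, 1), (0, (-1)), (0, 1), (0, 3), (0, 1), (0, (-1)), (0, (-1)), (0, (-1)), (0, 1), (0, 1), (0, (-1)), (0, (-1))],
      [(0, (-3)), (0, (-3)), (0, (-1)), (0, (-1)), (0, (-3)), (0, 1), (0, 3), (0, 1), (0, 1), (0, (-1)), (0, 1), (0, (-1)), (0, 1), (0, (-1)), (0, 1), (0, (-1)), (0, (-3)), (0, (-1)), (0, (-1)), (0, (-1)), (0, 1), (0, 1), (0, (-1)), (0, (-1))],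
      [(0, 1), (0, 1), (0, (-1)), (0, (-1)), (0, (-3)), (0, 1), (0, (-1)), (0, 1), (0, 1), (0, (-1)), (0, 1), (0, 3), (0, 1), (0, (-1)), (0, (-3)), (0, 3), (0, 1), (0, (-1)), (0, (-1)), (0, (-1)), (0, 1), (0, 1), (0, (-1)), (0, 3)],
      [(0, 1), (0, (-3)), (0, (-1)), (0, (-1)), (0, 1), (0, 1), (0, (-1)), (0, 1), (0, (-3)), (0, (-1)), (0, 1), (0, (-1)), (0, 1), (0, (-1)), (0, 1), (0, (-1)), (0, 1), (0, (-1)), (0, 3), (0, 3), (0, 1), (0, 1), (0, (-1)), (0, 3)],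
      [(0, (-1)), (0, (-1)), (0, 1), (0, (-3)), (0, (-1)), (0, 3), (0, 1), (0, (-1)), (0, (-1)), (0, 1), (0, (-1)), (0, 1), (0, (-1)), (0, 1), (0, (-1)), (0, 1), (0, (-1)), (0, 1), (0, 1), (0, 1), (0, (-1)), (0, (-5)), (0, 1), (0, 1)],
      [(0, 1), (0, 1), (0, 3), (0, (-1)), (0, (-3)), (0, 1), (0, (-1)), (0, 1), (0, 1), (0, (-1)), (0, (-3)), (0, (-1)), (0, 1), (0, (-1)), (0, 1), (0, (-1)), (0, 1), (0, 3), (0, 3), (0, (-1)), (0, 1), (0, 1), (0, (-1)), (0, (-1))],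
      [(0, 1), (0, 1), (0, (-1)), (0, (-1)), (0, 1), (0, 1), (0, (-1)), (0, (-3)), (0, 1), (0, (-1)), (0, 1), (0, 3), (0, 1), (0, 3), (0, 1), (0, (-1)), (0, (-3)), (0, (-1)), (0, 3), (0, (-1)), (0, 1), (0, 1), (0, (-1)), (0, (-1))],
      [(0, (-1)), (0, (-1)), (0, 1), (0, 1), (0, (-1)), (0, (-1)), (0, 1), (0, (-1)), (0, (-1)), (0, 1), (0, 3), (0, 1), (0, (-1)), (0, 1), (0, (-1)), (0, (-3)), (0, 3), (0, 1), (0, 1), (0, (-3)), (0, (-1)), (0, (-1)), (0, (-3)), (0, 1)],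
      [(0, 3), (0, (-1)), (0, 1), (0, 1), (0, (-1)), (0, (-1)), (0, 1), (0, (-1)), (0, (-1)), (0, (-3)), (0, (-1)), (0, 1), (0, (-1)), (0, 1), (0, 3), (0, 1), (0, (-1)), (0, 1), (0, (-3)), (0, 1), (0, (-1)), (0, (-1)), (0, (-3)), (0, 1)],
      [(0, 3), (0, (-1)), (0, (-3)), (0, 1), (0, (-1)), (0, (-1)), (0, 1), (0, (-1)), (0, (-1)), (0, 1), (0, (-1)), (0, (-3)), (0, 3), (0, 1), (0, (-1)), (0, 1), (0, (-1)), (0, 1), (0, 1), (0, (-3)), (0, (-1)), (0, (-1)), (0, 1), (0, 1)],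
      [(0, (-1)), (0, (-1)), (0, 1), (0, 1), (0, (-1)), (0, (-1)), (0, 1), (0, (-1)), (0, (-1)), (0, (-3)), (0, (-1)), (0, 1), (0, 3), (0, 1), (0, (-1)), (0, 1), (0, 3), (0, (-3)), (0, 1), (0, 1), (0, (-1)), (0, (-1)), (0, 1), (0, (-3))],
      [(0, 1), (0, (-3)), (0, (-1)), (0, (-1)), (0, 1), (0, 1), (0, (-1)), (0, 1), (0, 1), (0, (-1)), (0, (-3)), (0, (-1)), (0, (-3)), (0, 3), (0, (-3)), (0, (-1)), (0, 1), (0, (-1)), (0, (-1)), (0, (-1)), (0, 1), (0, 1), (0, (-1)), (0, (-1))],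
      [(0, (-1)), (0, (-1)), (0, 1), (0, 1), (0, 3), (0, (-1)), (0, 1), (0, (-1)), (0, (-1)), (0, (-3)), (0, (-1)), (0, 1), (0, (-1)), (0, (-3)), (0, (-1)), (0, 1), (0, (-1)), (0, 1), (0, 1), (0, (-3)), (0, 3), (0, (-1)), (0, 1), (0, 1)],
      [(0, (-3)), (0, 1), (0, (-1)), (0, (-1)), (0, 1), (0, 1), (0, (-1)), (0, (-3)), (0, 1), (0, (-1)), (0, (-3)), (0, (-1)), (0, 1), (0, (-1)), (0, 1), (0, (-1)), (0, 1), (0, (-1)), (0, (-1)), (0, (-1)), (0, (-3)), (0, 1), (0, (-1)), (0, 3)],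
      [(0, (-1)), (0, (-1)), (0, (-3)), (0, 1), (0, (-1)), (0, (-1)), (0, (-3)), (0, (-1)), (0, (-1)), (0, 1), (0, (-1)), (0, 1), (0, (-1)), (0, (-3)), (0, (-1)), (0, 1), (0, (-1)), (0, 1), (0, 1), (0, 1), (0, (-1)), (0, (-1)), (0, (-3)), (0, (-3))],
      [(0, (-1)), (0, (-1)), (0, 1), (0, 1), (0, (-1)), (0, (-1)), (0, (-3)), (0, 3), (0, (-1)), (0, 1), (0, (-1)), (0, 1), (0, (-1)), (0, 1), (0, 3), (0, 1), (0, (-1)), (0, (-3)), (0, 1), (0, (-3)), (0, (-1)), (0, (-1)), (0, 1), (0, 1)],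
      [(0, 1), (0, 1), (0, 3), (0, (-1)), (0, 1), (0, 1), (0, (-1)), (0, 1), (0, (-3)), (0, (-1)), (0, 1), (0, (-1)), (0, 1), (0, (-1)), (0, (-3)), (0, (-1)), (0, (-3)), (0, (-1)), (0, (-1)), (0, (-1)), (0, (-3)), (0, 1), (0, (-1)), (0, (-1))],
      [(0, (-1)), (0, (-1)), (0, 1), (0, 1), (0, (-1)), (0, (-1)), (0, (-3)), (0, (-1)), (0, (-1)), (0, 1), (0, (-1)), (0, 1), (0, 3), (0, 1), (0, (-1)), (0, (-3)), (0, (-1)), (0, 1), (0, (-3)), (0, 1), (0, 3), (0, (-1)), (0, 1), (0, 1)],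
      [(0, (-3)), (0, 1), (0, (-1)), (0, (-1)), (0, 1), (0, 1), (0, (-1)), (0, 1), (0, (-3)), (0, (-1)), (0, 1), (0, (-1)), (0, 1), (0, 3), (0, 1), (0, 3), (0, 1), (0, 3), (0, (-1)), (0, (-1)), (0, 1), (0, 1), (0, (-1)), (0, (-1))],
      [(0, 1), (0, (-3)), (0, (-1)), (0, (-1)), (0, 1), (0, 1), (0, (-1)), (0, 1), (0, 1), (0, (-1)), (0, 1), (0, 3), (0, 1), (0, (-1)), (0, 1), (0, (-1)), (0, 1), (0, 3), (0, (-1)), (0, (-1)), (0, (-3)), (0, 1), (0, 3), (0, (-1))],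
      [(0, (-1)), (0, (-1)), (0, 1), (0, (-3)), (0, (-1)), (0, (-5)), (0, 1), (0, (-1)), (0, (-1)), (0, 1), (0, (-1)), (0, 1), (0, (-1)), (0, 1), (0, (-1)), (0, 1), (0, (-1)), (0, 1), (0, 1), (0, 1), (0, (-1)), (0, 3), (0, 1), (0, 1)],
      [(0, (-1)), (0, (-1)), (0, 1), (0, 1), (0, 3), (0, (-1)), (0, 1), (0, 3), (0, 3), (0, 1), (0, (-1)), (0, 1), (0, 3), (0, 1), (0, (-1)), (0, 1), (0, (-1)), (0, 1), (0, 1), (0, 1), (0, (-1)), (0, (-1)), (0, (-3)), (0, 1)],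
      [(0, 1), (0, 1), (0, (-1)), (0, (-5)), (0, 1), (0, (-3)), (0, (-1)), (0, 1), (0, 1), (0, (-1)), (0, 1), (0, (-1)), (0, 1), (0, (-1)), (0, 1), (0, (-1)), (0, 1), (0, (-1)), (0, (-1)), (0, (-1)), (0, 1), (0, (-3)), (0, (-1)), (0, (-1))]]),
    ([[(1, 4), (1, 2), (0, (-2)), (1, (-4)), (0, (-2)), (1, (-2)), (0, 2), (3, (-2)), (1, 2), (4, 2)],
      [(3, 2), (0, (-2)), (2, (-2)), (0, (-4)), (0, (-2)), (0, (-2)), (3, 2), (1, (-2)), (2, (-4)), (1, (-2))],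
      [(0, (-2)), (0, (-2)), (0, (-2)), (2, 2), (0, (-2)), (1, 2), (2, (-2)), (0, 2), (0, (-2)), (1, (-2)), (1, (-2)), (0, (-2)), (0, (-2)), (0, 2), (1, 2), (0, 2)],
      [(3, 2), (0, 2), (2, (-2)), (1, 2), (0, 2), (3, 2), (1, (-2)), (1, (-4)), (2, 2), (0, (-4))],
      [(3, 2), (0, 2), (2, 2), (1, (-2)), (0, (-2)), (3, (-2)), (1, (-2)), (3, 4), (0, 2), (1, (-4))],
      [(0, 4), (2, (-2)), (0, 2), (0, 4), (1, (-2)), (1, (-2)), (0, 2), (3, (-2)), (1, (-2)), (4, (-2))],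
      [(3, 2), (0, 2), (2, 2), (1, (-2)), (0, 2), (1, (-4)), (1, 2), (0, (-4)), (0, 2), (4, (-2))],
      [(2, (-4)), (0, (-2)), (0, (-2)), (2, 2), (1, (-2)), (0, 2), (2, 4), (0, 2), (1, (-2)), (4, 2)],
      [(0, 2), (0, 2), (0, 2), (2, (-2)), (0, 2), (1, 2), (2, (-2)), (0, (-2)), (0, 2), (1, 2), (1, (-2)), (0, (-2)), (0, (-2)), (0, 2), (1, 2), (0, 2)],
      [(3, 2), (0, (-2)), (2, (-2)), (0, 4), (0, (-2)), (0, (-2)), (3, 2), (1, (-2)), (2, 4), (1, (-2))],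
      [(0, 2), (0, (-2)), (0, (-2)), (2, (-2)), (0, (-2)), (1, 2), (2, 2), (0, (-2)), (0, (-2)), (1, 2), (1, 2), (0, (-2)), (0, (-2)), (0, (-2)), (1, 2), (0, (-2))],
      [(3, (-2)), (0, 2), (2, (-2)), (1, (-2)), (0, (-2)), (0, (-4)), (2, 2), (1, 2), (0, 4), (3, 2)],
      [(3, 2), (0, 2), (2, 2), (1, (-2)), (0, (-2)), (3, (-2)), (1, (-2)), (3, (-4)), (0, 2), (1, 4)],
      [(0, (-4)), (2, (-2)), (0, 2), (0, (-4)), (1, (-2)), (1, (-2)), (0, 2), (3, (-2)), (1, (-2)), (4, (-2))],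
      [(0, (-2)), (0, 2), (0, 2), (2, 2), (0, 2), (1, 2), (2, 2), (0, 2), (0, 2), (1, (-2)), (1, 2), (0, (-2)), (0, (-2)), (0, (-2)), (1, 2), (0, (-2))],
      [(0, (-2)), (0, 2), (0, (-2)), (2, 2), (0, 2), (1, (-2)), (2, (-2)), (0, (-2)), (0, (-2)), (1, 2), (1, (-2)), (0, (-2)), (0, 2), (0, (-2)), (1, 2), (0, (-2))],
      [(2, 4), (0, (-2)), (0, (-2)), (2, 2), (1, (-2)), (0, 2), (2, (-4)), (0, 2), (1, (-2)), (4, 2)],
      [(3, 2), (0, 2), (2, 2), (1, (-2)), (0, 2), (1, 4), (1, 2), (0, 4), (0, 2), (4, (-2))],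
      [(3, 2), (0, 2), (2, (-2)), (1, 2), (0, 2), (3, 2), (1, (-2)), (1, 4), (2, 2), (0, 4)],
      [(0, (-2)), (0, (-2)), (0, 2), (2, 2), (0, (-2)), (1, (-2)), (2, 2), (0, (-2)), (0, 2), (1, 2), (1, 2), (0, (-2)), (0, 2), (0, 2), (1, 2), (0, 2)],
      [(0, 2), (0, 2), (0, (-2)), (2, (-2)), (0, 2), (1, (-2)), (2, 2), (0, 2), (0, (-2)), (1, (-2)), (1, 2), (0, (-2)), (0, 2), (0, 2), (1, 2), (0, 2)],
      [(3, (-2)), (0, 2), (2, (-2)), (1, (-2)), (0, (-2)), (0, 4), (2, 2), (1, 2), (0, (-4)), (3, 2)],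
      [(0, 2), (0, (-2)), (0, 2), (2, (-2)), (0, (-2)), (1, (-2)), (2, (-2)), (0, 2), (0, 2), (1, (-2)), (1, (-2)), (0, (-2)), (0, 2), (0, (-2)), (1, 2), (0, (-2))],
      [(1, (-4)), (1, 2), (0, (-2)), (1, 4), (0, (-2)), (1, (-2)), (0, 2), (3, (-2)), (1, 2), (4, 2)]],
     [[(2, (-2)), (2, 4), (2, 2), (1, 2), (2, (-4)), (0, (-2)), (0, (-2)), (3, (-2)), (0, 2), (1, 2)],
      [(0, 4), (1, (-2)), (5, 2), (1, (-2)), (3, 2), (0, 2), (3, (-2)), (0, 2), (1, (-2)), (0, (-4))],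
      [(2, (-2)), (4, (-4)), (0, 2), (1, (-2)), (3, 2), (0, (-2)), (0, 4), (2, 2), (0, (-2)), (1, 2)],
      [(0, 2), (0, 2), (1, 2), (0, 2), (0, (-2)), (0, 2), (0, (-2)), (1, 2), (1, (-2)), (0, 2), (0, (-2)), (2, (-2)), (0, 2), (0, 2), (2, (-2)), (1, 2)],
      [(0, (-2)), (0, (-2)), (1, 2), (0, 2), (0, 2), (0, 2), (0, (-2)), (1, (-2)), (1, 2), (0, 2), (0, 2), (2, (-2)), (0, 2), (0, 2), (2, 2), (1, (-2))],
      [(2, 2), (2, 4), (2, (-2)), (1, (-2)), (2, (-4)), (0, 2), (0, 2), (3, 2), (0, (-2)), (1, (-2))],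
      [(0, (-4)), (1, (-2)), (5, 2), (1, (-2)), (3, 2), (0, 2), (3, (-2)), (0, 2), (1, (-2)), (0, 4)],
      [(0, (-2)), (0, (-2)), (1, (-2)), (0, 2), (0, (-2)), (0, 2), (0, 2), (1, (-2)), (1, (-2)), (0, 2), (0, (-2)), (2, 2), (0, 2), (0, (-2)), (2, (-2)), (1, (-2))],
      [(1, (-4)), (0, 2), (5, 2), (0, 4), (0, 2), (3, 2), (0, (-2)), (3, (-2)), (0, (-2)), (1, (-2))],
      [(0, (-2)), (0, (-2)), (1, 2), (0, (-2)), (0, (-2)), (0, (-2)), (0, (-2)), (1, (-2)), (1, (-2)), (0, (-2)), (0, (-2)), (2, (-2)), (0, (-2)), (0, 2), (2, (-2)), (1, (-2))],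
      [(0, 2), (0, (-2)), (1, 2), (0, (-2)), (0, 2), (0, 2), (0, 2), (1, (-2)), (1, (-2)), (0, (-2)), (0, 2), (2, 2), (0, 2), (0, 2), (2, (-2)), (1, 2)],
      [(2, (-2)), (5, (-2)), (1, 2), (0, (-4)), (2, 2), (0, (-2)), (3, 2), (0, 2), (0, 4), (0, (-2))],
      [(2, 2), (3, (-4)), (1, (-2)), (1, (-2)), (3, 2), (0, (-2)), (1, 4), (1, (-2)), (0, 2), (1, 2)],
      [(2, (-2)), (4, 4), (0, 2), (1, (-2)), (3, 2), (0, (-2)), (0, (-4)), (2, 2), (0, (-2)), (1, 2)],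
      [(0, (-2)), (0, 2), (1, 2), (0, (-2)), (0, (-2)), (0, 2), (0, 2), (1, 2), (1, 2), (0, (-2)), (0, (-2)), (2, 2), (0, 2), (0, 2), (2, 2), (1, (-2))],
      [(2, (-2)), (3, (-4)), (1, 2), (1, 2), (3, (-2)), (0, 2), (1, 4), (1, 2), (0, (-2)), (1, (-2))],
      [(0, 2), (0, (-2)), (1, (-2)), (0, (-2)), (0, (-2)), (0, 2), (0, (-2)), (1, (-2)), (1, 2), (0, (-2)), (0, (-2)), (2, (-2)), (0, 2), (0, (-2)), (2, 2), (1, 2)],
      [(2, (-2)), (5, (-2)), (1, 2), (0, 4), (2, 2), (0, (-2)), (3, 2), (0, 2), (0, (-4)), (0, (-2))],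
      [(2, (-2)), (0, (-4)), (4, (-2)), (1, (-2)), (3, (-2)), (0, (-2)), (2, 4), (0, (-2)), (0, (-2)), (1, (-2))],
      [(1, (-4)), (0, (-2)), (5, (-2)), (0, 4), (0, (-2)), (3, (-2)), (0, 2), (3, 2), (0, 2), (1, 2)],
      [(2, 2), (1, 4), (3, 2), (1, (-2)), (1, (-4)), (1, (-2)), (0, (-2)), (3, 2), (0, 2), (1, (-2))],
      [(0, 2), (0, (-2)), (1, 2), (0, 2), (0, (-2)), (0, (-2)), (0, 2), (1, (-2)), (1, 2), (0, 2), (0, (-2)), (2, 2), (0, (-2)), (0, 2), (2, 2), (1, 2)],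
      [(2, 2), (0, (-4)), (4, 2), (1, 2), (3, 2), (0, 2), (2, 4), (0, 2), (0, 2), (1, 2)],
      [(2, 2), (1, (-4)), (3, 2), (1, (-2)), (1, 4), (1, (-2)), (0, (-2)), (3, 2), (0, 2), (1, (-2))]])]

/-- the generators and their transposes -/
def threeW : List (List (List (ℕ × ℤ)) × List (List (ℕ × ℤ))) := threeW0 ++ threeW1 ++ threeW2 ++ threeW3 ++ threeW4

/-- part of the relations -/
def threeRels0 : List Rule :=
  [([0, 0, 0], []),
    ([1, 0], [0, 1, 2, 3, 4, 7, 7, 8, 8]),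
    ([1, 1, 1], []),
    ([2, 0], [0, 2, 4, 4, 5, 6, 6, 7, 7, 8, 8]),
    ([2, 1], [1, 2, 5, 6, 7, 8]),
    ([2, 2, 2], [8, 8]),
    ([3, 0], [0, 3, 4, 6, 7]),
    ([3, 1], [1, 3, 5, 5, 6, 6, 8]),
    ([3, 2], [2, 3, 5, 5, 6, 6, 7, 7, 8]),
    ([3, 3, 3], []),
    ([4, 0], [0, 4, 5, 7, 7]),
    ([4, 1], [1, 4, 5, 6, 8, 8]),
    ([4, 2], [2, 4, 7, 7, 8, 8]),
    ([4, 3], [3, 4]),
    ([4, 4, 4], []),
    ([5, 0], [0, 5]),
    ([5, 1], [1, 5, 7, 7, 8, 8]),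
    ([5, 2], [2, 5]),
    ([5, 3], [3, 5]),
    ([5, 4], [4, 5])]

/-- part of the relations -/
def threeRels1 : List Rule :=
  [([5, 5, 5], []),
    ([6, 0], [0, 6, 7, 8, 8]),
    ([6, 1], [1, 6, 7, 8, 8]),
    ([6, 2], [2, 6, 8, 8]),
    ([6, 3], [3, 6]),
    ([6, 4], [4, 6]),
    ([6, 5], [5, 6]),
    ([6, 6, 6], []),
    ([7, 0], [0, 7]),
    ([7, 1], [1, 7, 8]),
    ([7, 2], [2, 7]),
    ([7, 3], [3, 7]),
    ([7, 4], [4, 7]),
    ([7, 5], [5, 7]),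
    ([7, 6], [6, 7]),
    ([7, 7, 7], []),
    ([8, 0], [0, 8]),
    ([8, 1], [1, 8]),
    ([8, 2], [2, 8]),
    ([8, 3], [3, 8])]

/-- part of the relations -/
def threeRels2 : List Rule :=
  [([8, 4], [4, 8]),
    ([8, 5], [5, 8]),
    ([8, 6], [6, 8]),
    ([8, 7], [7, 8]),
    ([8, 8, 8], []),
    ([9, 0, 1, 3], [2, 2, 3, 5, 5, 8, 9]),
    ([9, 1, 3, 4], [1, 2, 3, 3, 5, 5, 6, 6, 9]),
    ([9, 2, 3, 4, 4], [5, 5, 6, 6, 9]),
    ([9, 5], [3, 3, 6, 8, 8, 9]),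
    ([9, 6], [1, 2, 2, 3, 4, 4, 5, 7, 7, 8, 9]),
    ([9, 7], [5, 6, 7, 8, 9]),
    ([9, 8], [8, 9])]

/-- the relations -/
def threeRels : List Rule := threeRels0 ++ threeRels1 ++ threeRels2

/-- part of the pairs -/
def threeEqs0 : List Pair :=
  [([2, 2, 2, 2], [(0, 5, true), (1, 38, true), (0, 38, true)], [(1, 5, true)]),
    ([5, 2, 2, 2], [(0, 17, true), (1, 17, true), (2, 17, true), (0, 5, true), (1, 41, true), (0, 41, true)], [(1, 5, true)]),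
    ([7, 2, 2, 2], [(0, 30, true), (1, 30, true), (2, 30, true), (0, 5, true), (1, 43, true), (0, 43, true)], [(1, 5, true)]),
    ([5, 4, 0], [(0, 19, true), (1, 15, true), (0, 10, true), (4, 33, true), (3, 33, true)], [(1, 10, true), (0, 15, true), (1, 19, true)]),
    ([7, 3, 0], [(0, 31, true), (1, 28, true), (0, 6, true)], [(1, 6, true), (0, 28, true), (1, 31, true), (2, 32, true), (3, 34, true)]),
    ([5, 3, 0], [(0, 18, true), (1, 15, true), (0, 6, true), (4, 33, true), (3, 26, true)], [(1, 6, true), (0, 15, true), (1, 18, true), (2, 19, true)]),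
    ([7, 7, 7, 1], [(0, 35, true)], [(2, 29, true), (1, 29, true), (0, 29, true), (2, 43, true), (4, 43, true), (3, 43, true), (1, 35, true), (1, 44, true)]),
    ([8, 2, 1], [(0, 38, true), (1, 37, true), (0, 4, true)], [(1, 4, true), (0, 37, true), (1, 38, true), (2, 41, true), (3, 42, true), (4, 43, true)]),
    ([8, 3, 0], [(0, 39, true), (1, 36, true), (0, 6, true)], [(1, 6, true), (0, 36, true), (1, 39, true), (2, 40, true), (3, 42, true), (4, 43, true)]),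
    ([5, 3, 2], [(0, 18, true), (1, 17, true), (0, 8, true), (8, 41, true), (7, 33, true), (6, 33, true), (5, 26, true), (4, 26, true), (2, 20, true)], [(1, 8, true), (0, 17, true), (1, 18, true), (2, 20, true)])]

/-- part of the pairs -/
def threeEqs1 : List Pair :=
  [([7, 2, 1], [(0, 30, true), (1, 29, true), (0, 4, true), (5, 43, true)], [(1, 4, true), (0, 29, true), (2, 38, true), (1, 30, true), (3, 41, true), (2, 33, true), (4, 42, true), (3, 34, true), (5, 43, true)]),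
    ([8, 1, 0], [(0, 37, true), (1, 36, true), (0, 1, true), (7, 44, true)], [(1, 1, true), (0, 36, true), (1, 37, true), (2, 38, true), (3, 39, true), (4, 40, true), (5, 43, true), (6, 43, true), (7, 44, true)]),
    ([4, 4, 4, 0], [(0, 14, true)], [(2, 10, true), (1, 10, true), (0, 10, true), (4, 32, true), (3, 32, true), (2, 19, true), (5, 33, true), (4, 33, true), (5, 35, true), (5, 32, true), (4, 19, true), (3, 19, true), (1, 14, true), (3, 33, true), (1, 20, true), (1, 35, true)]),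
    ([6, 6, 6, 0], [(0, 27, true)], [(2, 21, true), (1, 21, true), (0, 21, true), (4, 42, true), (3, 42, true), (2, 34, true), (5, 43, true), (4, 43, true), (5, 44, true), (5, 42, true), (4, 34, true), (3, 34, true), (1, 27, true), (3, 43, true), (1, 35, true), (1, 44, true)]),
    ([5, 1, 1, 1], [(0, 16, true), (5, 37, true), (4, 37, true), (3, 29, true), (2, 29, true), (1, 16, true), (6, 43, true), (5, 43, true), (3, 35, true), (3, 44, true), (4, 44, true), (3, 29, true), (2, 16, true), (0, 2, true), (4, 43, true), (3, 43, true), (1, 35, true), (1, 44, true)], [(1, 2, true)]),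
    ([6, 3, 0], [(0, 24, true), (1, 21, true), (0, 6, true), (4, 34, true)], [(1, 6, true), (0, 21, true), (4, 39, true), (3, 39, true), (2, 31, true), (1, 24, true), (5, 40, true), (4, 40, true), (3, 32, true), (2, 25, true), (6, 42, true), (5, 42, true), (4, 34, true), (7, 43, true), (6, 43, true)]),
    ([4, 3, 0], [(0, 13, true), (1, 10, true), (0, 6, true), (4, 32, true), (3, 25, true), (5, 33, true), (4, 26, true), (6, 35, true)], [(1, 6, true), (0, 10, true), (4, 31, true), (3, 31, true), (2, 18, true), (1, 13, true), (5, 32, true), (4, 32, true), (3, 19, true), (6, 34, true), (5, 34, true), (6, 35, true)]),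
    ([7, 1, 0], [(0, 29, true), (2, 36, true), (1, 28, true), (0, 1, true), (8, 43, true), (7, 43, true), (5, 35, true), (5, 44, true)], [(1, 1, true), (0, 28, true), (1, 29, true), (3, 38, true), (2, 30, true), (4, 39, true), (3, 31, true), (5, 40, true), (4, 32, true), (6, 43, true), (7, 43, true), (5, 35, true), (5, 44, true)]),
    ([6, 2, 1], [(0, 23, true), (3, 37, true), (2, 37, true), (1, 22, true), (0, 4, true), (5, 42, true), (4, 34, true), (6, 43, true), (7, 44, true)], [(1, 4, true), (0, 22, true), (4, 38, true), (3, 38, true), (2, 30, true), (1, 23, true), (4, 43, true), (3, 43, true), (4, 44, true), (4, 41, true), (3, 33, true), (2, 26, true), (5, 42, true), (4, 34, true), (6, 43, true)]),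
    ([3, 3, 3, 0], [(0, 9, true)], [(2, 6, true), (1, 6, true), (0, 6, true), (4, 31, true), (3, 24, true), (2, 13, true), (5, 32, true), (4, 25, true), (6, 34, true), (8, 31, true), (7, 31, true), (6, 24, true), (5, 24, true), (4, 13, true), (3, 13, true), (1, 9, true), (6, 32, true), (5, 32, true), (4, 25, true), (3, 25, true), (1, 14, true), (4, 34, true), (3, 34, true), (1, 27, true), (1, 35, true)])]

/-- part of the pairs -/
def threeEqs2 : List Pair :=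
  [([4, 4, 4, 1], [(0, 14, true)], [(2, 11, true), (1, 11, true), (0, 11, true), (5, 40, true), (4, 40, true), (3, 25, true), (2, 19, true), (6, 41, true), (5, 41, true), (4, 26, true), (7, 42, true), (6, 42, true), (7, 44, true), (7, 40, true), (6, 25, true), (5, 25, true), (4, 19, true), (3, 19, true), (1, 14, true), (5, 41, true), (4, 26, true), (3, 26, true), (1, 20, true), (3, 42, true), (1, 27, true), (1, 44, true)]),
    ([6, 3, 1], [(0, 24, true), (1, 22, true), (0, 7, true), (6, 42, true), (4, 27, true), (4, 43, true), (5, 44, true)], [(1, 7, true), (0, 22, true), (4, 39, true), (3, 39, true), (2, 31, true), (1, 24, true), (5, 41, true), (4, 41, true), (3, 33, true), (2, 26, true), (6, 41, true), (5, 41, true), (4, 33, true), (3, 26, true), (7, 42, true), (6, 42, true), (5, 34, true), (8, 42, true), (7, 42, true), (6, 34, true), (4, 27, true), (5, 44, true)]),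
    ([4, 3, 1], [(0, 13, true), (1, 11, true), (0, 7, true), (6, 40, true), (5, 25, true), (4, 25, true), (3, 19, true), (2, 19, true), (7, 41, true), (6, 26, true), (5, 26, true), (3, 20, true), (5, 42, true), (3, 27, true), (3, 44, true)], [(1, 7, true), (0, 11, true), (5, 39, true), (4, 39, true), (3, 24, true), (2, 18, true), (1, 13, true), (6, 41, true), (5, 41, true), (4, 26, true), (7, 41, true), (6, 41, true), (5, 26, true), (3, 20, true), (5, 42, true), (4, 42, true), (6, 42, true), (5, 42, true), (3, 27, true), (3, 44, true)]),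
    ([5, 1, 0], [(0, 16, true), (5, 36, true), (4, 36, true), (3, 28, true), (2, 28, true), (1, 15, true), (0, 1, true), (8, 41, true), (7, 41, true), (6, 33, true), (5, 33, true), (9, 43, true), (8, 43, true), (6, 35, true), (7, 43, true), (6, 43, true), (7, 44, true)], [(1, 1, true), (0, 15, true), (1, 16, true), (6, 38, true), (5, 38, true), (4, 30, true), (3, 30, true), (2, 17, true), (7, 39, true), (6, 39, true), (5, 31, true), (4, 31, true), (3, 18, true), (8, 40, true), (7, 40, true), (6, 32, true), (5, 32, true), (4, 19, true), (9, 43, true), (8, 43, true), (6, 35, true), (7, 43, true), (6, 43, true), (7, 44, true)]),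
    ([4, 2, 1], [(0, 12, true), (5, 37, true), (4, 37, true), (3, 29, true), (2, 29, true), (1, 11, true), (0, 4, true), (5, 40, true), (4, 32, true), (3, 25, true), (2, 19, true), (6, 41, true), (5, 33, true), (4, 26, true), (7, 42, true), (6, 34, true), (8, 44, true), (9, 43, true), (7, 35, true), (7, 44, true)], [(1, 4, true), (0, 11, true), (5, 38, true), (4, 38, true), (3, 23, true), (2, 17, true), (1, 12, true), (6, 41, true), (5, 41, true), (4, 33, true), (3, 33, true), (7, 42, true), (6, 42, true), (5, 34, true), (4, 34, true), (7, 44, true), (7, 44, true), (6, 33, true), (5, 33, true), (4, 26, true), (7, 34, true), (6, 34, true), (7, 35, true)]),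
    ([3, 0, 0, 0], [(0, 6, true), (4, 28, true), (3, 21, true), (2, 10, true), (1, 6, true), (5, 32, true), (4, 25, true), (6, 33, true), (5, 26, true), (7, 35, true), (10, 43, true), (9, 43, true), (11, 36, true), (10, 36, true), (9, 28, true), (8, 28, true), (7, 21, true), (6, 21, true), (5, 15, true), (4, 10, true), (3, 10, true), (2, 6, true), (0, 0, true), (3, 32, true), (2, 25, true), (4, 33, true), (3, 26, true), (5, 35, true), (4, 25, true), (3, 19, true), (1, 14, true), (2, 26, true), (5, 33, true), (4, 33, true), (3, 26, true), (1, 20, true), (3, 34, true), (2, 34, true), (3, 35, true), (4, 42, true), (3, 42, true), (1, 27, true), (2, 43, true), (1, 43, true), (2, 44, true), (2, 43, true), (3, 43, true), (1, 35, true), (1, 44, true)], [(1, 0, true)]),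
    ([4, 1, 0], [(0, 11, true), (5, 36, true), (4, 36, true), (3, 21, true), (2, 15, true), (1, 10, true), (0, 1, true), (8, 40, true), (7, 40, true), (6, 32, true), (5, 32, true), (9, 41, true), (8, 41, true), (7, 33, true), (6, 33, true), (10, 43, true), (9, 43, true), (7, 35, true), (8, 43, true), (7, 43, true), (9, 41, true), (8, 41, true), (7, 33, true), (10, 42, true), (9, 42, true), (8, 34, true), (11, 43, true), (10, 43, true), (11, 44, true), (11, 44, true)], [(1, 1, true), (0, 10, true), (4, 29, true), (3, 29, true), (2, 16, true), (1, 11, true), (6, 41, true), (5, 41, true), (4, 26, true), (7, 43, true), (6, 43, true), (8, 43, true), (7, 43, true), (8, 44, true), (8, 43, true), (6, 35, true), (7, 43, true), (6, 43, true), (7, 44, true), (6, 30, true), (5, 23, true), (4, 17, true), (3, 17, true), (2, 12, true), (7, 41, true), (6, 41, true), (5, 33, true), (4, 33, true), (8, 41, true),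 (7, 41, true), (6, 33, true), (5, 33, true), (9, 42, true), (8, 42, true), (7, 34, true), (6, 34, true), (9, 44, true), (9, 43, true), (7, 35, true), (7, 39, true), (6, 24, true), (5, 18, true), (4, 18, true), (3, 13, true), (8, 40, true), (7, 25, true), (6, 19, true), (5, 19, true), (9, 43, true), (10, 43, true), (11, 44, true)]),
    ([3, 2, 1], [(0, 8, true), (8, 37, true), (7, 29, true), (6, 29, true), (5, 22, true), (4, 22, true), (3, 16, true), (2, 16, true), (1, 7, true), (0, 4, true), (5, 39, true), (4, 31, true), (3, 24, true), (2, 18, true), (6, 41, true), (5, 33, true), (4, 26, true), (7, 41, true), (6, 33, true), (5, 26, true), (3, 20, true), (5, 42, true), (4, 34, true), (6, 42, true), (5, 34, true), (3, 27, true), (5, 41, true), (4, 41, true), (3, 33, true), (6, 43, true), (5, 43, true), (7, 43, true), (6, 43, true), (4, 35, true), (4, 44, true), (4, 41, true), (5, 43, true),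 (6, 43, true), (7, 44, true), (6, 34, true), (5, 34, true), (6, 35, true), (7, 42, true), (6, 42, true), (8, 43, true), (7, 43, true), (8, 44, true), (8, 43, true), (10, 43, true), (9, 43, true), (7, 35, true), (7, 44, true)], [(1, 4, true), (0, 7, true), (6, 38, true), (5, 23, true), (4, 23, true), (3, 17, true), (2, 17, true), (1, 8, true), (9, 41, true), (8, 33, true), (7, 33, true), (6, 26, true), (5, 26, true), (3, 20, true), (7, 41, true), (6, 33, true), (5, 33, true), (4, 26, true), (3, 26, true), (8, 42, true), (7, 34, true), (6, 34, true), (4, 27, true), (6, 44, true), (5, 34, true), (4, 34, true), (7, 44, true), (6, 33, true), (5, 33, true), (4, 26, true), (7, 34, true), (6, 34, true), (7, 35, true)]),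
    ([3, 1, 0], [(0, 7, true), (6, 36, true), (5, 21, true), (4, 21, true), (3, 15, true), (2, 15, true), (1, 6, true), (0, 1, true), (8, 39, true), (7, 39, true), (6, 31, true), (5, 31, true), (4, 13, true), (9, 40, true), (8, 40, true), (7, 32, true), (6, 32, true), (10, 42, true), (9, 42, true), (8, 34, true), (7, 34, true), (11, 43, true), (10, 43, true), (8, 35, true), (9, 41, true), (8, 41, true), (7, 26, true), (10, 41, true), (9, 41, true), (8, 26, true), (11, 42, true), (10, 42, true), (12, 43, true), (11, 43, true), (12, 44, true), (12, 42, true), (11, 34, true), (9, 27, true), (10, 43, true), (11, 44, true)], [(1, 1, true), (0, 6, true), (4, 29, true), (3, 22, true), (2, 11, true), (1, 7, true), (7, 40, true), (6, 25, true), (5, 25, true), (4, 19, true), (3, 19, true), (8, 41, true), (7, 26, true), (6, 26, true), (4, 20, true), (6, 42, true), (4, 27, true), (4, 44, true), (7, 43,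 true), (6, 43, true), (7, 44, true), (6, 30, true), (5, 30, true), (4, 23, true), (3, 12, true), (2, 8, true), (10, 40, true), (9, 32, true), (8, 32, true), (7, 25, true), (6, 25, true), (5, 19, true), (4, 19, true), (11, 43, true), (9, 35, true), (9, 43, true), (10, 44, true), (9, 34, true), (7, 27, true), (9, 43, true), (8, 43, true), (10, 43, true), (9, 43, true), (7, 35, true), (8, 39, true), (7, 39, true), (6, 18, true), (5, 18, true), (4, 13, true), (9, 40, true), (8, 40, true), (7, 19, true), (6, 19, true), (10, 43, true), (9, 43, true), (11, 43, true), (10, 43, true), (11, 44, true)]),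
    ([3, 2, 0], [(0, 8, true), (8, 36, true), (7, 28, true), (6, 28, true), (5, 21, true), (4, 21, true), (3, 15, true), (2, 15, true), (1, 6, true), (0, 3, true), (10, 39, true), (9, 39, true), (8, 31, true), (7, 31, true), (6, 24, true), (5, 24, true), (4, 18, true), (3, 13, true), (2, 13, true), (11, 40, true), (10, 40, true), (9, 32, true), (8, 32, true), (7, 25, true), (6, 25, true), (5, 19, true), (3, 14, true), (9, 42, true), (8, 42, true), (7, 34, true), (6, 34, true), (4, 27, true), (7, 43, true), (6, 43, true), (4, 35, true), (5, 41, true), (4, 41, true), (6, 41, true), (5, 41, true), (3, 20, true), (4, 42, true), (3, 42, true), (5, 43, true), (4, 43, true), (5, 44, true), (5, 42, true), (4, 34, true), (6, 43, true), (7, 44, true), (5, 35, true)], [(1, 3, true), (0, 6, true), (4, 30, true), (3, 23, true), (2, 12, true), (1, 8, true), (9, 40, true), (8, 32, true), (7, 32, true), (6,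 25, true), (5, 25, true), (4, 19, true), (3, 19, true), (10, 43, true), (8, 35, true), (8, 43, true), (9, 44, true), (8, 34, true), (6, 27, true), (8, 43, true), (7, 43, true), (9, 40, true), (8, 40, true), (7, 32, true), (6, 32, true), (5, 19, true), (4, 19, true), (10, 40, true), (9, 40, true), (8, 32, true), (7, 32, true), (6, 19, true), (5, 19, true), (3, 14, true), (8, 41, true), (7, 41, true), (6, 33, true), (5, 33, true), (3, 20, true), (6, 42, true), (5, 42, true), (4, 34, true), (3, 34, true), (7, 42, true), (6, 42, true), (5, 34, true), (4, 34, true), (8, 43, true), (7, 43, true), (5, 35, true), (6, 43, true), (5, 43, true), (6, 44, true)])]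

/-- part of the pairs -/
def threeEqs3 : List Pair :=
  [([1, 0, 0, 0], [(0, 1, true), (8, 36, true), (7, 36, true), (6, 28, true), (5, 28, true), (4, 10, true), (3, 6, true), (2, 3, true), (1, 1, true), (9, 38, true), (8, 38, true), (7, 30, true), (6, 30, true), (5, 12, true), (4, 8, true), (12, 40, true), (11, 32, true), (10, 32, true), (9, 25, true), (8, 25, true), (7, 19, true), (6, 19, true), (13, 43, true), (11, 35, true), (11, 43, true), (12, 44, true), (11, 35, true), (12, 40, true), (11, 40, true), (10, 25, true), (9, 25, true), (8, 19, true), (7, 19, true), (13, 40, true), (12, 40, true), (11, 25, true), (10, 25, true), (9, 19, true), (8, 19, true), (6, 14, true), (11, 41, true), (10, 41, true), (9, 26, true), (8, 26, true), (6, 20, true), (9, 42, true), (8, 42, true), (6, 27, true), (7, 42, true), (6, 42, true), (8, 43, true), (7, 43, true), (9, 43, true), (8, 43, true), (9, 44,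 true), (9, 39, true), (8, 31, true), (7, 31, true), (6, 24, true), (10, 40, true), (9, 32, true), (8, 32, true), (7, 25, true), (11, 42, true), (10, 34, true), (9, 34, true), (12, 43, true), (10, 35, true), (10, 40, true), (9, 25, true), (8, 25, true), (11, 41, true), (10, 26, true), (9, 26, true), (12, 43, true), (13, 43, true), (14, 43, true), (12, 35, true), (12, 43, true), (13, 44, true), (12, 28, true), (11, 21, true), (10, 21, true), (9, 15, true), (8, 10, true), (7, 10, true), (6, 6, true), (5, 6, true), (4, 3, true), (3, 3, true), (2, 1, true), (0, 0, true), (7, 38, true), (6, 38, true), (5, 30, true), (4, 30, true), (3, 12, true), (2, 8, true), (10, 40, true), (9, 32, true), (8, 32, true), (7, 25, true), (6, 25, true), (5, 19, true), (4, 19, true), (11, 43, true), (9, 35, true), (9, 43, true), (10, 44, true), (9, 35, true), (10, 40, true), (9, 40, true), (8, 25, true), (7, 25, true),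 (6, 19, true), (5, 19, true), (11, 40, true), (10, 40, true), (9, 25, true), (8, 25, true), (7, 19, true), (6, 19, true), (4, 14, true), (9, 41, true), (8, 41, true), (7, 26, true), (6, 26, true), (4, 20, true), (7, 42, true), (6, 42, true), (4, 27, true), (5, 42, true), (4, 42, true), (6, 43, true), (5, 43, true), (7, 43, true), (6, 43, true), (7, 44, true), (7, 38, true), (6, 30, true), (5, 30, true), (4, 23, true), (3, 8, true), (1, 5, true), (2, 39, true), (1, 39, true), (3, 41, true), (2, 41, true), (4, 41, true), (3, 41, true), (5, 42, true), (4, 42, true), (6, 42, true), (5, 42, true), (7, 43, true), (6, 43, true), (8, 43, true), (7, 43, true), (8, 44, true), (7, 34, true), (6, 34, true), (4, 27, true), (7, 43, true), (6, 43, true), (4, 35, true), (5, 43, true), (4, 43, true), (5, 44, true), (4, 32, true), (3, 19, true), (2, 19, true), (5, 32, true), (4, 19, true), (3, 19, true), (6,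 33, true), (4, 20, true), (4, 34, true), (5, 34, true), (6, 35, true), (7, 39, true), (6, 39, true), (5, 24, true), (4, 24, true), (3, 13, true), (2, 13, true), (8, 40, true), (7, 40, true), (6, 25, true), (5, 25, true), (3, 14, true), (6, 42, true), (5, 42, true), (3, 27, true), (4, 43, true), (3, 43, true), (5, 39, true), (4, 39, true), (3, 31, true), (1, 9, true), (3, 40, true), (2, 40, true), (1, 32, true), (4, 42, true), (3, 42, true), (2, 34, true), (5, 43, true), (4, 43, true), (6, 40, true), (5, 40, true), (4, 32, true), (3, 32, true), (2, 25, true), (7, 41, true), (6, 41, true), (5, 33, true), (4, 33, true), (3, 26, true), (8, 43, true), (7, 43, true), (5, 35, true), (6, 43, true), (5, 43, true), (7, 40, true), (6, 40, true), (5, 32, true), (4, 25, true), (3, 19, true), (1, 14, true), (5, 41, true), (4, 41, true), (3, 33, true), (2, 26, true), (6, 43, true), (5, 43, true), (7, 43,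 true), (6, 43, true), (4, 35, true), (5, 41, true), (4, 41, true), (3, 26, true), (1, 20, true), (3, 42, true), (2, 42, true), (4, 43, true), (3, 43, true), (4, 44, true), (4, 42, true), (3, 34, true), (1, 27, true), (2, 43, true), (3, 44, true), (1, 35, true)], [(1, 0, true)]),
    ([9, 0, 1, 3, 0, 1, 3, 0, 1, 3], [(0, 45, true), (6, 45, true), (12, 45, true), (5, 38, true), (4, 17, true), (3, 17, true), (2, 8, true), (0, 5, true), (1, 39, true), (0, 39, true), (2, 41, true), (1, 41, true), (3, 41, true), (2, 41, true), (4, 42, true), (3, 42, true), (5, 42, true), (4, 42, true), (6, 43, true), (5, 43, true), (7, 43, true), (6, 43, true), (7, 44, true), (6, 33, true), (5, 33, true), (4, 26, true), (3, 26, true), (1, 20, true), (4, 33, true), (3, 33, true), (2, 26, true), (1, 26, true), (6, 38, true), (5, 30, true), (4, 30, true), (3, 23, true), (2, 23, true), (1, 17, true), (0, 8, true), (8,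 41, true), (7, 33, true), (6, 33, true), (5, 26, true), (4, 26, true), (2, 20, true), (6, 42, true), (5, 34, true), (4, 34, true), (2, 27, true), (4, 44, true), (3, 34, true), (2, 34, true), (6, 43, true), (5, 43, true), (3, 35, true), (4, 43, true), (3, 43, true), (4, 44, true), (3, 31, true), (2, 24, true), (4, 33, true), (3, 26, true), (5, 33, true), (4, 26, true), (7, 38, true), (6, 30, true), (5, 23, true), (4, 17, true), (3, 17, true), (2, 8, true), (1, 8, true), (9, 39, true), (8, 31, true), (7, 31, true), (6, 24, true), (5, 24, true), (4, 18, true), (3, 18, true), (10, 41, true), (9, 33, true), (8, 33, true), (7, 26, true), (6, 26, true), (4, 20, true), (8, 41, true), (7, 33, true), (6, 33, true), (5, 26, true), (4, 26, true), (9, 42, true), (8, 34, true), (7, 34, true), (5, 27, true), (7, 42, true), (6, 34, true), (5, 34, true), (8, 43, true), (6, 35, true), (6, 43, true), (8, 41,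 true), (7, 41, true), (6, 33, true), (5, 26, true), (9, 41, true), (8, 41, true), (7, 33, true), (6, 26, true), (4, 20, true), (7, 42, true), (6, 42, true), (5, 34, true), (7, 44, true), (7, 43, true), (9, 38, true), (8, 38, true), (7, 30, true), (6, 30, true), (5, 23, true), (4, 23, true), (3, 8, true), (2, 8, true), (0, 5, true), (1, 39, true), (0, 39, true), (2, 41, true), (1, 41, true), (3, 41, true), (2, 41, true), (4, 42, true), (3, 42, true), (5, 42, true), (4, 42, true), (6, 43, true), (5, 43, true), (7, 43, true), (6, 43, true), (7, 44, true), (6, 31, true), (5, 31, true), (4, 24, true), (3, 24, true), (2, 18, true), (1, 18, true), (7, 33, true), (6, 33, true), (5, 26, true), (4, 26, true), (2, 20, true), (5, 33, true), (4, 33, true), (3, 26, true), (2, 26, true), (6, 34, true), (5, 34, true), (3, 27, true), (4, 34, true), (3, 34, true), (4, 35, true), (5, 42, true), (4, 34, true),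 (6, 44, true), (5, 34, true), (3, 27, true), (5, 43, true), (4, 43, true), (6, 43, true), (5, 43, true), (3, 35, true), (3, 44, true), (3, 39, true), (2, 18, true), (0, 9, true), (1, 41, true), (2, 41, true), (0, 20, true)], [(3, 6, true), (2, 1, true), (10, 39, true), (9, 39, true), (8, 31, true), (7, 31, true), (6, 13, true), (11, 40, true), (10, 40, true), (9, 32, true), (8, 32, true), (12, 42, true), (11, 42, true), (10, 34, true), (9, 34, true), (13, 43, true), (12, 43, true), (10, 35, true), (11, 37, true), (10, 37, true), (9, 22, true), (8, 11, true), (7, 11, true), (6, 7, true), (5, 7, true), (4, 4, true), (9, 39, true), (8, 31, true), (7, 24, true), (6, 18, true), (10, 41, true), (9, 33, true), (8, 26, true), (11, 41, true), (10, 33, true), (9, 26, true), (7, 20, true), (9, 42, true), (8, 34, true), (10, 42, true), (9, 34, true), (7, 27, true), (9, 39, true), (8, 39, true), (7, 31,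 true), (10, 41, true), (9, 41, true), (8, 33, true), (11, 41, true), (10, 41, true), (9, 33, true), (12, 42, true), (11, 42, true), (10, 34, true), (13, 42, true), (12, 42, true), (11, 34, true), (13, 44, true), (12, 32, true), (11, 25, true), (10, 25, true), (9, 19, true), (8, 19, true), (13, 33, true), (12, 26, true), (11, 26, true), (9, 20, true), (11, 34, true), (9, 27, true), (11, 40, true), (10, 40, true), (9, 32, true), (12, 41, true), (11, 41, true), (10, 33, true), (13, 42, true), (12, 42, true), (11, 34, true), (13, 44, true), (13, 42, true), (12, 34, true), (14, 43, true), (15, 44, true), (16, 39, true), (15, 39, true), (14, 31, true), (13, 31, true), (12, 24, true), (11, 24, true), (10, 18, true), (9, 13, true), (8, 13, true), (6, 9, true), (14, 36, true), (13, 36, true), (12, 28, true), (11, 28, true), (10, 21, true), (9, 21, true), (8, 15, true), (7, 10, true), (6, 10, true),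 (5, 3, true), (4, 1, true), (3, 1, true), (1, 0, true), (8, 37, true), (7, 37, true), (6, 29, true), (5, 29, true), (4, 11, true), (3, 7, true), (2, 4, true), (7, 39, true), (6, 31, true), (5, 24, true), (4, 18, true), (8, 41, true), (7, 33, true), (6, 26, true), (9, 41, true), (8, 33, true), (7, 26, true), (5, 20, true), (7, 42, true), (6, 34, true), (8, 42, true), (7, 34, true), (5, 27, true), (7, 40, true), (6, 40, true), (5, 32, true), (8, 41, true), (7, 41, true), (6, 33, true), (9, 42, true), (8, 42, true), (7, 34, true), (9, 44, true), (9, 43, true), (11, 43, true), (10, 43, true), (8, 35, true), (8, 44, true), (9, 38, true), (8, 38, true), (7, 23, true), (6, 17, true), (5, 12, true), (4, 8, true), (12, 40, true), (11, 32, true), (10, 32, true), (9, 25, true), (8, 25, true), (7, 19, true), (6, 19, true), (13, 43, true), (11, 35, true), (11, 43, true), (12, 44, true), (11, 33, true),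 (10, 26, true), (9, 26, true), (7, 20, true), (9, 34, true), (7, 27, true), (8, 44, true), (8, 39, true), (7, 31, true), (6, 13, true), (9, 40, true), (8, 32, true), (10, 43, true), (11, 43, true), (9, 35, true), (9, 44, true), (8, 12, true), (7, 12, true), (6, 8, true), (5, 8, true), (3, 5, true), (4, 39, true), (3, 39, true), (5, 41, true), (4, 41, true), (6, 41, true), (5, 41, true), (7, 42, true), (6, 42, true), (8, 42, true), (7, 42, true), (9, 43, true), (8, 43, true), (10, 43, true), (9, 43, true), (10, 44, true), (9, 31, true), (8, 31, true), (7, 24, true), (6, 24, true), (5, 18, true), (4, 18, true), (10, 33, true), (9, 33, true), (8, 26, true), (7, 26, true), (5, 20, true), (8, 33, true), (7, 33, true), (6, 26, true), (5, 26, true), (9, 34, true), (8, 34, true), (6, 27, true), (7, 34, true), (6, 34, true), (7, 35, true), (8, 40, true), (7, 32, true), (6, 25, true), (5, 19, true),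 (9, 43, true), (10, 43, true), (8, 35, true), (8, 44, true), (7, 25, true), (6, 19, true), (12, 40, true), (11, 40, true), (10, 32, true), (9, 32, true), (8, 25, true), (7, 19, true), (5, 14, true), (10, 40, true), (9, 40, true), (8, 32, true), (7, 32, true), (6, 25, true), (5, 19, true), (11, 41, true), (10, 41, true), (9, 33, true), (8, 33, true), (7, 26, true), (12, 42, true), (11, 42, true), (10, 34, true), (9, 34, true), (13, 42, true), (12, 42, true), (11, 34, true), (10, 34, true), (8, 27, true), (11, 43, true), (10, 43, true), (8, 35, true), (9, 43, true), (8, 43, true), (9, 44, true), (9, 40, true), (8, 32, true), (7, 19, true), (6, 19, true), (10, 41, true), (9, 33, true), (7, 20, true), (8, 43, true), (9, 43, true), (7, 35, true), (7, 40, true), (5, 14, true), (5, 41, true), (6, 43, true), (7, 43, true), (8, 41, true), (7, 33, true), (6, 33, true), (9, 42, true), (8, 34, true), (7,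 34, true), (10, 43, true), (8, 35, true), (8, 44, true), (11, 43, true), (10, 43, true), (12, 43, true), (11, 43, true), (9, 35, true), (9, 44, true), (9, 37, true), (8, 22, true), (7, 22, true), (6, 16, true), (5, 16, true), (4, 7, true), (3, 7, true), (1, 2, true), (6, 39, true), (5, 24, true), (4, 24, true), (3, 18, true), (2, 18, true), (7, 41, true), (6, 26, true), (5, 26, true), (3, 20, true), (5, 41, true), (4, 26, true), (3, 26, true), (6, 42, true), (4, 27, true), (4, 42, true), (6, 41, true), (5, 41, true), (4, 26, true), (7, 43, true), (6, 43, true), (8, 43, true), (7, 43, true), (8, 44, true), (8, 41, true), (7, 33, true), (6, 33, true), (5, 26, true), (3, 20, true), (6, 43, true), (4, 35, true), (4, 43, true), (5, 44, true), (4, 34, true), (8, 42, true), (7, 42, true), (6, 34, true), (5, 34, true), (3, 27, true), (6, 43, true), (5, 43, true), (3, 35, true), (3, 44, true), (4, 39,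 true), (3, 39, true), (1, 9, true), (0, 51, true), (1, 51, true)]),
    ([9, 1, 3, 4, 0, 1, 3], [(0, 46, true), (8, 45, true), (7, 23, true), (6, 23, true), (5, 17, true), (4, 17, true), (3, 8, true), (2, 8, true), (10, 39, true), (9, 31, true), (8, 31, true), (7, 24, true), (6, 24, true), (5, 18, true), (4, 18, true), (11, 41, true), (10, 33, true), (9, 33, true), (8, 26, true), (7, 26, true), (5, 20, true), (9, 41, true), (8, 33, true), (7, 33, true), (6, 26, true), (5, 26, true), (10, 42, true), (9, 34, true), (8, 34, true), (6, 27, true), (8, 42, true), (7, 34, true), (6, 34, true), (9, 43, true), (7, 35, true), (7, 43, true), (9, 41, true), (8, 41, true), (7, 33, true), (6, 26, true), (10, 41, true), (9, 41, true), (8, 33, true), (7, 26, true), (5, 20, true), (8, 42, true), (7, 42, true), (6, 34, true), (8, 44, true), (8, 42, true), (7, 34, true), (5, 27, true), (6, 44, true), (5, 30,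 true), (4, 8, true), (3, 8, true), (1, 5, true), (2, 39, true), (1, 39, true), (3, 41, true), (2, 41, true), (4, 41, true), (3, 41, true), (5, 42, true), (4, 42, true), (6, 42, true), (5, 42, true), (7, 43, true), (6, 43, true), (8, 43, true), (7, 43, true), (8, 44, true), (7, 31, true), (6, 31, true), (5, 24, true), (4, 24, true), (3, 18, true), (2, 18, true), (8, 33, true), (7, 33, true), (6, 26, true), (5, 26, true), (3, 20, true), (6, 33, true), (5, 33, true), (4, 26, true), (3, 26, true), (7, 34, true), (6, 34, true), (4, 27, true), (5, 34, true), (4, 34, true), (5, 35, true), (6, 43, true), (7, 39, true), (6, 31, true), (5, 31, true), (4, 24, true), (3, 18, true), (1, 9, true), (5, 41, true), (4, 33, true), (3, 33, true), (2, 26, true), (6, 41, true), (5, 33, true), (4, 33, true), (3, 26, true), (1, 20, true)], [(3, 10, true), (2, 6, true), (1, 1, true), (9, 39, true), (8, 39, true),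 (7, 31, true), (6, 31, true), (5, 13, true), (10, 40, true), (9, 40, true), (8, 32, true), (7, 32, true), (11, 42, true), (10, 42, true), (9, 34, true), (8, 34, true), (12, 43, true), (11, 43, true), (9, 35, true), (10, 40, true), (9, 40, true), (8, 25, true), (6, 14, true), (8, 41, true), (7, 41, true), (6, 26, true), (9, 43, true), (8, 43, true), (10, 43, true), (9, 43, true), (11, 37, true), (10, 37, true), (9, 29, true), (8, 29, true), (7, 22, true), (6, 16, true), (5, 7, true), (4, 7, true), (3, 4, true), (8, 39, true), (7, 31, true), (6, 24, true), (5, 18, true), (9, 41, true), (8, 33, true), (7, 26, true), (10, 41, true), (9, 33, true), (8, 26, true), (6, 20, true), (8, 42, true), (7, 34, true), (9, 42, true), (8, 34, true), (6, 27, true), (8, 39, true), (7, 39, true), (6, 31, true), (9, 41, true), (8, 41, true), (7, 33, true), (10, 41, true), (9, 41, true), (8, 33, true), (11, 42, true),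 (10, 42, true), (9, 34, true), (12, 42, true), (11, 42, true), (10, 34, true), (12, 44, true), (11, 33, true), (10, 26, true), (9, 26, true), (7, 20, true), (9, 35, true), (10, 42, true), (9, 42, true), (7, 27, true), (8, 43, true), (7, 43, true), (8, 44, true), (8, 43, true), (10, 43, true), (9, 43, true), (7, 35, true), (7, 44, true), (8, 39, true), (7, 39, true), (5, 9, true), (5, 14, false), (5, 9, false), (7, 13, false), (8, 44, false), (8, 27, false), (10, 44, false), (9, 42, false), (8, 20, false), (10, 26, false), (11, 41, false), (9, 26, false), (10, 41, false), (10, 44, false), (10, 35, false), (12, 43, false), (13, 43, false), (11, 43, false), (12, 43, false), (7, 19, false), (8, 25, false), (9, 32, false), (10, 40, false), (11, 40, false), (9, 43, false), (9, 35, false), (11, 43, false), (8, 34, false), (9, 34, false), (10, 42, false), (8, 27, false), (10, 34, false), (11, 34, false),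 (12, 42, false), (7, 26, false), (8, 26, false), (9, 33, false), (10, 33, false), (11, 41, false), (7, 20, false), (9, 26, false), (10, 26, false), (11, 33, false), (12, 33, false), (13, 41, false), (6, 18, false), (7, 18, false), (8, 24, false), (9, 24, false), (10, 31, false), (11, 31, false), (12, 39, false), (4, 8, false), (5, 8, false), (6, 12, false), (7, 17, false), (8, 17, false), (9, 23, false), (10, 23, false), (11, 38, false), (6, 19, false), (7, 19, false), (8, 25, false), (9, 25, false), (10, 40, false), (5, 18, false), (6, 18, false), (7, 24, false), (8, 24, false), (9, 39, false), (3, 7, false), (0, 45, true), (6, 46, true), (14, 47, true), (18, 51, true), (19, 51, true), (5, 37, true), (4, 16, true), (3, 16, true), (2, 7, true), (1, 4, true), (0, 4, true), (5, 38, true), (4, 30, true), (3, 23, true), (2, 17, true), (6, 43, true), (5, 43, true), (6, 44, true), (5, 33, true),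 (4, 26, true), (6, 34, true), (9, 39, true), (8, 31, true), (7, 31, true), (6, 24, true), (5, 24, true), (4, 18, true), (3, 18, true), (10, 41, true), (9, 33, true), (8, 33, true), (7, 26, true), (6, 26, true), (4, 20, true), (8, 41, true), (7, 33, true), (6, 33, true), (5, 26, true), (4, 26, true), (9, 42, true), (8, 34, true), (7, 34, true), (5, 27, true), (7, 42, true), (6, 34, true), (5, 34, true), (9, 41, true), (8, 41, true), (7, 33, true), (6, 33, true), (5, 26, true), (10, 43, true), (9, 43, true), (7, 35, true), (8, 43, true), (7, 43, true), (8, 44, true), (8, 41, true), (7, 33, true), (6, 26, true), (4, 20, true), (6, 43, true), (7, 43, true), (5, 35, true), (5, 44, true), (5, 38, true), (4, 23, true), (3, 8, true), (1, 5, true), (2, 39, true), (1, 39, true), (3, 41, true), (2, 41, true), (4, 41, true), (3, 41, true), (5, 42, true), (4, 42, true), (6, 42, true), (5, 42, true), (7,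 43, true), (6, 43, true), (8, 43, true), (7, 43, true), (8, 44, true), (7, 34, true), (6, 34, true), (4, 27, true), (6, 44, true), (5, 31, true), (4, 31, true), (3, 18, true), (2, 18, true), (6, 31, true), (5, 31, true), (4, 18, true), (3, 18, true), (1, 9, true), (4, 33, true), (3, 33, true), (1, 20, true), (2, 33, true), (1, 33, true), (3, 34, true), (2, 34, true), (4, 34, true), (3, 34, true), (5, 33, true), (4, 33, true), (3, 26, true), (2, 26, true), (6, 33, true), (5, 33, true), (4, 26, true), (3, 26, true), (1, 20, true), (4, 34, true), (3, 34, true), (1, 27, true), (2, 34, true), (1, 34, true)]),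
    ([9, 2, 3, 4, 4, 0, 1, 3], [(0, 47, true), (4, 45, true), (3, 23, true), (2, 23, true), (1, 17, true), (0, 17, true), (5, 42, true), (4, 42, true), (5, 44, true), (5, 38, true), (4, 23, true), (3, 23, true), (2, 17, true), (1, 17, true), (6, 42, true), (5, 42, true), (6, 44, true), (7, 39, true), (6, 39, true), (5, 24, true), (4, 24, true), (3, 18, true), (2, 18, true), (8, 41, true), (7, 41, true), (6, 26, true), (5, 26, true), (3, 20, true), (6, 41, true), (5, 41, true), (4, 26, true), (3, 26, true), (6, 44, true)], [(4, 10, true), (3, 10, true), (2, 6, true), (1, 3, true), (11, 39, true), (10, 39, true), (9, 31, true), (8, 31, true), (7, 24, true), (6, 24, true), (5, 18, true), (4, 13, true), (3, 13, true), (12, 40, true), (11, 40, true), (10, 32, true), (9, 32, true), (8, 25, true), (7, 25, true), (6, 19, true), (4, 14, true), (10, 42, true), (9, 42, true), (8, 34, true), (7, 34, true),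 (5, 27, true), (8, 43, true), (7, 43, true), (5, 35, true), (6, 40, true), (5, 40, true), (4, 19, true), (7, 41, true), (6, 41, true), (8, 43, true), (7, 43, true), (9, 43, true), (8, 43, true), (10, 40, true), (9, 40, true), (8, 32, true), (7, 32, true), (6, 19, true), (5, 19, true), (11, 41, true), (10, 41, true), (9, 33, true), (8, 33, true), (6, 20, true), (9, 43, true), (8, 43, true), (6, 35, true), (7, 43, true), (6, 43, true), (8, 37, true), (7, 37, true), (6, 29, true), (5, 11, true), (4, 11, true), (3, 7, true), (2, 4, true), (7, 39, true), (6, 31, true), (5, 24, true), (4, 18, true), (8, 41, true), (7, 33, true), (6, 26, true), (9, 41, true), (8, 33, true), (7, 26, true), (5, 20, true), (7, 42, true), (6, 34, true), (8, 42, true), (7, 34, true), (5, 27, true), (7, 40, true), (6, 40, true), (5, 32, true), (8, 41, true), (7, 41, true), (6, 33, true), (9, 42, true), (8, 42, true), (7,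 34, true), (9, 44, true), (9, 40, true), (8, 32, true), (7, 25, true), (6, 19, true), (10, 41, true), (9, 33, true), (8, 26, true), (11, 42, true), (10, 34, true), (12, 44, true), (13, 44, true), (12, 31, true), (11, 31, true), (10, 24, true), (9, 24, true), (8, 18, true), (7, 18, true), (6, 13, true), (5, 13, true), (14, 44, false), (7, 19, false), (8, 19, false), (9, 25, false), (10, 25, false), (11, 32, false), (12, 32, false), (13, 40, false), (6, 19, false), (7, 19, false), (8, 25, false), (9, 25, false), (10, 32, false), (11, 32, false), (12, 40, false), (5, 18, false), (6, 18, false), (7, 24, false), (8, 24, false), (9, 31, false), (10, 31, false), (11, 39, false), (3, 8, false), (0, 45, true), (6, 47, true), (10, 51, true), (11, 51, true), (5, 41, true), (3, 20, true), (3, 41, true), (4, 42, true), (5, 42, true), (6, 44, true)]),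
    ([9, 2, 3, 4, 4, 1, 3, 4], [(0, 47, true), (4, 46, true), (3, 22, true), (2, 22, true), (1, 16, true), (0, 16, true), (5, 41, true), (4, 41, true), (3, 33, true), (2, 33, true), (6, 43, true), (5, 43, true), (3, 35, true), (4, 43, true), (3, 43, true), (4, 44, true), (4, 42, true), (3, 34, true), (5, 43, true), (6, 44, true), (5, 34, true), (4, 34, true), (5, 35, true), (6, 38, true), (5, 38, true), (4, 23, true), (3, 23, true), (2, 17, true), (1, 17, true), (6, 42, true), (5, 42, true), (6, 44, true), (6, 44, true), (5, 24, true), (4, 24, true), (3, 18, true), (2, 18, true), (6, 24, true), (5, 24, true), (4, 18, true), (3, 18, true), (7, 26, true), (6, 26, true), (4, 20, true), (5, 26, true), (4, 26, true), (5, 27, true)], [(4, 11, true), (3, 11, true), (2, 7, true), (1, 4, true), (6, 39, true), (5, 31, true), (4, 24, true), (3, 18, true), (7, 41, true), (6, 33, true), (5, 26, true), (8,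 41, true), (7, 33, true), (6, 26, true), (4, 20, true), (6, 42, true), (5, 34, true), (7, 42, true), (6, 34, true), (4, 27, true), (6, 40, true), (5, 40, true), (4, 32, true), (7, 41, true), (6, 41, true), (5, 33, true), (8, 42, true), (7, 42, true), (6, 34, true), (8, 44, true), (8, 40, true), (7, 32, true), (6, 25, true), (5, 19, true), (9, 41, true), (8, 33, true), (7, 26, true), (10, 42, true), (9, 34, true), (11, 44, true), (10, 31, true), (9, 24, true), (8, 24, true), (7, 18, true), (6, 18, true), (5, 13, true), (4, 13, true), (11, 32, true), (10, 25, true), (9, 25, true), (8, 19, true), (7, 19, true), (5, 14, true), (5, 14, false), (7, 19, false), (8, 19, false), (9, 25, false), (10, 25, false), (11, 32, false), (6, 19, false), (7, 19, false), (8, 25, false), (9, 25, false), (10, 32, false), (4, 13, false), (5, 18, false), (6, 18, false), (7, 24, false), (8, 24, false), (9, 31, false),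 (10, 44, false), (9, 43, false), (9, 35, false), (11, 43, false), (4, 19, false), (5, 19, false), (6, 25, false), (7, 25, false), (8, 32, false), (9, 32, false), (10, 40, false), (2, 8, false), (3, 12, false), (0, 46, true), (8, 47, true), (7, 26, true), (6, 26, true), (4, 20, true), (5, 26, true), (4, 26, true), (5, 27, true)]),
    ([9, 5, 0, 1, 3], [(0, 48, true), (5, 45, true), (4, 38, true), (3, 38, true), (2, 23, true), (1, 8, true), (0, 8, true), (8, 39, true), (7, 31, true), (6, 31, true), (5, 24, true), (4, 24, true), (3, 18, true), (2, 18, true), (9, 41, true), (8, 33, true), (7, 33, true), (6, 26, true), (5, 26, true), (3, 20, true), (7, 41, true), (6, 33, true), (5, 33, true), (4, 26, true), (3, 26, true), (8, 42, true), (7, 34, true), (6, 34, true), (4, 27, true), (6, 42, true), (5, 34, true), (4, 34, true), (7, 43, true), (5, 35, true), (5, 43, true), (7, 42, true), (6, 42, true),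 (5, 34, true), (7, 44, true), (7, 44, true), (6, 30, true), (5, 23, true), (4, 23, true), (3, 17, true), (2, 8, true), (1, 8, true), (9, 39, true), (8, 31, true), (7, 31, true), (6, 24, true), (5, 24, true), (4, 18, true), (3, 18, true), (10, 41, true), (9, 33, true), (8, 33, true), (7, 26, true), (6, 26, true), (4, 20, true), (8, 41, true), (7, 33, true), (6, 33, true), (5, 26, true), (4, 26, true), (9, 42, true), (8, 34, true), (7, 34, true), (5, 27, true), (7, 42, true), (6, 34, true), (5, 34, true), (8, 43, true), (6, 35, true), (6, 43, true), (8, 41, true), (7, 41, true), (6, 33, true), (5, 26, true), (9, 42, true), (8, 42, true), (7, 34, true), (9, 44, true), (9, 42, true), (8, 34, true), (6, 27, true), (7, 44, true), (7, 31, true), (6, 31, true), (5, 18, true), (4, 18, true), (2, 9, true), (5, 33, true), (4, 33, true), (2, 20, true), (3, 33, true), (2, 33, true)], [(1, 15, true), (2,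 16, true), (7, 39, true), (6, 39, true), (5, 31, true), (4, 31, true), (3, 18, true), (0, 45, true), (6, 48, true), (11, 50, true), (15, 50, true), (19, 51, true), (20, 51, true), (5, 39, true), (4, 18, true), (3, 18, true), (6, 39, true), (5, 18, true), (4, 18, true), (2, 9, true), (4, 42, true), (5, 44, true), (4, 26, true), (2, 20, true), (5, 41, true), (4, 33, true), (3, 26, true), (2, 26, true), (6, 42, true), (5, 34, true), (3, 27, true), (4, 43, true), (5, 44, true)]),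
    ([9, 5, 1, 3, 4], [(0, 48, true), (5, 46, true), (4, 37, true), (3, 37, true), (2, 22, true), (1, 7, true), (0, 7, true), (6, 39, true), (5, 24, true), (4, 24, true), (3, 18, true), (2, 18, true), (7, 41, true), (6, 26, true), (5, 26, true), (3, 20, true), (5, 41, true), (4, 26, true), (3, 26, true), (6, 42, true), (4, 27, true), (4, 42, true), (6, 42, true), (5, 42, true), (7, 43, true), (6, 43, true), (7, 44, true), (7, 44, true), (6, 30, true), (5, 23, true), (4, 23, true), (3, 17, true), (2, 8, true), (1, 8, true), (9, 39, true), (8, 31, true), (7, 31, true), (6, 24, true), (5, 24, true), (4, 18, true), (3, 18, true), (10, 41, true), (9, 33, true), (8, 33, true), (7, 26, true), (6, 26, true), (4, 20, true), (8, 41, true), (7, 33, true), (6, 33, true), (5, 26, true), (4, 26, true), (9, 42, true), (8, 34, true), (7, 34, true), (5, 27, true), (7, 42, true), (6, 34, true), (5, 34, true),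 (8, 43, true), (6, 35, true), (6, 43, true), (8, 41, true), (7, 41, true), (6, 33, true), (5, 26, true), (9, 42, true), (8, 42, true), (7, 34, true), (9, 44, true), (9, 42, true), (8, 34, true), (6, 27, true), (7, 44, true), (7, 31, true), (6, 31, true), (5, 18, true), (4, 18, true), (2, 9, true), (5, 31, true), (4, 31, true), (3, 18, true), (2, 18, true), (6, 33, true), (5, 33, true), (3, 20, true), (4, 33, true), (3, 33, true), (5, 34, true), (4, 34, true), (6, 34, true), (5, 34, true)], [(1, 16, true), (6, 39, true), (5, 39, true), (4, 31, true), (3, 31, true), (2, 18, true), (7, 40, true), (6, 40, true), (5, 32, true), (4, 32, true), (3, 19, true), (0, 46, true), (8, 48, true), (13, 50, true), (17, 50, true), (21, 51, true), (22, 51, true), (7, 24, true), (6, 24, true), (5, 18, true), (4, 18, true), (2, 9, true), (5, 24, true), (4, 24, true), (3, 18, true), (2, 18, true), (5, 27, true),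 (6, 41, true), (5, 41, true), (3, 20, true), (4, 42, true), (3, 42, true), (5, 43, true), (4, 43, true), (5, 44, true), (4, 33, true), (3, 26, true), (5, 34, true), (8, 44, true)]),
    ([9, 5, 2, 3, 4, 4], [(0, 48, true), (5, 47, true), (4, 41, true), (3, 41, true), (2, 26, true), (5, 41, true), (4, 41, true), (3, 26, true), (6, 42, true), (5, 42, true), (7, 42, true), (6, 42, true), (4, 27, true)], [(1, 17, true), (2, 18, true), (3, 19, true), (4, 19, true), (0, 47, true), (4, 48, true), (3, 24, true), (2, 24, true), (1, 18, true), (0, 18, true), (4, 24, true), (3, 24, true), (2, 18, true), (1, 18, true), (4, 27, true)]),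
    ([9, 5, 5, 5], [(0, 48, true), (5, 48, true), (10, 48, true), (4, 39, true), (3, 39, true), (2, 24, true), (0, 9, true), (2, 39, true), (1, 39, true), (0, 24, true), (3, 42, true), (2, 42, true), (3, 44, true), (3, 39, true), (2, 24, true), (1, 24, true), (4, 39, true), (3, 24, true), (2, 24, true), (0, 9, true), (2, 42, true), (0, 27, true), (0, 44, true)], [(1, 20, true)]),
    ([9, 6, 1, 3, 4], [(0, 49, true), (10, 46, true), (9, 37, true), (8, 29, true), (7, 29, true), (6, 16, true), (5, 11, true), (4, 11, true), (3, 7, true), (2, 4, true), (1, 4, true), (6, 38, true), (5, 30, true), (4, 23, true), (3, 17, true), (7, 43, true), (6, 43, true), (7, 44, true), (6, 33, true), (5, 26, true), (7, 34, true), (10, 39, true), (9, 31, true), (8, 31, true), (7, 24, true), (6, 24, true), (5, 18, true), (4, 18, true), (11, 41, true), (10, 33, true), (9, 33, true), (8, 26, true), (7, 26, true), (5,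 20, true), (9, 41, true), (8, 33, true), (7, 33, true), (6, 26, true), (5, 26, true), (10, 42, true), (9, 34, true), (8, 34, true), (6, 27, true), (8, 42, true), (7, 34, true), (6, 34, true), (10, 40, true), (9, 40, true), (8, 32, true), (7, 32, true), (6, 25, true), (5, 19, true), (11, 41, true), (10, 41, true), (9, 33, true), (8, 33, true), (7, 26, true), (12, 42, true), (11, 42, true), (10, 34, true), (9, 34, true), (12, 44, true), (12, 40, true), (11, 32, true), (10, 32, true), (9, 25, true), (8, 25, true), (7, 19, true), (6, 19, true), (13, 41, true), (12, 33, true), (11, 33, true), (10, 26, true), (9, 26, true), (7, 20, true), (11, 42, true), (10, 34, true), (9, 34, true), (7, 27, true), (9, 44, true), (8, 33, true), (7, 33, true), (8, 35, true), (10, 43, true), (9, 43, true), (10, 44, true), (8, 35, true), (9, 38, true), (8, 38, true), (7, 17, true), (6, 12, true), (5, 12, true), (4,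 8, true), (2, 5, true), (3, 39, true), (2, 39, true), (4, 41, true), (3, 41, true), (5, 41, true), (4, 41, true), (6, 42, true), (5, 42, true), (7, 42, true), (6, 42, true), (8, 43, true), (7, 43, true), (9, 43, true), (8, 43, true), (9, 44, true), (8, 32, true), (7, 32, true), (6, 25, true), (5, 25, true), (4, 19, true), (3, 19, true), (8, 35, true), (10, 40, true), (9, 40, true), (8, 32, true), (7, 25, true), (6, 25, true), (5, 19, true), (4, 19, true), (11, 43, true), (10, 43, true), (12, 43, true), (11, 43, true), (9, 35, true), (9, 44, true), (9, 41, true), (8, 26, true), (7, 26, true), (5, 20, true), (7, 44, true), (6, 24, true), (5, 24, true), (4, 13, true), (3, 13, true), (7, 24, true), (6, 24, true), (5, 13, true), (4, 13, true), (2, 9, true), (5, 26, true), (4, 26, true), (6, 26, true), (5, 26, true), (6, 27, true)], [(1, 22, true), (5, 39, true), (4, 39, true), (3, 31, true), (2,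 24, true), (6, 40, true), (5, 40, true), (4, 32, true), (3, 25, true), (0, 46, true), (8, 49, true), (18, 50, true), (22, 51, true), (23, 51, true), (7, 22, true), (6, 22, true), (5, 16, true), (4, 16, true), (3, 7, true), (2, 7, true), (1, 4, true), (6, 39, true), (5, 31, true), (4, 24, true), (3, 18, true), (7, 41, true), (6, 33, true), (5, 26, true), (8, 41, true), (7, 33, true), (6, 26, true), (4, 20, true), (6, 42, true), (5, 34, true), (7, 42, true), (6, 34, true), (4, 27, true), (6, 39, true), (5, 39, true), (4, 31, true), (7, 41, true), (6, 41, true), (5, 33, true), (8, 41, true), (7, 41, true), (6, 33, true), (9, 42, true), (8, 42, true), (7, 34, true), (10, 42, true), (9, 42, true), (8, 34, true), (10, 44, true), (9, 33, true), (8, 26, true), (7, 26, true), (5, 20, true), (7, 35, true), (8, 41, true), (7, 41, true), (6, 26, true), (5, 26, true), (9, 43, true), (8, 43, true), (10,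 43, true), (9, 43, true), (10, 44, true), (10, 42, true), (9, 34, true), (8, 34, true), (6, 27, true), (8, 43, true), (6, 35, true), (6, 44, true), (9, 38, true), (8, 38, true), (7, 30, true), (6, 23, true), (5, 17, true), (4, 8, true), (3, 8, true), (11, 39, true), (10, 31, true), (9, 31, true), (8, 24, true), (7, 24, true), (6, 18, true), (5, 18, true), (12, 41, true), (11, 33, true), (10, 33, true), (9, 26, true), (8, 26, true), (6, 20, true), (10, 41, true), (9, 33, true), (8, 33, true), (7, 26, true), (6, 26, true), (11, 42, true), (10, 34, true), (9, 34, true), (7, 27, true), (9, 42, true), (8, 34, true), (7, 34, true), (10, 43, true), (8, 35, true), (8, 43, true), (10, 41, true), (9, 41, true), (8, 33, true), (7, 26, true), (11, 42, true), (10, 42, true), (9, 34, true), (11, 44, true), (11, 43, true), (12, 44, true), (11, 30, true), (10, 30, true), (9, 23, true), (8, 23, true), (7, 17,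 true), (6, 17, true), (5, 8, true), (4, 8, true), (2, 5, true), (3, 39, true), (2, 39, true), (4, 41, true), (3, 41, true), (5, 41, true), (4, 41, true), (6, 42, true), (5, 42, true), (7, 42, true), (6, 42, true), (8, 43, true), (7, 43, true), (9, 43, true), (8, 43, true), (9, 44, true), (8, 31, true), (7, 31, true), (6, 24, true), (5, 24, true), (4, 18, true), (3, 18, true), (9, 33, true), (8, 33, true), (7, 26, true), (6, 26, true), (4, 20, true), (7, 33, true), (6, 33, true), (5, 26, true), (4, 26, true), (8, 34, true), (7, 34, true), (5, 27, true), (6, 34, true), (5, 34, true), (6, 35, true), (7, 41, true), (6, 33, true), (5, 26, true), (8, 41, true), (7, 33, true), (6, 26, true), (4, 20, true), (6, 42, true), (5, 34, true), (7, 44, true), (6, 34, true), (4, 27, true), (6, 43, true), (5, 43, true), (7, 43, true), (6, 43, true), (4, 35, true), (5, 39, true), (4, 39, true), (2, 9, true),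 (3, 40, true), (2, 40, true), (4, 40, true), (3, 40, true), (5, 41, true), (4, 41, true), (6, 43, true), (5, 43, true), (7, 43, true), (6, 43, true), (7, 44, true), (6, 33, true), (5, 33, true), (7, 34, true), (6, 34, true), (7, 35, true), (7, 44, true)])]

/-- part of the pairs -/
def threeEqs4 : List Pair :=
  [([9, 6, 5], [(0, 49, true), (10, 48, true), (9, 39, true), (8, 31, true), (7, 31, true), (6, 18, true), (5, 13, true), (4, 13, true), (10, 39, true), (9, 31, true), (8, 31, true), (7, 18, true), (6, 13, true), (5, 13, true), (3, 9, true), (8, 42, true), (7, 34, true), (6, 34, true), (9, 44, true)], [(1, 26, true), (0, 48, true), (5, 49, true), (4, 37, true), (3, 37, true), (2, 22, true), (1, 7, true), (0, 7, true), (6, 39, true), (5, 24, true), (4, 24, true), (3, 18, true), (2, 18, true), (7, 41, true), (6, 26, true), (5, 26, true), (3, 20, true), (5, 41, true), (4, 26, true), (3,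 26, true), (6, 42, true), (4, 27, true), (4, 42, true), (6, 42, true), (5, 42, true), (7, 43, true), (6, 43, true), (7, 44, true), (7, 44, true), (6, 30, true), (5, 23, true), (4, 23, true), (3, 17, true), (2, 8, true), (1, 8, true), (9, 39, true), (8, 31, true), (7, 31, true), (6, 24, true), (5, 24, true), (4, 18, true), (3, 18, true), (10, 41, true), (9, 33, true), (8, 33, true), (7, 26, true), (6, 26, true), (4, 20, true), (8, 41, true), (7, 33, true), (6, 33, true), (5, 26, true), (4, 26, true), (9, 42, true), (8, 34, true), (7, 34, true), (5, 27, true), (7, 42, true), (6, 34, true), (5, 34, true), (8, 43, true), (6, 35, true), (6, 43, true), (8, 41, true), (7, 41, true), (6, 33, true), (5, 26, true), (9, 42, true), (8, 42, true), (7, 34, true), (9, 44, true), (9, 42, true), (8, 34, true), (6, 27, true), (7, 44, true), (7, 30, true), (6, 30, true), (5, 17, true), (4, 17, true), (3, 8, true),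 (2, 8, true), (10, 39, true), (9, 31, true), (8, 31, true), (7, 24, true), (6, 24, true), (5, 18, true), (4, 18, true), (11, 41, true), (10, 33, true), (9, 33, true), (8, 26, true), (7, 26, true), (5, 20, true), (9, 41, true), (8, 33, true), (7, 33, true), (6, 26, true), (5, 26, true), (10, 42, true), (9, 34, true), (8, 34, true), (6, 27, true), (8, 42, true), (7, 34, true), (6, 34, true), (9, 43, true), (7, 35, true), (7, 43, true), (9, 41, true), (8, 41, true), (7, 33, true), (6, 26, true), (10, 41, true), (9, 41, true), (8, 33, true), (7, 26, true), (5, 20, true), (8, 43, true), (7, 43, true), (9, 43, true), (8, 43, true), (6, 35, true), (7, 39, true), (6, 39, true), (5, 24, true), (3, 9, true), (5, 40, true), (4, 40, true), (3, 25, true), (6, 40, true), (5, 40, true), (4, 25, true), (7, 41, true), (6, 41, true), (5, 26, true), (8, 43, true), (7, 43, true), (9, 43, true), (8, 43, true),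 (9, 44, true)]),
    ([9, 6, 6, 6], [(0, 49, true), (10, 49, true), (20, 49, true), (9, 37, true), (8, 29, true), (7, 29, true), (6, 16, true), (5, 11, true), (4, 11, true), (3, 7, true), (2, 4, true), (1, 4, true), (6, 38, true), (5, 30, true), (4, 23, true), (3, 17, true), (7, 43, true), (6, 43, true), (7, 44, true), (6, 33, true), (5, 26, true), (7, 34, true), (10, 39, true), (9, 31, true), (8, 31, true), (7, 24, true), (6, 24, true), (5, 18, true), (4, 18, true), (11, 41, true), (10, 33, true), (9, 33, true), (8, 26, true), (7, 26, true), (5, 20, true), (9, 41, true), (8, 33, true), (7, 33, true), (6, 26, true), (5, 26, true), (10, 42, true), (9, 34, true), (8, 34, true), (6, 27, true), (8, 42, true), (7, 34, true), (6, 34, true), (10, 40, true), (9, 40, true), (8, 32, true), (7, 32, true), (6, 25, true), (5, 19, true), (11, 41, true), (10, 41, true), (9, 33, true), (8, 33, true), (7, 26,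 true), (12, 42, true), (11, 42, true), (10, 34, true), (9, 34, true), (12, 44, true), (12, 40, true), (11, 32, true), (10, 32, true), (9, 25, true), (8, 25, true), (7, 19, true), (6, 19, true), (13, 41, true), (12, 33, true), (11, 33, true), (10, 26, true), (9, 26, true), (7, 20, true), (11, 42, true), (10, 34, true), (9, 34, true), (7, 27, true), (9, 44, true), (8, 33, true), (7, 33, true), (8, 35, true), (10, 43, true), (9, 43, true), (10, 44, true), (8, 35, true), (9, 38, true), (8, 38, true), (7, 17, true), (6, 12, true), (5, 12, true), (4, 8, true), (2, 5, true), (3, 39, true), (2, 39, true), (4, 41, true), (3, 41, true), (5, 41, true), (4, 41, true), (6, 42, true), (5, 42, true), (7, 42, true), (6, 42, true), (8, 43, true), (7, 43, true), (9, 43, true), (8, 43, true), (9, 44, true), (8, 32, true), (7, 32, true), (6, 25, true), (5, 25, true), (4, 19, true), (3, 19, true), (8, 35, true),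 (10, 40, true), (9, 40, true), (8, 32, true), (7, 25, true), (6, 25, true), (5, 19, true), (4, 19, true), (11, 43, true), (10, 43, true), (12, 43, true), (11, 43, true), (9, 35, true), (9, 44, true), (9, 41, true), (8, 26, true), (7, 26, true), (5, 20, true), (7, 44, true), (6, 23, true), (5, 23, true), (4, 12, true), (3, 12, true), (2, 8, true), (10, 40, true), (9, 32, true), (8, 32, true), (7, 25, true), (6, 25, true), (5, 19, true), (4, 19, true), (11, 43, true), (9, 35, true), (9, 43, true), (10, 44, true), (9, 32, true), (8, 25, true), (7, 25, true), (6, 19, true), (5, 19, true), (10, 35, true), (11, 42, true), (10, 42, true), (8, 27, true), (8, 44, true), (8, 42, true), (9, 44, true), (8, 24, true), (7, 18, true), (6, 18, true), (5, 13, true), (4, 13, true), (9, 25, true), (8, 19, true), (7, 19, true), (5, 14, true), (7, 25, true), (6, 19, true), (5, 19, true), (8, 26, true), (6, 20,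 true), (9, 37, true), (8, 29, true), (7, 29, true), (6, 22, true), (5, 11, true), (4, 7, true), (3, 7, true), (2, 4, true), (0, 2, true), (4, 39, true), (3, 31, true), (2, 24, true), (1, 18, true), (5, 41, true), (4, 33, true), (3, 26, true), (6, 41, true), (5, 33, true), (4, 26, true), (2, 20, true), (4, 42, true), (3, 34, true), (5, 42, true), (4, 34, true), (2, 27, true), (4, 39, true), (3, 39, true), (2, 31, true), (5, 41, true), (4, 41, true), (3, 33, true), (6, 41, true), (5, 41, true), (4, 33, true), (7, 42, true), (6, 42, true), (5, 34, true), (8, 42, true), (7, 42, true), (6, 34, true), (8, 44, true), (7, 32, true), (6, 25, true), (5, 25, true), (4, 19, true), (3, 19, true), (8, 33, true), (7, 26, true), (6, 26, true), (4, 20, true), (6, 34, true), (4, 27, true), (6, 42, true), (5, 42, true), (4, 34, true), (7, 43, true), (6, 43, true), (7, 44, true), (7, 43, true), (5, 35, true),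 (6, 43, true), (5, 43, true), (6, 44, true), (6, 38, true), (5, 30, true), (4, 23, true), (3, 12, true), (2, 8, true), (1, 8, true), (9, 39, true), (8, 31, true), (7, 31, true), (6, 24, true), (5, 24, true), (4, 18, true), (3, 18, true), (10, 41, true), (9, 33, true), (8, 33, true), (7, 26, true), (6, 26, true), (4, 20, true), (8, 41, true), (7, 33, true), (6, 33, true), (5, 26, true), (4, 26, true), (9, 42, true), (8, 34, true), (7, 34, true), (5, 27, true), (7, 42, true), (6, 34, true), (5, 34, true), (8, 43, true), (6, 35, true), (6, 43, true), (8, 40, true), (7, 40, true), (6, 32, true), (5, 25, true), (4, 19, true), (9, 43, true), (8, 43, true), (10, 43, true), (9, 43, true), (7, 35, true), (7, 44, true), (7, 42, true), (8, 44, true), (9, 38, true), (8, 30, true), (7, 23, true), (6, 23, true), (5, 17, true), (4, 12, true), (3, 8, true), (2, 8, true), (0, 5, true), (1, 39, true), (0, 39,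 true), (2, 41, true), (1, 41, true), (3, 41, true), (2, 41, true), (4, 42, true), (3, 42, true), (5, 42, true), (4, 42, true), (6, 43, true), (5, 43, true), (7, 43, true), (6, 43, true), (7, 44, true), (6, 31, true), (5, 31, true), (4, 24, true), (3, 24, true), (2, 18, true), (1, 18, true), (7, 33, true), (6, 33, true), (5, 26, true), (4, 26, true), (2, 20, true), (5, 33, true), (4, 33, true), (3, 26, true), (2, 26, true), (6, 34, true), (5, 34, true), (3, 27, true), (4, 34, true), (3, 34, true), (4, 35, true), (5, 40, true), (4, 32, true), (3, 25, true), (2, 19, true), (6, 43, true), (7, 43, true), (5, 35, true), (5, 44, true), (4, 26, true), (8, 42, true), (7, 42, true), (5, 27, true), (5, 44, true), (5, 43, true), (7, 39, true), (6, 39, true), (5, 31, true), (4, 18, true), (3, 18, true), (2, 13, true), (0, 9, true), (5, 40, true), (4, 40, true), (3, 32, true), (2, 19, true), (1, 19, true),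 (6, 40, true), (5, 40, true), (4, 32, true), (3, 19, true), (2, 19, true), (0, 14, true), (4, 41, true), (3, 41, true), (2, 33, true), (0, 20, true), (2, 43, true), (1, 43, true), (3, 43, true), (2, 43, true), (0, 35, true), (0, 44, true)], [(1, 27, true)])]

/-- the pairs -/
def threeEqs : List Pair := threeEqs0 ++ threeEqs1 ++ threeEqs2 ++ threeEqs3 ++ threeEqs4

/-- part of the exponents -/
def threeVecs0 : List (List ℤ) :=
  [[0, 0, 0, 0, 0, 0, 0, 0, 0, 0, 0, 0, 0, 0, 0, 0, 0, 0, 0, 0, 0, 0, 0, 0, 0, 0, 0, 0, 0, 0, 0, 0, 0, 0, 0, 0, 0, 0, (-1), 0, 0, 0, 0, 0, 0, 0, 0, 0, 0, 0, 0, 0],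
    [0, 0, 0, 0, 0, 0, 0, 0, 0, 0, 0, 0, 0, 0, 0, 0, 0, 0, 0, 0, 0, 0, 0, 0, 0, 0, 0, 0, 0, 0, 0, 0, 0, 0, 0, 0, 0, 0, 0, 0, 0, (-1), 0, 0, 0, 0, 0, 0, 0, 0, 0, 0],
    [0, 0, 0, 0, 0, 0, 0, 0, 0, 0, 0, 0, 0, 0, 0, 0, 0, 0, 0, 0, 0, 0, 0, 0, 0, 0, 0, 0, 0, 0, 0, 0, 0, 0, 0, 0, 0, 0, 0, 0, 0, 0, 0, (-1), 0, 0, 0, 0, 0, 0, 0, 0],
    [0, 0, 0, 0, 0, 0, 0, 0, 0, 0, 0, 0, 0, 0, 0, 0, 0, 0, 0, 0, 0, 0, 0, 0, 0, 0, 0, 0, 0, 0, 0, 0, 0, (-1), 0, 0, 0, 0, 0, 0, 0, 0, 0, 0, 0, 0, 0, 0, 0, 0, 0, 0],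
    [0, 0, 0, 0, 0, 0, 0, 0, 0, 0, 0, 0, 0, 0, 0, 0, 0, 0, 0, 0, 0, 0, 0, 0, 0, 0, 0, 0, 0, 0, 0, 0, (-1), 0, (-1), 0, 0, 0, 0, 0, 0, 0, 0, 0, 0, 0, 0, 0, 0, 0, 0, 0],
    [0, 0, 0, 0, 0, 0, 0, 0, 0, 0, 0, 0, 0, 0, 0, 0, 0, 0, 0, (-1), 0, 0, 0, 0, 0, 0, 1, 0, 0, 0, 0, 0, 0, 1, 0, 0, 0, 0, 0, 0, 0, 0, 0, 0, 0, 0, 0, 0, 0, 0, 0, 0],
    [0, 0, 0, 0, 0, 0, 0, 0, 0, 0, 0, 0, 0, 0, 0, 0, 0, 0, 0, 0, 0, 0, 0, 0, 0, 0, 0, 0, 0, 0, 0, 0, 0, 0, 0, 0, 0, 0, 0, 0, 0, 0, 0, 0, (-1), 0, 0, 0, 0, 0, 0, 0],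
    [0, 0, 0, 0, 0, 0, 0, 0, 0, 0, 0, 0, 0, 0, 0, 0, 0, 0, 0, 0, 0, 0, 0, 0, 0, 0, 0, 0, 0, 0, 0, 0, 0, 0, 0, 0, 0, 0, 0, 0, 0, (-1), (-1), (-1), 0, 0, 0, 0, 0, 0, 0, 0],
    [0, 0, 0, 0, 0, 0, 0, 0, 0, 0, 0, 0, 0, 0, 0, 0, 0, 0, 0, 0, 0, 0, 0, 0, 0, 0, 0, 0, 0, 0, 0, 0, 0, 0, 0, 0, 0, 0, 0, 0, (-1), 0, (-1), (-1), 0, 0, 0, 0, 0, 0, 0, 0],
    [0, 0, 0, 0, 0, 0, 0, 0, 0, 0, 0, 0, 0, 0, 0, 0, 0, 0, 0, 0, 0, 0, 0, 0, 0, 0, (-1), 0, 0, 0, 0, 0, 0, (-1), 0, 0, 0, 0, 0, 0, 0, 1, 0, 0, 0, 0, 0, 0, 0, 0, 0, 0]]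

/-- part of the exponents -/
def threeVecs1 : List (List ℤ) :=
  [[0, 0, 0, 0, 0, 0, 0, 0, 0, 0, 0, 0, 0, 0, 0, 0, 0, 0, 0, 0, 0, 0, 0, 0, 0, 0, 0, 0, 0, 0, 0, 0, 0, (-1), (-1), 0, 0, 0, (-1), 0, 0, (-1), (-1), 0, 0, 0, 0, 0, 0, 0, 0, 0],
    [0, 0, 0, 0, 0, 0, 0, 0, 0, 0, 0, 0, 0, 0, 0, 0, 0, 0, 0, 0, 0, 0, 0, 0, 0, 0, 0, 0, 0, 0, 0, 0, 0, 0, 0, 0, 0, 0, (-1), (-1), (-1), 0, 0, 1, 0, 0, 0, 0, 0, 0, 0, 0],
    [0, 0, 0, 0, 0, 0, 0, 0, 0, 0, 0, 0, 0, 0, 0, 0, 0, 0, 0, 0, (-1), 0, 0, 0, 0, 0, 0, 0, 0, 0, 0, 0, 0, 0, 0, 1, 0, 0, 0, 0, 0, 0, 0, 0, 0, 0, 0, 0, 0, 0, 0, 0],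
    [0, 0, 0, 0, 0, 0, 0, 0, 0, 0, 0, 0, 0, 0, 0, 0, 0, 0, 0, 0, 0, 0, 0, 0, 0, 0, 0, 0, 0, 0, 0, 0, 0, 0, 0, (-1), 0, 0, 0, 0, 0, 0, 0, 0, 1, 0, 0, 0, 0, 0, 0, 0],
    [0, 0, 0, 0, 0, 0, 0, 0, 0, 0, 0, 0, 0, 0, 0, 0, 0, 0, 0, 0, 0, 0, 0, 0, 0, 0, 0, 0, 0, 0, 0, 0, 0, 0, 0, (-1), 0, (-1), 0, 0, 0, 0, 0, 1, 0, 0, 0, 0, 0, 0, 0, 0],
    [0, 0, 0, 0, 0, 0, 0, 0, 0, 0, 0, 0, 0, 0, 0, 0, 0, 0, 0, 0, 0, 0, 0, 0, 0, (-1), 0, 0, 0, 0, 0, (-1), (-1), 0, 0, 0, 0, 0, 0, 1, 1, 0, 1, 1, 0, 0, 0, 0, 0, 0, 0, 0],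
    [0, 0, 0, 0, 0, 0, 0, 0, 0, 0, 0, 0, 0, 0, 0, 0, 0, 0, (-1), (-1), 0, 0, 0, 0, 0, 1, 1, 0, 0, 0, 0, 1, (-1), 1, 1, 0, 0, 0, 0, 0, 0, 0, 0, 0, 0, 0, 0, 0, 0, 0, 0, 0],
    [0, 0, 0, 0, 0, 0, 0, 0, 0, 0, 0, 0, 0, 0, 0, 0, 0, 0, 0, 0, 0, 0, 0, 0, 0, 0, 0, 0, 0, 0, (-1), (-1), (-1), 0, 0, 0, 1, 0, (-1), (-1), (-1), 0, 0, 0, 0, 0, 0, 0, 0, 0, 0, 0],
    [0, 0, 0, 0, 0, 0, 0, 0, 0, 0, 0, 0, 0, 0, 0, 0, 0, 0, 0, 0, 0, 0, 0, 0, 0, 0, (-1), 0, 0, 0, (-1), 0, 0, (-1), 0, 0, 0, (-1), 1, 0, 0, (-1), 0, 1, 0, 0, 0, 0, 0, 0, 0, 0],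
    [0, 0, 0, 0, 0, 0, 0, 0, 0, 0, 0, 0, 0, 0, (-1), 0, 0, 0, 0, 0, 0, 0, 0, 0, 0, 0, 0, (-1), 0, 0, 0, 0, 0, 0, 0, (-1), 0, 0, 0, 0, 0, 0, 0, 0, 0, 0, 0, 0, 0, 0, 0, 0]]

/-- part of the exponents -/
def threeVecs2 : List (List ℤ) :=
  [[0, 0, 0, 0, 0, 0, 0, 0, 0, 0, 0, 0, 0, 0, 0, 0, 0, 0, 0, 0, (-1), 0, 0, 0, 0, 0, 0, (-1), 0, 0, 0, 0, 0, 0, 0, 0, 0, 0, 0, 0, 0, 0, 0, 0, 1, 0, 0, 0, 0, 0, 0, 0],
    [0, 0, 0, 0, 0, 0, 0, 0, 0, 0, 0, 0, 0, 0, 0, 0, 0, 0, 0, 0, 0, 0, 0, 0, 0, 0, 1, 0, 0, 0, 0, (-1), 0, 1, 1, 0, 0, 0, 0, 1, 0, (-1), 0, 1, 0, 0, 0, 0, 0, 0, 0, 0],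
    [0, 0, 0, 0, 0, 0, 0, 0, 0, 0, 0, 0, 0, 0, 0, 0, 0, 0, (-1), (-1), 0, 0, 0, 0, (-1), (-1), 0, 0, 0, 0, 0, 0, 0, 0, 0, 0, 0, 0, 0, 1, 1, 0, 0, 0, 0, 0, 0, 0, 0, 0, 0, 0],
    [0, 0, 0, 0, 0, 0, 0, 0, 0, 0, 0, 0, 0, 0, 0, 0, 0, (-1), (-1), (-1), 0, 0, 0, 0, 0, 0, 0, 0, (-1), 0, 1, 1, 1, (-1), 0, 0, (-1), 0, 1, 1, 1, (-1), 0, 0, 0, 0, 0, 0, 0, 0, 0, 0],
    [0, 0, 0, 0, 0, 0, 0, 0, 0, 0, 0, 0, 0, 0, 0, 0, 0, (-1), 0, 1, 0, 0, 0, (-1), 0, 1, 0, 0, 0, (-1), 0, 0, 1, 0, 0, 0, 0, (-1), 1, 0, 1, (-1), (-1), 1, 0, 0, 0, 0, 0, 0, 0, 0],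
    [0, 0, 0, 0, 0, 0, 0, 0, 0, 0, 0, 0, 0, 0, 1, 1, 0, 0, 0, 1, 1, 0, 0, 0, 0, 0, 1, 1, 0, 0, 0, 0, (-1), 1, (-1), 1, (-1), 0, 0, 0, 0, 0, (-1), 0, (-1), 0, 0, 0, 0, 0, 0, 0],
    [0, 0, 0, 0, 0, 0, 0, 0, 0, 0, 0, 0, (-1), (-1), 0, 1, (-1), 1, 1, 1, 0, 1, 0, (-1), (-1), (-1), (-1), 0, 0, 1, (-1), 0, (-1), (-1), (-1), (-1), (-1), 0, 0, (-1), 1, 1, 0, (-1), 1, 0, 0, 0, 0, 0, 0, 0],
    [0, 0, 0, 0, 0, 0, 0, 0, 0, 0, 0, 0, 0, 0, 0, 0, (-1), 1, 1, 0, 0, 0, (-1), 1, 1, 0, 0, 0, 0, (-1), 0, 1, 0, 0, 1, (-1), 0, 1, (-1), 1, 0, 0, 0, (-1), (-1), 0, 0, 0, 0, 0, 0, 0],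
    [0, 0, 0, 0, 0, 0, 0, 0, (-1), 0, 0, (-1), (-1), 0, 0, (-1), 0, 0, 1, 0, (-1), (-1), (-1), (-1), 0, (-1), 0, (-1), 0, (-1), 1, (-1), 0, 0, (-1), (-1), 1, 0, 0, 0, 1, 0, 1, (-1), 1, 0, 0, 0, 0, 0, 0, 0],
    [0, 0, 0, 0, 0, 0, 0, 0, 0, 0, 0, 0, (-1), (-1), 0, (-1), 0, 0, 1, 1, 0, (-1), 0, (-1), (-1), 0, 0, 0, (-1), 0, (-1), (-1), (-1), 1, 1, 0, 1, 0, 0, (-1), 0, (-1), 1, 0, 0, 0, 0, 0, 0, 0, 0, 0]]

/-- part of the exponents -/
def threeVecs3 : List (List ℤ) :=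
  [[0, 0, 0, 0, 0, 1, 0, 0, 0, 1, 0, 0, (-1), (-1), 1, 1, 0, 0, 0, (-1), 1, (-1), 0, 1, 0, 1, 0, (-1), 0, 0, 0, 0, 0, 1, (-1), (-1), (-1), 0, (-1), 1, (-1), 0, (-1), 1, 0, 0, 0, 0, 0, 0, 0, 0],
    [(-1), 0, (-1), (-1), 1, 1, (-1), 1, 0, (-1), 1, 0, 0, (-1), 1, (-1), 1, 1, 1, (-1), 1, 1, 0, 1, 0, 1, (-1), (-1), 1, 1, (-1), 1, 1, 0, 1, 1, 1, 1, 0, 1, 0, 0, 1, 0, 0, 0, 0, 0, 0, 0, 0, 1],
    [0, (-1), 0, 0, 0, 0, (-1), 1, (-1), 0, (-1), 0, 1, 0, 0, 0, 0, 0, (-1), 0, 0, 0, (-1), (-1), 0, (-1), (-1), 0, 0, 1, 0, 1, (-1), 0, (-1), (-1), 0, 0, (-1), (-1), (-1), (-1), (-1), (-1), 1, 0, 0, (-1), 0, 0, 0, 1],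
    [0, 0, 0, (-1), (-1), 0, (-1), (-1), 1, 0, 1, 1, 0, (-1), (-1), 0, 0, 1, 0, (-1), 1, 0, 0, 1, (-1), 1, 1, 1, 0, (-1), 0, 0, 1, 0, 0, 1, 0, 1, 1, 0, (-1), (-1), 1, (-1), 0, 0, 0, 0, 0, 0, 0, 1],
    [0, 0, 0, 0, (-1), 0, 0, (-1), 1, 0, 0, 1, 1, (-1), 0, 0, (-1), (-1), 0, 0, (-1), 0, (-1), (-1), 0, 0, 0, (-1), 0, 0, 0, (-1), 1, 1, (-1), 0, 0, 0, (-1), (-1), 1, 0, 1, 1, 0, 0, 0, 0, 0, 0, 0, 0],
    [0, 0, 0, 0, 0, 0, 0, 0, 1, 0, 0, 0, 0, 0, 0, (-1), (-1), 1, 1, 0, (-1), 0, 0, 0, 1, 0, 0, (-1), 0, 0, 1, 1, 0, 0, 1, (-1), 0, 0, (-1), 1, 0, (-1), 1, 0, (-1), 0, 0, 0, 0, 0, 1, 1],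
    [0, 0, 0, 0, 0, 0, 0, (-1), (-1), 0, 0, 0, 0, 0, 0, 0, (-1), 1, 0, (-1), (-1), 0, 1, (-1), 0, 0, (-1), (-1), 0, 0, 1, 1, 1, (-1), 0, 1, 0, (-1), 0, 0, 1, 1, 1, (-1), (-1), 0, 0, 0, 0, 0, 1, 1],
    [0, 0, 0, 0, 0, 0, 0, 0, 0, 0, 0, 0, 0, 0, 0, 0, 0, (-1), 1, 1, 0, 0, 0, 0, (-1), 0, (-1), 0, 0, 0, 0, 0, 0, 0, 0, 0, 0, 0, 0, 0, 0, 1, 1, 0, 0, 0, 0, 0, 0, 0, 0, 0],
    [0, 0, 0, 0, 0, 0, 0, 0, 0, (-1), 0, 0, 0, 0, 0, 0, 0, 0, 0, 0, (-1), 0, 0, 0, 0, 0, 0, 1, 0, 0, 0, 0, 0, 0, 0, 0, 0, 0, 0, 0, 0, 0, 0, 0, (-1), 0, 0, 0, 0, 0, 0, 0],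
    [0, 0, 0, 0, 1, 0, 0, (-1), 0, 0, 0, (-1), (-1), 1, 0, 0, (-1), (-1), 0, 1, 1, 0, 0, 1, 0, 0, 0, 1, 0, (-1), 1, 1, 0, (-1), (-1), 1, 0, 1, 1, (-1), (-1), (-1), (-1), 1, 1, 0, 0, 0, 0, 0, (-1), 1]]

/-- part of the exponents -/
def threeVecs4 : List (List ℤ) :=
  [[0, 0, 0, 0, 0, 0, 0, 1, (-1), 0, 0, 0, 0, 1, 0, 0, 0, 0, (-1), 0, (-1), 0, (-1), 1, (-1), 1, 1, (-1), 0, 0, 0, 0, 0, 1, 1, 0, 0, 1, 0, 0, (-1), 1, (-1), 1, (-1), 0, 0, 0, 0, 0, 0, 0],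
    [0, 0, 1, 0, 0, (-1), 0, 0, 0, 1, 0, 0, 0, 0, (-1), 0, 1, 0, (-1), (-1), 0, 0, 1, 0, (-1), (-1), 0, 1, 0, 1, 0, 0, 0, 1, (-1), 0, 0, (-1), (-1), (-1), 1, 0, (-1), 0, 1, 0, 0, 0, 0, 0, 0, 0]]

/-- the exponents -/
def threeVecs : List (List ℤ) := threeVecs0 ++ threeVecs1 ++ threeVecs2 ++ threeVecs3 ++ threeVecs4

/-- part of the change of lifts -/
def threeGauge0 : List (List (ℕ × ℤ)) :=
  [[],
    [],
    [(1, 1), (6, (-1)), (10, (-1)), (11, 1), (22, 1)],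
    [],
    [(6, 1), (10, 1), (11, (-1)), (29, (-1))],
    [(10, 1), (22, 1), (29, 1)],
    [(10, (-1)), (11, 1), (22, (-1))],
    [(22, 1), (29, 1)],
    [(29, 1)],
    []]

/-- the change of lifts -/
def threeGauge : List (List (ℕ × ℤ)) := threeGauge0

/-- part of the combinations -/
def threeCombs0 : List (List (ℕ × ℤ)) :=
  [[(0, 1), (2, (-1)), (3, (-1)), (5, 1), (8, (-1)), (11, (-1)), (12, (-1)), (13, (-1)), (14, (-1)), (16, 1), (17, 1), (18, 1), (20, (-1)), (21, 1), (22, (-1)), (23, 1), (25, 1), (26, 1), (27, (-1)), (28, (-1)), (29, 1), (31, (-1)), (33, 1), (34, 1), (37, 1), (41, (-1))],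
    [],
    [(1, 1), (2, (-1)), (3, 1), (4, 1), (5, (-1)), (6, (-1)), (7, 1), (8, 1), (9, (-1)), (10, (-1)), (11, (-1)), (12, 1), (14, (-1)), (15, (-1)), (17, 1), (18, 1), (19, 1), (20, (-1)), (22, 1), (23, 1), (25, 1), (27, 1), (29, (-1)), (30, 1), (38, (-1)), (41, 1)],
    [(0, 1), (1, (-1)), (3, 1), (4, (-1)), (5, (-1)), (6, 1), (8, (-1)), (10, 1), (13, (-1)), (15, 1), (16, 1), (18, 1), (22, (-1)), (23, 1), (24, 1), (25, (-1)), (26, (-1)), (29, (-1)), (33, (-1)), (35, (-1)), (37, (-1)), (39, (-1)), (40, 1)],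
    [(1, (-1)), (4, (-1)), (6, (-1)), (7, (-1)), (8, (-1)), (12, 1), (14, 1), (15, (-1)), (19, 1), (22, (-1)), (23, (-1)), (24, 1), (25, 1), (26, 1), (29, 1), (34, (-1)), (35, 1), (36, (-1)), (37, (-1)), (40, 1)],
    [(0, (-1)), (1, (-1)), (2, (-1)), (5, (-1)), (7, 1), (9, 1), (10, (-1)), (11, 1), (12, (-1)), (15, (-1)), (17, 1), (18, 1), (19, (-1)), (20, (-1)), (21, (-1)), (22, 1), (23, 1), (24, (-1)), (25, 1), (29, (-1)), (30, 1), (38, 1)],
    [],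
    [(1, 1), (2, (-1)), (3, (-1)), (8, (-1)), (11, (-1)), (13, (-1)), (14, (-1)), (15, 1), (16, (-1)), (17, (-1)), (18, 1), (21, 1), (22, 1), (23, (-1)), (24, 1), (28, (-1)), (29, 1), (40, 1)],
    [(0, (-1)), (1, 1), (3, 1), (5, 1), (9, (-1)), (10, (-1)), (12, (-1)), (13, 1), (14, 1), (15, 1), (16, 1), (17, 1), (18, (-1)), (19, (-1)), (21, 1), (22, (-1)), (23, (-1)), (25, (-1)), (28, (-1)), (29, 1), (35, (-1)), (36, 1), (37, 1), (40, 1)],
    [(6, (-1)), (12, (-1)), (13, (-1)), (20, (-1)), (38, (-1))],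
    [],
    [],
    [(2, (-1)), (4, (-1)), (5, 1), (9, 1), (11, (-1)), (12, 1), (14, (-1)), (15, 1), (16, 1), (19, 1), (20, 1), (22, 1), (23, (-1)), (25, 1), (26, 1), (27, (-1)), (29, 1), (35, 1), (36, (-1)), (37, 1), (40, (-1))],
    [(0, (-1)), (2, (-1)), (3, 1), (6, 1), (7, 1), (9, (-1)), (10, (-1)), (11, (-1)), (12, (-1)), (13, (-1)), (14, (-1)), (17, (-1)), (18, 1), (19, (-1)), (20, (-1)), (21, 1), (22, 1), (25, (-1)), (35, (-1)), (36, 1), (40, 1)],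
    [(6, 1), (12, (-1)), (19, (-1)), (20, 1)],
    [(2, 1), (4, 1), (5, 1), (6, (-1)), (7, 1), (8, 1), (9, (-1)), (11, 1), (12, 1), (14, 1), (17, 1), (18, (-1)), (19, 1), (21, (-1)), (25, 1)],
    [(0, 1), (1, 1), (3, 1), (4, (-1)), (6, (-1)), (7, 1), (8, 1), (9, (-1)), (10, (-1)), (13, 1), (21, (-1)), (22, (-1)), (24, (-1)), (27, (-1))],
    [(0, 1), (1, 1), (2, 1), (3, (-1)), (4, (-1)), (8, (-1)), (11, (-1)), (16, 1), (21, 1), (22, 1), (37, (-1))],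
    [(0, 1), (1, 1), (2, (-1)), (4, (-1)), (5, 1), (7, (-1)), (11, (-1)), (15, (-1)), (16, (-1))],
    [(1, (-1)), (5, (-1)), (9, (-1))],
    [(6, (-1)), (12, (-1)), (13, (-1))],
    [(0, 1), (1, 1), (2, 1), (4, (-1)), (5, (-1)), (6, 1), (7, 1), (9, (-1)), (10, (-1)), (12, (-1)), (13, (-1)), (15, (-1)), (16, 1), (17, (-1)), (19, (-1)), (21, (-1)), (22, 1), (23, (-1)), (24, 1), (25, (-1)), (26, (-1)), (27, 1), (29, 1)],
    [],
    [(4, 1), (5, (-1)), (6, (-1)), (7, 1), (8, (-1)), (10, 1), (11, 1), (13, (-1)), (14, 1), (15, (-1)), (16, (-1)), (22, (-1)), (24, (-1)), (37, 1)],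
    [(2, (-1)), (7, 1), (8, 1), (15, (-1)), (16, 1), (21, (-1)), (22, (-1))],
    [(2, 1), (4, 1), (8, (-1)), (9, 1), (15, (-1)), (21, 1)],
    [(1, (-1)), (3, 1), (9, (-1))],
    [(12, 1), (13, 1), (20, (-1))],
    [(0, 1), (3, (-1)), (4, (-1)), (7, 1), (8, 1), (9, 1), (11, (-1)), (15, 1), (17, (-1)), (21, (-1)), (22, (-1)), (23, (-1)), (37, 1)],
    []]

/-- part of the combinations -/
def threeCombs1 : List (List (ℕ × ℤ)) :=
  [[(0, (-1)), (1, (-1)), (6, (-1)), (9, 1), (13, (-1)), (14, 1), (18, (-1))],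
    [(0, (-1)), (1, 1), (3, 1), (8, 1), (9, (-1)), (10, (-1)), (11, (-1)), (21, (-1))],
    [(0, (-1)), (2, 1), (3, (-1)), (4, (-1)), (7, (-1)), (10, 1)],
    [(3, (-1))],
    [(0, 1), (2, (-1)), (3, 1), (7, 1), (10, (-1))],
    [(6, (-1)), (13, (-1))],
    [(4, (-1)), (6, (-1)), (7, (-1)), (8, 1), (11, 1), (13, (-1)), (14, 1), (17, 1), (18, (-1)), (21, (-1))],
    [(2, (-1)), (6, 1), (13, 1), (14, (-1))],
    [(0, (-1))],
    [(0, 1), (1, 1), (2, (-1)), (7, (-1)), (8, 1), (11, (-1))],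
    [(1, (-1)), (7, 1), (8, (-1))],
    [(1, (-1))],
    [(1, 1), (2, 1), (7, (-1))],
    [(2, (-1))],
    [(6, (-1))]]

/-- the combinations -/
def threeCombs : List (List (ℕ × ℤ)) := threeCombs0 ++ threeCombs1

/-- part of the representatives -/
def threeLvlW0_0 : List (List ℕ) :=
  [[2, 0, 0],
    [1, 0, 0],
    [1, 0],
    [2],
    [],
    [0],
    [1],
    [3, 0],
    [0, 0]]

/-- the representatives -/
def threeLvlW0_ : List (List ℕ) := threeLvlW0_0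

/-- part of the representatives -/
def threeLvlW1_0 : List (List ℕ) :=
  [[3, 4, 6, 6, 7, 7, 8, 8],
    [],
    [3, 4, 6, 6, 7, 7, 8, 8, 3, 4, 6, 6, 7, 7, 8, 8]]

/-- the representatives -/
def threeLvlW1_ : List (List ℕ) := threeLvlW1_0

/-- part of the representatives -/
def threeLvlW2_0 : List (List ℕ) :=
  [[],
    [2, 2, 5, 6, 6, 7, 7],
    [1, 1, 3, 5, 5, 6, 7, 7, 8, 8]]

/-- the representatives -/
def threeLvlW2_ : List (List ℕ) := threeLvlW2_0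

/-- part of the representatives -/
def threeLvlW3_0 : List (List ℕ) :=
  [[1, 1, 2, 2, 3, 5, 6, 7, 8, 1, 2, 2, 4, 4, 5, 6, 7, 7, 1, 2, 2, 4, 4, 5, 6, 7, 7],
    [1, 2, 3, 3, 5, 5, 6, 6, 8, 1, 2, 3, 3, 5, 5, 6, 6, 8, 1, 2, 2, 4, 4, 5, 6, 7, 7],
    [1, 2, 3, 3, 5, 5, 6, 6, 8, 1, 2, 3, 3, 5, 5, 6, 6, 8],
    [1, 2, 2, 4, 4, 5, 6, 7, 7],
    [1, 1, 2, 2, 3, 5, 6, 7, 8, 1, 2, 3, 3, 5, 5, 6, 6, 8],
    [1, 2, 3, 3, 5, 5, 6, 6, 8, 1, 1, 2, 2, 3, 5, 6, 7, 8, 1, 2, 3, 3, 5, 5, 6, 6, 8],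
    [1, 2, 2, 4, 4, 5, 6, 7, 7, 1, 2, 2, 4, 4, 5, 6, 7, 7, 1, 2, 3, 3, 5, 5, 6, 6, 8],
    [1, 2, 2, 4, 4, 5, 6, 7, 7, 1, 2, 3, 3, 5, 5, 6, 6, 8],
    [1, 2, 2, 4, 4, 5, 5, 6, 6, 7, 1, 2, 2, 4, 4, 5, 6, 7, 7],
    [1, 2, 3, 3, 5, 5, 6, 6, 8],
    [1, 2, 2, 4, 4, 5, 6, 7, 7, 1, 2, 2, 4, 4, 5, 6, 7, 7],
    [1, 2, 3, 3, 5, 5, 6, 6, 8, 1, 2, 2, 4, 4, 5, 6, 7, 7],
    [1, 2, 3, 3, 5, 5, 6, 6, 8, 1, 2, 2, 4, 4, 5, 5, 6, 6, 7, 1, 2, 2, 4, 4, 5, 6, 7, 7],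
    [1, 2, 3, 3, 5, 5, 6, 6, 8, 1, 1, 2, 2, 3, 5, 6, 7, 8, 1, 2, 2, 4, 4, 5, 6, 7, 7],
    [1, 1, 2, 2, 3, 5, 6, 7, 8, 1, 2, 3, 3, 5, 5, 6, 6, 8, 1, 1, 2, 2, 3, 5, 6, 7, 8],
    [],
    [1, 2, 2, 4, 4, 5, 5, 6, 6, 7, 1, 1, 2, 2, 3, 5, 6, 7, 8],
    [1, 1, 2, 2, 3, 5, 6, 7, 8, 1, 2, 3, 3, 5, 5, 6, 6, 8, 1, 2, 2, 4, 4, 5, 6, 7, 7, 1, 2, 2, 4, 4, 5, 6, 7, 7],
    [1, 2, 2, 4, 4, 5, 5, 6, 6, 7, 1, 1, 2, 2, 3, 5, 6, 7, 8, 1, 1, 2, 2, 3, 5, 6, 7, 8],
    [1, 2, 3, 3, 5, 5, 6, 6, 8, 1, 2, 2, 4, 4, 5, 6, 7, 7, 1, 2, 2, 4, 4, 5, 6, 7, 7],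
    [1, 2, 3, 3, 5, 5, 6, 6, 8, 1, 1, 2, 2, 3, 5, 6, 7, 8],
    [1, 2, 2, 4, 4, 5, 5, 6, 6, 7, 1, 1, 2, 2, 3, 5, 6, 7, 8, 1, 2, 2, 4, 4, 5, 6, 7, 7],
    [1, 1, 2, 2, 3, 5, 6, 7, 8, 1, 1, 2, 2, 3, 5, 6, 7, 8],
    [1, 1, 2, 2, 3, 5, 6, 7, 8, 1, 2, 2, 4, 4, 5, 6, 7, 7],
    [1, 1, 2, 2, 3, 5, 6, 7, 8, 1, 2, 2, 4, 4, 5, 5, 6, 6, 7, 1, 2, 2, 4, 4, 5, 6, 7, 7],
    [1, 2, 3, 3, 5, 5, 6, 6, 8, 1, 2, 2, 4, 4, 5, 5, 6, 6, 7, 1, 1, 2, 2, 3, 5, 6, 7, 8],
    [1, 1, 2, 2, 3, 5, 6, 7, 8]]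

/-- the representatives -/
def threeLvlW3_ : List (List ℕ) := threeLvlW3_0

/-- part of the representatives -/
def threeLvlW4_0 : List (List ℕ) :=
  [[],
    [5, 5, 6, 6, 7, 7, 5, 5, 6, 6, 7, 7],
    [5, 5, 6, 6, 7, 7]]

/-- the representatives -/
def threeLvlW4_ : List (List ℕ) := threeLvlW4_0

/-- part of the representatives -/
def threeLvlW5_0 : List (List ℕ) :=
  [[],
    [7, 7],
    [7, 7, 7, 7]]

/-- the representatives -/
def threeLvlW5_ : List (List ℕ) := threeLvlW5_0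

/-- the chain -/
def threeChain : List (List ℤ × List (List ℕ)) := [([0, 0, (-2), 2, 0, 2, (-2), 0, 0, 0, 0, 2, 0, 0, 0, 2, 2, (-2), 0, 0, 0, (-4), 0, 0], threeLvlW0_),
  ([0, 0, 0, (-2), 2, 4, 0, 0, (-2), 0, 0, (-2), 0, 0, 0, 0, (-2), 2, 0, 2, 0, (-2), 0, 0], threeLvlW1_),
  ([(-1), (-1), 1, (-1), 1, (-3), 1, 1, 1, (-1), (-1), 1, 1, 1, 1, (-3), 1, (-1), 1, (-1), 1, 3, 1, 1], threeLvlW2_),
  ([0, 2, 2, (-2), 2, 0, 0, 0, 2, 0, 2, 2, (-2), 0, 0, 2, 2, 2, 2, 0, 0, 0, 0, 0], threeLvlW3_),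
  ([(-4), 4, 2, 0, 0, 2, (-4), 2, (-2), 4, 2, 0, 2, 2, (-2), 0, 0, 0, (-4), (-4), 2, 2, 2, 2], threeLvlW4_),
  ([(-2), 0, (-2), 0, 2, 0, 0, (-2), 2, 2, 0, 0, 0, (-2), (-2), (-2), 0, 0, 0, 0, 2, 0, (-2), (-2)], threeLvlW5_)]

/-- the certificate -/
def threeCert : Cert where
  p := 3
  n := 9
  ng := 10
  M := 45
  rels := threeRels
  eqs := threeEqs
  vecs := threeVecs
  gauge := threeGauge
  combs := threeCombs

end Cfsg.Agent.Lie.ConwayZeroMult
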