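import Cfsg.Agent.Lib.Lie.ConwayZeroMult.Pieces
import Cfsg.Agent.Lib.Lie.ConwayZeroMult.ThreeData

/-!
The checks for the part at one prime (three) of the multiplier of the double cover of the first Conway group: the matrices, the relations and the chain.
-/

set_option autoImplicit false
set_option maxRecDepth 100000
set_option Elab.async false

namespace Cfsg.Agent.Lie.ConwayZeroMult

open CentralRewrite

theorem three_mat0 : matOK (threeW.getD 0 ([], [])) = true := by decide +kernel

theorem three_mat1 : matOK (threeW.getD 1 ([], [])) = true := by decide +kernel

theorem three_mat2 : matOK (threeW.getD 2 ([], [])) = true := by decide +kernel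

theorem three_mat3 : matOK (threeW.getD 3 ([], [])) = true := by decide +kernel

theorem three_mat4 : matOK (threeW.getD 4 ([], [])) = true := by decide +kernel

theorem three_mat5 : matOK (threeW.getD 5 ([], [])) = true := by decide +kernel

theorem three_mat6 : matOK (threeW.getD 6 ([], [])) = true := by decide +kernel

theorem three_mat7 : matOK (threeW.getD 7 ([], [])) = true := by decide +kernel

theorem three_mat8 : matOK (threeW.getD 8 ([], [])) = true := by decide +kernel

theorem three_mat9 : matOK (threeW.getD 9 ([], [])) = true := by decide +kernel

theorem three_mats : threeW.all matOK = true := by
  refine mats_of (m := 10) (by decide +kernel) fun i hi => ?_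
  interval_cases i
  · exact three_mat0
  · exact three_mat1
  · exact three_mat2
  · exact three_mat3
  · exact three_mat4
  · exact three_mat5
  · exact three_mat6
  · exact three_mat7
  · exact three_mat8
  · exact three_mat9

theorem three_len : threeCert.ng = threeW.length := by decide +kernel

theorem three_rels : threeCert.rels.all (relOK threeW) = true := by decide +kernel

theorem three_chain : chainV threeW threeCert.n threeChain [] = true := by decide +kernel

theorem three_size : threeCert.p ^ threeCert.n ≤ chainProd threeChain := by decide +kernel

theorem three_index : ¬ threeCert.p ∣ 8315553613086720000 / threeCert.p ^ threeCert.n := by decide +kernel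

end Cfsg.Agent.Lie.ConwayZeroMult
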