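import Cfsg.Agent.Lib.Lie.CentralRewrite.Main

/-!
Data for the part at the prime 2 of the multiplier of the double cover of the first Conway group: matrices,
relations, pairs of derivations and combinations.
-/

set_option autoImplicit false
set_option maxRecDepth 100000

namespace Cfsg.Agent.Lie.ConwayZeroMult

open CentralRewrite

/-- part of the generators and their transposes -/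
def twoW0 : List (List (List (ℕ × ℤ)) × List (List (ℕ × ℤ))) :=
  [([[(1, 8)],
      [(0, 8)],
      [(7, 8)],
      [(3, 8)],
      [(4, 8)],
      [(5, 8)],
      [(21, 8)],
      [(2, 8)],
      [(9, 8)],
      [(8, 8)],
      [(10, 8)],
      [(11, 8)],
      [(12, 8)],
      [(17, 8)],
      [(22, 8)],
      [(18, 8)],
      [(16, 8)],
      [(13, 8)],
      [(15, 8)],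
      [(23, 8)],
      [(20, 8)],
      [(6, 8)],
      [(14, 8)],
      [(19, 8)]],
     [[(1, 8)],
      [(0, 8)],
      [(7, 8)],
      [(3, 8)],
      [(4, 8)],
      [(5, 8)],
      [(21, 8)],
      [(2, 8)],
      [(9, 8)],
      [(8, 8)],
      [(10, 8)],
      [(11, 8)],
      [(12, 8)],
      [(17, 8)],
      [(22, 8)],
      [(18, 8)],
      [(16, 8)],
      [(13, 8)],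
      [(15, 8)],
      [(23, 8)],
      [(20, 8)],
      [(6, 8)],
      [(14, 8)],
      [(19, 8)]]),
    ([[(0, 8)],
      [(2, 8)],
      [(1, 8)],
      [(3, 8)],
      [(12, 8)],
      [(20, 8)],
      [(6, 8)],
      [(7, 8)],
      [(15, 8)],
      [(22, 8)],
      [(10, 8)],
      [(11, 8)],
      [(4, 8)],
      [(14, 8)],
      [(13, 8)],
      [(8, 8)],
      [(16, 8)],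
      [(18, 8)],
      [(17, 8)],
      [(19, 8)],
      [(5, 8)],
      [(23, 8)],
      [(9, 8)],
      [(21, 8)]],
     [[(0, 8)],
      [(2, 8)],
      [(1, 8)],
      [(3, 8)],
      [(12, 8)],
      [(20, 8)],
      [(6, 8)],
      [(7, 8)],
      [(15, 8)],
      [(22, 8)],
      [(10, 8)],
      [(11, 8)],
      [(4, 8)],
      [(14, 8)],
      [(13, 8)],
      [(8, 8)],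
      [(16, 8)],
      [(18, 8)],
      [(17, 8)],
      [(19, 8)],
      [(5, 8)],
      [(23, 8)],
      [(9, 8)],
      [(21, 8)]])]

/-- part of the generators and their transposes -/
def twoW1 : List (List (List (ℕ × ℤ)) × List (List (ℕ × ℤ))) :=
  [([[(7, 8)],
      [(2, 8)],
      [(1, 8)],
      [(3, 8)],
      [(4, 8)],
      [(5, 8)],
      [(19, 8)],
      [(0, 8)],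
      [(13, 8)],
      [(17, 8)],
      [(10, 8)],
      [(11, 8)],
      [(12, 8)],
      [(8, 8)],
      [(15, 8)],
      [(14, 8)],
      [(16, 8)],
      [(9, 8)],
      [(22, 8)],
      [(6, 8)],
      [(20, 8)],
      [(23, 8)],
      [(18, 8)],
      [(21, 8)]],
     [[(7, 8)],
      [(2, 8)],
      [(1, 8)],
      [(3, 8)],
      [(4, 8)],
      [(5, 8)],
      [(19, 8)],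
      [(0, 8)],
      [(13, 8)],
      [(17, 8)],
      [(10, 8)],
      [(11, 8)],
      [(12, 8)],
      [(8, 8)],
      [(15, 8)],
      [(14, 8)],
      [(16, 8)],
      [(9, 8)],
      [(22, 8)],
      [(6, 8)],
      [(20, 8)],
      [(23, 8)],
      [(18, 8)],
      [(21, 8)]]),
    ([[(0, 8)],
      [(1, 8)],
      [(23, 8)],
      [(3, 8)],
      [(4, 8)],
      [(5, 8)],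
      [(6, 8)],
      [(19, 8)],
      [(9, 8)],
      [(8, 8)],
      [(11, 8)],
      [(10, 8)],
      [(20, 8)],
      [(22, 8)],
      [(17, 8)],
      [(18, 8)],
      [(16, 8)],
      [(14, 8)],
      [(15, 8)],
      [(7, 8)],
      [(12, 8)],
      [(21, 8)],
      [(13, 8)],
      [(2, 8)]],
     [[(0, 8)],
      [(1, 8)],
      [(23, 8)],
      [(3, 8)],
      [(4, 8)],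
      [(5, 8)],
      [(6, 8)],
      [(19, 8)],
      [(9, 8)],
      [(8, 8)],
      [(11, 8)],
      [(10, 8)],
      [(20, 8)],
      [(22, 8)],
      [(17, 8)],
      [(18, 8)],
      [(16, 8)],
      [(14, 8)],
      [(15, 8)],
      [(7, 8)],
      [(12, 8)],
      [(21, 8)],
      [(13, 8)],
      [(2, 8)]])]

/-- part of the generators and their transposes -/
def twoW2 : List (List (List (ℕ × ℤ)) × List (List (ℕ × ℤ))) :=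
  [([[(0, 8)],
      [(21, 8)],
      [(23, 8)],
      [(3, 8)],
      [(5, 8)],
      [(4, 8)],
      [(6, 8)],
      [(7, 8)],
      [(14, 8)],
      [(17, 8)],
      [(10, 8)],
      [(11, 8)],
      [(20, 8)],
      [(15, 8)],
      [(8, 8)],
      [(13, 8)],
      [(16, 8)],
      [(9, 8)],
      [(22, 8)],
      [(19, 8)],
      [(12, 8)],
      [(1, 8)],
      [(18, 8)],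
      [(2, 8)]],
     [[(0, 8)],
      [(21, 8)],
      [(23, 8)],
      [(3, 8)],
      [(5, 8)],
      [(4, 8)],
      [(6, 8)],
      [(7, 8)],
      [(14, 8)],
      [(17, 8)],
      [(10, 8)],
      [(11, 8)],
      [(20, 8)],
      [(15, 8)],
      [(8, 8)],
      [(13, 8)],
      [(16, 8)],
      [(9, 8)],
      [(22, 8)],
      [(19, 8)],
      [(12, 8)],
      [(1, 8)],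
      [(18, 8)],
      [(2, 8)]]),
    ([[(6, 8)],
      [(21, 8)],
      [(23, 8)],
      [(3, 8)],
      [(4, 8)],
      [(5, 8)],
      [(0, 8)],
      [(19, 8)],
      [(15, 8)],
      [(18, 8)],
      [(10, 8)],
      [(11, 8)],
      [(12, 8)],
      [(14, 8)],
      [(13, 8)],
      [(8, 8)],
      [(16, 8)],
      [(22, 8)],
      [(9, 8)],
      [(7, 8)],
      [(20, 8)],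
      [(1, 8)],
      [(17, 8)],
      [(2, 8)]],
     [[(6, 8)],
      [(21, 8)],
      [(23, 8)],
      [(3, 8)],
      [(4, 8)],
      [(5, 8)],
      [(0, 8)],
      [(19, 8)],
      [(15, 8)],
      [(18, 8)],
      [(10, 8)],
      [(11, 8)],
      [(12, 8)],
      [(14, 8)],
      [(13, 8)],
      [(8, 8)],
      [(16, 8)],
      [(22, 8)],
      [(9, 8)],
      [(7, 8)],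
      [(20, 8)],
      [(1, 8)],
      [(17, 8)],
      [(2, 8)]])]

/-- part of the generators and their transposes -/
def twoW3 : List (List (List (ℕ × ℤ)) × List (List (ℕ × ℤ))) :=
  [([[(0, 8)],
      [(1, 8)],
      [(2, 8)],
      [(8, 8)],
      [(9, 8)],
      [(18, 8)],
      [(6, 8)],
      [(7, 8)],
      [(3, 8)],
      [(4, 8)],
      [(13, 8)],
      [(14, 8)],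
      [(17, 8)],
      [(10, 8)],
      [(11, 8)],
      [(16, 8)],
      [(15, 8)],
      [(12, 8)],
      [(5, 8)],
      [(19, 8)],
      [(22, 8)],
      [(21, 8)],
      [(20, 8)],
      [(23, 8)]],
     [[(0, 8)],
      [(1, 8)],
      [(2, 8)],
      [(8, 8)],
      [(9, 8)],
      [(18, 8)],
      [(6, 8)],
      [(7, 8)],
      [(3, 8)],
      [(4, 8)],
      [(13, 8)],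
      [(14, 8)],
      [(17, 8)],
      [(10, 8)],
      [(11, 8)],
      [(16, 8)],
      [(15, 8)],
      [(12, 8)],
      [(5, 8)],
      [(19, 8)],
      [(22, 8)],
      [(21, 8)],
      [(20, 8)],
      [(23, 8)]]),
    ([[(0, 8)],
      [(1, 8)],
      [(2, 8)],
      [(4, 8)],
      [(3, 8)],
      [(16, 8)],
      [(6, 8)],
      [(7, 8)],
      [(9, 8)],
      [(8, 8)],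
      [(12, 8)],
      [(20, 8)],
      [(10, 8)],
      [(17, 8)],
      [(22, 8)],
      [(18, 8)],
      [(5, 8)],
      [(13, 8)],
      [(15, 8)],
      [(19, 8)],
      [(11, 8)],
      [(21, 8)],
      [(14, 8)],
      [(23, 8)]],
     [[(0, 8)],
      [(1, 8)],
      [(2, 8)],
      [(4, 8)],
      [(3, 8)],
      [(16, 8)],
      [(6, 8)],
      [(7, 8)],
      [(9, 8)],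
      [(8, 8)],
      [(12, 8)],
      [(20, 8)],
      [(10, 8)],
      [(17, 8)],
      [(22, 8)],
      [(18, 8)],
      [(5, 8)],
      [(13, 8)],
      [(15, 8)],
      [(19, 8)],
      [(11, 8)],
      [(21, 8)],
      [(14, 8)],
      [(23, 8)]])]

/-- part of the generators and their transposes -/
def twoW4 : List (List (List (ℕ × ℤ)) × List (List (ℕ × ℤ))) :=
  [([[(0, 8)],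
      [(1, 8)],
      [(2, 8)],
      [(10, 8)],
      [(12, 8)],
      [(20, 8)],
      [(6, 8)],
      [(7, 8)],
      [(13, 8)],
      [(17, 8)],
      [(3, 8)],
      [(16, 8)],
      [(4, 8)],
      [(8, 8)],
      [(15, 8)],
      [(14, 8)],
      [(11, 8)],
      [(9, 8)],
      [(22, 8)],
      [(19, 8)],
      [(5, 8)],
      [(21, 8)],
      [(18, 8)],
      [(23, 8)]],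
     [[(0, 8)],
      [(1, 8)],
      [(2, 8)],
      [(10, 8)],
      [(12, 8)],
      [(20, 8)],
      [(6, 8)],
      [(7, 8)],
      [(13, 8)],
      [(17, 8)],
      [(3, 8)],
      [(16, 8)],
      [(4, 8)],
      [(8, 8)],
      [(15, 8)],
      [(14, 8)],
      [(11, 8)],
      [(9, 8)],
      [(22, 8)],
      [(19, 8)],
      [(5, 8)],
      [(21, 8)],
      [(18, 8)],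
      [(23, 8)]]),
    ([[(0, 8)],
      [(1, 8)],
      [(2, 8)],
      [(16, 8)],
      [(5, 8)],
      [(4, 8)],
      [(6, 8)],
      [(7, 8)],
      [(15, 8)],
      [(18, 8)],
      [(11, 8)],
      [(10, 8)],
      [(20, 8)],
      [(14, 8)],
      [(13, 8)],
      [(8, 8)],
      [(3, 8)],
      [(22, 8)],
      [(9, 8)],
      [(19, 8)],
      [(12, 8)],
      [(21, 8)],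
      [(17, 8)],
      [(23, 8)]],
     [[(0, 8)],
      [(1, 8)],
      [(2, 8)],
      [(16, 8)],
      [(5, 8)],
      [(4, 8)],
      [(6, 8)],
      [(7, 8)],
      [(15, 8)],
      [(18, 8)],
      [(11, 8)],
      [(10, 8)],
      [(20, 8)],
      [(14, 8)],
      [(13, 8)],
      [(8, 8)],
      [(3, 8)],
      [(22, 8)],
      [(9, 8)],
      [(19, 8)],
      [(12, 8)],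
      [(21, 8)],
      [(17, 8)],
      [(23, 8)]])]

/-- part of the generators and their transposes -/
def twoW5 : List (List (List (ℕ × ℤ)) × List (List (ℕ × ℤ))) :=
  [([[(0, (-8))],
      [(1, (-8))],
      [(2, 8)],
      [(3, 8)],
      [(4, 8)],
      [(5, (-8))],
      [(6, (-8))],
      [(7, (-8))],
      [(8, 8)],
      [(9, (-8))],
      [(10, (-8))],
      [(11, 8)],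
      [(12, 8)],
      [(13, 8)],
      [(14, (-8))],
      [(15, 8)],
      [(16, 8)],
      [(17, 8)],
      [(18, 8)],
      [(19, 8)],
      [(20, 8)],
      [(21, 8)],
      [(22, 8)],
      [(23, 8)]],
     [[(0, (-8))],
      [(1, (-8))],
      [(2, 8)],
      [(3, 8)],
      [(4, 8)],
      [(5, (-8))],
      [(6, (-8))],
      [(7, (-8))],
      [(8, 8)],
      [(9, (-8))],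
      [(10, (-8))],
      [(11, 8)],
      [(12, 8)],
      [(13, 8)],
      [(14, (-8))],
      [(15, 8)],
      [(16, 8)],
      [(17, 8)],
      [(18, 8)],
      [(19, 8)],
      [(20, 8)],
      [(21, 8)],
      [(22, 8)],
      [(23, 8)]]),
    ([[(0, 8)],
      [(1, (-8))],
      [(2, (-8))],
      [(3, (-8))],
      [(4, (-8))],
      [(5, (-8))],
      [(6, 8)],
      [(7, 8)],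
      [(8, (-8))],
      [(9, 8)],
      [(10, 8)],
      [(11, (-8))],
      [(12, 8)],
      [(13, (-8))],
      [(14, 8)],
      [(15, 8)],
      [(16, 8)],
      [(17, 8)],
      [(18, 8)],
      [(19, 8)],
      [(20, 8)],
      [(21, 8)],
      [(22, 8)],
      [(23, 8)]],
     [[(0, 8)],
      [(1, (-8))],
      [(2, (-8))],
      [(3, (-8))],
      [(4, (-8))],
      [(5, (-8))],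
      [(6, 8)],
      [(7, 8)],
      [(8, (-8))],
      [(9, 8)],
      [(10, 8)],
      [(11, (-8))],
      [(12, 8)],
      [(13, (-8))],
      [(14, 8)],
      [(15, 8)],
      [(16, 8)],
      [(17, 8)],
      [(18, 8)],
      [(19, 8)],
      [(20, 8)],
      [(21, 8)],
      [(22, 8)],
      [(23, 8)]])]

/-- part of the generators and their transposes -/
def twoW6 : List (List (List (ℕ × ℤ)) × List (List (ℕ × ℤ))) :=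
  [([[(0, 8)],
      [(1, (-8))],
      [(2, (-8))],
      [(3, 8)],
      [(4, 8)],
      [(5, 8)],
      [(6, (-8))],
      [(7, (-8))],
      [(8, (-8))],
      [(9, 8)],
      [(10, (-8))],
      [(11, (-8))],
      [(12, 8)],
      [(13, 8)],
      [(14, 8)],
      [(15, (-8))],
      [(16, 8)],
      [(17, 8)],
      [(18, 8)],
      [(19, 8)],
      [(20, 8)],
      [(21, 8)],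
      [(22, 8)],
      [(23, 8)]],
     [[(0, 8)],
      [(1, (-8))],
      [(2, (-8))],
      [(3, 8)],
      [(4, 8)],
      [(5, 8)],
      [(6, (-8))],
      [(7, (-8))],
      [(8, (-8))],
      [(9, 8)],
      [(10, (-8))],
      [(11, (-8))],
      [(12, 8)],
      [(13, 8)],
      [(14, 8)],
      [(15, (-8))],
      [(16, 8)],
      [(17, 8)],
      [(18, 8)],
      [(19, 8)],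
      [(20, 8)],
      [(21, 8)],
      [(22, 8)],
      [(23, 8)]]),
    ([[(0, (-8))],
      [(1, (-8))],
      [(2, (-8))],
      [(3, (-8))],
      [(4, (-8))],
      [(5, 8)],
      [(6, 8)],
      [(7, (-8))],
      [(8, 8)],
      [(9, 8)],
      [(10, (-8))],
      [(11, 8)],
      [(12, (-8))],
      [(13, 8)],
      [(14, 8)],
      [(15, 8)],
      [(16, 8)],
      [(17, 8)],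
      [(18, 8)],
      [(19, 8)],
      [(20, 8)],
      [(21, 8)],
      [(22, 8)],
      [(23, 8)]],
     [[(0, (-8))],
      [(1, (-8))],
      [(2, (-8))],
      [(3, (-8))],
      [(4, (-8))],
      [(5, 8)],
      [(6, 8)],
      [(7, (-8))],
      [(8, 8)],
      [(9, 8)],
      [(10, (-8))],
      [(11, 8)],
      [(12, (-8))],
      [(13, 8)],
      [(14, 8)],
      [(15, 8)],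
      [(16, 8)],
      [(17, 8)],
      [(18, 8)],
      [(19, 8)],
      [(20, 8)],
      [(21, 8)],
      [(22, 8)],
      [(23, 8)]])]

/-- part of the generators and their transposes -/
def twoW7 : List (List (List (ℕ × ℤ)) × List (List (ℕ × ℤ))) :=
  [([[(0, (-8))],
      [(1, (-8))],
      [(2, 8)],
      [(3, 8)],
      [(4, (-8))],
      [(5, (-8))],
      [(6, (-8))],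
      [(7, 8)],
      [(8, (-8))],
      [(9, 8)],
      [(10, (-8))],
      [(11, (-8))],
      [(12, 8)],
      [(13, (-8))],
      [(14, (-8))],
      [(15, (-8))],
      [(16, 8)],
      [(17, 8)],
      [(18, 8)],
      [(19, 8)],
      [(20, 8)],
      [(21, (-8))],
      [(22, 8)],
      [(23, 8)]],
     [[(0, (-8))],
      [(1, (-8))],
      [(2, 8)],
      [(3, 8)],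
      [(4, (-8))],
      [(5, (-8))],
      [(6, (-8))],
      [(7, 8)],
      [(8, (-8))],
      [(9, 8)],
      [(10, (-8))],
      [(11, (-8))],
      [(12, 8)],
      [(13, (-8))],
      [(14, (-8))],
      [(15, (-8))],
      [(16, 8)],
      [(17, 8)],
      [(18, 8)],
      [(19, 8)],
      [(20, 8)],
      [(21, (-8))],
      [(22, 8)],
      [(23, 8)]]),
    ([[(0, (-8))],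
      [(1, 8)],
      [(2, 8)],
      [(3, 8)],
      [(4, 8)],
      [(5, 8)],
      [(6, (-8))],
      [(7, (-8))],
      [(8, (-8))],
      [(9, 8)],
      [(10, 8)],
      [(11, 8)],
      [(12, 8)],
      [(13, (-8))],
      [(14, (-8))],
      [(15, (-8))],
      [(16, 8)],
      [(17, 8)],
      [(18, 8)],
      [(19, (-8))],
      [(20, 8)],
      [(21, 8)],
      [(22, 8)],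
      [(23, 8)]],
     [[(0, (-8))],
      [(1, 8)],
      [(2, 8)],
      [(3, 8)],
      [(4, 8)],
      [(5, 8)],
      [(6, (-8))],
      [(7, (-8))],
      [(8, (-8))],
      [(9, 8)],
      [(10, 8)],
      [(11, 8)],
      [(12, 8)],
      [(13, (-8))],
      [(14, (-8))],
      [(15, (-8))],
      [(16, 8)],
      [(17, 8)],
      [(18, 8)],
      [(19, (-8))],
      [(20, 8)],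
      [(21, 8)],
      [(22, 8)],
      [(23, 8)]])]

/-- part of the generators and their transposes -/
def twoW8 : List (List (List (ℕ × ℤ)) × List (List (ℕ × ℤ))) :=
  [([[(0, (-8))],
      [(1, (-8))],
      [(2, (-8))],
      [(3, 8)],
      [(4, 8)],
      [(5, 8)],
      [(6, (-8))],
      [(7, (-8))],
      [(8, 8)],
      [(9, 8)],
      [(10, 8)],
      [(11, 8)],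
      [(12, 8)],
      [(13, 8)],
      [(14, 8)],
      [(15, 8)],
      [(16, 8)],
      [(17, 8)],
      [(18, 8)],
      [(19, (-8))],
      [(20, 8)],
      [(21, (-8))],
      [(22, 8)],
      [(23, (-8))]],
     [[(0, (-8))],
      [(1, (-8))],
      [(2, (-8))],
      [(3, 8)],
      [(4, 8)],
      [(5, 8)],
      [(6, (-8))],
      [(7, (-8))],
      [(8, 8)],
      [(9, 8)],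
      [(10, 8)],
      [(11, 8)],
      [(12, 8)],
      [(13, 8)],
      [(14, 8)],
      [(15, 8)],
      [(16, 8)],
      [(17, 8)],
      [(18, 8)],
      [(19, (-8))],
      [(20, 8)],
      [(21, (-8))],
      [(22, 8)],
      [(23, (-8))]]),
    ([[(0, 8)],
      [(1, 8)],
      [(2, 8)],
      [(3, (-8))],
      [(4, (-8))],
      [(5, 8)],
      [(6, 8)],
      [(7, 8)],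
      [(8, (-8))],
      [(9, (-8))],
      [(10, (-8))],
      [(11, 8)],
      [(12, (-8))],
      [(13, (-8))],
      [(14, 8)],
      [(15, 8)],
      [(16, 8)],
      [(17, (-8))],
      [(18, 8)],
      [(19, 8)],
      [(20, 8)],
      [(21, 8)],
      [(22, 8)],
      [(23, 8)]],
     [[(0, 8)],
      [(1, 8)],
      [(2, 8)],
      [(3, (-8))],
      [(4, (-8))],
      [(5, 8)],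
      [(6, 8)],
      [(7, 8)],
      [(8, (-8))],
      [(9, (-8))],
      [(10, (-8))],
      [(11, 8)],
      [(12, (-8))],
      [(13, (-8))],
      [(14, 8)],
      [(15, 8)],
      [(16, 8)],
      [(17, (-8))],
      [(18, 8)],
      [(19, 8)],
      [(20, 8)],
      [(21, 8)],
      [(22, 8)],
      [(23, 8)]])]

/-- part of the generators and their transposes -/
def twoW9 : List (List (List (ℕ × ℤ)) × List (List (ℕ × ℤ))) :=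
  [([[(0, 8)],
      [(1, 8)],
      [(2, 8)],
      [(3, 8)],
      [(4, (-8))],
      [(5, (-8))],
      [(6, 8)],
      [(7, 8)],
      [(8, 8)],
      [(9, (-8))],
      [(10, (-8))],
      [(11, (-8))],
      [(12, 8)],
      [(13, (-8))],
      [(14, (-8))],
      [(15, 8)],
      [(16, 8)],
      [(17, 8)],
      [(18, (-8))],
      [(19, 8)],
      [(20, 8)],
      [(21, 8)],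
      [(22, 8)],
      [(23, 8)]],
     [[(0, 8)],
      [(1, 8)],
      [(2, 8)],
      [(3, 8)],
      [(4, (-8))],
      [(5, (-8))],
      [(6, 8)],
      [(7, 8)],
      [(8, 8)],
      [(9, (-8))],
      [(10, (-8))],
      [(11, (-8))],
      [(12, 8)],
      [(13, (-8))],
      [(14, (-8))],
      [(15, 8)],
      [(16, 8)],
      [(17, 8)],
      [(18, (-8))],
      [(19, 8)],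
      [(20, 8)],
      [(21, 8)],
      [(22, 8)],
      [(23, 8)]]),
    ([[(0, 8)],
      [(1, 8)],
      [(2, 8)],
      [(3, (-8))],
      [(4, 8)],
      [(5, 8)],
      [(6, 8)],
      [(7, 8)],
      [(8, (-8))],
      [(9, 8)],
      [(10, (-8))],
      [(11, (-8))],
      [(12, 8)],
      [(13, (-8))],
      [(14, (-8))],
      [(15, (-8))],
      [(16, (-8))],
      [(17, 8)],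
      [(18, 8)],
      [(19, 8)],
      [(20, 8)],
      [(21, 8)],
      [(22, 8)],
      [(23, 8)]],
     [[(0, 8)],
      [(1, 8)],
      [(2, 8)],
      [(3, (-8))],
      [(4, 8)],
      [(5, 8)],
      [(6, 8)],
      [(7, 8)],
      [(8, (-8))],
      [(9, 8)],
      [(10, (-8))],
      [(11, (-8))],
      [(12, 8)],
      [(13, (-8))],
      [(14, (-8))],
      [(15, (-8))],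
      [(16, (-8))],
      [(17, 8)],
      [(18, 8)],
      [(19, 8)],
      [(20, 8)],
      [(21, 8)],
      [(22, 8)],
      [(23, 8)]])]

/-- part of the generators and their transposes -/
def twoW10 : List (List (List (ℕ × ℤ)) × List (List (ℕ × ℤ))) :=
  [([[(0, 8)],
      [(1, 8)],
      [(2, 8)],
      [(3, (-8))],
      [(4, (-8))],
      [(5, (-8))],
      [(6, 8)],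
      [(7, 8)],
      [(8, 8)],
      [(9, 8)],
      [(10, (-8))],
      [(11, (-8))],
      [(12, (-8))],
      [(13, 8)],
      [(14, 8)],
      [(15, 8)],
      [(16, (-8))],
      [(17, 8)],
      [(18, 8)],
      [(19, 8)],
      [(20, (-8))],
      [(21, 8)],
      [(22, 8)],
      [(23, 8)]],
     [[(0, 8)],
      [(1, 8)],
      [(2, 8)],
      [(3, (-8))],
      [(4, (-8))],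
      [(5, (-8))],
      [(6, 8)],
      [(7, 8)],
      [(8, 8)],
      [(9, 8)],
      [(10, (-8))],
      [(11, (-8))],
      [(12, (-8))],
      [(13, 8)],
      [(14, 8)],
      [(15, 8)],
      [(16, (-8))],
      [(17, 8)],
      [(18, 8)],
      [(19, 8)],
      [(20, (-8))],
      [(21, 8)],
      [(22, 8)],
      [(23, 8)]]),
    ([[(0, 8)],
      [(1, 8)],
      [(2, 8)],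
      [(3, (-8))],
      [(4, (-8))],
      [(5, (-8))],
      [(6, 8)],
      [(7, 8)],
      [(8, (-8))],
      [(9, (-8))],
      [(10, (-8))],
      [(11, (-8))],
      [(12, (-8))],
      [(13, (-8))],
      [(14, (-8))],
      [(15, (-8))],
      [(16, (-8))],
      [(17, (-8))],
      [(18, (-8))],
      [(19, 8)],
      [(20, (-8))],
      [(21, 8)],
      [(22, (-8))],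
      [(23, 8)]],
     [[(0, 8)],
      [(1, 8)],
      [(2, 8)],
      [(3, (-8))],
      [(4, (-8))],
      [(5, (-8))],
      [(6, 8)],
      [(7, 8)],
      [(8, (-8))],
      [(9, (-8))],
      [(10, (-8))],
      [(11, (-8))],
      [(12, (-8))],
      [(13, (-8))],
      [(14, (-8))],
      [(15, (-8))],
      [(16, (-8))],
      [(17, (-8))],
      [(18, (-8))],
      [(19, 8)],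
      [(20, (-8))],
      [(21, 8)],
      [(22, (-8))],
      [(23, 8)]])]

/-- part of the generators and their transposes -/
def twoW11 : List (List (List (ℕ × ℤ)) × List (List (ℕ × ℤ))) :=
  [([[(19, 8)],
      [(9, 8)],
      [(16, 8)],
      [(15, 8)],
      [(20, 8)],
      [(6, 8)],
      [(7, 8)],
      [(5, 8)],
      [(18, 8)],
      [(13, 8)],
      [(2, 8)],
      [(17, 8)],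
      [(12, 8)],
      [(23, 8)],
      [(11, 8)],
      [(14, 8)],
      [(10, 8)],
      [(22, 8)],
      [(1, 8)],
      [(0, 8)],
      [(4, 8)],
      [(21, 8)],
      [(3, 8)],
      [(8, 8)]],
     [[(19, 8)],
      [(18, 8)],
      [(10, 8)],
      [(22, 8)],
      [(20, 8)],
      [(7, 8)],
      [(5, 8)],
      [(6, 8)],
      [(23, 8)],
      [(1, 8)],
      [(16, 8)],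
      [(14, 8)],
      [(12, 8)],
      [(9, 8)],
      [(15, 8)],
      [(3, 8)],
      [(2, 8)],
      [(11, 8)],
      [(8, 8)],
      [(0, 8)],
      [(4, 8)],
      [(21, 8)],
      [(17, 8)],
      [(13, 8)]]),
    ([[(8, 8)],
      [(17, 8)],
      [(20, 8)],
      [(9, 8)],
      [(0, 8)],
      [(14, 8)],
      [(16, 8)],
      [(15, 8)],
      [(1, 8)],
      [(5, 8)],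
      [(19, 8)],
      [(11, 8)],
      [(4, 8)],
      [(18, 8)],
      [(23, 8)],
      [(10, 8)],
      [(6, 8)],
      [(2, 8)],
      [(7, 8)],
      [(22, 8)],
      [(21, 8)],
      [(3, 8)],
      [(13, 8)],
      [(12, 8)]],
     [[(4, 8)],
      [(8, 8)],
      [(17, 8)],
      [(21, 8)],
      [(12, 8)],
      [(9, 8)],
      [(16, 8)],
      [(18, 8)],
      [(0, 8)],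
      [(3, 8)],
      [(15, 8)],
      [(11, 8)],
      [(23, 8)],
      [(22, 8)],
      [(5, 8)],
      [(7, 8)],
      [(6, 8)],
      [(1, 8)],
      [(13, 8)],
      [(10, 8)],
      [(2, 8)],
      [(20, 8)],
      [(19, 8)],
      [(14, 8)]])]

/-- part of the generators and their transposes -/
def twoW12 : List (List (List (ℕ × ℤ)) × List (List (ℕ × ℤ))) :=
  [([[(0, (-4)), (5, 4), (5, 4), (7, 4)],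
      [(1, 4), (8, (-4)), (0, (-4)), (9, (-4))],
      [(2, (-4)), (0, 4), (12, 4), (6, 4)],
      [(2, 4), (0, (-4)), (12, 4), (6, 4)],
      [(4, (-4)), (0, 4), (1, 4), (11, 4)],
      [(4, 4), (0, (-4)), (1, 4), (11, 4)],
      [(0, 4), (5, (-4)), (5, 4), (7, 4)],
      [(4, 4), (0, 4), (1, (-4)), (11, 4)],
      [(8, (-4)), (4, 4), (3, 4), (0, 4)],
      [(9, (-4)), (4, 4), (0, 4), (6, 4)],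
      [(1, (-4)), (8, 4), (0, (-4)), (9, (-4))],
      [(1, (-4)), (8, (-4)), (0, 4), (9, (-4))],
      [(0, 4), (5, 4), (5, (-4)), (7, 4)],
      [(8, 4), (4, (-4)), (3, 4), (0, 4)],
      [(9, 4), (4, (-4)), (0, 4), (6, 4)],
      [(9, 4), (4, 4), (0, (-4)), (6, 4)],
      [(2, 4), (0, 4), (12, (-4)), (6, 4)],
      [(8, 4), (4, 4), (3, (-4)), (0, 4)],
      [(8, 4), (4, 4), (3, 4), (0, (-4))],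
      [(4, 4), (0, 4), (1, 4), (11, (-4))],
      [(0, 4), (5, 4), (5, 4), (7, (-4))],
      [(1, (-4)), (8, (-4)), (0, (-4)), (9, 4)],
      [(9, 4), (4, 4), (0, 4), (6, (-4))],
      [(2, 4), (0, 4), (12, 4), (6, (-4))]],
     [[(0, (-4)), (5, 4), (5, 4), (7, 4)],
      [(1, 4), (8, (-4)), (0, (-4)), (9, (-4))],
      [(2, (-4)), (0, 4), (12, 4), (6, 4)],
      [(2, 4), (0, (-4)), (12, 4), (6, 4)],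
      [(4, (-4)), (0, 4), (1, 4), (11, 4)],
      [(4, 4), (0, (-4)), (1, 4), (11, 4)],
      [(0, 4), (5, (-4)), (5, 4), (7, 4)],
      [(4, 4), (0, 4), (1, (-4)), (11, 4)],
      [(8, (-4)), (4, 4), (3, 4), (0, 4)],
      [(9, (-4)), (4, 4), (0, 4), (6, 4)],
      [(1, (-4)), (8, 4), (0, (-4)), (9, (-4))],
      [(1, (-4)), (8, (-4)), (0, 4), (9, (-4))],
      [(0, 4), (5, 4), (5, (-4)), (7, 4)],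
      [(8, 4), (4, (-4)), (3, 4), (0, 4)],
      [(9, 4), (4, (-4)), (0, 4), (6, 4)],
      [(9, 4), (4, 4), (0, (-4)), (6, 4)],
      [(2, 4), (0, 4), (12, (-4)), (6, 4)],
      [(8, 4), (4, 4), (3, (-4)), (0, 4)],
      [(8, 4), (4, 4), (3, 4), (0, (-4))],
      [(4, 4), (0, 4), (1, 4), (11, (-4))],
      [(0, 4), (5, 4), (5, 4), (7, (-4))],
      [(1, (-4)), (8, (-4)), (0, (-4)), (9, 4)],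
      [(9, 4), (4, 4), (0, 4), (6, (-4))],
      [(2, 4), (0, 4), (12, 4), (6, (-4))]]),
    ([[(23, 8)],
      [(12, 8)],
      [(16, 8)],
      [(8, 8)],
      [(9, 8)],
      [(1, 8)],
      [(7, 8)],
      [(13, 8)],
      [(19, 8)],
      [(20, 8)],
      [(0, 8)],
      [(18, 8)],
      [(15, 8)],
      [(17, 8)],
      [(14, 8)],
      [(2, 8)],
      [(21, 8)],
      [(4, 8)],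
      [(11, 8)],
      [(22, 8)],
      [(6, 8)],
      [(10, 8)],
      [(5, 8)],
      [(3, 8)]],
     [[(10, 8)],
      [(5, 8)],
      [(15, 8)],
      [(23, 8)],
      [(17, 8)],
      [(22, 8)],
      [(20, 8)],
      [(6, 8)],
      [(3, 8)],
      [(4, 8)],
      [(21, 8)],
      [(18, 8)],
      [(1, 8)],
      [(7, 8)],
      [(14, 8)],
      [(12, 8)],
      [(2, 8)],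
      [(13, 8)],
      [(11, 8)],
      [(8, 8)],
      [(9, 8)],
      [(16, 8)],
      [(19, 8)],
      [(0, 8)]])]

/-- part of the generators and their transposes -/
def twoW13 : List (List (List (ℕ × ℤ)) × List (List (ℕ × ℤ))) :=
  [([[(18, 8)],
      [(19, 8)],
      [(8, 8)],
      [(12, 8)],
      [(15, 8)],
      [(14, 8)],
      [(17, 8)],
      [(5, 8)],
      [(3, 8)],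
      [(1, 8)],
      [(22, 8)],
      [(9, 8)],
      [(0, 8)],
      [(21, 8)],
      [(10, 8)],
      [(2, 8)],
      [(20, 8)],
      [(23, 8)],
      [(11, 8)],
      [(4, 8)],
      [(6, 8)],
      [(7, 8)],
      [(16, 8)],
      [(13, 8)]],
     [[(12, 8)],
      [(9, 8)],
      [(15, 8)],
      [(8, 8)],
      [(19, 8)],
      [(7, 8)],
      [(20, 8)],
      [(21, 8)],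
      [(2, 8)],
      [(11, 8)],
      [(14, 8)],
      [(18, 8)],
      [(3, 8)],
      [(23, 8)],
      [(5, 8)],
      [(4, 8)],
      [(22, 8)],
      [(6, 8)],
      [(0, 8)],
      [(1, 8)],
      [(16, 8)],
      [(13, 8)],
      [(10, 8)],
      [(17, 8)]]),
    ([[(23, 8)],
      [(15, 8)],
      [(18, 8)],
      [(7, 8)],
      [(3, 8)],
      [(10, 8)],
      [(14, 8)],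
      [(22, 8)],
      [(20, 8)],
      [(13, 8)],
      [(5, 8)],
      [(16, 8)],
      [(17, 8)],
      [(2, 8)],
      [(0, 8)],
      [(11, 8)],
      [(1, 8)],
      [(12, 8)],
      [(9, 8)],
      [(21, 8)],
      [(8, 8)],
      [(19, 8)],
      [(4, 8)],
      [(6, 8)]],
     [[(14, 8)],
      [(16, 8)],
      [(13, 8)],
      [(4, 8)],
      [(22, 8)],
      [(10, 8)],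
      [(23, 8)],
      [(3, 8)],
      [(20, 8)],
      [(18, 8)],
      [(5, 8)],
      [(15, 8)],
      [(17, 8)],
      [(9, 8)],
      [(6, 8)],
      [(1, 8)],
      [(11, 8)],
      [(12, 8)],
      [(2, 8)],
      [(21, 8)],
      [(8, 8)],
      [(19, 8)],
      [(7, 8)],
      [(0, 8)]])]

/-- part of the generators and their transposes -/
def twoW14 : List (List (List (ℕ × ℤ)) × List (List (ℕ × ℤ))) :=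
  [([[(18, 8)],
      [(20, 8)],
      [(11, 8)],
      [(17, 8)],
      [(23, 8)],
      [(13, 8)],
      [(5, 8)],
      [(22, 8)],
      [(2, 8)],
      [(10, 8)],
      [(8, 8)],
      [(6, 8)],
      [(19, 8)],
      [(1, 8)],
      [(3, 8)],
      [(12, 8)],
      [(21, 8)],
      [(4, 8)],
      [(0, 8)],
      [(16, 8)],
      [(9, 8)],
      [(14, 8)],
      [(7, 8)],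
      [(15, 8)]],
     [[(18, 8)],
      [(13, 8)],
      [(8, 8)],
      [(14, 8)],
      [(17, 8)],
      [(6, 8)],
      [(11, 8)],
      [(22, 8)],
      [(10, 8)],
      [(20, 8)],
      [(9, 8)],
      [(2, 8)],
      [(15, 8)],
      [(5, 8)],
      [(21, 8)],
      [(23, 8)],
      [(19, 8)],
      [(3, 8)],
      [(0, 8)],
      [(12, 8)],
      [(1, 8)],
      [(16, 8)],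
      [(7, 8)],
      [(4, 8)]]),
    ([[(0, 4), (0, (-4)), (0, (-4)), (16, (-4))],
      [(0, (-4)), (0, 4), (0, (-4)), (16, (-4))],
      [(0, (-4)), (0, (-4)), (0, 4), (16, (-4))],
      [(3, (-4)), (4, 4), (6, 4), (0, 4)],
      [(4, (-4)), (0, 4), (3, 4), (8, 4)],
      [(4, 4), (0, (-4)), (3, 4), (8, 4)],
      [(6, (-4)), (0, 4), (13, 4), (1, 4)],
      [(6, 4), (0, (-4)), (13, 4), (1, 4)],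
      [(3, 4), (4, (-4)), (6, 4), (0, 4)],
      [(4, 4), (0, 4), (3, (-4)), (8, 4)],
      [(10, (-4)), (0, 4), (1, 4), (0, 4)],
      [(10, 4), (0, (-4)), (1, 4), (0, 4)],
      [(12, (-4)), (4, 4), (2, 4), (1, 4)],
      [(10, 4), (0, 4), (1, (-4)), (0, 4)],
      [(10, 4), (0, 4), (1, 4), (0, (-4))],
      [(3, 4), (4, 4), (6, (-4)), (0, 4)],
      [(3, 4), (4, 4), (6, 4), (0, (-4))],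
      [(12, 4), (4, (-4)), (2, 4), (1, 4)],
      [(4, 4), (0, 4), (3, 4), (8, (-4))],
      [(0, (-4)), (0, (-4)), (0, (-4)), (16, 4)],
      [(12, 4), (4, 4), (2, (-4)), (1, 4)],
      [(6, 4), (0, 4), (13, (-4)), (1, 4)],
      [(12, 4), (4, 4), (2, 4), (1, (-4))],
      [(6, 4), (0, 4), (13, 4), (1, (-4))]],
     [[(0, 4), (0, (-4)), (0, (-4)), (16, (-4))],
      [(0, (-4)), (0, 4), (0, (-4)), (16, (-4))],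
      [(0, (-4)), (0, (-4)), (0, 4), (16, (-4))],
      [(3, (-4)), (4, 4), (6, 4), (0, 4)],
      [(4, (-4)), (0, 4), (3, 4), (8, 4)],
      [(4, 4), (0, (-4)), (3, 4), (8, 4)],
      [(6, (-4)), (0, 4), (13, 4), (1, 4)],
      [(6, 4), (0, (-4)), (13, 4), (1, 4)],
      [(3, 4), (4, (-4)), (6, 4), (0, 4)],
      [(4, 4), (0, 4), (3, (-4)), (8, 4)],
      [(10, (-4)), (0, 4), (1, 4), (0, 4)],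
      [(10, 4), (0, (-4)), (1, 4), (0, 4)],
      [(12, (-4)), (4, 4), (2, 4), (1, 4)],
      [(10, 4), (0, 4), (1, (-4)), (0, 4)],
      [(10, 4), (0, 4), (1, 4), (0, (-4))],
      [(3, 4), (4, 4), (6, (-4)), (0, 4)],
      [(3, 4), (4, 4), (6, 4), (0, (-4))],
      [(12, 4), (4, (-4)), (2, 4), (1, 4)],
      [(4, 4), (0, 4), (3, 4), (8, (-4))],
      [(0, (-4)), (0, (-4)), (0, (-4)), (16, 4)],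
      [(12, 4), (4, 4), (2, (-4)), (1, 4)],
      [(6, 4), (0, 4), (13, (-4)), (1, 4)],
      [(12, 4), (4, 4), (2, 4), (1, (-4))],
      [(6, 4), (0, 4), (13, 4), (1, (-4))]])]

/-- the generators and their transposes -/
def twoW : List (List (List (ℕ × ℤ)) × List (List (ℕ × ℤ))) := twoW0 ++ twoW1 ++ twoW2 ++ twoW3 ++ twoW4 ++ twoW5 ++ twoW6 ++ twoW7 ++ twoW8 ++ twoW9 ++ twoW10 ++ twoW11 ++ twoW12 ++ twoW13 ++ twoW14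

/-- part of the relations -/
def twoRels0 : List Rule :=
  [([0, 0], []),
    ([1, 0], [0, 1, 2]),
    ([1, 1], []),
    ([2, 0], [0, 2]),
    ([2, 1], [1, 2]),
    ([2, 2], []),
    ([3, 0], [0, 3]),
    ([3, 1], [1, 3, 4]),
    ([3, 2], [2, 3, 5]),
    ([3, 3], []),
    ([4, 0], [0, 4, 5]),
    ([4, 1], [1, 4]),
    ([4, 2], [2, 4]),
    ([4, 3], [3, 4]),
    ([4, 4], []),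
    ([5, 0], [0, 5]),
    ([5, 1], [1, 5]),
    ([5, 2], [2, 5]),
    ([5, 3], [3, 5]),
    ([5, 4], [4, 5])]

/-- part of the relations -/
def twoRels1 : List Rule :=
  [([5, 5], []),
    ([6, 0], [0, 6, 7]),
    ([6, 1], [1, 6, 9]),
    ([6, 2], [2, 6, 8]),
    ([6, 3], [3, 6, 7]),
    ([6, 4], [4, 6, 8, 9]),
    ([6, 5], [5, 6, 9]),
    ([6, 6], []),
    ([7, 0], [0, 7]),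
    ([7, 1], [1, 7, 8]),
    ([7, 2], [2, 7]),
    ([7, 3], [3, 7]),
    ([7, 4], [4, 7, 9]),
    ([7, 5], [5, 7]),
    ([7, 6], [6, 7]),
    ([7, 7], []),
    ([8, 0], [0, 8]),
    ([8, 1], [1, 8]),
    ([8, 2], [2, 8]),
    ([8, 3], [3, 8, 9])]

/-- part of the relations -/
def twoRels2 : List Rule :=
  [([8, 4], [4, 8]),
    ([8, 5], [5, 8]),
    ([8, 6], [6, 8]),
    ([8, 7], [7, 8]),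
    ([8, 8], []),
    ([9, 0], [0, 9]),
    ([9, 1], [1, 9]),
    ([9, 2], [2, 9]),
    ([9, 3], [3, 9]),
    ([9, 4], [4, 9]),
    ([9, 5], [5, 9]),
    ([9, 6], [6, 9]),
    ([9, 7], [7, 9]),
    ([9, 8], [8, 9]),
    ([9, 9], []),
    ([10, 0], [0, 10, 13, 14, 17, 18, 20, 21]),
    ([10, 1], [1, 10, 11, 17, 18, 19, 21]),
    ([10, 2], [2, 10, 13, 15, 17]),
    ([10, 3], [3, 10, 12, 13, 15, 17]),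
    ([10, 4], [4, 10, 12, 13, 14, 17])]

/-- part of the relations -/
def twoRels3 : List Rule :=
  [([10, 5], [5, 10, 14, 15, 18]),
    ([10, 6], [6, 10, 18]),
    ([10, 7], [7, 10, 17, 18, 19, 20, 21]),
    ([10, 8], [8, 10, 17, 19, 20]),
    ([10, 9], [9, 10, 18]),
    ([10, 10], []),
    ([11, 0], [0, 11, 13, 17]),
    ([11, 1], [1, 11, 19, 20]),
    ([11, 2], [2, 11]),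
    ([11, 3], [3, 11, 12, 13, 14, 15, 16, 17, 18, 20, 21]),
    ([11, 4], [4, 11, 15, 16]),
    ([11, 5], [5, 11, 15, 16]),
    ([11, 6], [6, 11, 18]),
    ([11, 7], [7, 11, 17, 20]),
    ([11, 8], [8, 11, 20]),
    ([11, 9], [9, 11, 19]),
    ([11, 10], [10, 11]),
    ([11, 11], []),
    ([12, 0], [0, 12, 14, 18]),
    ([12, 1], [1, 12])]

/-- part of the relations -/
def twoRels4 : List Rule :=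
  [([12, 2], [2, 12, 15]),
    ([12, 3], [3, 12, 14, 16, 18]),
    ([12, 4], [4, 12, 15, 16]),
    ([12, 5], [5, 12, 16]),
    ([12, 6], [6, 12, 19]),
    ([12, 7], [7, 12, 18, 19, 20]),
    ([12, 8], [8, 12, 19]),
    ([12, 9], [9, 12]),
    ([12, 10], [10, 12]),
    ([12, 11], [11, 12]),
    ([12, 12], []),
    ([13, 0], [0, 13]),
    ([13, 1], [1, 13]),
    ([13, 2], [2, 13]),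
    ([13, 3], [3, 13, 14, 16, 19, 20]),
    ([13, 4], [4, 13, 15, 16, 19, 20]),
    ([13, 5], [5, 13, 16]),
    ([13, 6], [6, 13, 17]),
    ([13, 7], [7, 13]),
    ([13, 8], [8, 13])]

/-- part of the relations -/
def twoRels5 : List Rule :=
  [([13, 9], [9, 13, 20]),
    ([13, 10], [10, 13]),
    ([13, 11], [11, 13]),
    ([13, 12], [12, 13]),
    ([13, 13], []),
    ([14, 0], [0, 14, 20, 21]),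
    ([14, 1], [1, 14, 15, 16, 19, 20]),
    ([14, 2], [2, 14, 16]),
    ([14, 3], [3, 14, 20, 21]),
    ([14, 4], [4, 14]),
    ([14, 5], [5, 14]),
    ([14, 6], [6, 14, 18, 19]),
    ([14, 7], [7, 14, 21]),
    ([14, 8], [8, 14, 20]),
    ([14, 9], [9, 14]),
    ([14, 10], [10, 14]),
    ([14, 11], [11, 14]),
    ([14, 12], [12, 14]),
    ([14, 13], [13, 14]),
    ([14, 14], [])]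

/-- part of the relations -/
def twoRels6 : List Rule :=
  [([15, 0], [0, 15, 16, 20, 21]),
    ([15, 1], [1, 15]),
    ([15, 2], [2, 15]),
    ([15, 3], [3, 15, 20, 21]),
    ([15, 4], [4, 15]),
    ([15, 5], [5, 15]),
    ([15, 6], [6, 15, 19]),
    ([15, 7], [7, 15, 20, 21]),
    ([15, 8], [8, 15]),
    ([15, 9], [9, 15]),
    ([15, 10], [10, 15]),
    ([15, 11], [11, 15]),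
    ([15, 12], [12, 15]),
    ([15, 13], [13, 15]),
    ([15, 14], [14, 15]),
    ([15, 15], []),
    ([16, 0], [0, 16]),
    ([16, 1], [1, 16]),
    ([16, 2], [2, 16]),
    ([16, 3], [3, 16])]

/-- part of the relations -/
def twoRels7 : List Rule :=
  [([16, 4], [4, 16]),
    ([16, 5], [5, 16]),
    ([16, 6], [6, 16]),
    ([16, 7], [7, 16]),
    ([16, 8], [8, 16]),
    ([16, 9], [9, 16]),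
    ([16, 10], [10, 16]),
    ([16, 11], [11, 16]),
    ([16, 12], [12, 16]),
    ([16, 13], [13, 16]),
    ([16, 14], [14, 16]),
    ([16, 15], [15, 16]),
    ([16, 16], []),
    ([17, 0], [0, 17]),
    ([17, 1], [1, 17, 20, 21]),
    ([17, 2], [2, 17]),
    ([17, 3], [3, 17, 18, 19, 21]),
    ([17, 4], [4, 17, 19, 20]),
    ([17, 5], [5, 17, 20, 21]),
    ([17, 6], [6, 17])]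

/-- part of the relations -/
def twoRels8 : List Rule :=
  [([17, 7], [7, 17]),
    ([17, 8], [8, 17]),
    ([17, 9], [9, 17, 21]),
    ([17, 10], [10, 17]),
    ([17, 11], [11, 17]),
    ([17, 12], [12, 17]),
    ([17, 13], [13, 17]),
    ([17, 14], [14, 17]),
    ([17, 15], [15, 17]),
    ([17, 16], [16, 17]),
    ([17, 17], []),
    ([18, 0], [0, 18, 20, 21]),
    ([18, 1], [1, 18, 19, 21]),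
    ([18, 2], [2, 18, 20, 21]),
    ([18, 3], [3, 18, 20, 21]),
    ([18, 4], [4, 18, 20, 21]),
    ([18, 5], [5, 18]),
    ([18, 6], [6, 18]),
    ([18, 7], [7, 18, 21]),
    ([18, 8], [8, 18, 21])]

/-- part of the relations -/
def twoRels9 : List Rule :=
  [([18, 9], [9, 18]),
    ([18, 10], [10, 18]),
    ([18, 11], [11, 18]),
    ([18, 12], [12, 18]),
    ([18, 13], [13, 18]),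
    ([18, 14], [14, 18]),
    ([18, 15], [15, 18]),
    ([18, 16], [16, 18]),
    ([18, 17], [17, 18]),
    ([18, 18], []),
    ([19, 0], [0, 19, 20, 21]),
    ([19, 1], [1, 19]),
    ([19, 2], [2, 19]),
    ([19, 3], [3, 19, 20, 21]),
    ([19, 4], [4, 19]),
    ([19, 5], [5, 19]),
    ([19, 6], [6, 19]),
    ([19, 7], [7, 19, 21]),
    ([19, 8], [8, 19]),
    ([19, 9], [9, 19])]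

/-- part of the relations -/
def twoRels10 : List Rule :=
  [([19, 10], [10, 19]),
    ([19, 11], [11, 19]),
    ([19, 12], [12, 19]),
    ([19, 13], [13, 19]),
    ([19, 14], [14, 19]),
    ([19, 15], [15, 19]),
    ([19, 16], [16, 19]),
    ([19, 17], [17, 19]),
    ([19, 18], [18, 19]),
    ([19, 19], []),
    ([20, 0], [0, 20]),
    ([20, 1], [1, 20]),
    ([20, 2], [2, 20]),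
    ([20, 3], [3, 20]),
    ([20, 4], [4, 20]),
    ([20, 5], [5, 20]),
    ([20, 6], [6, 20, 21]),
    ([20, 7], [7, 20]),
    ([20, 8], [8, 20]),
    ([20, 9], [9, 20])]

/-- part of the relations -/
def twoRels11 : List Rule :=
  [([20, 10], [10, 20]),
    ([20, 11], [11, 20]),
    ([20, 12], [12, 20]),
    ([20, 13], [13, 20]),
    ([20, 14], [14, 20]),
    ([20, 15], [15, 20]),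
    ([20, 16], [16, 20]),
    ([20, 17], [17, 20]),
    ([20, 18], [18, 20]),
    ([20, 19], [19, 20]),
    ([20, 20], []),
    ([21, 0], [0, 21]),
    ([21, 1], [1, 21]),
    ([21, 2], [2, 21]),
    ([21, 3], [3, 21]),
    ([21, 4], [4, 21]),
    ([21, 5], [5, 21]),
    ([21, 6], [6, 21]),
    ([21, 7], [7, 21]),
    ([21, 8], [8, 21])]

/-- part of the relations -/
def twoRels12 : List Rule :=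
  [([21, 9], [9, 21]),
    ([21, 10], [10, 21]),
    ([21, 11], [11, 21]),
    ([21, 12], [12, 21]),
    ([21, 13], [13, 21]),
    ([21, 14], [14, 21]),
    ([21, 15], [15, 21]),
    ([21, 16], [16, 21]),
    ([21, 17], [17, 21]),
    ([21, 18], [18, 21]),
    ([21, 19], [19, 21]),
    ([21, 20], [20, 21]),
    ([21, 21], []),
    ([22, 10], [10, 11, 12, 15, 18, 19, 22]),
    ([22, 11], [10, 11, 14, 15, 16, 17, 19, 21, 22]),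
    ([22, 12], [10, 12, 14, 15, 16, 18, 19, 22]),
    ([22, 13], [11, 13, 15, 17, 21, 22]),
    ([22, 14], [11, 12, 13, 16, 18, 20, 22]),
    ([22, 15], [10, 11, 14, 16, 22]),
    ([22, 16], [10, 14, 15, 18, 22])]

/-- part of the relations -/
def twoRels13 : List Rule :=
  [([22, 17], [11, 12, 13, 14, 15, 16, 17, 18, 21, 22]),
    ([22, 18], [10, 12, 13, 20, 22]),
    ([22, 19], [12, 13, 14, 15, 16, 17, 18, 19, 20, 21, 22]),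
    ([22, 20], [10, 11, 12, 13, 17, 18, 21, 22]),
    ([22, 21], [10, 14, 15, 16, 18, 21, 22]),
    ([23, 0, 2, 3, 4], [6, 8, 23]),
    ([23, 10], [18, 19, 23]),
    ([23, 11], [10, 11, 13, 14, 18, 20, 21, 23]),
    ([23, 12], [11, 13, 17, 18, 19, 23]),
    ([23, 13], [11, 15, 16, 17, 18, 23]),
    ([23, 14], [11, 13, 17, 18, 21, 23]),
    ([23, 15], [11, 13, 17, 19, 20, 21, 23]),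
    ([23, 16], [17, 18, 20, 23]),
    ([23, 17], [10, 12, 15, 16, 17, 18, 20, 21, 23]),
    ([23, 18], [17, 18, 20, 21, 23]),
    ([23, 19], [10, 12, 13, 14, 17, 18, 20, 21, 23]),
    ([23, 20], [10, 11, 13, 15, 16, 23]),
    ([23, 21], [16, 17, 18, 20, 21, 23]),
    ([24, 0, 2, 7, 8], [0, 2, 7, 8, 14, 15, 24]),
    ([24, 1, 2], [1, 2, 24])]

/-- part of the relations -/
def twoRels14 : List Rule :=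
  [([24, 2, 8], [2, 8, 15, 16, 19, 24]),
    ([24, 3], [3, 24]),
    ([24, 4], [4, 24]),
    ([24, 5, 14, 18, 20, 21], [3, 18, 19, 20, 24]),
    ([24, 9], [9, 24]),
    ([24, 12, 13, 17], [3, 5, 12, 13, 14, 17, 19, 21, 24]),
    ([24, 14], [4, 5, 14, 15, 19, 21, 24]),
    ([24, 15], [4, 5, 19, 21, 24]),
    ([24, 16], [5, 9, 20, 24]),
    ([24, 18], [3, 4, 14, 15, 18, 20, 21, 24]),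
    ([24, 19], [4, 9, 15, 16, 20, 21, 24]),
    ([24, 20], [5, 9, 16, 24]),
    ([24, 21], [5, 9, 16, 20, 21, 24]),
    ([25, 0, 5], [4, 5, 8, 9, 25]),
    ([25, 3, 5, 9], [3, 7, 25]),
    ([25, 10], [10, 11, 12, 14, 17, 18, 19, 21, 25]),
    ([25, 11], [10, 11, 14, 15, 16, 20, 21, 25]),
    ([25, 12], [10, 11, 12, 14, 18, 19, 20, 25]),
    ([25, 13], [10, 13, 15, 16, 17, 25]),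
    ([25, 14], [10, 14, 21, 25])]

/-- part of the relations -/
def twoRels15 : List Rule :=
  [([25, 15], [11, 12, 19, 20, 25]),
    ([25, 16], [12, 13, 20, 25]),
    ([25, 17], [10, 11, 12, 13, 15, 16, 17, 25]),
    ([25, 18], [10, 14, 20, 21, 25]),
    ([25, 19], [10, 12, 13, 15, 16, 18, 25]),
    ([25, 20], [15, 16, 20, 21, 25]),
    ([25, 21], [12, 13, 16, 20, 21, 25]),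
    ([26, 1, 4, 8], [4, 5, 9, 26]),
    ([26, 4, 5], [5, 9, 26]),
    ([26, 5, 9], [3, 4, 9, 26]),
    ([26, 10], [10, 14, 19, 20, 26]),
    ([26, 11], [14, 16, 18, 26]),
    ([26, 12], [11, 12, 13, 14, 18, 19, 20, 26]),
    ([26, 13], [10, 12, 13, 14, 15, 26]),
    ([26, 14], [14, 16, 18, 19, 20, 26]),
    ([26, 15], [15, 16, 19, 20, 26]),
    ([26, 16], [12, 13, 14, 17, 19, 20, 26]),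
    ([26, 17], [11, 12, 14, 16, 26]),
    ([26, 18], [10, 12, 14, 16, 18, 26]),
    ([26, 19], [12, 13, 14, 15, 16, 17, 20, 21, 26])]

/-- part of the relations -/
def twoRels16 : List Rule :=
  [([26, 20], [12, 13, 15, 17, 19, 20, 21, 26]),
    ([26, 21], [12, 13, 14, 16, 17, 19, 20, 21, 26]),
    ([27, 0, 2], [0, 2, 3, 4, 5, 9, 27]),
    ([27, 2, 7, 8], [2, 4, 5, 6, 8, 9, 27]),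
    ([27, 10], [10, 12, 14, 15, 16, 18, 19, 27]),
    ([27, 11], [17, 18, 21, 27]),
    ([27, 12], [11, 12, 13, 14, 15, 16, 20, 27]),
    ([27, 13], [18, 19, 20, 21, 27]),
    ([27, 14], [12, 14, 16, 17, 18, 21, 27]),
    ([27, 15], [10, 13, 15, 16, 19, 20, 27]),
    ([27, 16], [12, 16, 19, 27]),
    ([27, 17], [19, 21, 27]),
    ([27, 18], [10, 13, 17, 20, 21, 27]),
    ([27, 19], [10, 11, 13, 19, 20, 27]),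
    ([27, 20], [18, 20, 21, 27]),
    ([27, 21], [12, 19, 21, 27]),
    ([28, 0, 8], [0, 5, 8, 28]),
    ([28, 2, 7, 8], [0, 2, 5, 7, 9, 28]),
    ([28, 10], [10, 11, 12, 14, 17, 19, 21, 28]),
    ([28, 11], [10, 13, 17, 28])]

/-- part of the relations -/
def twoRels17 : List Rule :=
  [([28, 12], [12, 13, 14, 15, 16, 17, 18, 20, 21, 28]),
    ([28, 13], [20, 21, 28]),
    ([28, 14], [10, 11, 13, 15, 16, 17, 18, 19, 28]),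
    ([28, 15], [11, 15, 16, 17, 20, 21, 28]),
    ([28, 16], [17, 19, 20, 21, 28]),
    ([28, 17], [17, 19, 20, 28]),
    ([28, 18], [11, 14, 17, 19, 20, 28]),
    ([28, 19], [10, 16, 28]),
    ([28, 20], [13, 15, 17, 28]),
    ([28, 21], [16, 17, 19, 20, 28]),
    ([29, 0, 3, 8, 14, 18], [8, 14, 16, 19, 29]),
    ([29, 1], [1, 29]),
    ([29, 2, 4, 12, 19], [5, 9, 12, 29]),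
    ([29, 5, 16], [5, 29]),
    ([29, 6], [6, 29]),
    ([29, 7], [7, 29]),
    ([29, 8], [8, 29]),
    ([29, 9], [9, 29]),
    ([29, 12], [2, 4, 5, 9, 12, 16, 19, 29]),
    ([29, 14], [0, 3, 9, 14, 16, 18, 19, 29])]

/-- part of the relations -/
def twoRels18 : List Rule :=
  [([29, 15], [2, 4, 5, 9, 15, 16, 19, 29]),
    ([29, 16], [16, 29]),
    ([29, 17], [6, 17, 21, 29]),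
    ([29, 18], [18, 29]),
    ([29, 19], [19, 29]),
    ([29, 20], [9, 20, 21, 29]),
    ([29, 21], [21, 29])]

/-- the relations -/
def twoRels : List Rule := twoRels0 ++ twoRels1 ++ twoRels2 ++ twoRels3 ++ twoRels4 ++ twoRels5 ++ twoRels6 ++ twoRels7 ++ twoRels8 ++ twoRels9 ++ twoRels10 ++ twoRels11 ++ twoRels12 ++ twoRels13 ++ twoRels14 ++ twoRels15 ++ twoRels16 ++ twoRels17 ++ twoRels18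

/-- part of the pairs -/
def twoEqs0 : List Pair :=
  [([1, 0, 0], [(0, 1, true), (2, 3, true), (1, 1, true), (0, 0, true), (1, 5, true)], [(1, 0, true)]),
    ([1, 1, 0], [(0, 2, true)], [(1, 1, true), (0, 1, true), (2, 4, true), (1, 2, true), (1, 5, true)]),
    ([3, 1, 1], [(0, 7, true), (2, 11, true), (1, 7, true), (0, 2, true), (1, 14, true)], [(1, 2, true)]),
    ([3, 2, 2], [(0, 8, true), (2, 17, true), (1, 8, true), (0, 5, true), (1, 20, true)], [(1, 5, true)]),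
    ([3, 3, 1], [(0, 9, true)], [(1, 7, true), (0, 7, true), (2, 13, true), (1, 9, true), (1, 14, true)]),
    ([3, 3, 2], [(0, 9, true)], [(1, 8, true), (0, 8, true), (2, 18, true), (1, 9, true), (1, 20, true)]),
    ([4, 0, 0], [(0, 10, true), (2, 15, true), (1, 10, true), (0, 0, true), (1, 20, true)], [(1, 0, true)]),
    ([4, 4, 0], [(0, 14, true)], [(1, 10, true), (0, 10, true), (2, 19, true), (1, 14, true), (1, 20, true)]),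
    ([6, 0, 0], [(0, 21, true), (2, 28, true), (1, 21, true), (0, 0, true), (1, 35, true)], [(1, 0, true)]),
    ([6, 1, 1], [(0, 22, true), (2, 46, true), (1, 22, true), (0, 2, true), (1, 54, true)], [(1, 2, true)])]

/-- part of the pairs -/
def twoEqs1 : List Pair :=
  [([6, 2, 2], [(0, 23, true), (2, 38, true), (1, 23, true), (0, 5, true), (1, 44, true)], [(1, 5, true)]),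
    ([6, 3, 3], [(0, 24, true), (2, 31, true), (1, 24, true), (0, 9, true), (1, 35, true)], [(1, 9, true)]),
    ([6, 5, 5], [(0, 26, true), (2, 50, true), (1, 26, true), (0, 20, true), (1, 54, true)], [(1, 20, true)]),
    ([6, 6, 0], [(0, 27, true)], [(1, 21, true), (0, 21, true), (2, 34, true), (1, 27, true), (1, 35, true)]),
    ([6, 6, 1], [(0, 27, true)], [(1, 22, true), (0, 22, true), (2, 51, true), (1, 27, true), (1, 54, true)]),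
    ([6, 6, 2], [(0, 27, true)], [(1, 23, true), (0, 23, true), (2, 42, true), (1, 27, true), (1, 44, true)]),
    ([7, 1, 1], [(0, 29, true), (2, 37, true), (1, 29, true), (0, 2, true), (1, 44, true)], [(1, 2, true)]),
    ([7, 4, 4], [(0, 32, true), (2, 49, true), (1, 32, true), (0, 14, true), (1, 54, true)], [(1, 14, true)]),
    ([7, 7, 1], [(0, 35, true)], [(1, 29, true), (0, 29, true), (2, 43, true), (1, 35, true), (1, 44, true)]),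
    ([7, 7, 4], [(0, 35, true)], [(1, 32, true), (0, 32, true), (2, 52, true), (1, 35, true), (1, 54, true)])]

/-- part of the pairs -/
def twoEqs2 : List Pair :=
  [([8, 3, 3], [(0, 39, true), (2, 48, true), (1, 39, true), (0, 9, true), (1, 54, true)], [(1, 9, true)]),
    ([8, 8, 3], [(0, 44, true)], [(1, 39, true), (0, 39, true), (2, 53, true), (1, 44, true), (1, 54, true)]),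
    ([10, 6, 6], [(0, 61, true), (2, 177, true), (1, 61, true), (0, 27, true), (1, 189, true)], [(1, 27, true)]),
    ([10, 9, 9], [(0, 64, true), (2, 180, true), (1, 64, true), (0, 54, true), (1, 189, true)], [(1, 54, true)]),
    ([10, 10, 6], [(0, 65, true)], [(1, 61, true), (0, 61, true), (2, 181, true), (1, 65, true), (1, 189, true)]),
    ([11, 8, 8], [(0, 74, true), (2, 218, true), (1, 74, true), (0, 44, true), (1, 230, true)], [(1, 44, true)]),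
    ([11, 9, 9], [(0, 75, true), (2, 199, true), (1, 75, true), (0, 54, true), (1, 209, true)], [(1, 54, true)]),
    ([11, 11, 6], [(0, 77, true)], [(1, 72, true), (0, 72, true), (2, 182, true), (1, 77, true), (1, 189, true)]),
    ([11, 11, 8], [(0, 77, true)], [(1, 74, true), (0, 74, true), (2, 221, true), (1, 77, true), (1, 230, true)]),
    ([11, 11, 9], [(0, 77, true)], [(1, 75, true), (0, 75, true), (2, 201, true), (1, 77, true), (1, 209, true)])]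

/-- part of the pairs -/
def twoEqs3 : List Pair :=
  [([12, 2, 2], [(0, 80, true), (2, 122, true), (1, 80, true), (0, 5, true), (1, 135, true)], [(1, 5, true)]),
    ([12, 5, 5], [(0, 83, true), (2, 141, true), (1, 83, true), (0, 20, true), (1, 152, true)], [(1, 20, true)]),
    ([12, 6, 6], [(0, 84, true), (2, 196, true), (1, 84, true), (0, 27, true), (1, 209, true)], [(1, 27, true)]),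
    ([12, 8, 8], [(0, 86, true), (2, 198, true), (1, 86, true), (0, 44, true), (1, 209, true)], [(1, 44, true)]),
    ([12, 12, 2], [(0, 90, true)], [(1, 80, true), (0, 80, true), (2, 132, true), (1, 90, true), (1, 135, true)]),
    ([12, 12, 5], [(0, 90, true)], [(1, 83, true), (0, 83, true), (2, 148, true), (1, 90, true), (1, 152, true)]),
    ([12, 12, 6], [(0, 90, true)], [(1, 84, true), (0, 84, true), (2, 202, true), (1, 90, true), (1, 209, true)]),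
    ([13, 6, 6], [(0, 97, true), (2, 159, true), (1, 97, true), (0, 27, true), (1, 170, true)], [(1, 27, true)]),
    ([13, 9, 9], [(0, 100, true), (2, 219, true), (1, 100, true), (0, 54, true), (1, 230, true)], [(1, 54, true)]),
    ([13, 13, 5], [(0, 104, true)], [(1, 96, true), (0, 96, true), (2, 149, true), (1, 104, true), (1, 152, true)])]

/-- part of the pairs -/
def twoEqs4 : List Pair :=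
  [([13, 13, 6], [(0, 104, true)], [(1, 97, true), (0, 97, true), (2, 166, true), (1, 104, true), (1, 170, true)]),
    ([13, 13, 9], [(0, 104, true)], [(1, 100, true), (0, 100, true), (2, 223, true), (1, 104, true), (1, 230, true)]),
    ([14, 2, 2], [(0, 107, true), (2, 138, true), (1, 107, true), (0, 5, true), (1, 152, true)], [(1, 5, true)]),
    ([14, 7, 7], [(0, 112, true), (2, 238, true), (1, 112, true), (0, 35, true), (1, 252, true)], [(1, 35, true)]),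
    ([14, 14, 2], [(0, 119, true)], [(1, 107, true), (0, 107, true), (2, 150, true), (1, 119, true), (1, 152, true)]),
    ([14, 14, 7], [(0, 119, true)], [(1, 112, true), (0, 112, true), (2, 245, true), (1, 119, true), (1, 252, true)]),
    ([14, 14, 8], [(0, 119, true)], [(1, 113, true), (0, 113, true), (2, 224, true), (1, 119, true), (1, 230, true)]),
    ([15, 15, 6], [(0, 135, true)], [(1, 126, true), (0, 126, true), (2, 205, true), (1, 135, true), (1, 209, true)]),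
    ([17, 9, 9], [(0, 162, true), (2, 240, true), (1, 162, true), (0, 54, true), (1, 252, true)], [(1, 54, true)]),
    ([17, 17, 9], [(0, 170, true)], [(1, 162, true), (0, 162, true), (2, 248, true), (1, 170, true), (1, 252, true)])]

/-- part of the pairs -/
def twoEqs5 : List Pair :=
  [([18, 8, 8], [(0, 179, true), (2, 239, true), (1, 179, true), (0, 44, true), (1, 252, true)], [(1, 44, true)]),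
    ([18, 18, 7], [(0, 189, true)], [(1, 178, true), (0, 178, true), (2, 249, true), (1, 189, true), (1, 252, true)]),
    ([19, 19, 7], [(0, 209, true)], [(1, 197, true), (0, 197, true), (2, 250, true), (1, 209, true), (1, 252, true)]),
    ([20, 6, 6], [(0, 216, true), (2, 237, true), (1, 216, true), (0, 27, true), (1, 252, true)], [(1, 27, true)]),
    ([20, 20, 6], [(0, 230, true)], [(1, 216, true), (0, 216, true), (2, 251, true), (1, 230, true), (1, 252, true)]),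
    ([3, 2, 0], [(0, 8, true), (2, 15, true), (1, 6, true), (0, 3, true)], [(1, 3, true), (0, 6, true), (1, 8, true)]),
    ([7, 2, 1], [(0, 30, true), (1, 29, true), (0, 4, true)], [(1, 4, true), (0, 29, true), (2, 38, true), (1, 30, true)]),
    ([7, 3, 2], [(0, 31, true), (1, 30, true), (0, 8, true)], [(1, 8, true), (0, 30, true), (1, 31, true), (2, 33, true)]),
    ([7, 4, 2], [(0, 32, true), (2, 47, true), (1, 30, true), (0, 12, true)], [(1, 12, true), (0, 30, true), (1, 32, true)]),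
    ([7, 4, 3], [(0, 32, true), (2, 48, true), (1, 31, true), (0, 13, true)], [(1, 13, true), (0, 31, true), (1, 32, true)])]

/-- part of the pairs -/
def twoEqs6 : List Pair :=
  [([7, 5, 1], [(0, 33, true), (1, 29, true), (0, 16, true)], [(1, 16, true), (0, 29, true), (2, 41, true), (1, 33, true)]),
    ([8, 3, 0], [(0, 39, true), (2, 45, true), (1, 36, true), (0, 6, true)], [(1, 6, true), (0, 36, true), (1, 39, true)]),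
    ([11, 8, 2], [(0, 74, true), (2, 212, true), (1, 68, true), (0, 38, true)], [(1, 38, true), (0, 68, true), (1, 74, true)]),
    ([11, 9, 2], [(0, 75, true), (2, 192, true), (1, 68, true), (0, 47, true)], [(1, 47, true), (0, 68, true), (1, 75, true)]),
    ([12, 2, 1], [(0, 80, true), (2, 121, true), (1, 79, true), (0, 4, true)], [(1, 4, true), (0, 79, true), (1, 80, true)]),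
    ([12, 5, 1], [(0, 83, true), (2, 137, true), (1, 79, true), (0, 16, true)], [(1, 16, true), (0, 79, true), (1, 83, true)]),
    ([12, 8, 1], [(0, 86, true), (2, 191, true), (1, 79, true), (0, 37, true)], [(1, 37, true), (0, 79, true), (1, 86, true)]),
    ([12, 9, 2], [(0, 87, true), (1, 80, true), (0, 47, true)], [(1, 47, true), (0, 80, true), (2, 129, true), (1, 87, true)]),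
    ([12, 9, 5], [(0, 87, true), (1, 83, true), (0, 50, true)], [(1, 50, true), (0, 83, true), (2, 145, true), (1, 87, true)]),
    ([12, 9, 6], [(0, 87, true), (1, 84, true), (0, 51, true)], [(1, 51, true), (0, 84, true), (2, 199, true), (1, 87, true)])]

/-- part of the pairs -/
def twoEqs7 : List Pair :=
  [([12, 10, 9], [(0, 88, true), (1, 87, true), (0, 64, true), (2, 183, true)], [(1, 64, true), (0, 87, true), (1, 88, true)]),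
    ([12, 11, 2], [(0, 89, true), (1, 80, true), (0, 68, true)], [(1, 68, true), (0, 80, true), (2, 131, true), (1, 89, true)]),
    ([13, 1, 0], [(0, 92, true), (1, 91, true), (0, 1, true)], [(1, 1, true), (0, 91, true), (1, 92, true), (2, 93, true)]),
    ([13, 5, 0], [(0, 96, true), (2, 136, true), (1, 91, true), (0, 15, true)], [(1, 15, true), (0, 91, true), (1, 96, true)]),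
    ([13, 5, 2], [(0, 96, true), (2, 138, true), (1, 93, true), (0, 17, true)], [(1, 17, true), (0, 93, true), (1, 96, true)]),
    ([13, 7, 1], [(0, 98, true), (1, 92, true), (0, 29, true)], [(1, 29, true), (0, 92, true), (1, 98, true), (2, 99, true)]),
    ([13, 7, 5], [(0, 98, true), (1, 96, true), (0, 33, true)], [(1, 33, true), (0, 96, true), (2, 143, true), (1, 98, true)]),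
    ([13, 7, 6], [(0, 98, true), (1, 97, true), (0, 34, true)], [(1, 34, true), (0, 97, true), (2, 160, true), (1, 98, true)]),
    ([13, 8, 5], [(0, 99, true), (1, 96, true), (0, 41, true)], [(1, 41, true), (0, 96, true), (2, 144, true), (1, 99, true)]),
    ([13, 8, 6], [(0, 99, true), (1, 97, true), (0, 42, true)], [(1, 42, true), (0, 97, true), (2, 161, true), (1, 99, true)])]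

/-- part of the pairs -/
def twoEqs8 : List Pair :=
  [([13, 9, 0], [(0, 100, true), (2, 210, true), (1, 91, true), (0, 45, true)], [(1, 45, true), (0, 91, true), (1, 100, true)]),
    ([13, 9, 1], [(0, 100, true), (2, 211, true), (1, 92, true), (0, 46, true)], [(1, 46, true), (0, 92, true), (1, 100, true)]),
    ([13, 9, 7], [(0, 100, true), (2, 217, true), (1, 98, true), (0, 52, true)], [(1, 52, true), (0, 98, true), (1, 100, true)]),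
    ([13, 9, 8], [(0, 100, true), (2, 218, true), (1, 99, true), (0, 53, true)], [(1, 53, true), (0, 99, true), (1, 100, true)]),
    ([13, 12, 2], [(0, 103, true), (1, 93, true), (0, 80, true), (2, 133, true)], [(1, 80, true), (0, 93, true), (1, 103, true)]),
    ([13, 12, 8], [(0, 103, true), (1, 99, true), (0, 86, true), (2, 203, true)], [(1, 86, true), (0, 99, true), (1, 103, true)]),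
    ([13, 12, 9], [(0, 103, true), (1, 100, true), (0, 87, true)], [(1, 87, true), (0, 100, true), (2, 222, true), (1, 103, true)]),
    ([14, 4, 2], [(0, 109, true), (1, 107, true), (0, 12, true)], [(1, 12, true), (0, 107, true), (2, 140, true), (1, 109, true)]),
    ([14, 7, 5], [(0, 112, true), (2, 236, true), (1, 110, true), (0, 33, true)], [(1, 33, true), (0, 110, true), (1, 112, true)]),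
    ([14, 8, 4], [(0, 113, true), (2, 214, true), (1, 109, true), (0, 40, true)], [(1, 40, true), (0, 109, true), (1, 113, true)])]

/-- part of the pairs -/
def twoEqs9 : List Pair :=
  [([14, 8, 5], [(0, 113, true), (2, 215, true), (1, 110, true), (0, 41, true)], [(1, 41, true), (0, 110, true), (1, 113, true)]),
    ([14, 9, 7], [(0, 114, true), (1, 112, true), (0, 52, true)], [(1, 52, true), (0, 112, true), (2, 240, true), (1, 114, true)]),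
    ([14, 10, 9], [(0, 115, true), (1, 114, true), (0, 64, true), (2, 185, true)], [(1, 64, true), (0, 114, true), (1, 115, true)]),
    ([14, 11, 2], [(0, 116, true), (1, 107, true), (0, 68, true)], [(1, 68, true), (0, 107, true), (2, 147, true), (1, 116, true)]),
    ([14, 11, 9], [(0, 116, true), (1, 114, true), (0, 75, true), (2, 204, true)], [(1, 75, true), (0, 114, true), (1, 116, true)]),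
    ([14, 13, 7], [(0, 118, true), (1, 112, true), (0, 98, true)], [(1, 98, true), (0, 112, true), (2, 244, true), (1, 118, true)]),
    ([15, 10, 9], [(0, 130, true), (1, 129, true), (0, 64, true), (2, 186, true)], [(1, 64, true), (0, 129, true), (1, 130, true)]),
    ([15, 11, 8], [(0, 131, true), (1, 128, true), (0, 74, true), (2, 225, true)], [(1, 74, true), (0, 128, true), (1, 131, true)]),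
    ([15, 12, 5], [(0, 132, true), (1, 125, true), (0, 83, true), (2, 151, true)], [(1, 83, true), (0, 125, true), (1, 132, true)]),
    ([16, 10, 6], [(0, 146, true), (1, 142, true), (0, 61, true), (2, 187, true)], [(1, 61, true), (0, 142, true), (1, 146, true)])]

/-- part of the pairs -/
def twoEqs10 : List Pair :=
  [([16, 11, 8], [(0, 147, true), (1, 144, true), (0, 74, true), (2, 226, true)], [(1, 74, true), (0, 144, true), (1, 147, true)]),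
    ([16, 11, 9], [(0, 147, true), (1, 145, true), (0, 75, true), (2, 206, true)], [(1, 75, true), (0, 145, true), (1, 147, true)]),
    ([16, 13, 6], [(0, 149, true), (1, 142, true), (0, 97, true), (2, 169, true)], [(1, 97, true), (0, 142, true), (1, 149, true)]),
    ([16, 14, 7], [(0, 150, true), (1, 143, true), (0, 112, true), (2, 247, true)], [(1, 112, true), (0, 143, true), (1, 150, true)]),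
    ([17, 9, 0], [(0, 162, true), (2, 231, true), (1, 153, true), (0, 45, true)], [(1, 45, true), (0, 153, true), (1, 162, true)]),
    ([17, 9, 2], [(0, 162, true), (2, 233, true), (1, 155, true), (0, 47, true)], [(1, 47, true), (0, 155, true), (1, 162, true)]),
    ([17, 10, 6], [(0, 163, true), (1, 159, true), (0, 61, true), (2, 188, true)], [(1, 61, true), (0, 159, true), (1, 163, true)]),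
    ([17, 11, 8], [(0, 164, true), (1, 161, true), (0, 74, true), (2, 227, true)], [(1, 74, true), (0, 161, true), (1, 164, true)]),
    ([17, 12, 2], [(0, 165, true), (1, 155, true), (0, 80, true)], [(1, 80, true), (0, 155, true), (1, 165, true), (2, 168, true)]),
    ([17, 12, 6], [(0, 165, true), (1, 159, true), (0, 84, true), (2, 207, true)], [(1, 84, true), (0, 159, true), (1, 165, true)])]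

/-- part of the pairs -/
def twoEqs11 : List Pair :=
  [([17, 12, 9], [(0, 165, true), (1, 162, true), (0, 87, true)], [(1, 87, true), (0, 162, true), (2, 243, true), (1, 165, true)]),
    ([17, 15, 9], [(0, 168, true), (1, 162, true), (0, 129, true)], [(1, 129, true), (0, 162, true), (2, 246, true), (1, 168, true)]),
    ([18, 6, 5], [(0, 177, true), (1, 176, true), (0, 26, true)], [(1, 26, true), (0, 176, true), (1, 177, true), (2, 180, true)]),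
    ([18, 11, 9], [(0, 182, true), (1, 180, true), (0, 75, true), (2, 208, true)], [(1, 75, true), (0, 180, true), (1, 182, true)]),
    ([18, 13, 9], [(0, 184, true), (1, 180, true), (0, 100, true), (2, 228, true)], [(1, 100, true), (0, 180, true), (1, 184, true)]),
    ([19, 11, 8], [(0, 201, true), (1, 198, true), (0, 74, true), (2, 229, true)], [(1, 74, true), (0, 198, true), (1, 201, true)]),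
    ([21, 3, 1], [(0, 234, true), (1, 232, true), (0, 7, true)], [(1, 7, true), (0, 232, true), (1, 234, true), (2, 235, true)]),
    ([11, 2, 0], [(0, 68, true), (1, 66, true), (0, 3, true)], [(1, 3, true), (0, 66, true), (3, 155, true), (2, 93, true), (1, 68, true)]),
    ([11, 4, 2], [(0, 70, true), (3, 138, true), (2, 122, true), (1, 68, true), (0, 12, true)], [(1, 12, true), (0, 68, true), (1, 70, true)]),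
    ([12, 9, 0], [(0, 87, true), (1, 78, true), (0, 45, true)], [(1, 45, true), (0, 78, true), (3, 180, true), (2, 114, true), (1, 87, true)])]

/-- part of the pairs -/
def twoEqs12 : List Pair :=
  [([13, 11, 7], [(0, 102, true), (1, 98, true), (0, 73, true), (3, 223, true), (2, 166, true)], [(1, 73, true), (0, 98, true), (1, 102, true)]),
    ([13, 12, 0], [(0, 103, true), (1, 91, true), (0, 78, true), (3, 184, true), (2, 118, true)], [(1, 78, true), (0, 91, true), (1, 103, true)]),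
    ([14, 11, 4], [(0, 116, true), (1, 109, true), (0, 70, true), (3, 150, true), (2, 134, true)], [(1, 70, true), (0, 109, true), (1, 116, true)]),
    ([17, 12, 0], [(0, 165, true), (1, 153, true), (0, 78, true), (3, 188, true)], [(1, 78, true), (0, 153, true), (1, 165, true), (2, 167, true)]),
    ([18, 5, 1], [(0, 176, true), (1, 172, true), (0, 16, true)], [(1, 16, true), (0, 172, true), (3, 236, true), (2, 195, true), (1, 176, true)]),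
    ([18, 11, 2], [(0, 182, true), (1, 173, true), (0, 68, true)], [(1, 68, true), (0, 173, true), (3, 242, true), (2, 221, true), (1, 182, true)]),
    ([3, 2, 1], [(0, 8, true), (2, 16, true), (1, 7, true), (0, 4, true)], [(1, 4, true), (0, 7, true), (2, 12, true), (1, 8, true), (3, 19, true)]),
    ([6, 2, 0], [(0, 23, true), (2, 36, true), (1, 21, true), (0, 3, true)], [(1, 3, true), (0, 21, true), (2, 30, true), (1, 23, true), (3, 43, true)]),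
    ([6, 4, 4], [(0, 25, true), (3, 49, true), (2, 40, true), (1, 25, true), (0, 14, true), (2, 53, true), (1, 44, true), (1, 54, true)], [(1, 14, true)]),
    ([11, 0, 0], [(0, 66, true), (3, 153, true), (2, 91, true), (1, 66, true), (0, 0, true), (2, 166, true), (1, 104, true), (1, 170, true)], [(1, 0, true)])]

/-- part of the pairs -/
def twoEqs13 : List Pair :=
  [([11, 4, 4], [(0, 70, true), (3, 140, true), (2, 124, true), (1, 70, true), (0, 14, true), (2, 151, true), (1, 135, true), (1, 152, true)], [(1, 14, true)]),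
    ([11, 5, 5], [(0, 71, true), (3, 141, true), (2, 125, true), (1, 71, true), (0, 20, true), (2, 151, true), (1, 135, true), (1, 152, true)], [(1, 20, true)]),
    ([11, 8, 6], [(0, 74, true), (2, 216, true), (1, 72, true), (0, 42, true)], [(1, 42, true), (0, 72, true), (2, 179, true), (1, 74, true), (3, 228, true)]),
    ([11, 10, 2], [(0, 76, true), (1, 68, true), (0, 57, true), (4, 164, true), (3, 131, true), (2, 102, true)], [(1, 57, true), (0, 68, true), (1, 76, true)]),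
    ([11, 10, 9], [(0, 76, true), (1, 75, true), (0, 64, true), (2, 182, true)], [(1, 64, true), (0, 75, true), (2, 200, true), (1, 76, true), (3, 208, true)]),
    ([11, 11, 0], [(0, 77, true)], [(1, 66, true), (0, 66, true), (3, 164, true), (2, 102, true), (1, 77, true), (2, 166, true), (1, 104, true), (1, 170, true)]),
    ([11, 11, 7], [(0, 77, true)], [(1, 73, true), (0, 73, true), (3, 221, true), (2, 164, true), (1, 77, true), (2, 227, true), (1, 170, true), (1, 230, true)]),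
    ([12, 6, 1], [(0, 84, true), (2, 191, true), (1, 79, true), (0, 22, true)], [(1, 22, true), (0, 79, true), (1, 84, true), (3, 199, true), (2, 87, true)]),
    ([12, 8, 2], [(0, 86, true), (2, 192, true), (1, 80, true), (0, 38, true)], [(1, 38, true), (0, 80, true), (2, 128, true), (1, 86, true), (3, 205, true)]),
    ([12, 12, 0], [(0, 90, true)], [(1, 78, true), (0, 78, true), (3, 183, true), (2, 117, true), (1, 90, true), (2, 185, true), (1, 119, true), (1, 189, true)])]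

/-- part of the pairs -/
def twoEqs14 : List Pair :=
  [([13, 6, 0], [(0, 97, true), (2, 153, true), (1, 91, true), (0, 21, true)], [(1, 21, true), (0, 91, true), (1, 97, true), (3, 160, true), (2, 98, true)]),
    ([13, 9, 6], [(0, 100, true), (2, 216, true), (1, 97, true), (0, 51, true)], [(1, 51, true), (0, 97, true), (2, 162, true), (1, 100, true), (3, 227, true)]),
    ([13, 10, 6], [(0, 101, true), (1, 97, true), (0, 61, true), (2, 184, true), (3, 188, true)], [(1, 61, true), (0, 97, true), (2, 163, true), (1, 101, true)]),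
    ([13, 10, 9], [(0, 101, true), (1, 100, true), (0, 64, true), (2, 184, true)], [(1, 64, true), (0, 100, true), (2, 220, true), (1, 101, true), (3, 228, true)]),
    ([13, 11, 6], [(0, 102, true), (1, 97, true), (0, 72, true), (2, 184, true), (3, 188, true)], [(1, 72, true), (0, 97, true), (2, 164, true), (1, 102, true)]),
    ([13, 12, 6], [(0, 103, true), (1, 97, true), (0, 84, true), (2, 203, true), (3, 207, true)], [(1, 84, true), (0, 97, true), (2, 165, true), (1, 103, true)]),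
    ([14, 3, 3], [(0, 108, true), (3, 234, true), (2, 213, true), (1, 108, true), (0, 9, true), (2, 251, true), (1, 230, true), (1, 252, true)], [(1, 9, true)]),
    ([17, 1, 1], [(0, 154, true), (3, 232, true), (2, 211, true), (1, 154, true), (0, 2, true), (2, 251, true), (1, 230, true), (1, 252, true)], [(1, 2, true)]),
    ([17, 4, 4], [(0, 157, true), (3, 214, true), (2, 194, true), (1, 157, true), (0, 14, true), (2, 229, true), (1, 209, true), (1, 230, true)], [(1, 14, true)]),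
    ([17, 10, 9], [(0, 163, true), (1, 162, true), (0, 64, true), (2, 188, true)], [(1, 64, true), (0, 162, true), (2, 241, true), (1, 163, true), (3, 249, true)])]

/-- part of the pairs -/
def twoEqs15 : List Pair :=
  [([20, 6, 3], [(0, 216, true), (2, 234, true), (1, 213, true), (0, 24, true)], [(1, 24, true), (0, 213, true), (1, 216, true), (3, 238, true), (2, 217, true)]),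
    ([3, 1, 0], [(0, 7, true), (2, 10, true), (1, 6, true), (0, 1, true)], [(1, 1, true), (0, 6, true), (1, 7, true), (3, 12, true), (2, 8, true), (4, 19, true)]),
    ([11, 6, 2], [(0, 72, true), (2, 173, true), (1, 68, true), (0, 23, true)], [(1, 23, true), (0, 68, true), (1, 72, true), (3, 179, true), (2, 74, true), (4, 228, true)]),
    ([13, 6, 1], [(0, 97, true), (2, 154, true), (1, 92, true), (0, 22, true)], [(1, 22, true), (0, 92, true), (1, 97, true), (3, 162, true), (2, 100, true), (4, 227, true)]),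
    ([11, 7, 6], [(0, 73, true), (3, 216, true), (2, 159, true), (1, 72, true), (0, 34, true), (3, 188, true)], [(1, 34, true), (0, 72, true), (2, 178, true), (1, 73, true), (4, 228, true)]),
    ([12, 5, 0], [(0, 83, true), (2, 136, true), (1, 78, true), (0, 15, true), (4, 187, true)], [(1, 15, true), (0, 78, true), (3, 176, true), (2, 110, true), (1, 83, true), (3, 150, true)]),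
    ([12, 10, 1], [(0, 88, true), (1, 79, true), (0, 56, true), (6, 243, true), (5, 202, true), (4, 183, true), (3, 165, true)], [(1, 56, true), (0, 79, true), (1, 88, true), (2, 89, true)]),
    ([14, 4, 0], [(0, 109, true), (1, 105, true), (0, 10, true)], [(1, 10, true), (0, 105, true), (3, 235, true), (2, 214, true), (1, 109, true), (4, 236, true), (3, 215, true), (2, 110, true)]),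
    ([14, 7, 6], [(0, 112, true), (2, 237, true), (1, 111, true), (0, 34, true)], [(1, 34, true), (0, 111, true), (3, 197, true), (2, 178, true), (1, 112, true), (3, 249, true), (4, 252, true)]),
    ([14, 10, 4], [(0, 115, true), (1, 109, true), (0, 59, true), (5, 167, true), (4, 119, true)], [(1, 59, true), (0, 109, true), (1, 115, true), (2, 117, true), (3, 118, true), (4, 119, true)])]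

/-- part of the pairs -/
def twoEqs16 : List Pair :=
  [([7, 3, 1], [(0, 31, true), (1, 29, true), (0, 7, true)], [(1, 7, true), (0, 29, true), (2, 39, true), (1, 31, true), (4, 49, true), (3, 40, true), (2, 32, true), (4, 53, true), (5, 54, true)]),
    ([11, 9, 0], [(0, 75, true), (2, 190, true), (1, 66, true), (0, 45, true)], [(1, 45, true), (0, 66, true), (3, 162, true), (2, 100, true), (1, 75, true), (3, 203, true), (5, 227, true), (4, 207, true)]),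
    ([12, 2, 0], [(0, 80, true), (2, 120, true), (1, 78, true), (0, 3, true), (4, 186, true), (5, 187, true)], [(1, 3, true), (0, 78, true), (3, 173, true), (2, 107, true), (1, 80, true), (3, 134, true)]),
    ([12, 6, 5], [(0, 84, true), (2, 195, true), (1, 83, true), (0, 26, true)], [(1, 26, true), (0, 83, true), (2, 142, true), (1, 84, true), (3, 206, true), (4, 199, true), (3, 145, true), (2, 87, true)]),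
    ([12, 8, 0], [(0, 86, true), (2, 190, true), (1, 78, true), (0, 36, true)], [(1, 36, true), (0, 78, true), (3, 179, true), (2, 113, true), (1, 86, true), (3, 204, true), (5, 228, true), (4, 208, true)]),
    ([10, 10, 2], [(0, 65, true)], [(1, 57, true), (0, 57, true), (4, 163, true), (3, 130, true), (2, 101, true), (1, 65, true), (3, 166, true), (2, 133, true), (1, 104, true), (2, 168, true), (1, 135, true), (1, 170, true)]),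
    ([10, 10, 5], [(0, 65, true)], [(1, 60, true), (0, 60, true), (4, 181, true), (3, 130, true), (2, 115, true), (1, 65, true), (3, 185, true), (2, 134, true), (1, 119, true), (2, 186, true), (1, 135, true), (1, 189, true)]),
    ([12, 6, 2], [(0, 84, true), (2, 192, true), (1, 80, true), (0, 23, true)], [(1, 23, true), (0, 80, true), (2, 126, true), (1, 84, true), (3, 205, true), (4, 209, true), (3, 128, true), (2, 86, true), (4, 205, true)]),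
    ([12, 10, 5], [(0, 88, true), (1, 83, true), (0, 60, true), (4, 183, true), (3, 132, true), (2, 117, true), (5, 187, true)], [(1, 60, true), (0, 83, true), (2, 146, true), (1, 88, true), (3, 150, true), (4, 151, true)]),
    ([13, 7, 3], [(0, 98, true), (1, 94, true), (0, 31, true)], [(1, 31, true), (0, 94, true), (5, 217, true), (4, 197, true), (3, 143, true), (2, 112, true), (1, 98, true), (4, 247, true), (5, 250, true), (6, 252, true)])]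

/-- part of the pairs -/
def twoEqs17 : List Pair :=
  [([12, 0, 0], [(0, 78, true), (3, 171, true), (2, 105, true), (1, 78, true), (0, 0, true), (2, 185, true), (1, 119, true), (3, 249, true), (2, 228, true), (1, 189, true), (2, 251, true), (1, 230, true), (1, 252, true)], [(1, 0, true)]),
    ([12, 5, 3], [(0, 83, true), (2, 139, true), (1, 81, true), (0, 18, true), (5, 187, true), (4, 152, true)], [(1, 18, true), (0, 81, true), (4, 176, true), (3, 141, true), (2, 110, true), (1, 83, true), (3, 150, true), (4, 152, true)]),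
    ([12, 10, 2], [(0, 88, true), (1, 80, true), (0, 57, true), (4, 165, true), (3, 132, true), (2, 103, true), (5, 168, true), (4, 135, true)], [(1, 57, true), (0, 80, true), (2, 130, true), (1, 88, true), (3, 133, true), (4, 135, true)]),
    ([12, 11, 0], [(0, 89, true), (1, 78, true), (0, 66, true), (3, 165, true), (2, 103, true), (4, 167, true)], [(1, 66, true), (0, 78, true), (3, 182, true), (2, 116, true), (1, 89, true), (4, 184, true), (3, 118, true), (5, 188, true)]),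
    ([13, 6, 5], [(0, 97, true), (2, 158, true), (1, 96, true), (0, 26, true)], [(1, 26, true), (0, 96, true), (2, 142, true), (1, 97, true), (3, 169, true), (4, 162, true), (3, 145, true), (2, 100, true), (4, 226, true), (5, 227, true)]),
    ([17, 3, 0], [(0, 156, true), (4, 231, true), (3, 190, true), (2, 171, true), (1, 153, true), (0, 6, true), (5, 250, true), (4, 229, true), (6, 251, true), (5, 230, true), (5, 252, true)], [(1, 6, true), (0, 153, true), (1, 156, true)]),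
    ([10, 9, 2], [(0, 64, true), (2, 173, true), (1, 57, true), (0, 47, true)], [(1, 47, true), (0, 57, true), (4, 162, true), (3, 129, true), (2, 100, true), (1, 64, true), (3, 184, true), (5, 225, true), (4, 186, true), (6, 227, true), (5, 188, true)]),
    ([6, 1, 0], [(0, 22, true), (2, 45, true), (1, 21, true), (0, 1, true)], [(1, 1, true), (0, 21, true), (2, 29, true), (1, 22, true), (3, 52, true), (4, 53, true), (5, 47, true), (4, 38, true), (3, 30, true), (2, 23, true), (4, 43, true), (5, 44, true)]),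
    ([6, 3, 1], [(0, 24, true), (2, 29, true), (1, 22, true), (0, 7, true), (4, 52, true), (5, 53, true)], [(1, 7, true), (0, 22, true), (2, 48, true), (1, 24, true), (4, 49, true), (3, 32, true), (2, 25, true), (5, 52, true), (4, 43, true), (6, 54, true)]),
    ([6, 3, 2], [(0, 24, true), (2, 30, true), (1, 23, true), (0, 8, true), (4, 43, true)], [(1, 8, true), (0, 23, true), (2, 39, true), (1, 24, true), (5, 50, true), (4, 41, true), (3, 33, true), (2, 26, true), (4, 52, true), (5, 53, true), (6, 54, true)])]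

/-- part of the pairs -/
def twoEqs18 : List Pair :=
  [([17, 3, 3], [(0, 156, true), (4, 234, true), (3, 193, true), (2, 174, true), (1, 156, true), (0, 9, true), (3, 249, true), (2, 208, true), (1, 189, true), (2, 251, true), (3, 252, true), (2, 229, true), (1, 209, true), (1, 230, true), (1, 252, true)], [(1, 9, true)]),
    ([10, 9, 3], [(0, 64, true), (2, 174, true), (1, 58, true), (0, 48, true)], [(1, 48, true), (0, 58, true), (5, 162, true), (4, 129, true), (3, 100, true), (2, 87, true), (1, 64, true), (3, 183, true), (4, 184, true), (6, 225, true), (5, 186, true), (7, 227, true), (6, 188, true)]),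
    ([10, 9, 4], [(0, 64, true), (2, 175, true), (1, 59, true), (0, 49, true)], [(1, 49, true), (0, 59, true), (5, 162, true), (4, 114, true), (3, 100, true), (2, 87, true), (1, 64, true), (3, 183, true), (4, 184, true), (6, 224, true), (5, 185, true), (7, 227, true), (6, 188, true)]),
    ([11, 7, 5], [(0, 73, true), (3, 215, true), (2, 158, true), (1, 71, true), (0, 33, true), (7, 251, true), (6, 230, true)], [(1, 33, true), (0, 71, true), (3, 143, true), (2, 127, true), (1, 73, true), (4, 225, true), (3, 168, true), (5, 230, true), (5, 247, true), (4, 169, true)]),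
    ([10, 10, 3], [(0, 65, true)], [(1, 58, true), (0, 58, true), (5, 163, true), (4, 130, true), (3, 101, true), (2, 88, true), (1, 65, true), (4, 165, true), (3, 132, true), (2, 103, true), (1, 90, true), (3, 166, true), (2, 133, true), (1, 104, true), (2, 168, true), (1, 135, true), (1, 170, true)]),
    ([12, 6, 0], [(0, 84, true), (2, 190, true), (1, 78, true), (0, 21, true)], [(1, 21, true), (0, 78, true), (3, 177, true), (2, 111, true), (1, 84, true), (3, 204, true), (4, 208, true), (5, 209, true), (4, 189, true), (3, 112, true), (2, 85, true), (6, 224, true), (5, 204, true), (4, 185, true)]),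
    ([13, 3, 2], [(0, 94, true), (5, 212, true), (4, 192, true), (3, 138, true), (2, 107, true), (1, 93, true), (0, 8, true), (5, 152, true)], [(1, 8, true), (0, 93, true), (1, 94, true), (6, 215, true), (5, 195, true), (4, 141, true), (3, 110, true), (2, 96, true), (4, 150, true), (5, 152, true)]),
    ([11, 6, 0], [(0, 72, true), (2, 171, true), (1, 66, true), (0, 21, true)], [(1, 21, true), (0, 66, true), (3, 159, true), (2, 97, true), (1, 72, true), (3, 184, true), (4, 188, true), (5, 188, true), (4, 170, true), (4, 178, true), (3, 98, true), (2, 73, true), (5, 223, true), (4, 166, true), (6, 228, true)]),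
    ([11, 6, 1], [(0, 72, true), (2, 172, true), (1, 67, true), (0, 22, true), (5, 228, true), (4, 208, true), (6, 229, true), (5, 209, true)], [(1, 22, true), (0, 67, true), (3, 216, true), (2, 196, true), (1, 72, true), (6, 240, true), (5, 219, true), (4, 199, true), (3, 180, true), (2, 75, true), (4, 208, true), (5, 209, true)]),
    ([12, 3, 3], [(0, 81, true), (4, 174, true), (3, 139, true), (2, 108, true), (1, 81, true), (0, 9, true), (3, 185, true), (2, 150, true), (1, 119, true), (4, 247, true), (3, 226, true), (2, 187, true), (1, 152, true), (3, 249, true), (2, 228, true), (1, 189, true), (2, 251, true), (1, 230, true), (1, 252, true)], [(1, 9, true)])]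

/-- part of the pairs -/
def twoEqs19 : List Pair :=
  [([12, 4, 3], [(0, 82, true), (3, 139, true), (2, 123, true), (1, 81, true), (0, 13, true), (5, 186, true), (4, 151, true), (8, 247, true), (7, 226, true), (6, 187, true), (5, 152, true)], [(1, 13, true), (0, 81, true), (4, 175, true), (3, 140, true), (2, 109, true), (1, 82, true), (4, 150, true), (3, 134, true), (5, 152, true)]),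
    ([12, 7, 1], [(0, 85, true), (4, 211, true), (3, 191, true), (2, 172, true), (1, 79, true), (0, 29, true), (6, 250, true), (5, 209, true), (5, 251, true)], [(1, 29, true), (0, 79, true), (1, 85, true), (5, 218, true), (4, 198, true), (3, 179, true), (2, 86, true), (4, 208, true), (6, 250, true), (5, 209, true), (5, 251, true)]),
    ([10, 6, 5], [(0, 61, true), (2, 176, true), (1, 60, true), (0, 26, true), (6, 189, true)], [(1, 26, true), (0, 60, true), (4, 177, true), (3, 126, true), (2, 111, true), (1, 61, true), (3, 185, true), (4, 189, true), (4, 205, true), (5, 209, true), (5, 180, true), (4, 129, true), (3, 114, true), (2, 64, true), (4, 185, true), (5, 186, true), (6, 189, true)]),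
    ([11, 1, 0], [(0, 67, true), (3, 210, true), (2, 190, true), (1, 66, true), (0, 1, true), (8, 251, true), (7, 230, true)], [(1, 1, true), (0, 66, true), (3, 154, true), (2, 92, true), (1, 67, true), (4, 223, true), (3, 203, true), (5, 227, true), (4, 207, true), (6, 230, true), (6, 233, true), (5, 192, true), (4, 155, true), (3, 93, true), (2, 68, true)]),
    ([12, 3, 1], [(0, 81, true), (4, 172, true), (3, 137, true), (2, 106, true), (1, 79, true), (0, 7, true), (8, 226, true), (7, 206, true), (6, 152, true), (7, 228, true), (6, 208, true), (8, 229, true), (7, 209, true)], [(1, 7, true), (0, 79, true), (1, 81, true), (5, 175, true), (4, 140, true), (3, 109, true), (2, 82, true), (5, 150, true), (4, 134, true), (6, 152, true)]),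
    ([10, 10, 1], [(0, 65, true)], [(1, 56, true), (0, 56, true), (6, 241, true), (5, 200, true), (4, 181, true), (3, 163, true), (2, 76, true), (1, 65, true), (5, 242, true), (4, 201, true), (3, 182, true), (2, 164, true), (1, 77, true), (4, 248, true), (3, 207, true), (2, 188, true), (1, 170, true), (3, 249, true), (2, 208, true), (1, 189, true), (2, 250, true), (1, 209, true), (1, 252, true)]),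
    ([12, 3, 2], [(0, 81, true), (4, 173, true), (3, 138, true), (2, 107, true), (1, 80, true), (0, 8, true), (4, 134, true), (6, 152, true)], [(1, 8, true), (0, 80, true), (2, 123, true), (1, 81, true), (5, 186, true), (4, 151, true), (8, 236, true), (7, 215, true), (6, 176, true), (5, 141, true), (4, 125, true), (3, 110, true), (2, 83, true), (4, 150, true), (5, 151, true), (6, 152, true)]),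
    ([11, 7, 4], [(0, 73, true), (3, 214, true), (2, 157, true), (1, 70, true), (0, 32, true), (8, 230, true)], [(1, 32, true), (0, 70, true), (3, 143, true), (2, 127, true), (1, 73, true), (4, 225, true), (3, 168, true), (5, 230, true), (5, 247, true), (4, 169, true), (6, 240, true), (5, 162, true), (4, 145, true), (3, 129, true), (2, 75, true), (4, 205, true), (5, 206, true), (6, 207, true), (8, 252, true)]),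
    ([12, 1, 0], [(0, 79, true), (1, 78, true), (0, 1, true)], [(1, 1, true), (0, 78, true), (3, 172, true), (2, 106, true), (1, 79, true), (7, 228, true), (6, 208, true), (8, 229, true), (7, 209, true), (8, 233, true), (7, 212, true), (6, 173, true), (5, 138, true), (4, 122, true), (3, 107, true), (2, 80, true), (4, 134, true), (6, 151, true), (5, 135, true), (5, 152, true), (7, 251, true), (6, 230, true), (6, 252, true)]),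
    ([10, 1, 1], [(0, 56, true), (6, 232, true), (5, 191, true), (4, 172, true), (3, 154, true), (2, 67, true), (1, 56, true), (0, 2, true), (5, 242, true), (4, 201, true), (3, 182, true), (2, 164, true), (1, 77, true), (4, 250, true), (3, 209, true), (3, 251, true), (4, 248, true), (3, 227, true), (2, 188, true), (1, 170, true), (3, 251, true), (2, 230, true), (2, 252, true), (1, 189, true), (2, 250, true), (1, 209, true), (1, 252, true)], [(1, 2, true)])]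

/-- part of the pairs -/
def twoEqs20 : List Pair :=
  [([13, 3, 1], [(0, 94, true), (5, 211, true), (4, 191, true), (3, 137, true), (2, 106, true), (1, 92, true), (0, 7, true), (8, 226, true), (7, 206, true), (6, 152, true), (7, 229, true), (6, 209, true), (6, 230, true)], [(1, 7, true), (0, 92, true), (1, 94, true), (6, 214, true), (5, 194, true), (4, 140, true), (3, 109, true), (2, 95, true), (7, 224, true), (6, 204, true), (5, 150, true), (4, 134, true), (8, 226, true), (7, 206, true), (6, 152, true), (7, 229, true), (6, 209, true), (6, 230, true)]),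
    ([11, 4, 0], [(0, 70, true), (3, 136, true), (2, 120, true), (1, 66, true), (0, 10, true), (5, 168, true), (6, 169, true), (9, 247, true), (8, 226, true), (7, 169, true), (6, 152, true)], [(1, 10, true), (0, 66, true), (3, 157, true), (2, 95, true), (1, 70, true), (4, 149, true), (3, 133, true), (5, 151, true), (4, 135, true), (4, 152, true), (5, 227, true), (4, 207, true), (6, 229, true), (5, 209, true), (5, 230, true), (4, 158, true), (3, 96, true), (2, 71, true), (5, 149, true), (4, 133, true), (6, 152, true)]),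
    ([10, 6, 2], [(0, 61, true), (2, 173, true), (1, 57, true), (0, 23, true)], [(1, 23, true), (0, 57, true), (4, 159, true), (3, 126, true), (2, 97, true), (1, 61, true), (3, 184, true), (4, 188, true), (5, 186, true), (4, 168, true), (7, 207, true), (6, 188, true), (5, 170, true), (6, 198, true), (5, 179, true), (4, 128, true), (3, 99, true), (2, 63, true), (6, 223, true), (5, 203, true), (4, 166, true), (7, 225, true), (6, 205, true), (5, 168, true), (8, 228, true), (7, 208, true), (10, 250, true), (9, 229, true), (8, 209, true)]),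
    ([13, 6, 3], [(0, 97, true), (2, 156, true), (1, 94, true), (0, 24, true), (7, 227, true), (6, 207, true), (8, 228, true), (7, 208, true), (9, 229, true), (8, 209, true)], [(1, 24, true), (0, 94, true), (5, 216, true), (4, 196, true), (3, 142, true), (2, 111, true), (1, 97, true), (3, 167, true), (6, 206, true), (5, 187, true), (4, 169, true), (7, 209, true), (8, 238, true), (7, 217, true), (6, 178, true), (5, 160, true), (4, 143, true), (3, 112, true), (2, 98, true), (5, 247, true), (6, 248, true), (7, 249, true), (8, 252, true)]),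
    ([10, 4, 4], [(0, 59, true), (5, 157, true), (4, 109, true), (3, 95, true), (2, 82, true), (1, 59, true), (0, 14, true), (4, 165, true), (3, 117, true), (2, 103, true), (1, 90, true), (3, 168, true), (4, 169, true), (5, 166, true), (4, 149, true), (3, 133, true), (2, 118, true), (1, 104, true), (4, 168, true), (3, 151, true), (2, 135, true), (3, 169, true), (2, 152, true), (4, 224, true), (3, 204, true), (2, 167, true), (1, 119, true), (3, 227, true), (2, 207, true), (1, 170, true), (2, 229, true), (1, 209, true), (1, 230, true)], [(1, 14, true)]),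
    ([10, 6, 1], [(0, 61, true), (2, 172, true), (1, 56, true), (0, 22, true), (8, 249, true), (7, 208, true), (6, 189, true), (7, 250, true), (6, 209, true), (6, 252, true)], [(1, 22, true), (0, 56, true), (6, 237, true), (5, 196, true), (4, 177, true), (3, 159, true), (2, 72, true), (1, 61, true), (3, 182, true), (4, 189, true), (7, 240, true), (6, 199, true), (5, 180, true), (4, 162, true), (3, 75, true), (2, 64, true), (4, 182, true), (6, 207, true), (5, 188, true), (8, 249, true), (7, 208, true), (6, 189, true), (7, 250, true), (6, 209, true), (6, 252, true)]),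
    ([10, 7, 2], [(0, 62, true), (6, 233, true), (5, 212, true), (4, 192, true), (3, 173, true), (2, 155, true), (1, 57, true), (0, 30, true), (5, 170, true), (7, 250, true), (6, 229, true), (8, 251, true), (7, 230, true), (7, 252, true)], [(1, 30, true), (0, 57, true), (4, 160, true), (3, 127, true), (2, 98, true), (1, 62, true), (7, 244, true), (6, 223, true), (5, 203, true), (4, 184, true), (3, 166, true), (8, 246, true), (7, 225, true), (6, 205, true), (5, 186, true), (4, 168, true), (9, 251, true), (8, 230, true), (8, 252, true), (7, 207, true), (6, 188, true), (5, 170, true)]),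
    ([10, 4, 2], [(0, 59, true), (5, 155, true), (4, 107, true), (3, 93, true), (2, 80, true), (1, 57, true), (0, 12, true), (5, 165, true), (4, 132, true), (3, 103, true), (6, 168, true), (5, 135, true), (5, 166, true), (4, 104, true), (4, 167, true), (5, 169, true), (6, 170, true)], [(1, 12, true), (0, 57, true), (4, 157, true), (3, 124, true), (2, 95, true), (1, 59, true), (6, 166, true), (5, 118, true), (4, 104, true), (5, 168, true), (6, 169, true), (9, 225, true), (8, 205, true), (7, 168, true), (6, 151, true), (5, 135, true), (8, 227, true), (7, 207, true), (6, 170, true), (7, 229, true), (6, 209, true), (6, 230, true)]),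
    ([10, 3, 3], [(0, 58, true), (5, 156, true), (4, 123, true), (3, 94, true), (2, 81, true), (1, 58, true), (0, 9, true), (4, 165, true), (3, 132, true), (2, 103, true), (1, 90, true), (3, 167, true), (2, 134, true), (4, 169, true), (6, 184, true), (5, 166, true), (4, 149, true), (3, 133, true), (2, 118, true), (1, 104, true), (5, 185, true), (4, 167, true), (3, 150, true), (2, 134, true), (1, 119, true), (4, 187, true), (3, 169, true), (2, 152, true), (5, 225, true), (4, 205, true), (3, 186, true), (2, 168, true), (1, 135, true), (4, 230, true), (4, 248, true), (3, 207, true), (2, 188, true), (1, 170, true), (3, 249, true), (2, 208, true), (1, 189, true), (2, 250, true), (1, 209, true), (1, 252, true)], [(1, 9, true)]),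
    ([10, 6, 3], [(0, 61, true), (2, 174, true), (1, 58, true), (0, 24, true)], [(1, 24, true), (0, 58, true), (5, 159, true), (4, 126, true), (3, 97, true), (2, 84, true), (1, 61, true), (3, 183, true), (5, 203, true), (4, 184, true), (6, 207, true), (5, 188, true), (7, 205, true), (6, 186, true), (5, 168, true), (8, 209, true), (7, 188, true), (6, 170, true), (6, 178, true), (5, 127, true), (4, 98, true), (3, 85, true), (2, 62, true), (8, 243, true), (7, 222, true), (6, 202, true), (5, 183, true), (4, 165, true), (9, 249, true), (8, 228, true), (7, 208, true), (6, 189, true), (8, 250, true), (7, 229, true), (6, 209, true), (7, 251, true), (6, 230, true), (6, 244, true), (5, 166, true), (7, 246, true), (6, 168, true), (8, 251, true), (9, 252,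 true), (8, 228, true)])]

/-- part of the pairs -/
def twoEqs21 : List Pair :=
  [([10, 6, 4], [(0, 61, true), (2, 175, true), (1, 59, true), (0, 25, true)], [(1, 25, true), (0, 59, true), (5, 159, true), (4, 111, true), (3, 97, true), (2, 84, true), (1, 61, true), (3, 183, true), (5, 203, true), (4, 184, true), (6, 207, true), (5, 188, true), (7, 204, true), (6, 185, true), (5, 167, true), (8, 208, true), (7, 189, true), (7, 209, true), (6, 170, true), (5, 113, true), (4, 99, true), (3, 86, true), (2, 63, true), (6, 222, true), (5, 202, true), (4, 165, true), (7, 229, true), (6, 209, true), (6, 223, true), (5, 166, true), (7, 224, true), (6, 167, true), (8, 230, true), (7, 162, true), (6, 114, true), (5, 100, true), (4, 87, true), (3, 64, true),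 (5, 183, true), (6, 184, true), (8, 224, true), (7, 185, true), (9, 227, true), (8, 188, true)]),
    ([10, 3, 2], [(0, 58, true), (5, 155, true), (4, 122, true), (3, 93, true), (2, 80, true), (1, 57, true), (0, 8, true), (6, 165, true), (5, 132, true), (4, 103, true), (7, 168, true), (6, 135, true), (6, 166, true), (5, 104, true), (5, 168, true), (6, 170, true)], [(1, 8, true), (0, 57, true), (4, 156, true), (3, 123, true), (2, 94, true), (1, 58, true), (6, 166, true), (5, 133, true), (4, 104, true), (5, 167, true), (4, 134, true), (6, 169, true), (9, 225, true), (8, 205, true), (7, 168, true), (6, 151, true), (5, 135, true), (8, 230, true), (8, 248, true), (7, 207, true), (6, 170, true), (7, 249, true), (6, 208, true), (8, 250, true), (7,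 209, true), (7, 252, true), (6, 176, true), (5, 141, true), (4, 110, true), (3, 83, true), (2, 60, true), (6, 183, true), (5, 132, true), (4, 117, true), (7, 187, true), (8, 185, true), (7, 150, true), (6, 134, true), (5, 119, true), (7, 187, true), (6, 152, true), (6, 189, true)]),
    ([10, 4, 1], [(0, 59, true), (5, 154, true), (4, 106, true), (3, 92, true), (2, 79, true), (1, 56, true), (0, 11, true), (7, 243, true), (6, 202, true), (5, 183, true), (4, 165, true), (8, 244, true), (7, 203, true), (6, 184, true), (5, 166, true), (9, 245, true), (8, 204, true), (7, 185, true), (6, 167, true), (10, 246, true), (9, 205, true), (8, 186, true), (7, 168, true), (11, 247, true), (10, 206, true), (9, 187, true), (8, 169, true), (12, 250, true), (11,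 209, true), (11, 251, true), (12, 248, true), (11, 227, true), (10, 188, true), (9, 170, true), (11, 251, true), (10, 230, true), (10, 252, true)], [(1, 11, true), (0, 56, true), (6, 235, true), (5, 194, true), (4, 175, true), (3, 157, true), (2, 70, true), (1, 59, true), (6, 164, true), (5, 116, true), (4, 102, true), (3, 89, true), (7, 168, true), (8, 169, true), (9, 170, true), (10, 228, true), (9, 208, true), (11, 230, true), (11, 250, true), (10, 209, true), (10, 252, true)]),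
    ([10, 3, 0], [(0, 58, true), (5, 153, true), (4, 120, true), (3, 91, true), (2, 78, true), (1, 55, true), (0, 6, true), (8, 243, true), (7, 222, true), (6, 183, true), (5, 165, true), (4, 117, true), (3, 103, true), (9, 245, true), (8, 224, true), (7, 185, true), (6, 167, true), (5, 119, true), (8, 249, true), (7, 228, true), (6, 189, true), (7, 244, true), (6, 223, true), (5, 166, true), (4, 104, true), (6, 246, true), (5, 225, true), (4, 168, true), (7, 247, true), (6, 226, true), (5, 169, true), (8, 251, true), (7, 230, true), (7, 252, true), (6, 170, true)], [(1, 6, true), (0, 55, true), (7, 234, true), (6, 213, true), (5, 174, true), (4, 156, true), (3, 108, true), (2, 94, true), (1, 58, true), (6, 166, true), (5, 133, true), (4, 104,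 true), (5, 167, true), (4, 134, true), (6, 169, true), (9, 224, true), (8, 204, true), (7, 167, true), (6, 150, true), (5, 134, true), (4, 119, true), (8, 230, true), (8, 248, true), (7, 207, true), (6, 170, true), (7, 249, true), (6, 208, true), (8, 250, true), (7, 209, true), (7, 252, true), (6, 189, true), (7, 251, true), (6, 230, true), (6, 252, true)]),
    ([10, 3, 1], [(0, 58, true), (5, 154, true), (4, 121, true), (3, 92, true), (2, 79, true), (1, 56, true), (0, 7, true), (8, 243, true), (7, 202, true), (6, 183, true), (5, 165, true), (9, 244, true), (8, 203, true), (7, 184, true), (6, 166, true), (10, 246, true), (9, 205, true), (8, 186, true), (7, 168, true), (11, 248, true), (10, 207, true), (9, 188, true), (8, 170, true), (10, 251,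 true), (11, 252, true)], [(1, 7, true), (0, 56, true), (6, 234, true), (5, 193, true), (4, 174, true), (3, 156, true), (2, 69, true), (1, 58, true), (6, 164, true), (5, 131, true), (4, 102, true), (3, 89, true), (7, 165, true), (6, 132, true), (5, 103, true), (4, 90, true), (6, 166, true), (5, 133, true), (4, 104, true), (5, 167, true), (4, 134, true), (6, 168, true), (5, 135, true), (5, 169, true), (6, 170, true), (8, 248, true), (7, 227, true), (6, 188, true), (9, 249, true), (8, 228, true), (7, 189, true), (8, 250, true), (7, 229, true), (9, 252, true), (8, 228, true), (7, 208, true), (9, 230, true), (9, 250, true), (8, 209, true), (8, 251, true), (9, 252, true), (9, 235, true), (8, 214, true), (7, 175, true), (6, 157, true), (5, 140, true),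 (4, 109, true), (3, 70, true), (2, 59, true), (7, 164, true), (6, 116, true), (5, 102, true), (4, 89, true), (8, 168, true), (9, 169, true), (10, 167, true), (9, 150, true), (8, 134, true), (7, 119, true), (9, 169, true), (8, 152, true), (8, 170, true), (9, 228, true), (8, 208, true), (10, 230, true), (10, 251, true), (11, 252, true)]),
    ([10, 1, 0], [(0, 56, true), (6, 231, true), (5, 190, true), (4, 171, true), (3, 153, true), (2, 66, true), (1, 55, true), (0, 1, true), (9, 242, true), (8, 221, true), (7, 182, true), (6, 164, true), (5, 116, true), (4, 102, true), (10, 244, true), (9, 223, true), (8, 184, true), (7, 166, true), (6, 118, true), (5, 104, true), (9, 248, true), (8, 227, true), (7, 188, true), (6, 170, true), (8, 248, true),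 (7, 227, true), (6, 188, true), (9, 249, true), (8, 228, true), (7, 189, true), (8, 251, true), (7, 230, true), (7, 252, true), (9, 252, true)], [(1, 1, true), (0, 55, true), (7, 232, true), (6, 211, true), (5, 172, true), (4, 154, true), (3, 106, true), (2, 92, true), (1, 56, true), (7, 244, true), (6, 203, true), (5, 184, true), (4, 166, true), (8, 245, true), (7, 204, true), (6, 185, true), (5, 167, true), (9, 246, true), (8, 205, true), (7, 186, true), (6, 168, true), (10, 247, true), (9, 206, true), (8, 187, true), (7, 169, true), (11, 250, true), (10, 209, true), (10, 251, true), (11, 248, true), (10, 227, true), (9, 188, true), (8, 170, true), (10, 251, true), (9, 230, true), (9, 252, true), (8, 189, true), (9, 251, true), (10, 252, true),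 (9, 212, true), (8, 192, true), (7, 138, true), (6, 122, true), (5, 107, true), (4, 93, true), (3, 68, true), (2, 57, true), (6, 164, true), (5, 131, true), (4, 102, true), (7, 166, true), (6, 133, true), (5, 104, true), (6, 167, true), (5, 134, true), (7, 169, true), (8, 168, true), (7, 151, true), (6, 135, true), (7, 169, true), (6, 152, true)]),
    ([22, 11, 10], [(0, 254, true), (8, 253, true), (7, 241, true), (6, 200, true), (5, 163, true), (4, 146, true), (3, 130, true), (2, 115, true), (1, 76, true), (0, 65, true), (6, 242, true), (5, 201, true), (4, 164, true), (3, 147, true), (2, 131, true), (1, 116, true), (0, 77, true), (5, 243, true), (4, 202, true), (3, 165, true), (2, 148, true), (1, 132, true), (0, 117, true), (6, 246, true),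 (5, 205, true), (4, 168, true), (3, 151, true), (2, 135, true), (5, 249, true), (4, 208, true), (6, 250, true), (5, 209, true)], [(1, 76, true), (0, 253, true), (6, 254, true), (5, 200, true), (4, 181, true), (3, 130, true), (2, 88, true), (1, 76, true), (0, 65, true), (4, 201, true), (3, 182, true), (2, 131, true), (1, 89, true), (0, 77, true), (3, 204, true), (2, 185, true), (1, 134, true), (4, 205, true), (3, 186, true), (2, 135, true), (3, 206, true), (2, 187, true), (4, 207, true), (3, 188, true), (5, 209, true)]),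
    ([22, 11, 11], [(0, 254, true), (8, 254, true), (7, 241, true), (6, 200, true), (5, 163, true), (4, 146, true), (3, 130, true), (2, 115, true), (1, 76, true), (0, 65, true), (6, 242, true), (5, 201, true), (4, 164, true), (3, 147, true), (2, 131, true), (1, 116, true), (0, 77, true), (5, 245, true), (4, 204, true), (3, 167, true), (2, 150, true), (1, 134, true), (0, 119, true), (4, 246, true), (3, 205, true), (2, 168, true), (1, 151, true), (0, 135, true), (3, 247, true), (2, 206, true), (1, 169, true), (0, 152, true), (2, 248, true), (1, 207, true), (0, 170, true), (1, 250, true), (0, 209, true), (0, 252, true)], [(1, 77, true)]),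
    ([22, 12, 11], [(0, 255, true), (7, 254, true), (6, 200, true), (5, 181, true), (4, 146, true), (3, 130, true), (2, 115, true), (1, 88, true), (0, 65, true), (5, 201, true), (4, 182, true), (3, 147, true), (2, 131, true), (1, 116, true), (0, 89, true), (6, 204, true), (5, 185, true), (4, 150, true), (3, 134, true), (2, 119, true), (5, 205, true), (4, 186, true), (3, 151, true), (2, 135, true), (4, 206, true), (3, 187, true), (2, 152, true), (3, 207, true), (2, 188, true), (4, 209, true)], [(1, 89, true), (0, 254, true), (8, 255, true), (7, 241, true), (6, 200, true), (5, 163, true), (4, 146, true), (3, 130, true), (2, 115, true), (1, 76, true), (0, 65, true), (6, 243, true), (5, 202, true), (4, 165, true), (3, 148, true), (2, 132, true),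 (1, 117, true), (7, 245, true), (6, 204, true), (5, 167, true), (4, 150, true), (3, 134, true), (2, 119, true), (6, 246, true), (5, 205, true), (4, 168, true), (3, 151, true), (2, 135, true), (5, 247, true), (4, 206, true), (3, 169, true), (2, 152, true), (4, 249, true), (3, 208, true), (5, 250, true), (4, 209, true)]),
    ([23, 0, 2, 3, 4, 0, 2, 3, 4], [(0, 265, true), (2, 265, true), (1, 42, true), (0, 27, true), (0, 44, true)], [(4, 10, true), (3, 6, true), (2, 3, true), (1, 0, true), (4, 17, true), (3, 12, true), (2, 8, true), (1, 5, true), (2, 19, true), (3, 20, true), (2, 13, true), (1, 9, true), (1, 14, true)])]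

/-- part of the pairs -/
def twoEqs22 : List Pair :=
  [([23, 10, 0, 2, 3, 4], [(0, 266, true), (2, 265, true), (1, 196, true), (0, 177, true), (2, 198, true), (1, 179, true), (3, 250, true)], [(1, 55, true), (8, 233, true), (7, 212, true), (6, 173, true), (5, 155, true), (4, 107, true), (3, 93, true), (2, 57, true), (6, 166, true), (5, 133, true), (4, 104, true), (5, 167, true), (4, 134, true), (6, 169, true), (7, 170, true), (9, 251, true), (8, 230, true), (8, 252, true), (7, 174, true), (6, 139, true), (5, 123, true), (4, 108, true), (3, 58, true), (8, 167, true), (7, 134, true), (11, 246, true), (10, 225, true), (9, 168, true), (8, 135, true), (10, 251, true), (9, 230, true), (9, 252, true), (8, 169, true), (12, 235, true), (11, 214, true),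 (10, 175, true), (9, 157, true), (8, 140, true), (7, 109, true), (6, 95, true), (5, 82, true), (4, 59, true), (9, 165, true), (8, 117, true), (7, 103, true), (6, 90, true), (8, 168, true), (9, 169, true), (10, 166, true), (9, 149, true), (8, 133, true), (7, 118, true), (6, 104, true), (9, 168, true), (8, 151, true), (7, 135, true), (8, 169, true), (7, 152, true), (9, 224, true), (8, 204, true), (7, 167, true), (6, 119, true), (8, 226, true), (7, 206, true), (6, 169, true), (9, 227, true), (8, 207, true), (7, 170, true), (8, 229, true), (7, 209, true), (7, 230, true), (9, 251, true), (8, 230, true), (8, 252, true), (0, 265, true), (2, 266, true), (4, 272, true), (7, 274, true), (3, 207, true), (2, 188, true), (4, 208, true), (3, 189, true), (4,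 227, true), (3, 207, true), (2, 170, true), (3, 228, true), (2, 208, true), (4, 230, true)]),
    ([23, 11, 0, 2, 3, 4], [(0, 267, true), (7, 265, true), (6, 237, true), (5, 216, true), (4, 177, true), (3, 111, true), (2, 97, true), (1, 72, true), (0, 61, true), (2, 182, true), (3, 189, true), (4, 167, true), (7, 208, true), (6, 189, true), (8, 252, true), (7, 218, true), (6, 198, true), (5, 161, true), (4, 113, true), (3, 99, true), (2, 74, true), (1, 63, true), (5, 221, true), (4, 201, true), (3, 164, true), (6, 230, true), (5, 203, true), (4, 166, true), (6, 204, true), (5, 167, true), (8, 227, true), (7, 207, true), (6, 170, true), (7, 229, true), (6, 209, true), (6, 230, true)], [(1, 66, true), (4, 155, true), (3, 93, true), (2, 68, true),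 (5, 156, true), (4, 94, true), (3, 69, true), (13, 244, true), (12, 223, true), (11, 184, true), (10, 166, true), (9, 149, true), (8, 133, true), (7, 118, true), (6, 104, true), (12, 245, true), (11, 224, true), (10, 185, true), (9, 167, true), (8, 150, true), (7, 134, true), (6, 119, true), (11, 247, true), (10, 226, true), (9, 187, true), (8, 169, true), (7, 152, true), (10, 250, true), (9, 229, true), (11, 251, true), (10, 230, true), (10, 248, true), (9, 207, true), (8, 188, true), (7, 170, true), (9, 249, true), (8, 208, true), (7, 189, true), (8, 250, true), (7, 209, true), (7, 252, true), (6, 124, true), (5, 82, true), (4, 70, true), (7, 148, true), (6, 132, true), (8, 151, true), (7, 135, true), (7, 152, true), (0, 265, true), (2, 267,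 true), (9, 268, true), (14, 271, true), (8, 242, true), (7, 221, true), (6, 182, true), (5, 116, true), (4, 102, true), (3, 77, true), (7, 244, true), (6, 223, true), (5, 184, true), (4, 118, true), (3, 104, true), (6, 248, true), (5, 227, true), (4, 188, true), (7, 249, true), (6, 228, true), (5, 189, true), (6, 250, true), (5, 229, true), (7, 242, true), (6, 221, true), (5, 201, true), (4, 164, true), (3, 116, true), (8, 244, true), (7, 223, true), (6, 203, true), (5, 166, true), (4, 118, true), (9, 248, true), (8, 227, true), (7, 207, true), (6, 170, true), (8, 250, true), (7, 229, true), (6, 209, true), (7, 251, true), (6, 230, true), (6, 252, true)]),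
    ([23, 12, 0, 2, 3, 4], [(0, 268, true), (5, 265, true), (4, 196, true), (3, 177, true), (2, 159, true), (1, 97, true), (0, 72, true), (2, 184, true), (3, 188, true), (4, 188, true), (3, 170, true), (3, 189, true), (3, 198, true), (2, 99, true), (1, 74, true), (3, 223, true), (4, 229, true)], [(1, 78, true), (4, 173, true), (3, 107, true), (2, 80, true), (4, 134, true), (9, 234, true), (8, 213, true), (7, 174, true), (6, 139, true), (5, 123, true), (4, 108, true), (3, 81, true), (7, 185, true), (6, 150, true), (5, 119, true), (8, 246, true), (7, 225, true), (6, 186, true), (5, 151, true), (9, 251, true), (8, 230, true), (8, 252, true), (7, 187, true), (6, 152, true), (6, 189, true), (7, 251, true), (6, 230, true), (6, 252, true), (5, 124,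 true), (4, 82, true), (7, 151, true), (6, 135, true), (0, 265, true), (2, 268, true), (7, 272, true), (6, 207, true), (5, 188, true), (4, 170, true), (5, 208, true), (4, 189, true)]),
    ([23, 13, 0, 2, 3, 4], [(0, 269, true), (5, 265, true), (4, 177, true), (3, 159, true), (2, 142, true), (1, 126, true), (0, 72, true), (2, 186, true), (4, 206, true), (3, 187, true), (5, 207, true), (4, 188, true), (6, 208, true), (5, 189, true), (5, 198, true), (4, 161, true), (3, 144, true), (2, 128, true), (1, 74, true), (3, 225, true), (4, 226, true), (5, 227, true), (6, 229, true)], [(1, 91, true), (2, 93, true), (3, 94, true), (8, 214, true), (7, 194, true), (6, 140, true), (5, 109, true), (4, 95, true), (9, 224, true), (8, 204, true), (7, 150, true),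 (6, 134, true), (10, 226, true), (9, 206, true), (8, 152, true), (9, 229, true), (8, 209, true), (8, 230, true), (0, 265, true), (2, 269, true), (7, 270, true), (12, 271, true), (6, 182, true), (5, 164, true), (4, 147, true), (3, 131, true), (2, 77, true), (5, 184, true), (4, 166, true), (3, 149, true), (2, 133, true), (6, 188, true), (5, 170, true), (5, 189, true), (5, 242, true), (4, 147, true), (3, 131, true), (2, 102, true), (6, 244, true), (5, 149, true), (4, 133, true), (3, 104, true), (5, 248, true), (6, 250, true), (7, 251, true), (8, 252, true)]),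
    ([23, 17, 0, 2, 3, 4], [(0, 273, true), (8, 265, true), (7, 237, true), (6, 216, true), (5, 177, true), (4, 159, true), (3, 142, true), (2, 126, true), (1, 84, true), (0, 61, true), (2, 183, true), (4, 205, true), (3, 186, true), (5, 209, true), (4, 187, true), (5, 188, true), (6, 189, true), (7, 252, true), (6, 218, true), (5, 161, true), (4, 144, true), (3, 128, true), (2, 86, true), (1, 63, true), (5, 222, true), (4, 202, true), (3, 165, true), (6, 229, true), (5, 209, true), (5, 225, true), (4, 168, true), (6, 226, true), (5, 169, true), (7, 227, true), (6, 170, true), (6, 230, true)], [(1, 153, true), (2, 155, true), (3, 156, true), (7, 235, true), (6, 194, true), (5, 175, true), (4, 157, true), (7, 228, true), (6, 208, true), (8, 230,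 true), (8, 250, true), (7, 209, true), (7, 252, true), (0, 265, true), (2, 273, true), (10, 274, true), (9, 248, true), (8, 227, true), (7, 188, true), (6, 170, true), (8, 249, true), (7, 228, true), (6, 189, true), (7, 251, true), (6, 230, true), (6, 252, true)]),
    ([23, 19, 0, 2, 3, 4], [(0, 275, true), (8, 265, true), (7, 237, true), (6, 216, true), (5, 177, true), (4, 159, true), (3, 111, true), (2, 97, true), (1, 84, true), (0, 61, true), (2, 183, true), (4, 203, true), (3, 184, true), (5, 207, true), (4, 188, true), (6, 204, true), (5, 185, true), (4, 167, true), (7, 208, true), (6, 189, true), (6, 209, true), (5, 170, true), (7, 252, true), (6, 218, true), (5, 179, true), (4, 113, true), (3, 99, true), (2, 86, true), (1, 63, true),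 (5, 222, true), (4, 202, true), (3, 165, true), (6, 229, true), (5, 209, true), (5, 223, true), (4, 166, true), (6, 224, true), (5, 167, true), (7, 230, true), (8, 251, true)], [(1, 190, true), (4, 233, true), (3, 212, true), (2, 192, true), (5, 234, true), (4, 213, true), (3, 193, true), (6, 251, true), (5, 230, true), (5, 252, true), (4, 194, true), (0, 265, true), (2, 275, true)]),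
    ([24, 1, 2, 0, 2, 7, 8], [(0, 279, true), (2, 278, true), (1, 3, true), (0, 1, true), (2, 5, true)], [(2, 3, true), (1, 1, true), (3, 5, true), (3, 30, false), (3, 5, false), (4, 30, false), (5, 44, false), (2, 4, false), (3, 29, false), (4, 37, false), (0, 278, true), (6, 279, true), (8, 280, true), (5, 121, true), (4, 106, true), (3, 37, true), (2, 29, true), (1, 4, true), (4, 44, true), (8, 225, true), (7, 205, true), (6, 151, true), (5, 135, true), (7, 212, true), (6, 192, true), (5, 138, true), (4, 107, true), (3, 30, true), (2, 5, true), (4, 152, true), (5, 212, true), (4, 192, true), (3, 107, true), (2, 30, true), (7, 218, true), (6, 198, true), (5, 144, true), (4, 113, true), (6, 226, true), (7, 229, true), (8, 230, true), (7, 205,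 true), (6, 151, true), (8, 206, true), (7, 152, true), (7, 209, true)]),
    ([24, 3, 0, 2, 7, 8], [(0, 281, true), (1, 278, true), (0, 6, true), (1, 8, true)], [(1, 6, true), (2, 8, true), (7, 252, false), (7, 230, false), (8, 251, false), (7, 189, false), (8, 228, false), (9, 249, false), (7, 119, false), (8, 185, false), (9, 224, false), (10, 245, false), (7, 54, false), (8, 114, false), (9, 180, false), (10, 219, false), (11, 240, false), (4, 33, false), (5, 41, false), (6, 50, false), (3, 31, false), (4, 39, false), (0, 278, true), (6, 281, true), (7, 283, true), (11, 284, true), (12, 286, true), (18, 289, true), (25, 291, true), (28, 292, true), (5, 123, true), (4, 108, true), (3, 39, true), (2, 31, true), (8, 246, true), (7, 225, true),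 (9, 251, true), (8, 230, true), (8, 252, true), (7, 123, true), (6, 108, true), (5, 48, true), (4, 39, true), (3, 31, true), (2, 9, true), (4, 54, true), (6, 246, true), (5, 225, true), (7, 251, true), (6, 230, true), (6, 252, true), (8, 219, true), (7, 199, true), (6, 180, true), (5, 129, true), (4, 114, true), (9, 214, true), (8, 194, true), (7, 175, true), (6, 124, true), (5, 109, true), (4, 49, true), (3, 40, true), (2, 32, true), (4, 53, true), (5, 54, true), (9, 250, true), (8, 229, true), (10, 251, true), (9, 230, true), (9, 236, true), (8, 195, true), (7, 176, true), (6, 125, true), (5, 110, true), (4, 41, true), (3, 33, true), (10, 245, true), (9, 204, true), (8, 185, true), (7, 134, true), (6, 119, true), (9, 246, true), (8, 205, true),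 (7, 186, true), (6, 135, true), (8, 250, true), (7, 209, true), (7, 252, true), (6, 174, true), (5, 39, true), (4, 31, true), (3, 18, true), (2, 13, true), (10, 235, true), (9, 214, true), (8, 175, true), (7, 49, true), (6, 40, true), (5, 32, true), (4, 19, true), (3, 14, true), (5, 53, true), (6, 54, true), (8, 251, true), (7, 230, true), (7, 252, true), (6, 185, true), (7, 186, true), (8, 189, true), (9, 236, true), (8, 215, true), (7, 125, true), (6, 110, true), (5, 41, true), (4, 33, true), (3, 20, true), (8, 240, true), (7, 219, true), (6, 129, true), (5, 114, true), (9, 247, true), (8, 226, true), (10, 236, true), (9, 215, true), (8, 141, true), (7, 125, true), (6, 110, true), (5, 50, true), (4, 41, true), (3, 33, true), (11, 240, true),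 (10, 219, true), (9, 145, true), (8, 129, true), (7, 114, true), (6, 54, true), (10, 247, true), (9, 226, true), (8, 152, true), (9, 251, true), (8, 230, true), (8, 252, true)]),
    ([24, 3, 1, 2], [(0, 281, true), (1, 279, true), (0, 7, true), (2, 12, true), (1, 8, true), (3, 19, true)], [(1, 7, true), (3, 12, true), (2, 8, true), (4, 19, true), (6, 252, false), (6, 230, false), (7, 251, false), (6, 189, false), (7, 228, false), (8, 249, false), (6, 119, false), (7, 185, false), (8, 224, false), (9, 245, false), (0, 279, true), (2, 281, true), (3, 282, true), (4, 283, true), (8, 286, true), (14, 289, true), (21, 291, true), (24, 292, true), (3, 13, true), (2, 9, true), (5, 214, true), (4, 194, true), (3, 175, true), (2, 14, true), (4, 250,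 true), (3, 229, true), (5, 251, true), (4, 230, true), (4, 236, true), (3, 195, true), (2, 176, true), (5, 245, true), (4, 204, true), (3, 185, true), (6, 246, true), (5, 205, true), (4, 186, true), (7, 250, true), (6, 209, true), (6, 252, true), (5, 174, true), (4, 123, true), (3, 108, true), (2, 18, true), (6, 246, true), (5, 225, true), (7, 251, true), (6, 230, true), (6, 252, true), (8, 235, true), (7, 214, true), (6, 175, true), (5, 124, true), (4, 109, true), (3, 19, true), (9, 251, true), (8, 230, true), (8, 252, true), (7, 185, true), (6, 134, true), (5, 119, true), (6, 186, true), (5, 135, true), (5, 189, true), (6, 236, true), (5, 215, true), (4, 20, true), (5, 240, true), (4, 219, true), (6, 247, true), (5, 226, true), (7, 236, true),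 (6, 215, true), (5, 141, true), (4, 50, true), (8, 240, true), (7, 219, true), (6, 145, true), (5, 54, true), (7, 247, true), (6, 226, true), (5, 152, true), (6, 251, true), (5, 230, true), (5, 252, true)]),
    ([24, 5, 14, 18, 20, 21, 0, 2, 7, 8], [(0, 283, true), (4, 278, true), (3, 210, true), (2, 190, true), (1, 171, true), (0, 6, true), (4, 250, true), (3, 229, true), (5, 251, true), (4, 230, true), (4, 252, true), (4, 212, true), (3, 192, true), (2, 173, true), (1, 8, true), (6, 250, true), (5, 229, true), (7, 251, true), (6, 230, true), (6, 238, true), (5, 197, true), (4, 178, true), (6, 250, true), (7, 252, true), (7, 239, true), (6, 198, true), (5, 179, true), (7, 250, true), (8, 252, true), (7, 204, true), (6, 185, true), (8, 205,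 true), (7, 186, true)], [(5, 231, true), (4, 210, true), (3, 171, true), (2, 105, true), (1, 15, true), (5, 249, true), (4, 228, true), (6, 251, true), (5, 230, true), (5, 252, true), (6, 233, true), (5, 212, true), (4, 173, true), (3, 107, true), (2, 17, true), (8, 251, true), (7, 230, true), (7, 252, true), (6, 178, true), (5, 143, true), (4, 112, true), (6, 247, true), (7, 249, true), (8, 252, true), (7, 179, true), (6, 144, true), (5, 113, true), (7, 226, true), (8, 228, true), (7, 187, false), (8, 226, false), (9, 247, false), (3, 33, false), (4, 41, false), (0, 278, true), (6, 283, true), (10, 288, true), (5, 123, true), (4, 108, true), (3, 39, true), (2, 31, true), (8, 246, true), (7, 225, true), (9, 251, true), (8, 230, true), (8, 252,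 true), (10, 215, true), (9, 195, true), (8, 176, true), (7, 125, true), (6, 110, true), (5, 50, true), (4, 41, true), (3, 33, true), (11, 219, true), (10, 199, true), (9, 180, true), (8, 129, true), (7, 114, true), (6, 54, true), (10, 230, true)])]

/-- part of the pairs -/
def twoEqs23 : List Pair :=
  [([24, 5, 14, 18, 20, 21, 1, 2], [(0, 283, true), (4, 279, true), (3, 211, true), (2, 191, true), (1, 172, true), (0, 7, true), (5, 250, true), (4, 209, true), (4, 251, true), (5, 233, true), (4, 212, true), (3, 173, true), (2, 12, true), (1, 8, true), (3, 19, true), (7, 251, true), (6, 230, true), (6, 252, true)], [(5, 232, true), (4, 211, true), (3, 172, true), (2, 106, true), (1, 16, true), (7, 228, true), (6, 208, true), (8, 229, true), (7,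 209, true), (8, 251, true), (7, 230, true), (7, 252, true), (6, 173, true), (5, 138, true), (4, 122, true), (3, 107, true), (2, 17, true), (5, 151, true), (6, 152, true), (5, 186, false), (6, 225, false), (7, 246, false), (0, 279, true), (2, 283, true), (6, 287, true), (5, 214, true), (4, 194, true), (3, 175, true), (6, 250, true), (5, 229, true), (7, 251, true), (6, 230, true), (6, 236, true), (5, 195, true), (4, 176, true), (7, 250, true), (6, 209, true), (6, 252, true)]),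
    ([24, 5, 14, 18, 20, 21, 2, 8], [(0, 283, true), (4, 280, true), (3, 212, true), (2, 192, true), (1, 173, true), (0, 8, true), (5, 250, true), (4, 229, true), (6, 251, true), (5, 230, true), (5, 239, true), (4, 198, true), (3, 179, true), (5, 250, true), (6, 252, true), (5, 205, true), (4, 186, true), (6, 206, true), (5, 187, true), (7, 209, true)], [(5, 233, true), (4, 212, true), (3, 173, true), (2, 107, true), (1, 17, true), (7, 251, true), (6, 230, true), (6, 252, true), (5, 179, true), (4, 144, true), (3, 113, true), (5, 226, true), (6, 228, true), (5, 187, false), (6, 226, false), (7, 247, false), (2, 41, false), (0, 280, true), (5, 283, true), (9, 288, true), (4, 193, true), (3, 139, true), (2, 123, true), (1, 39, true), (6, 247,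 true), (5, 226, true), (7, 250, true), (6, 229, true), (8, 251, true), (7, 230, true), (7, 252, true), (6, 208, true), (7, 209, true), (7, 215, true), (6, 176, true), (5, 141, true), (4, 125, true), (3, 50, true), (2, 41, true), (8, 219, true), (7, 180, true), (6, 145, true), (5, 129, true), (4, 54, true), (7, 230, true)]),
    ([24, 5, 14, 18, 20, 21, 4], [(0, 283, true), (4, 282, true), (3, 214, true), (2, 194, true), (1, 175, true), (4, 250, true), (3, 229, true), (5, 251, true), (4, 230, true)], [(5, 235, true), (4, 214, true), (3, 175, true), (2, 109, true), (1, 19, true), (6, 251, true), (5, 230, true), (5, 252, true), (5, 252, false), (5, 230, false), (6, 251, false), (0, 282, true), (1, 283, true), (5, 291, true), (8, 292, true), (0,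 13, true), (4, 215, true), (3, 195, true), (2, 176, true), (5, 219, true), (4, 199, true), (3, 180, true), (6, 226, true), (5, 206, true), (4, 187, true), (7, 215, true), (6, 195, true), (5, 176, true), (4, 141, true), (3, 50, true), (2, 20, true), (6, 219, true), (5, 199, true), (4, 180, true), (3, 145, true), (2, 54, true), (5, 226, true), (4, 206, true), (3, 187, true), (2, 152, true), (4, 230, true)]),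
    ([24, 5, 14, 18, 20, 21, 5, 14, 18, 20, 21], [(0, 283, true), (4, 283, true), (3, 213, true), (2, 193, true), (1, 174, true), (0, 9, true), (2, 250, true), (1, 229, true), (3, 251, true), (2, 230, true), (2, 252, true), (2, 228, true), (1, 208, true), (0, 189, true), (1, 229, true), (0, 209, true), (0, 230, true)], [(5, 236, true), (4, 215, true), (3, 176, true), (2, 110, true), (1, 20, true), (4, 245, true), (3, 224, true), (2, 185, true), (1, 119, true), (3, 249, true), (2, 228, true), (1, 189, true), (2, 251, true), (1, 230, true), (1, 252, true)]),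
    ([24, 12, 13, 17, 0, 2, 7, 8], [(0, 285, true), (8, 278, true), (7, 231, true), (6, 190, true), (5, 153, true), (4, 105, true), (3, 91, true), (2, 78, true), (1, 15, true), (0, 6, true), (5, 184, true), (4, 118, true), (6, 185, true), (5, 119, true), (7, 248, true), (6, 227, true), (5, 188, true), (8, 250, true), (7, 229, true), (9, 251, true), (8, 230, true), (8, 252, true), (8, 233, true), (7, 192, true), (6, 173, true), (5, 155, true), (4, 93, true), (3, 80, true), (2, 17, true), (1, 8, true), (3, 20, true), (4, 133, true), (9, 250, true), (8, 229, true), (10, 252, true), (9, 217, true), (8, 197, true), (7, 178, true), (6, 160, true), (5, 127, true), (4, 98, true), (3, 85, true), (7, 223, true), (6, 203, true), (5, 184, true), (8, 225,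 true), (7, 205, true), (6, 186, true), (9, 230, true), (9, 248, true), (8, 207, true), (7, 188, true), (10, 249, true), (9, 208, true), (8, 189, true), (9, 252, true), (8, 209, true), (8, 251, true), (9, 239, true), (8, 218, true), (7, 161, true), (6, 128, true), (5, 99, true), (4, 86, true), (6, 203, true), (7, 205, true), (8, 207, true), (11, 245, true), (10, 224, true), (9, 204, true), (8, 167, true), (7, 134, true), (12, 246, true), (11, 225, true), (10, 205, true), (9, 168, true), (8, 135, true)], [(3, 153, true), (2, 91, true), (1, 78, true), (4, 184, true), (3, 118, true), (5, 188, true), (6, 173, true), (5, 155, true), (4, 107, true), (3, 93, true), (2, 80, true), (4, 133, true), (5, 134, true), (11, 238, true), (10, 217, true), (9,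 178, true), (8, 160, true), (7, 143, true), (6, 127, true), (5, 112, true), (4, 98, true), (3, 85, true), (7, 223, true), (6, 203, true), (5, 184, true), (8, 224, true), (7, 204, true), (6, 185, true), (10, 246, true), (9, 225, true), (8, 205, true), (7, 186, true), (11, 251, true), (10, 230, true), (10, 252, true), (9, 206, true), (8, 187, true), (10, 207, true), (9, 188, true), (11, 208, true), (10, 189, true), (11, 251, true), (12, 252, true), (11, 218, true), (10, 198, true), (9, 161, true), (8, 144, true), (7, 128, true), (6, 113, true), (5, 99, true), (4, 86, true), (6, 203, true), (7, 204, true), (9, 225, true), (8, 205, true), (10, 226, true), (9, 206, true), (11, 227, true), (10, 207, true), (12, 229, true), (11, 209, true), (11, 230,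 true), (9, 169, false), (8, 168, false), (7, 167, false), (0, 278, true), (6, 285, true), (14, 286, true), (20, 287, true), (24, 288, true), (5, 123, true), (4, 108, true), (3, 39, true), (2, 31, true), (8, 246, true), (7, 225, true), (9, 251, true), (8, 230, true), (8, 252, true), (7, 125, true), (6, 110, true), (5, 50, true), (4, 41, true), (3, 33, true), (8, 132, true), (7, 117, true), (9, 133, true), (8, 118, true), (10, 134, true), (9, 119, true), (12, 235, true), (11, 194, true), (10, 157, true), (9, 124, true), (8, 95, true), (7, 82, true), (6, 49, true), (5, 40, true), (4, 32, true), (3, 19, true), (6, 53, true), (7, 54, true), (9, 149, true), (8, 133, true), (10, 151, true), (9, 135, true), (9, 152, true), (10, 225, true), (9, 205,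 true), (11, 227, true), (10, 207, true), (12, 229, true), (11, 209, true), (11, 230, true), (12, 236, true), (11, 195, true), (10, 158, true), (9, 125, true), (8, 96, true), (7, 83, true), (6, 41, true), (5, 33, true), (4, 20, true), (7, 149, true), (8, 152, true), (11, 250, true), (10, 229, true), (12, 252, true), (11, 224, true), (10, 204, true), (9, 167, true), (8, 134, true), (12, 225, true), (11, 205, true), (10, 168, true), (9, 135, true), (11, 229, true), (10, 209, true), (11, 235, true), (10, 214, true), (9, 157, true), (8, 109, true), (7, 95, true), (6, 82, true), (5, 40, true), (4, 32, true), (3, 14, true), (4, 53, true), (8, 149, true), (7, 133, true), (9, 151, true), (8, 135, true), (8, 152, true), (9, 224, true), (8, 204, true),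 (10, 227, true), (9, 207, true), (11, 229, true), (10, 209, true), (10, 230, true), (11, 236, true), (10, 215, true), (9, 158, true), (8, 110, true), (7, 96, true), (6, 83, true), (5, 50, true), (4, 41, true), (3, 33, true), (8, 149, true), (9, 152, true), (12, 251, true), (11, 230, true), (11, 252, true), (12, 236, true), (11, 195, true), (10, 158, true), (9, 110, true), (8, 96, true), (7, 83, true), (6, 50, true), (5, 41, true), (4, 33, true), (3, 20, true), (7, 149, true), (8, 152, true), (11, 250, true), (10, 229, true), (12, 252, true), (11, 219, true), (10, 199, true), (9, 162, true), (8, 114, true), (7, 100, true), (6, 87, true), (5, 54, true), (7, 224, true), (8, 227, true), (10, 250, true), (9, 229, true), (11, 251, true), (10, 230,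 true), (10, 251, true)]),
    ([24, 12, 13, 17, 1, 2], [(0, 285, true), (8, 279, true), (7, 232, true), (6, 191, true), (5, 154, true), (4, 106, true), (3, 92, true), (2, 79, true), (1, 16, true), (0, 7, true), (10, 227, true), (9, 207, true), (11, 230, true), (11, 250, true), (10, 209, true), (10, 252, true), (9, 155, true), (8, 138, true), (7, 122, true), (6, 107, true), (5, 93, true), (4, 80, true), (3, 17, true), (2, 12, true), (1, 8, true), (3, 19, true), (4, 20, true), (5, 133, true), (6, 134, true), (8, 151, true), (7, 135, true), (7, 152, true)], [(3, 154, true), (2, 92, true), (1, 79, true), (6, 233, true), (5, 212, true), (4, 155, true), (3, 93, true), (2, 80, true), (4, 133, true), (5, 168, false), (0, 279, true), (2, 285, true),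 (10, 287, true), (14, 291, true), (17, 292, true), (9, 235, true), (8, 194, true), (7, 157, true), (6, 109, true), (5, 95, true), (4, 82, true), (3, 19, true), (7, 149, true), (6, 133, true), (8, 151, true), (7, 135, true), (7, 152, true), (8, 224, true), (7, 204, true), (9, 227, true), (8, 207, true), (10, 229, true), (9, 209, true), (9, 230, true), (10, 236, true), (9, 195, true), (8, 158, true), (7, 110, true), (6, 96, true), (5, 83, true), (4, 20, true), (5, 149, true), (6, 152, true), (9, 250, true), (8, 229, true), (10, 252, true), (9, 229, true), (8, 209, true), (9, 236, true), (8, 215, true), (7, 158, true), (6, 110, true), (5, 96, true), (4, 83, true), (6, 149, true), (7, 152, true), (10, 251, true), (9, 230, true), (9, 252, true),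 (8, 162, true), (7, 114, true), (6, 100, true), (5, 87, true), (8, 224, true), (9, 227, true), (11, 247, true), (10, 226, true), (9, 169, true), (12, 236, true), (11, 215, true), (10, 158, true), (9, 141, true), (8, 110, true), (7, 96, true), (6, 83, true), (5, 50, true), (4, 20, true), (6, 149, true), (7, 152, true), (11, 251, true), (10, 230, true), (10, 252, true), (9, 162, true), (8, 145, true), (7, 114, true), (6, 100, true), (5, 87, true), (4, 54, true), (6, 224, true), (7, 226, true), (8, 227, true), (10, 247, true), (9, 226, true), (8, 169, true), (7, 152, true), (9, 251, true), (8, 230, true), (8, 252, true)]),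
    ([24, 12, 13, 17, 2, 8], [(0, 285, true), (8, 280, true), (7, 233, true), (6, 192, true), (5, 155, true), (4, 107, true), (3, 93, true), (2, 80, true), (1, 17, true), (0, 8, true), (2, 20, true), (3, 133, true), (4, 134, true), (9, 239, true), (8, 198, true), (7, 161, true), (6, 144, true), (5, 128, true), (4, 113, true), (3, 99, true), (2, 86, true), (4, 203, true), (5, 204, true), (7, 225, true), (6, 205, true), (8, 226, true), (7, 206, true), (9, 227, true), (8, 207, true), (10, 229, true), (9, 209, true), (10, 246, true), (9, 225, true), (8, 168, true), (7, 151, true), (6, 135, true), (9, 247, true), (8, 226, true), (7, 169, true), (6, 152, true), (8, 250, true), (7, 229, true)], [(3, 155, true), (2, 93, true), (1, 80, true), (3, 133,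 true), (5, 161, true), (4, 128, true), (3, 99, true), (2, 86, true), (4, 203, true), (5, 205, true), (6, 207, true), (5, 168, false), (0, 280, true), (5, 285, true), (13, 287, true), (17, 290, true), (4, 193, true), (3, 139, true), (2, 123, true), (1, 39, true), (6, 247, true), (5, 226, true), (7, 250, true), (6, 229, true), (8, 251, true), (7, 230, true), (7, 252, true), (6, 195, true), (5, 141, true), (4, 125, true), (3, 50, true), (2, 41, true), (7, 202, true), (6, 148, true), (5, 132, true), (8, 203, true), (7, 149, true), (6, 133, true), (9, 204, true), (8, 150, true), (7, 134, true), (10, 207, true), (11, 209, true), (11, 235, true), (10, 157, true), (9, 140, true), (8, 124, true), (7, 109, true), (6, 95, true), (5, 82, true), (4, 49,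 true), (3, 40, true), (2, 19, true), (8, 149, true), (7, 133, true), (9, 151, true), (8, 135, true), (8, 152, true), (9, 224, true), (8, 204, true), (10, 225, true), (9, 205, true), (11, 226, true), (10, 206, true), (12, 227, true), (11, 207, true), (13, 229, true), (12, 209, true), (12, 230, true), (12, 236, true), (11, 158, true), (10, 141, true), (9, 125, true), (8, 110, true), (7, 96, true), (6, 83, true), (5, 50, true), (4, 41, true), (3, 20, true), (6, 149, true), (7, 152, true), (12, 252, true), (11, 229, true), (13, 235, true), (12, 214, true), (11, 194, true), (10, 157, true), (9, 140, true), (8, 124, true), (7, 109, true), (6, 95, true), (5, 82, true), (4, 49, true), (3, 40, true), (2, 14, true), (6, 149, true), (5, 133, true), (7,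 151, true), (6, 135, true), (6, 152, true), (7, 224, true), (6, 204, true), (8, 225, true), (7, 205, true), (9, 226, true), (8, 206, true), (10, 227, true), (9, 207, true), (11, 229, true), (10, 209, true), (10, 230, true), (12, 240, true), (11, 219, true), (10, 199, true), (9, 162, true), (8, 145, true), (7, 129, true), (6, 114, true), (5, 100, true), (4, 87, true), (3, 54, true), (5, 224, true), (6, 225, true), (7, 226, true), (8, 227, true), (10, 250, true), (9, 229, true), (11, 251, true), (10, 230, true), (10, 252, true), (9, 205, true), (8, 168, true), (7, 151, true), (6, 135, true), (8, 206, true), (7, 169, true), (6, 152, true)]),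
    ([24, 14, 1, 2], [(0, 286, true), (6, 279, true), (5, 232, true), (4, 191, true), (3, 121, true), (2, 106, true), (1, 16, true), (0, 11, true), (7, 225, true), (6, 205, true), (5, 151, true), (4, 135, true), (6, 229, true), (5, 209, true), (6, 233, true), (5, 212, true), (4, 138, true), (3, 107, true), (2, 17, true), (1, 12, true), (5, 152, true)], [(1, 106, true), (6, 212, true), (5, 192, true), (4, 138, true), (3, 122, true), (2, 107, true), (4, 151, true), (5, 152, true), (0, 279, true), (2, 286, true), (8, 287, true), (12, 290, true), (18, 291, true), (7, 235, true), (6, 194, true), (5, 124, true), (4, 109, true), (3, 19, true), (2, 14, true), (6, 236, true), (5, 195, true), (4, 125, true), (3, 110, true), (2, 20, true), (5, 250, true),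 (4, 209, true), (4, 252, true), (3, 124, true), (2, 109, true), (4, 129, true), (3, 114, true), (5, 135, true), (7, 236, true), (6, 215, true), (5, 141, true), (4, 110, true), (3, 50, true), (8, 240, true), (7, 219, true), (6, 145, true), (5, 114, true), (4, 54, true), (7, 247, true), (6, 226, true), (5, 152, true)]),
    ([24, 14, 2, 8], [(0, 286, true), (6, 280, true), (5, 233, true), (4, 192, true), (3, 122, true), (2, 107, true), (1, 17, true), (0, 12, true), (4, 151, true), (7, 239, true), (6, 198, true), (5, 144, true), (4, 128, true), (3, 113, true), (5, 225, true), (6, 226, true), (7, 229, true), (9, 246, true), (8, 225, true), (7, 205, true), (6, 151, true), (5, 135, true), (8, 247, true), (7, 226, true), (6, 206, true), (5, 152, true),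 (7, 250, true), (6, 229, true), (5, 209, true)], [(1, 107, true), (3, 144, true), (2, 113, true), (4, 226, true), (0, 280, true), (5, 286, true), (11, 288, true), (14, 291, true), (4, 194, true), (3, 140, true), (2, 124, true), (1, 40, true), (5, 195, true), (4, 141, true), (3, 125, true), (2, 41, true), (6, 204, true), (5, 150, true), (4, 134, true), (7, 205, true), (6, 151, true), (5, 135, true), (6, 209, true), (6, 236, true), (5, 141, true), (4, 110, true), (3, 41, true), (2, 20, true), (5, 240, true), (4, 145, true), (3, 114, true), (6, 251, true), (7, 236, true), (6, 215, true), (5, 141, true), (4, 110, true), (3, 50, true), (2, 41, true), (8, 240, true), (7, 219, true), (6, 145, true), (5, 114, true), (4, 54, true), (7, 247, true), (6,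 226, true), (5, 152, true)]),
    ([25, 0, 5, 0, 5], [(0, 293, true), (4, 293, true), (3, 49, true), (2, 40, true), (1, 19, true), (0, 14, true), (2, 50, true), (1, 41, true), (0, 20, true), (1, 53, true), (0, 44, true), (0, 54, true)], [(2, 15, true), (1, 0, true), (1, 20, true)])]

/-- part of the pairs -/
def twoEqs24 : List Pair :=
  [([25, 3, 5, 9, 0, 5], [(0, 294, true), (2, 293, true), (1, 32, true), (3, 50, true), (2, 33, true), (4, 53, true), (5, 54, true)], [(3, 45, true), (2, 15, true), (1, 6, true), (4, 50, true), (3, 20, true), (3, 20, false), (2, 18, false), (0, 293, true), (4, 294, true), (3, 48, true), (2, 39, true), (1, 18, true), (0, 13, true), (4, 54, true), (3, 43, true)]),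
    ([25, 10, 0, 5], [(0, 295, true), (8, 293, true), (7, 235, true), (6, 194, true), (5, 175, true), (4, 157, true), (3, 109, true), (2, 82, true), (1, 70, true), (0, 59, true), (5, 164, true), (4, 116, true), (3, 102, true), (2, 89, true), (6, 168, true), (7, 169, true), (8, 165, true), (7, 148, true), (6, 132, true), (5, 117, true), (4, 103, true), (3, 90, true), (7, 168, true), (6, 151, true), (5, 135, true), (6, 169, true), (5, 152, true), (5, 167, true), (4, 119, true), (4, 170, true), (5, 228, true), (4, 208, true), (6, 230, true), (6, 250, true), (5, 209, true), (5, 252, true), (4, 176, true), (3, 96, true), (2, 71, true), (1, 60, true), (5, 182, true), (4, 131, true), (3, 116, true), (6, 186, true), (5, 135, true), (5, 187, true), (6,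 184, true), (5, 149, true), (4, 118, true), (7, 187, true), (6, 152, true), (6, 189, true), (5, 113, true), (4, 99, true), (3, 74, true), (2, 63, true), (6, 221, true), (5, 201, true), (4, 164, true), (7, 230, true), (6, 203, true), (5, 166, true), (7, 204, true), (6, 167, true), (9, 219, true), (8, 199, true), (7, 162, true), (6, 114, true), (5, 100, true), (4, 75, true), (3, 64, true), (5, 182, true), (7, 203, true), (6, 184, true), (9, 224, true), (8, 204, true), (7, 185, true), (10, 227, true), (9, 207, true), (8, 188, true), (12, 250, true), (11, 229, true), (10, 209, true), (11, 251, true), (10, 230, true)], [(1, 55, true), (8, 236, true), (7, 215, true), (6, 176, true), (5, 158, true), (4, 110, true), (3, 96, true), (2, 60, true), (6,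 184, true), (5, 133, true), (4, 118, true), (7, 187, true), (8, 185, true), (7, 150, true), (6, 134, true), (5, 119, true), (7, 188, true), (10, 249, true), (9, 228, true), (8, 189, true), (9, 251, true), (8, 230, true), (8, 252, true), (0, 293, true), (4, 295, true), (12, 298, true), (17, 300, true), (21, 301, true), (24, 302, true), (11, 241, true), (10, 200, true), (9, 181, true), (8, 163, true), (7, 115, true), (6, 88, true), (5, 76, true), (4, 65, true), (10, 244, true), (9, 203, true), (8, 184, true), (7, 166, true), (6, 118, true), (11, 246, true), (10, 205, true), (9, 186, true), (8, 168, true), (12, 247, true), (11, 206, true), (10, 187, true), (9, 169, true), (13, 248, true), (12, 207, true), (11, 188, true), (10, 170, true), (12,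 242, true), (11, 201, true), (10, 182, true), (9, 147, true), (8, 131, true), (7, 116, true), (6, 102, true), (5, 89, true), (4, 77, true), (11, 243, true), (10, 202, true), (9, 183, true), (8, 148, true), (7, 132, true), (6, 117, true), (5, 103, true), (4, 90, true), (10, 250, true), (9, 209, true), (9, 251, true), (10, 243, true), (9, 222, true), (8, 183, true), (7, 148, true), (6, 132, true), (5, 117, true), (4, 103, true), (11, 244, true), (10, 223, true), (9, 184, true), (8, 149, true), (7, 133, true), (6, 118, true), (5, 104, true), (10, 251, true), (9, 230, true), (9, 241, true), (8, 181, true), (7, 146, true), (6, 130, true), (5, 115, true), (4, 88, true), (10, 242, true), (9, 182, true), (8, 147, true), (7, 131, true), (6, 116, true),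 (5, 89, true), (11, 243, true), (10, 183, true), (9, 148, true), (8, 132, true), (7, 117, true), (6, 90, true), (10, 244, true), (9, 184, true), (8, 149, true), (7, 133, true), (6, 118, true), (11, 246, true), (10, 186, true), (9, 151, true), (8, 135, true), (10, 247, true), (9, 187, true), (8, 152, true), (9, 248, true), (8, 188, true)]),
    ([25, 10, 3, 5, 9], [(0, 295, true), (8, 294, true), (7, 234, true), (6, 193, true), (5, 174, true), (4, 156, true), (3, 108, true), (2, 81, true), (1, 69, true), (0, 58, true), (5, 164, true), (4, 131, true), (3, 102, true), (2, 89, true), (6, 165, true), (5, 132, true), (4, 103, true), (3, 90, true), (5, 166, true), (4, 133, true), (3, 104, true), (4, 167, true), (3, 134, true), (5, 168, true), (4, 135,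 true), (4, 169, true), (5, 170, true), (7, 243, true), (6, 222, true), (5, 183, true), (4, 148, true), (3, 117, true), (8, 245, true), (7, 224, true), (6, 185, true), (5, 150, true), (4, 119, true), (7, 247, true), (6, 226, true), (5, 187, true), (4, 152, true), (6, 249, true), (5, 228, true), (4, 189, true), (5, 245, true), (4, 224, true), (6, 251, true), (5, 230, true), (5, 252, true), (8, 249, true), (7, 208, true), (6, 189, true), (7, 251, true), (8, 252, true), (7, 229, true), (6, 209, true), (6, 230, true), (6, 252, true), (5, 160, true), (4, 112, true), (3, 85, true), (2, 73, true), (1, 62, true), (7, 242, true), (6, 221, true), (5, 201, true), (4, 182, true), (3, 164, true), (8, 248, true), (7, 227, true), (6, 207, true), (5, 188, true),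 (4, 170, true), (7, 251, true), (6, 230, true), (6, 243, true), (5, 202, true), (4, 183, true), (7, 249, true), (6, 208, true), (5, 189, true), (6, 250, true), (5, 209, true), (5, 251, true), (6, 245, true), (5, 224, true), (7, 252, true), (6, 227, true)], [(1, 58, true), (6, 158, true), (5, 125, true), (4, 96, true), (3, 83, true), (2, 60, true), (6, 183, true), (5, 132, true), (4, 117, true), (7, 187, true), (8, 184, true), (7, 149, true), (6, 133, true), (5, 118, true), (9, 187, true), (8, 152, true), (8, 186, true), (7, 135, true), (7, 188, true), (10, 240, true), (9, 219, true), (8, 180, true), (7, 162, true), (6, 114, true), (5, 100, true), (4, 87, true), (3, 64, true), (5, 183, true), (6, 184, true), (8, 224, true), (7, 185, true), (9,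 227, true), (8, 188, true), (11, 249, true), (10, 228, true), (9, 189, true), (10, 251, true), (9, 230, true), (9, 252, true), (0, 294, true), (2, 295, true), (10, 297, true), (17, 298, true), (22, 299, true), (25, 302, true), (9, 241, true), (8, 200, true), (7, 181, true), (6, 163, true), (5, 115, true), (4, 88, true), (3, 76, true), (2, 65, true), (8, 242, true), (7, 201, true), (6, 182, true), (5, 164, true), (4, 116, true), (3, 89, true), (2, 77, true), (7, 243, true), (6, 202, true), (5, 183, true), (4, 165, true), (3, 117, true), (2, 90, true), (6, 245, true), (5, 204, true), (4, 185, true), (3, 167, true), (2, 119, true), (5, 249, true), (4, 208, true), (3, 189, true), (4, 250, true), (3, 209, true), (3, 251, true), (4, 241, true), (3,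 220, true), (2, 163, true), (5, 244, true), (4, 223, true), (3, 166, true), (6, 246, true), (5, 225, true), (4, 168, true), (7, 247, true), (6, 226, true), (5, 169, true), (8, 248, true), (7, 227, true), (6, 170, true), (7, 241, true), (6, 220, true), (5, 146, true), (4, 130, true), (3, 101, true), (2, 65, true), (6, 245, true), (5, 224, true), (4, 150, true), (3, 134, true), (7, 252, true), (6, 220, true), (5, 146, true), (4, 130, true), (3, 115, true), (2, 101, true), (7, 221, true), (6, 147, true), (5, 131, true), (4, 116, true), (3, 102, true), (8, 222, true), (7, 148, true), (6, 132, true), (5, 117, true), (4, 103, true), (9, 223, true), (8, 149, true), (7, 133, true), (6, 118, true), (5, 104, true), (8, 225, true), (7, 151, true), (6,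 135, true), (7, 226, true), (6, 152, true), (6, 227, true)]),
    ([25, 11, 0, 5], [(0, 296, true), (7, 293, true), (6, 235, true), (5, 214, true), (4, 140, true), (3, 124, true), (2, 109, true), (1, 70, true), (0, 59, true), (5, 164, true), (4, 116, true), (3, 102, true), (2, 89, true), (6, 168, true), (7, 169, true), (8, 167, true), (7, 150, true), (6, 134, true), (5, 119, true), (7, 168, true), (6, 151, true), (5, 135, true), (6, 169, true), (5, 152, true), (7, 236, true), (6, 215, true), (5, 158, true), (4, 96, true), (3, 83, true), (2, 71, true), (1, 60, true), (5, 182, true), (4, 131, true), (3, 116, true), (6, 186, true), (5, 135, true), (5, 187, true), (6, 183, true), (5, 148, true), (4, 117, true), (7, 187, true), (6, 152, true), (6,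 184, true), (5, 118, true), (7, 187, true), (8, 188, true), (11, 251, true), (10, 230, true), (10, 252, true), (9, 179, true), (8, 161, true), (7, 144, true), (6, 113, true), (5, 99, true), (4, 86, true), (3, 74, true), (2, 63, true), (6, 221, true), (5, 201, true), (4, 164, true), (7, 230, true), (6, 202, true), (5, 165, true), (7, 209, true), (6, 166, true), (7, 167, true), (9, 226, true), (8, 169, true), (10, 227, true), (9, 170, true), (9, 228, true), (11, 240, true), (10, 219, true), (9, 180, true), (8, 145, true), (7, 114, true), (6, 100, true), (5, 87, true), (4, 75, true), (3, 64, true), (5, 182, true), (7, 202, true), (6, 183, true), (8, 203, true), (7, 184, true), (10, 224, true), (9, 204, true), (8, 185, true), (11, 226, true), (10,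 206, true), (9, 187, true), (12, 228, true), (11, 208, true), (10, 189, true), (11, 230, true)], [(1, 66, true), (4, 158, true), (3, 96, true), (2, 71, true), (5, 149, true), (4, 133, true), (6, 152, true), (0, 293, true), (4, 296, true), (11, 298, true), (16, 300, true), (20, 302, true), (27, 305, true), (31, 306, true), (10, 241, true), (9, 220, true), (8, 146, true), (7, 130, true), (6, 115, true), (5, 76, true), (4, 65, true), (9, 244, true), (8, 223, true), (7, 149, true), (6, 133, true), (5, 118, true), (10, 246, true), (9, 225, true), (8, 151, true), (7, 135, true), (9, 247, true), (8, 226, true), (7, 152, true), (8, 248, true), (7, 227, true), (9, 242, true), (8, 221, true), (7, 164, true), (6, 116, true), (5, 102, true), (4, 77, true),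 (8, 243, true), (7, 222, true), (6, 165, true), (5, 117, true), (4, 103, true), (9, 250, true), (8, 229, true), (10, 251, true), (9, 230, true), (9, 241, true), (8, 200, true), (7, 163, true), (6, 115, true), (5, 101, true), (4, 88, true), (10, 242, true), (9, 201, true), (8, 164, true), (7, 116, true), (6, 102, true), (5, 89, true), (11, 243, true), (10, 202, true), (9, 165, true), (8, 117, true), (7, 103, true), (6, 90, true), (10, 244, true), (9, 203, true), (8, 166, true), (7, 118, true), (6, 104, true), (9, 246, true), (8, 205, true), (7, 168, true), (10, 247, true), (9, 206, true), (8, 169, true), (11, 248, true), (10, 207, true), (9, 170, true), (10, 246, true), (9, 205, true), (8, 151, true), (7, 135, true), (9, 247, true), (8, 206,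 true), (7, 152, true), (8, 251, true), (9, 252, true), (8, 222, true), (7, 202, true), (6, 117, true), (9, 223, true), (8, 203, true), (7, 118, true), (10, 226, true), (9, 206, true), (11, 230, true)]),
    ([25, 11, 3, 5, 9], [(0, 296, true), (7, 294, true), (6, 234, true), (5, 213, true), (4, 139, true), (3, 123, true), (2, 108, true), (1, 69, true), (0, 58, true), (5, 164, true), (4, 131, true), (3, 102, true), (2, 89, true), (6, 165, true), (5, 132, true), (4, 103, true), (3, 90, true), (5, 166, true), (4, 133, true), (3, 104, true), (4, 167, true), (3, 134, true), (5, 168, true), (4, 135, true), (4, 169, true), (5, 170, true), (7, 245, true), (6, 224, true), (5, 185, true), (4, 150, true), (3, 119, true), (6, 251, true), (5, 230, true),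 (5, 252, true), (4, 186, true), (3, 151, true), (7, 247, true), (6, 226, true), (5, 187, true), (4, 152, true), (6, 251, true), (5, 230, true), (5, 252, true), (4, 178, true), (3, 127, true), (2, 73, true), (1, 62, true), (7, 242, true), (6, 221, true), (5, 201, true), (4, 182, true), (3, 164, true), (8, 248, true), (7, 227, true), (6, 207, true), (5, 188, true), (4, 170, true), (7, 251, true), (6, 230, true), (6, 246, true), (5, 205, true), (4, 186, true), (7, 251, true), (8, 252, true), (7, 228, true), (6, 208, true), (5, 189, true)], [(1, 69, true), (11, 236, true), (10, 215, true), (9, 176, true), (8, 158, true), (7, 141, true), (6, 125, true), (5, 110, true), (4, 96, true), (3, 83, true), (2, 71, true), (5, 148, true), (4, 132, true), (6,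 152, true), (5, 133, true), (7, 150, true), (6, 134, true), (8, 151, true), (7, 135, true), (7, 152, true), (9, 249, true), (8, 228, true), (10, 251, true), (9, 230, true), (9, 252, true), (8, 180, true), (7, 162, true), (6, 114, true), (5, 100, true), (4, 87, true), (3, 75, true), (5, 202, true), (6, 203, true), (8, 224, true), (7, 204, true), (9, 227, true), (8, 207, true), (11, 249, true), (10, 228, true), (9, 208, true), (0, 294, true), (2, 296, true), (9, 297, true), (16, 298, true), (21, 299, true), (24, 302, true), (31, 303, true), (35, 304, true), (41, 305, true), (45, 306, true), (8, 241, true), (7, 220, true), (6, 146, true), (5, 130, true), (4, 115, true), (3, 76, true), (2, 65, true), (7, 242, true), (6, 221, true), (5, 147, true),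 (4, 131, true), (3, 116, true), (2, 77, true), (6, 243, true), (5, 222, true), (4, 148, true), (3, 132, true), (2, 117, true), (7, 245, true), (6, 224, true), (5, 150, true), (4, 134, true), (3, 119, true), (6, 249, true), (5, 228, true), (7, 250, true), (6, 229, true), (8, 251, true), (7, 230, true), (7, 241, true), (6, 200, true), (5, 181, true), (4, 146, true), (3, 130, true), (2, 88, true), (8, 244, true), (7, 203, true), (6, 184, true), (5, 149, true), (4, 133, true), (9, 246, true), (8, 205, true), (7, 186, true), (6, 151, true), (5, 135, true), (8, 247, true), (7, 206, true), (6, 187, true), (5, 152, true), (7, 248, true), (6, 207, true), (5, 188, true), (8, 241, true), (7, 200, true), (6, 181, true), (5, 163, true), (4, 101, true), (3,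 88, true), (2, 65, true), (7, 245, true), (6, 204, true), (5, 185, true), (4, 167, true), (8, 252, true), (7, 200, true), (6, 181, true), (5, 163, true), (4, 115, true), (3, 101, true), (2, 88, true), (8, 201, true), (7, 182, true), (6, 164, true), (5, 116, true), (4, 102, true), (3, 89, true), (9, 202, true), (8, 183, true), (7, 165, true), (6, 117, true), (5, 103, true), (4, 90, true), (8, 203, true), (7, 184, true), (6, 166, true), (5, 118, true), (4, 104, true), (7, 205, true), (6, 186, true), (5, 168, true), (8, 206, true), (7, 187, true), (6, 169, true), (9, 207, true), (8, 188, true), (7, 170, true), (8, 200, true), (7, 181, true), (6, 146, true), (5, 130, true), (4, 115, true), (3, 76, true), (2, 65, true), (7, 204, true), (6, 185, true),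 (5, 150, true), (4, 134, true), (3, 119, true), (8, 241, true), (7, 220, true), (6, 200, true), (5, 181, true), (4, 146, true), (3, 130, true), (2, 76, true), (9, 243, true), (8, 222, true), (7, 202, true), (6, 183, true), (5, 148, true), (4, 132, true), (10, 244, true), (9, 223, true), (8, 203, true), (7, 184, true), (6, 149, true), (5, 133, true), (11, 246, true), (10, 225, true), (9, 205, true), (8, 186, true), (7, 151, true), (6, 135, true), (10, 247, true), (9, 226, true), (8, 206, true), (7, 187, true), (6, 152, true), (9, 249, true), (8, 228, true), (7, 208, true), (6, 189, true), (8, 246, true), (7, 225, true), (6, 205, true), (9, 247, true), (8, 226, true), (7, 206, true), (10, 251, true), (9, 230, true), (9, 252, true), (8, 202, true),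 (7, 148, true), (6, 132, true), (5, 103, true), (4, 90, true), (7, 203, true), (6, 149, true), (5, 133, true), (4, 104, true), (6, 206, true), (5, 152, true)]),
    ([25, 12, 0, 5], [(0, 297, true), (7, 293, true), (6, 214, true), (5, 194, true), (4, 175, true), (3, 109, true), (2, 82, true), (1, 70, true), (0, 59, true), (5, 164, true), (4, 116, true), (3, 102, true), (2, 89, true), (6, 168, true), (7, 169, true), (8, 165, true), (7, 148, true), (6, 132, true), (5, 117, true), (4, 103, true), (3, 90, true), (7, 168, true), (6, 151, true), (5, 135, true), (6, 169, true), (5, 152, true), (5, 167, true), (4, 119, true), (7, 250, true), (6, 229, true), (8, 251, true), (7, 230, true), (7, 236, true), (6, 195, true), (5, 176, true), (4, 158, true),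 (3, 96, true), (2, 71, true), (1, 60, true), (5, 182, true), (4, 131, true), (3, 116, true), (6, 186, true), (5, 135, true), (5, 187, true), (6, 184, true), (5, 149, true), (4, 118, true), (7, 187, true), (6, 152, true), (6, 188, true), (9, 249, true), (8, 228, true), (7, 189, true), (8, 250, true), (7, 229, true), (9, 252, true), (8, 218, true), (7, 198, true), (6, 161, true), (5, 113, true), (4, 99, true), (3, 74, true), (2, 63, true), (6, 221, true), (5, 201, true), (4, 164, true), (7, 230, true), (6, 203, true), (5, 166, true), (7, 204, true), (6, 167, true), (9, 227, true), (8, 207, true), (7, 170, true), (8, 229, true), (7, 209, true), (7, 230, true), (6, 114, true), (5, 100, true), (4, 75, true), (3, 64, true), (5, 182, true), (7, 203,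 true), (6, 184, true), (9, 224, true), (8, 204, true), (7, 185, true)], [(1, 78, true), (4, 176, true), (3, 110, true), (2, 83, true), (4, 150, true), (0, 293, true), (4, 297, true), (11, 299, true), (14, 301, true), (17, 303, true), (10, 220, true), (9, 200, true), (8, 181, true), (7, 115, true), (6, 88, true), (5, 76, true), (4, 65, true), (9, 224, true), (8, 204, true), (7, 185, true), (6, 119, true), (9, 243, true), (8, 222, true), (7, 202, true), (6, 183, true), (5, 90, true), (8, 244, true), (7, 223, true), (6, 203, true), (5, 184, true), (9, 251, true), (8, 230, true), (8, 241, true), (7, 200, true), (6, 181, true), (5, 101, true), (4, 76, true), (9, 245, true), (8, 204, true), (7, 185, true), (10, 251, true), (11, 252, true)]),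
    ([25, 12, 3, 5, 9], [(0, 297, true), (7, 294, true), (6, 213, true), (5, 193, true), (4, 174, true), (3, 108, true), (2, 81, true), (1, 69, true), (0, 58, true), (5, 164, true), (4, 131, true), (3, 102, true), (2, 89, true), (6, 165, true), (5, 132, true), (4, 103, true), (3, 90, true), (5, 166, true), (4, 133, true), (3, 104, true), (4, 167, true), (3, 134, true), (5, 168, true), (4, 135, true), (4, 169, true), (5, 170, true), (7, 243, true), (6, 222, true), (5, 183, true), (4, 148, true), (3, 117, true), (8, 245, true), (7, 224, true), (6, 185, true), (5, 150, true), (4, 119, true), (7, 247, true), (6, 226, true), (5, 187, true), (4, 152, true), (6, 249, true), (5, 228, true), (4, 189, true), (5, 245, true), (4, 224, true), (6, 251, true),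 (5, 230, true), (5, 252, true), (7, 250, true), (6, 229, true), (8, 251, true), (7, 230, true), (7, 252, true), (7, 217, true), (6, 197, true), (5, 178, true), (4, 112, true), (3, 85, true), (2, 73, true), (1, 62, true), (7, 242, true), (6, 221, true), (5, 201, true), (4, 182, true), (3, 164, true), (8, 248, true), (7, 227, true), (6, 207, true), (5, 188, true), (4, 170, true), (7, 251, true), (6, 230, true), (6, 243, true), (5, 202, true), (4, 183, true), (7, 249, true), (6, 208, true), (5, 189, true), (6, 250, true), (5, 209, true), (5, 251, true), (6, 245, true), (5, 224, true), (7, 252, true), (6, 228, true), (8, 250, true), (7, 229, true), (9, 252, true), (8, 230, true)], [(1, 81, true), (5, 176, true), (4, 141, true), (3, 110, true), (2,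 83, true), (4, 150, true), (5, 152, true), (5, 180, true), (4, 114, true), (3, 87, true), (0, 294, true), (2, 297, true), (9, 299, true), (12, 303, true), (8, 220, true), (7, 200, true), (6, 181, true), (5, 115, true), (4, 88, true), (3, 76, true), (2, 65, true), (7, 224, true), (6, 204, true), (5, 185, true), (4, 119, true), (7, 241, true), (6, 220, true), (5, 200, true), (4, 181, true), (3, 88, true), (2, 76, true), (8, 245, true), (7, 224, true), (6, 204, true), (5, 185, true), (9, 251, true), (8, 230, true), (8, 252, true)]),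
    ([25, 13, 0, 5], [(0, 298, true), (5, 293, true), (4, 157, true), (3, 140, true), (2, 124, true), (1, 95, true), (0, 59, true), (5, 166, true), (4, 118, true), (3, 104, true), (4, 168, true), (5, 169, true), (8, 225, true), (7, 205, true), (6, 168, true), (5, 151, true), (4, 135, true), (7, 226, true), (6, 206, true), (5, 169, true), (4, 152, true), (6, 227, true), (5, 207, true), (4, 170, true), (5, 229, true), (4, 209, true), (4, 230, true), (3, 110, true), (2, 83, true), (1, 60, true), (5, 183, true), (4, 132, true), (3, 117, true), (6, 187, true), (7, 185, true), (6, 150, true), (5, 134, true), (4, 119, true), (6, 179, true), (5, 144, true), (4, 128, true), (3, 86, true), (2, 63, true), (6, 222, true), (5, 202, true), (4, 165, true),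 (7, 229, true), (6, 209, true), (6, 225, true), (5, 168, true), (7, 226, true), (6, 169, true), (8, 228, true), (10, 240, true), (9, 219, true), (8, 180, true), (7, 162, true), (6, 145, true), (5, 129, true), (4, 87, true), (3, 64, true), (5, 183, true), (6, 186, true), (7, 187, true), (8, 188, true), (10, 249, true), (9, 189, true), (9, 251, true), (10, 252, true)], [(1, 91, true), (2, 96, true), (0, 293, true), (4, 298, true), (9, 301, true), (8, 165, true), (7, 148, true), (6, 132, true), (5, 103, true), (9, 166, true), (8, 149, true), (7, 133, true), (6, 104, true)]),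
    ([25, 14, 0, 5], [(0, 299, true), (3, 293, true), (2, 235, true), (1, 109, true), (0, 59, true), (5, 167, true), (4, 119, true), (5, 236, true), (4, 158, true), (3, 96, true), (2, 83, true), (1, 60, true), (5, 183, true), (4, 132, true), (3, 117, true), (6, 187, true), (7, 184, true), (6, 149, true), (5, 133, true), (4, 118, true), (8, 187, true), (7, 152, true), (7, 188, true), (10, 252, true), (9, 218, true), (8, 179, true), (7, 161, true), (6, 128, true), (5, 113, true), (4, 99, true), (3, 86, true), (2, 63, true), (6, 222, true), (5, 202, true), (4, 165, true), (7, 229, true), (6, 209, true), (6, 223, true), (5, 166, true), (7, 224, true), (6, 167, true), (8, 230, true), (7, 168, true), (8, 170, true), (9, 251, true), (10, 240, true),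 (9, 219, true), (8, 180, true), (7, 129, true), (6, 114, true), (5, 100, true), (4, 87, true), (3, 64, true), (5, 183, true), (6, 184, true), (8, 224, true), (7, 185, true), (9, 225, true), (8, 186, true), (10, 228, true), (9, 189, true), (9, 230, true)], [(1, 105, true), (4, 236, true), (3, 215, true), (2, 110, true), (0, 293, true), (4, 299, true), (7, 305, true), (11, 306, true), (6, 246, true), (7, 247, true), (8, 251, true), (9, 252, true), (8, 222, true), (7, 148, true), (6, 132, true), (5, 117, true), (9, 223, true), (8, 149, true), (7, 133, true), (6, 118, true), (10, 226, true), (9, 152, true), (9, 230, true)]),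
    ([26, 1, 4, 8, 1, 4, 8], [(0, 307, true), (3, 307, true), (2, 49, true), (1, 19, true), (0, 14, true), (1, 50, true), (0, 20, true), (0, 54, true)], [(3, 37, true), (2, 11, true), (1, 2, true), (2, 40, true), (1, 14, true), (1, 44, true)])]

/-- part of the pairs -/
def twoEqs25 : List Pair :=
  [([26, 10, 1, 4, 8], [(0, 310, true), (4, 307, true), (3, 214, true), (2, 194, true), (1, 109, true), (0, 59, true), (5, 167, true), (4, 119, true), (6, 215, true), (5, 195, true), (4, 158, true), (3, 96, true), (2, 83, true), (1, 60, true), (5, 183, true), (4, 132, true), (3, 117, true), (6, 187, true), (7, 184, true), (6, 149, true), (5, 133, true), (4, 118, true), (8, 187, true), (7, 152, true), (7, 188, true), (10, 250, true), (9, 229, true),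 (11, 251, true), (10, 230, true), (10, 240, true), (9, 199, true), (8, 180, true), (7, 162, true), (6, 129, true), (5, 114, true), (4, 100, true), (3, 87, true), (2, 64, true), (4, 183, true), (5, 184, true), (7, 224, true), (6, 185, true), (8, 225, true), (7, 186, true), (9, 227, true), (8, 188, true), (11, 249, true), (10, 228, true), (9, 189, true), (10, 250, true), (9, 229, true), (11, 252, true)], [(1, 56, true), (7, 235, true), (6, 194, true), (5, 175, true), (4, 157, true), (3, 70, true), (2, 59, true), (7, 164, true), (6, 116, true), (5, 102, true), (4, 89, true), (8, 168, true), (9, 169, true), (10, 170, true), (11, 228, true), (10, 208, true), (12, 230, true), (12, 250, true), (11, 209, true), (11, 252, true), (10, 179, true), (9,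 144, true), (8, 128, true), (7, 113, true), (6, 99, true), (5, 86, true), (4, 74, true), (3, 63, true), (7, 221, true), (6, 201, true), (5, 164, true), (8, 230, true), (7, 202, true), (6, 165, true), (8, 209, true), (7, 166, true), (8, 167, true), (10, 225, true), (9, 168, true), (11, 226, true), (10, 169, true), (12, 228, true), (0, 307, true), (3, 310, true), (7, 311, true), (10, 312, true), (17, 313, true), (22, 314, true), (27, 315, true), (31, 316, true), (37, 317, true), (41, 318, true), (46, 320, true), (53, 321, true), (6, 224, true), (5, 204, true), (4, 119, true), (5, 226, true), (4, 206, true), (6, 228, true), (5, 208, true), (7, 221, true), (6, 201, true), (5, 182, true), (4, 147, true), (8, 222, true), (7, 202, true), (6, 183, true),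 (5, 148, true), (9, 223, true), (8, 203, true), (7, 184, true), (6, 149, true), (10, 224, true), (9, 204, true), (8, 185, true), (7, 150, true), (11, 228, true), (10, 208, true), (9, 189, true), (10, 229, true), (9, 209, true), (9, 230, true), (8, 146, true), (7, 115, true), (6, 101, true), (5, 88, true), (4, 76, true), (3, 65, true), (7, 148, true), (6, 117, true), (5, 103, true), (4, 90, true), (6, 149, true), (5, 118, true), (4, 104, true), (5, 150, true), (4, 119, true), (4, 151, true), (5, 150, true), (4, 134, true), (6, 152, true), (8, 225, true), (7, 205, true), (6, 186, true), (5, 135, true), (7, 226, true), (6, 206, true), (5, 187, true), (8, 229, true), (7, 209, true), (7, 230, true), (6, 183, true), (5, 148, true), (4, 117, true),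 (7, 184, true), (6, 149, true), (5, 118, true), (8, 185, true), (7, 150, true), (6, 119, true), (7, 188, true), (10, 221, true), (9, 201, true), (8, 182, true), (7, 164, true), (6, 147, true), (5, 102, true), (4, 89, true), (3, 77, true), (9, 222, true), (8, 202, true), (7, 183, true), (6, 165, true), (5, 148, true), (4, 103, true), (3, 90, true), (8, 224, true), (7, 204, true), (6, 185, true), (5, 167, true), (4, 150, true), (9, 226, true), (8, 206, true), (7, 187, true), (6, 169, true), (5, 152, true), (8, 220, true), (7, 200, true), (6, 181, true), (5, 163, true), (4, 115, true), (3, 101, true), (9, 222, true), (8, 202, true), (7, 183, true), (6, 165, true), (5, 117, true), (4, 103, true), (10, 224, true), (9, 204, true), (8, 185, true),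 (7, 167, true), (6, 119, true), (9, 226, true), (8, 206, true), (7, 187, true), (6, 169, true), (10, 228, true), (9, 208, true), (8, 189, true), (9, 222, true), (8, 202, true), (7, 165, true), (6, 148, true), (5, 103, true), (4, 90, true), (8, 223, true), (7, 203, true), (6, 166, true), (5, 149, true), (4, 104, true), (7, 225, true), (6, 205, true), (5, 168, true), (4, 151, true), (8, 227, true), (7, 207, true), (6, 170, true), (7, 229, true), (6, 209, true), (6, 230, true), (6, 243, true), (5, 148, true), (4, 132, true), (7, 244, true), (6, 149, true), (5, 133, true), (8, 245, true), (7, 150, true), (6, 134, true), (9, 247, true), (8, 152, true), (8, 248, true), (9, 250, true), (10, 251, true), (11, 252, true)]),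
    ([26, 10, 4, 5], [(0, 310, true), (4, 308, true), (3, 215, true), (2, 195, true), (1, 110, true), (0, 60, true), (4, 185, true), (3, 134, true), (2, 119, true), (5, 219, true), (4, 199, true), (3, 180, true), (2, 129, true), (1, 64, true), (3, 186, true), (4, 189, true)], [(1, 59, true), (6, 158, true), (5, 110, true), (4, 96, true), (3, 83, true), (2, 60, true), (6, 183, true), (5, 132, true), (4, 117, true), (7, 187, true), (8, 184, true), (7, 149, true), (6, 133, true), (5, 118, true), (9, 187, true), (8, 152, true), (8, 185, true), (7, 134, true), (6, 119, true), (7, 188, true), (0, 308, true), (2, 310, true), (6, 312, true), (13, 313, true), (18, 315, true), (22, 317, true), (26, 318, true), (31, 320, true), (38, 321, true), (5, 221,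 true), (4, 201, true), (3, 116, true), (6, 222, true), (5, 202, true), (4, 117, true), (7, 223, true), (6, 203, true), (5, 118, true), (8, 224, true), (7, 204, true), (6, 119, true), (7, 228, true), (6, 208, true), (8, 229, true), (7, 209, true), (7, 230, true), (6, 181, true), (5, 101, true), (4, 88, true), (3, 76, true), (2, 65, true), (5, 183, true), (4, 103, true), (3, 90, true), (4, 184, true), (3, 104, true), (3, 185, true), (4, 186, true), (5, 186, true), (4, 135, true), (4, 187, true), (7, 221, true), (6, 201, true), (5, 182, true), (4, 147, true), (3, 116, true), (2, 77, true), (6, 222, true), (5, 202, true), (4, 183, true), (3, 148, true), (2, 117, true), (7, 224, true), (6, 204, true), (5, 185, true), (4, 150, true), (3, 119, true),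 (6, 226, true), (5, 206, true), (4, 187, true), (3, 152, true), (5, 220, true), (4, 200, true), (3, 181, true), (2, 88, true), (6, 222, true), (5, 202, true), (4, 183, true), (3, 90, true), (5, 224, true), (4, 204, true), (3, 185, true), (6, 226, true), (5, 206, true), (4, 187, true), (7, 228, true), (6, 208, true), (5, 189, true), (6, 222, true), (5, 202, true), (4, 148, true), (3, 117, true), (7, 223, true), (6, 203, true), (5, 149, true), (4, 118, true), (8, 225, true), (7, 205, true), (6, 151, true), (9, 227, true), (8, 207, true), (10, 229, true), (9, 209, true), (9, 230, true), (9, 243, true), (8, 165, true), (7, 148, true), (6, 132, true), (5, 117, true), (4, 103, true), (3, 90, true), (8, 244, true), (7, 166, true), (6, 149, true), (5,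 133, true), (4, 118, true), (3, 104, true), (7, 245, true), (6, 167, true), (5, 150, true), (4, 134, true), (3, 119, true), (6, 247, true), (5, 169, true), (4, 152, true), (5, 248, true), (4, 170, true), (4, 250, true), (5, 251, true), (6, 252, true)]),
    ([26, 10, 5, 9], [(0, 310, true), (4, 309, true), (3, 213, true), (2, 193, true), (1, 108, true), (0, 58, true), (5, 167, true), (4, 134, true), (8, 250, true), (7, 229, true), (9, 251, true), (8, 230, true), (8, 252, true), (8, 214, true), (7, 194, true), (6, 157, true), (5, 124, true), (4, 109, true), (3, 95, true), (2, 82, true), (1, 59, true), (6, 165, true), (5, 117, true), (4, 103, true), (3, 90, true), (5, 168, true), (6, 169, true), (7, 166, true), (6, 149, true), (5, 133, true),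 (4, 118, true), (3, 104, true), (6, 168, true), (5, 151, true), (4, 135, true), (5, 169, true), (4, 152, true), (6, 224, true), (5, 204, true), (4, 167, true), (3, 119, true), (5, 225, true), (4, 205, true), (3, 168, true), (6, 227, true), (5, 207, true), (4, 170, true), (5, 229, true), (4, 209, true), (4, 230, true), (5, 219, true), (4, 199, true), (3, 129, true), (2, 64, true), (4, 186, true)], [(1, 60, true), (5, 180, true), (4, 129, true), (3, 114, true), (2, 64, true), (4, 185, true), (5, 186, true), (6, 189, true), (0, 309, true), (3, 310, true), (7, 314, true), (12, 315, true), (6, 224, true), (5, 204, true), (4, 119, true), (5, 226, true), (4, 206, true), (6, 228, true), (5, 208, true), (7, 229, true), (6, 209, true), (6, 230, true),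 (5, 186, true), (4, 151, true), (6, 187, true), (5, 152, true)]),
    ([26, 11, 1, 4, 8], [(0, 311, true), (3, 307, true), (2, 175, true), (1, 140, true), (0, 109, true), (5, 236, true), (4, 215, true), (3, 176, true), (2, 141, true), (1, 110, true), (6, 240, true), (5, 219, true), (4, 180, true), (3, 145, true), (2, 114, true)], [(1, 67, true), (4, 214, true), (3, 194, true), (2, 70, true), (7, 218, true), (6, 198, true), (5, 144, true), (4, 128, true), (3, 74, true), (5, 225, true), (6, 226, true), (7, 229, true), (8, 230, true), (0, 307, true), (3, 311, true), (6, 315, true), (10, 316, true), (16, 319, true), (5, 186, true), (4, 151, true), (6, 187, true), (5, 152, true), (7, 222, true), (6, 202, true), (5, 183, true), (4, 132, true), (3,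 117, true), (8, 223, true), (7, 203, true), (6, 184, true), (5, 133, true), (4, 118, true), (9, 224, true), (8, 204, true), (7, 185, true), (6, 134, true), (5, 119, true), (8, 227, true), (7, 207, true), (6, 188, true), (9, 229, true), (8, 209, true), (8, 230, true), (7, 183, true), (6, 165, true), (5, 132, true), (4, 103, true), (3, 90, true), (6, 184, true), (5, 166, true), (4, 133, true), (3, 104, true), (5, 185, true), (4, 167, true), (3, 134, true), (6, 186, true), (5, 168, true), (4, 135, true), (5, 187, true), (4, 169, true), (6, 188, true), (5, 170, true)]),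
    ([26, 12, 1, 4, 8], [(0, 312, true), (7, 307, true), (6, 214, true), (5, 194, true), (4, 175, true), (3, 109, true), (2, 95, true), (1, 82, true), (0, 70, true), (3, 148, true), (2, 132, true), (4, 151, true), (3, 135, true), (3, 152, true), (7, 224, true), (6, 204, true), (5, 150, true), (4, 134, true), (8, 228, true), (7, 208, true), (9, 230, true), (9, 250, true), (8, 209, true), (8, 251, true), (9, 236, true), (8, 215, true), (7, 176, true), (6, 141, true), (5, 125, true), (4, 110, true), (3, 96, true), (2, 83, true), (1, 71, true), (4, 148, true), (3, 132, true), (5, 152, true), (4, 133, true), (6, 150, true), (5, 134, true), (7, 151, true), (6, 135, true), (6, 152, true), (8, 240, true), (7, 219, true), (6, 180, true), (5, 114, true),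 (4, 100, true), (3, 87, true), (2, 75, true), (4, 202, true), (5, 203, true), (7, 224, true), (6, 204, true), (8, 228, true), (7, 208, true), (9, 230, true)], [(1, 79, true), (2, 82, true), (5, 144, true), (4, 128, true), (3, 86, true), (5, 205, true), (6, 206, true), (0, 307, true), (3, 312, true), (10, 315, true), (14, 316, true), (20, 319, true), (9, 225, true), (8, 205, true), (7, 186, true), (10, 226, true), (9, 206, true), (8, 187, true), (11, 229, true), (10, 209, true), (10, 230, true), (9, 183, true), (8, 148, true), (7, 132, true), (6, 117, true), (5, 103, true), (4, 90, true), (8, 184, true), (7, 149, true), (6, 133, true), (5, 118, true), (4, 104, true), (7, 185, true), (6, 150, true), (5, 134, true), (4, 119, true), (6, 188, true),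 (9, 222, true), (8, 202, true), (7, 183, true), (6, 165, true), (5, 148, true), (4, 132, true), (10, 223, true), (9, 203, true), (8, 184, true), (7, 166, true), (6, 149, true), (5, 133, true), (11, 224, true), (10, 204, true), (9, 185, true), (8, 167, true), (7, 150, true), (6, 134, true), (12, 225, true), (11, 205, true), (10, 186, true), (9, 168, true), (8, 151, true), (7, 135, true), (11, 226, true), (10, 206, true), (9, 187, true), (8, 169, true), (7, 152, true), (10, 227, true), (9, 207, true), (8, 188, true), (7, 170, true), (9, 230, true)]),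
    ([26, 12, 4, 5], [(0, 312, true), (7, 308, true), (6, 215, true), (5, 195, true), (4, 176, true), (3, 110, true), (2, 96, true), (1, 83, true), (0, 71, true), (3, 148, true), (2, 132, true), (4, 152, true), (3, 133, true), (5, 150, true), (4, 134, true), (9, 219, true), (8, 199, true), (7, 180, true), (6, 145, true), (5, 129, true), (4, 114, true), (3, 100, true), (2, 87, true), (1, 75, true), (3, 202, true), (4, 203, true), (6, 224, true), (5, 204, true), (7, 225, true), (6, 205, true), (8, 226, true), (7, 206, true), (9, 228, true), (8, 208, true), (10, 229, true), (9, 209, true), (9, 230, true)], [(1, 82, true), (4, 141, true), (3, 125, true), (2, 83, true), (4, 151, true), (5, 152, true), (0, 308, true), (2, 312, true), (9, 315, true),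 (8, 225, true), (7, 205, true), (6, 186, true), (9, 226, true), (8, 206, true), (7, 187, true), (10, 229, true), (9, 209, true), (9, 230, true)]),
    ([26, 12, 5, 9], [(0, 312, true), (7, 309, true), (6, 213, true), (5, 193, true), (4, 174, true), (3, 108, true), (2, 94, true), (1, 81, true), (0, 69, true), (10, 243, true), (9, 222, true), (8, 183, true), (7, 165, true), (6, 148, true), (5, 132, true), (4, 117, true), (3, 103, true), (2, 90, true), (9, 245, true), (8, 224, true), (7, 185, true), (6, 167, true), (5, 150, true), (4, 134, true), (3, 119, true), (8, 247, true), (7, 226, true), (6, 187, true), (5, 169, true), (4, 152, true), (7, 249, true), (6, 228, true), (5, 189, true), (6, 244, true), (5, 223, true), (4, 166, true), (3, 133,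 true), (2, 104, true), (5, 245, true), (4, 224, true), (3, 167, true), (2, 134, true), (6, 247, true), (5, 226, true), (4, 169, true), (7, 250, true), (6, 229, true), (8, 251, true), (7, 230, true), (7, 245, true), (6, 204, true), (5, 167, true), (4, 150, true), (3, 134, true), (2, 119, true), (6, 251, true), (7, 252, true), (6, 228, true), (5, 208, true), (7, 230, true), (7, 250, true), (6, 209, true), (6, 251, true), (7, 252, true), (6, 230, true), (5, 175, true), (4, 157, true), (3, 140, true), (2, 124, true), (1, 70, true), (4, 151, true), (3, 135, true), (3, 152, true), (5, 228, true), (4, 208, true), (6, 230, true), (6, 240, true), (5, 199, true), (4, 180, true), (3, 162, true), (2, 75, true), (4, 207, true), (6, 249, true), (5, 208, true),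 (7, 250, true), (6, 209, true), (6, 252, true)], [(1, 83, true), (3, 145, true), (2, 87, true), (0, 309, true), (3, 312, true), (10, 316, true), (9, 222, true), (8, 202, true), (7, 183, true), (6, 117, true), (5, 103, true), (4, 90, true), (8, 223, true), (7, 203, true), (6, 184, true), (5, 118, true), (4, 104, true), (7, 224, true), (6, 204, true), (5, 185, true), (4, 119, true), (6, 227, true), (5, 207, true), (4, 188, true), (7, 229, true), (6, 209, true), (6, 230, true)]),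
    ([26, 13, 1, 4, 8], [(0, 313, true), (5, 307, true), (4, 124, true), (3, 109, true), (2, 95, true), (1, 82, true), (0, 59, true), (5, 165, true), (4, 117, true), (3, 103, true), (2, 90, true), (4, 168, true), (5, 169, true), (6, 166, true), (5, 149, true), (4, 133, true), (3, 118, true), (2, 104, true), (5, 168, true), (4, 151, true), (3, 135, true), (4, 169, true), (3, 152, true), (5, 224, true), (4, 204, true), (3, 167, true), (2, 119, true), (4, 225, true), (3, 205, true), (2, 168, true), (5, 215, true), (4, 195, true), (3, 158, true), (2, 125, true), (1, 60, true), (5, 186, true), (4, 135, true), (4, 188, true), (7, 250, true), (6, 229, true), (8, 251, true), (7, 230, true), (7, 240, true), (6, 199, true), (5, 180, true), (4, 162, true),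 (3, 114, true), (2, 64, true), (4, 185, true), (5, 188, true), (7, 249, true), (6, 189, true), (6, 250, true), (7, 252, true)], [(1, 92, true), (2, 95, true), (7, 218, true), (6, 198, true), (5, 144, true), (4, 128, true), (3, 99, true), (0, 307, true), (3, 313, true), (8, 315, true), (12, 316, true), (18, 319, true), (26, 320, true), (7, 135, true), (9, 222, true), (8, 202, true), (7, 148, true), (6, 117, true), (5, 103, true), (4, 90, true), (8, 223, true), (7, 203, true), (6, 149, true), (5, 118, true), (4, 104, true), (7, 224, true), (6, 204, true), (5, 150, true), (4, 119, true), (6, 227, true), (5, 207, true), (7, 229, true), (6, 209, true), (6, 230, true), (5, 165, true), (4, 148, true), (6, 166, true), (5, 149, true), (7, 167, true),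 (6, 150, true), (8, 168, true), (7, 151, true), (9, 169, true), (8, 152, true), (8, 170, true), (9, 243, true), (8, 222, true), (7, 132, true), (6, 117, true), (5, 103, true), (4, 90, true), (8, 244, true), (7, 223, true), (6, 133, true), (5, 118, true), (4, 104, true), (7, 246, true), (6, 225, true), (5, 135, true), (6, 248, true), (5, 227, true), (7, 250, true), (6, 229, true), (8, 251, true), (7, 230, true), (7, 252, true)]),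
    ([26, 17, 1, 4, 8], [(0, 317, true), (4, 307, true), (3, 140, true), (2, 109, true), (1, 82, true), (0, 70, true), (3, 148, true), (2, 132, true), (4, 151, true), (3, 135, true), (3, 152, true), (4, 141, true), (3, 110, true), (2, 83, true), (1, 71, true), (4, 148, true), (3, 132, true), (5, 152, true), (4, 134, true), (6, 145, true), (5, 129, true), (4, 114, true), (3, 87, true), (2, 75, true), (4, 202, true), (5, 204, true), (6, 205, true), (7, 206, true)], [(1, 154, true), (4, 235, true), (3, 214, true), (2, 157, true), (5, 230, true), (5, 239, true), (4, 198, true), (3, 161, true), (0, 307, true), (3, 317, true), (7, 319, true), (15, 321, true), (6, 148, true), (5, 117, true), (4, 90, true), (5, 149, true), (4, 118, true), (6, 150, true),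 (5, 119, true), (5, 151, true), (6, 152, true), (8, 243, true), (7, 222, true), (6, 165, true), (5, 132, true), (4, 103, true), (9, 244, true), (8, 223, true), (7, 166, true), (6, 133, true), (5, 104, true), (8, 245, true), (7, 224, true), (6, 167, true), (5, 134, true), (9, 247, true), (8, 226, true), (7, 169, true), (10, 248, true), (9, 227, true), (8, 170, true), (9, 250, true), (8, 229, true), (10, 251, true), (9, 230, true), (9, 252, true)]),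
    ([27, 2, 7, 8, 0, 2], [(0, 323, true), (6, 322, true), (5, 45, true), (4, 36, true), (3, 21, true), (2, 15, true), (1, 10, true), (0, 3, true), (3, 20, true), (6, 47, true), (5, 38, true), (4, 30, true), (3, 23, true), (2, 12, true), (1, 5, true), (3, 43, true), (4, 44, true), (4, 48, true), (3, 31, true), (2, 24, true), (1, 13, true), (4, 35, true), (4, 49, true), (3, 25, true), (2, 14, true), (4, 54, true), (3, 41, true), (2, 26, true), (4, 53, true), (5, 54, true)], [(3, 36, true), (2, 28, true), (1, 3, true), (4, 38, true), (3, 30, true), (2, 5, true), (2, 5, false), (0, 322, true), (6, 323, true), (5, 47, true), (4, 17, true), (3, 12, true), (2, 8, true), (1, 5, true), (2, 19, true), (3, 20, true), (3, 49, true), (2, 14, true), (2,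 50, true), (3, 51, true), (4, 53, true), (5, 54, true)])]

/-- part of the pairs -/
def twoEqs26 : List Pair :=
  [([27, 2, 7, 8, 2, 7, 8], [(0, 323, true), (6, 323, true), (5, 47, true), (4, 38, true), (3, 23, true), (2, 17, true), (1, 12, true), (0, 5, true), (3, 44, true), (3, 49, true), (2, 25, true), (1, 19, true), (0, 14, true), (3, 54, true), (2, 41, true), (1, 26, true), (0, 20, true), (1, 53, true), (2, 51, true), (1, 42, true), (0, 27, true), (1, 53, true), (0, 44, true), (0, 54, true)], [(3, 38, true), (2, 30, true), (1, 5, true), (2, 43, true), (1, 35, true), (1, 44, true)]),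
    ([27, 10, 0, 2], [(0, 324, true), (7, 322, true), (6, 190, true), (5, 171, true), (4, 136, true), (3, 120, true), (2, 105, true), (1, 78, true), (0, 55, true), (7, 243, true), (6, 222, true), (5, 183, true), (4, 165, true), (3, 117, true), (2, 103, true), (8, 245, true), (7, 224, true), (6, 185, true), (5, 167, true), (4, 119, true), (7, 249, true), (6, 228, true), (5, 189, true), (6, 245, true), (5, 224, true), (4, 167, true), (7, 251, true), (6, 230, true), (6, 252, true), (5, 168, true), (6, 169, true), (9, 247, true), (8, 226, true), (7, 169, true), (6, 152, true), (8, 249, true), (7, 228, true), (9, 251, true), (8, 230, true), (8, 252, true), (10, 233, true), (9, 212, true), (8, 192, true), (7, 173, true), (6, 155, true), (5, 122, true),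 (4, 107, true), (3, 93, true), (2, 80, true), (1, 57, true), (5, 165, true), (4, 132, true), (3, 103, true), (6, 168, true), (5, 135, true), (5, 166, true), (4, 104, true), (4, 167, true), (5, 169, true), (6, 168, true), (5, 151, true), (7, 170, true), (9, 250, true), (8, 229, true), (10, 251, true), (9, 230, true), (9, 252, true), (8, 193, true), (7, 174, true), (6, 139, true), (5, 123, true), (4, 108, true), (3, 81, true), (2, 58, true), (7, 165, true), (6, 132, true), (5, 103, true), (4, 90, true), (6, 167, true), (5, 134, true), (7, 169, true), (9, 185, true), (8, 167, true), (7, 150, true), (6, 134, true), (5, 119, true), (10, 246, true), (9, 225, true), (8, 186, true), (7, 168, true), (6, 151, true), (5, 135, true), (9, 251, true), (8,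 230, true), (8, 252, true), (7, 187, true), (6, 169, true), (5, 152, true), (6, 189, true), (7, 250, true), (6, 229, true), (8, 251, true), (7, 230, true), (7, 252, true), (6, 194, true), (5, 157, true), (4, 95, true), (3, 59, true), (8, 166, true), (7, 118, true), (6, 104, true), (7, 168, true), (8, 169, true), (11, 227, true), (10, 207, true), (9, 170, true), (10, 229, true), (9, 209, true), (9, 230, true), (9, 195, true), (8, 141, true), (7, 125, true), (6, 110, true), (5, 83, true), (4, 60, true), (8, 183, true), (7, 132, true), (6, 117, true), (9, 187, true), (10, 185, true), (9, 150, true), (8, 134, true), (7, 119, true), (9, 186, true), (8, 151, true), (7, 135, true), (8, 187, true), (7, 152, true), (8, 199, true), (7, 180, true), (6,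 87, true), (5, 64, true), (7, 183, true), (8, 189, true)], [(1, 55, true), (8, 233, true), (7, 212, true), (6, 173, true), (5, 155, true), (4, 107, true), (3, 93, true), (2, 57, true), (6, 166, true), (5, 133, true), (4, 104, true), (5, 167, true), (4, 134, true), (6, 169, true), (7, 170, true), (9, 251, true), (8, 230, true), (8, 252, true), (0, 322, true), (6, 324, true), (13, 328, true), (19, 329, true), (25, 330, true), (28, 332, true), (12, 202, true), (11, 183, true), (10, 148, true), (9, 132, true), (8, 117, true), (7, 90, true), (11, 204, true), (10, 185, true), (9, 150, true), (8, 134, true), (7, 119, true), (10, 206, true), (9, 187, true), (8, 152, true), (9, 207, true), (8, 188, true), (10, 208, true), (9, 189, true), (10, 241, true),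 (9, 200, true), (8, 163, true), (7, 130, true), (6, 65, true), (9, 244, true), (8, 203, true), (7, 166, true), (6, 133, true), (10, 246, true), (9, 205, true), (8, 168, true), (7, 135, true), (9, 247, true), (8, 206, true), (7, 169, true), (10, 250, true), (9, 209, true), (9, 251, true), (10, 243, true), (9, 222, true), (8, 165, true), (7, 148, true), (6, 103, true), (11, 247, true), (10, 226, true), (9, 169, true), (8, 152, true), (10, 250, true), (9, 229, true), (11, 241, true), (10, 220, true), (9, 200, true), (8, 163, true), (7, 101, true), (6, 88, true), (12, 244, true), (11, 223, true), (10, 203, true), (9, 166, true), (8, 104, true), (11, 248, true), (10, 227, true), (9, 207, true), (8, 170, true), (10, 251, true), (9, 230, true), (9,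 252, true)]),
    ([27, 10, 2, 7, 8], [(0, 324, true), (7, 323, true), (6, 192, true), (5, 173, true), (4, 138, true), (3, 122, true), (2, 107, true), (1, 80, true), (0, 57, true), (4, 165, true), (3, 132, true), (2, 103, true), (5, 168, true), (4, 135, true), (4, 167, true), (5, 169, true), (6, 168, true), (5, 151, true), (7, 169, true), (6, 152, true), (9, 250, true), (8, 229, true), (10, 235, true), (9, 214, true), (8, 194, true), (7, 175, true), (6, 157, true), (5, 124, true), (4, 109, true), (3, 95, true), (2, 82, true), (1, 59, true), (6, 165, true), (5, 117, true), (4, 103, true), (3, 90, true), (5, 168, true), (6, 169, true), (7, 166, true), (6, 149, true), (5, 133, true), (4, 118, true), (3, 104, true), (6, 168, true), (5, 151, true),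 (4, 135, true), (5, 169, true), (4, 152, true), (6, 224, true), (5, 204, true), (4, 167, true), (3, 119, true), (5, 225, true), (4, 205, true), (3, 168, true), (6, 227, true), (5, 207, true), (4, 170, true), (5, 229, true), (4, 209, true), (4, 230, true), (6, 250, true), (5, 229, true), (7, 251, true), (6, 230, true), (6, 252, true), (5, 195, true), (4, 176, true), (3, 125, true), (2, 60, true), (6, 186, true), (5, 135, true), (5, 189, true), (5, 196, true), (4, 111, true), (3, 61, true), (5, 185, true), (6, 189, true), (6, 209, true), (5, 113, true), (4, 63, true), (8, 224, true), (7, 204, true), (6, 167, true), (9, 230, true), (8, 199, true), (7, 162, true), (6, 114, true), (5, 64, true), (7, 185, true), (8, 188, true), (10, 250, true)], [(1,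 57, true), (5, 160, true), (4, 127, true), (3, 98, true), (2, 62, true), (8, 244, true), (7, 223, true), (6, 203, true), (5, 184, true), (4, 166, true), (9, 246, true), (8, 225, true), (7, 205, true), (6, 186, true), (5, 168, true), (10, 251, true), (9, 230, true), (9, 252, true), (8, 207, true), (7, 188, true), (6, 170, true), (7, 198, true), (6, 179, true), (5, 128, true), (4, 99, true), (3, 63, true), (7, 223, true), (6, 203, true), (5, 166, true), (8, 225, true), (7, 205, true), (6, 168, true), (9, 228, true), (8, 208, true), (11, 250, true), (10, 229, true), (9, 209, true), (0, 323, true), (6, 324, true), (13, 327, true), (17, 329, true), (23, 331, true), (25, 332, true), (30, 334, true), (33, 335, true), (12, 208, true), (11, 189, true),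 (11, 209, true), (12, 241, true), (11, 220, true), (10, 146, true), (9, 130, true), (8, 115, true), (7, 88, true), (6, 65, true), (11, 244, true), (10, 223, true), (9, 149, true), (8, 133, true), (7, 118, true), (12, 246, true), (11, 225, true), (10, 151, true), (9, 135, true), (11, 247, true), (10, 226, true), (9, 152, true), (10, 250, true), (9, 229, true), (11, 251, true), (10, 230, true), (10, 250, true), (9, 209, true), (9, 252, true), (8, 115, true), (7, 101, true), (6, 88, true), (9, 118, true), (8, 104, true), (11, 249, true), (10, 228, true), (12, 251, true), (11, 230, true), (11, 252, true), (10, 183, true), (9, 165, true), (8, 117, true), (7, 90, true)]),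
    ([27, 11, 0, 2], [(0, 325, true), (3, 322, true), (2, 231, true), (1, 171, true), (0, 153, true), (4, 252, true), (3, 212, true), (2, 173, true), (1, 155, true), (5, 251, true), (4, 230, true), (4, 234, true), (3, 174, true), (2, 156, true), (6, 249, true), (5, 208, true), (4, 189, true), (5, 251, true), (6, 252, true), (6, 235, true), (5, 214, true), (4, 194, true), (3, 157, true), (6, 229, true), (5, 209, true), (5, 230, true), (5, 236, true), (4, 158, true), (7, 252, true), (6, 219, true), (5, 162, true), (7, 251, true)], [(1, 66, true), (4, 155, true), (3, 93, true), (2, 68, true), (0, 322, true), (6, 325, true), (9, 327, true), (13, 331, true), (8, 249, true), (7, 189, true), (7, 250, true), (8, 251, true), (9, 252, true), (8, 229,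 true), (7, 209, true)]),
    ([27, 11, 2, 7, 8], [(0, 325, true), (3, 323, true), (2, 233, true), (1, 173, true), (0, 155, true), (4, 252, true), (3, 214, true), (2, 175, true), (1, 157, true), (4, 228, true), (3, 208, true), (5, 230, true), (5, 251, true), (6, 236, true), (5, 215, true), (4, 195, true), (3, 176, true), (2, 158, true), (5, 249, true), (4, 228, true), (6, 250, true), (5, 229, true), (7, 251, true), (6, 230, true), (6, 252, true), (5, 196, true), (4, 177, true), (3, 159, true), (6, 198, true), (5, 179, true), (4, 161, true), (7, 250, true), (8, 240, true), (7, 199, true), (6, 180, true), (5, 162, true), (7, 249, true), (8, 250, true), (9, 252, true)], [(1, 68, true), (2, 73, true), (5, 218, true), (4, 161, true), (3, 74, true),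 (5, 227, true), (6, 230, true), (0, 323, true), (6, 325, true), (9, 331, true), (8, 250, true), (9, 252, true)]),
    ([27, 12, 0, 2], [(0, 326, true), (7, 322, true), (6, 210, true), (5, 136, true), (4, 120, true), (3, 105, true), (2, 91, true), (1, 78, true), (0, 66, true), (3, 165, true), (2, 103, true), (4, 167, true), (6, 184, true), (5, 166, true), (4, 118, true), (3, 104, true), (5, 185, true), (4, 167, true), (3, 119, true), (6, 246, true), (5, 225, true), (4, 186, true), (3, 168, true), (7, 247, true), (6, 226, true), (5, 187, true), (4, 169, true), (8, 251, true), (7, 230, true), (7, 252, true), (6, 187, true), (5, 169, true), (4, 152, true), (6, 212, true), (5, 173, true), (4, 155, true), (3, 122, true), (2, 80, true), (1, 68, true),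 (4, 135, true), (7, 251, true), (6, 230, true), (6, 234, true), (5, 174, true), (4, 156, true), (3, 81, true), (2, 69, true), (12, 243, true), (11, 222, true), (10, 183, true), (9, 165, true), (8, 148, true), (7, 132, true), (6, 117, true), (5, 103, true), (4, 90, true), (11, 245, true), (10, 224, true), (9, 185, true), (8, 167, true), (7, 150, true), (6, 134, true), (5, 119, true), (10, 247, true), (9, 226, true), (8, 187, true), (7, 169, true), (6, 152, true), (9, 249, true), (8, 228, true), (7, 189, true), (8, 248, true), (7, 227, true), (6, 170, true), (7, 249, true), (6, 228, true), (8, 250, true), (7, 229, true), (9, 252, true), (8, 228, true), (7, 208, true), (6, 189, true), (7, 230, true), (7, 252, true), (6, 194, true), (5, 124, true),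 (4, 95, true), (3, 70, true), (6, 149, true), (5, 133, true), (7, 151, true), (6, 135, true), (6, 152, true), (7, 225, true), (6, 205, true), (8, 229, true), (7, 209, true), (7, 215, true), (6, 125, true), (5, 96, true), (4, 71, true), (7, 149, true), (6, 133, true), (8, 152, true), (7, 135, true), (7, 219, true), (6, 100, true), (5, 75, true), (7, 203, true), (9, 230, true)], [(1, 78, true), (4, 173, true), (3, 107, true), (2, 80, true), (4, 134, true), (0, 322, true), (6, 326, true), (13, 328, true), (19, 329, true), (25, 330, true), (28, 332, true), (33, 334, true), (36, 335, true), (12, 222, true), (11, 148, true), (10, 132, true), (9, 117, true), (8, 103, true), (7, 90, true), (11, 224, true), (10, 150, true), (9, 134, true), (8, 119, true),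 (10, 226, true), (9, 152, true), (9, 227, true), (10, 228, true), (12, 241, true), (11, 220, true), (10, 181, true), (9, 163, true), (8, 130, true), (7, 101, true), (6, 76, true), (13, 244, true), (12, 223, true), (11, 184, true), (10, 166, true), (9, 133, true), (8, 104, true), (12, 246, true), (11, 225, true), (10, 186, true), (9, 168, true), (8, 135, true), (11, 247, true), (10, 226, true), (9, 187, true), (8, 169, true), (12, 250, true), (11, 229, true), (13, 251, true), (12, 230, true), (12, 243, true), (11, 202, true), (10, 183, true), (9, 165, true), (8, 148, true), (13, 247, true), (12, 206, true), (11, 187, true), (10, 169, true), (9, 152, true), (12, 250, true), (11, 209, true), (11, 241, true), (10, 181, true), (9, 163, true), (8,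 88, true), (7, 76, true), (6, 65, true), (10, 244, true), (9, 184, true), (8, 166, true), (11, 248, true), (10, 188, true), (9, 170, true), (10, 251, true), (11, 252, true), (10, 228, true), (9, 189, true), (9, 230, true), (9, 243, true), (8, 103, true), (7, 90, true), (8, 250, true), (9, 252, true)]),
    ([27, 14, 0, 2], [(0, 328, true), (6, 322, true), (5, 231, true), (4, 171, true), (3, 153, true), (2, 136, true), (1, 105, true), (0, 78, true), (3, 185, true), (2, 119, true), (4, 247, true), (3, 226, true), (2, 187, true), (5, 248, true), (4, 227, true), (3, 188, true), (6, 249, true), (5, 228, true), (4, 189, true), (5, 251, true), (4, 230, true), (4, 252, true), (4, 233, true), (3, 155, true), (2, 138, true), (1, 80, true), (6, 234, true),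 (5, 156, true), (4, 139, true), (3, 123, true), (2, 81, true), (6, 186, true), (5, 151, true), (9, 247, true), (8, 226, true), (7, 187, true), (6, 152, true), (8, 248, true), (7, 227, true), (6, 188, true), (9, 249, true), (8, 228, true), (7, 189, true), (8, 250, true), (7, 229, true), (9, 252, true), (9, 235, true), (8, 214, true), (7, 194, true), (6, 157, true), (5, 124, true), (4, 109, true), (3, 82, true), (6, 150, true), (5, 134, true), (7, 151, true), (6, 135, true), (9, 229, true), (8, 209, true), (8, 230, true), (8, 236, true), (7, 158, true), (6, 141, true), (5, 110, true), (4, 83, true), (6, 150, true), (7, 152, true), (9, 252, true), (8, 219, true), (7, 162, true), (6, 114, true), (5, 87, true), (9, 251, true)], [(1, 105, true), (4,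 233, true), (3, 212, true), (2, 107, true), (0, 322, true), (6, 328, true), (12, 330, true), (15, 334, true), (18, 335, true), (11, 243, true), (10, 183, true), (9, 165, true), (8, 148, true), (7, 117, true), (6, 90, true), (10, 247, true), (9, 187, true), (8, 169, true), (7, 152, true), (9, 250, true), (10, 249, true), (9, 208, true), (8, 189, true), (9, 251, true), (10, 252, true), (9, 222, true), (8, 202, true), (7, 165, true), (6, 117, true), (10, 229, true), (9, 209, true)]),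
    ([27, 19, 2, 7, 8], [(0, 333, true), (5, 323, true), (4, 212, true), (3, 192, true), (2, 93, true), (1, 68, true), (0, 57, true), (4, 164, true), (3, 131, true), (2, 102, true), (5, 166, true), (4, 133, true), (3, 104, true), (6, 214, true), (5, 194, true), (4, 157, true), (3, 124, true), (2, 70, true), (1, 59, true), (6, 164, true), (5, 116, true), (4, 102, true), (3, 89, true), (7, 168, true), (8, 169, true), (9, 168, true), (8, 151, true), (7, 135, true), (8, 170, true), (9, 229, true), (8, 209, true), (8, 230, true), (7, 141, true), (6, 110, true), (5, 96, true), (4, 83, true), (3, 71, true), (2, 60, true), (6, 182, true), (5, 131, true), (4, 116, true), (7, 186, true), (6, 135, true), (6, 187, true), (7, 183, true), (6, 148, true),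 (5, 117, true), (8, 187, true), (7, 152, true), (7, 184, true), (6, 118, true), (8, 187, true), (9, 185, true), (8, 150, true), (7, 119, true), (8, 187, true), (7, 152, true), (7, 177, true), (6, 97, true), (5, 84, true), (4, 72, true), (3, 61, true), (5, 182, true), (6, 189, true), (7, 203, true), (8, 207, true), (9, 208, true), (10, 198, true), (9, 179, true), (8, 161, true), (7, 99, true), (6, 86, true), (5, 74, true), (4, 63, true), (8, 221, true), (7, 201, true), (6, 164, true), (9, 230, true), (8, 202, true), (7, 165, true), (9, 209, true), (8, 166, true), (9, 170, true), (10, 250, true), (11, 240, true), (10, 199, true), (9, 180, true), (8, 100, true), (7, 87, true), (6, 75, true), (5, 64, true), (7, 182, true), (9, 202, true), (8, 183,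 true), (10, 203, true), (9, 184, true), (12, 228, true), (11, 208, true), (10, 189, true), (11, 229, true), (10, 209, true)], [(1, 192, true), (2, 197, true), (4, 239, true), (3, 198, true), (0, 323, true), (6, 333, true), (11, 335, true), (10, 222, true), (9, 202, true), (8, 103, true), (11, 229, true), (10, 209, true)]),
    ([28, 2, 7, 8, 2, 7, 8], [(0, 337, true), (5, 337, true), (4, 45, true), (3, 28, true), (2, 15, true), (1, 3, true), (0, 0, true), (3, 47, true), (2, 30, true), (1, 17, true), (0, 5, true), (2, 50, true), (1, 33, true), (0, 20, true), (1, 52, true), (0, 35, true), (0, 54, true)], [(3, 38, true), (2, 30, true), (1, 5, true), (2, 43, true), (1, 35, true), (1, 44, true)]),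
    ([28, 10, 0, 8], [(0, 338, true), (7, 336, true), (6, 231, true), (5, 190, true), (4, 153, true), (3, 105, true), (2, 78, true), (1, 66, true), (0, 55, true), (7, 242, true), (6, 221, true), (5, 182, true), (4, 164, true), (3, 116, true), (2, 102, true), (8, 244, true), (7, 223, true), (6, 184, true), (5, 166, true), (4, 118, true), (3, 104, true), (7, 248, true), (6, 227, true), (5, 188, true), (4, 170, true), (6, 243, true), (5, 222, true), (4, 183, true), (3, 117, true), (7, 245, true), (6, 224, true), (5, 185, true), (4, 119, true), (6, 249, true), (5, 228, true), (4, 189, true), (5, 245, true), (4, 224, true), (6, 251, true), (5, 230, true), (5, 252, true), (8, 252, true), (7, 215, true), (6, 195, true), (5, 158, true), (4, 110, true),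 (3, 83, true), (2, 71, true), (1, 60, true), (5, 182, true), (4, 131, true), (3, 116, true), (6, 186, true), (5, 135, true), (5, 187, true), (6, 183, true), (5, 148, true), (4, 117, true), (7, 187, true), (6, 152, true), (6, 185, true), (5, 119, true), (5, 188, true), (8, 250, true), (7, 229, true), (9, 251, true), (8, 230, true), (8, 239, true), (7, 198, true), (6, 179, true), (5, 161, true), (4, 86, true), (3, 74, true), (2, 63, true), (6, 221, true), (5, 201, true), (4, 164, true), (7, 230, true), (6, 202, true), (5, 165, true), (7, 209, true), (6, 170, true), (7, 250, true), (8, 252, true)], [(1, 55, true), (8, 239, true), (7, 218, true), (6, 179, true), (5, 161, true), (4, 113, true), (3, 99, true), (2, 63, true), (6, 223, true), (5, 203,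 true), (4, 166, true), (7, 224, true), (6, 204, true), (5, 167, true), (8, 230, true), (7, 207, true), (6, 170, true), (6, 208, true), (8, 251, true), (9, 252, true), (0, 336, true), (3, 338, true), (10, 341, true), (12, 342, true), (20, 346, true), (25, 347, true), (27, 348, true), (9, 251, true), (10, 252, true), (9, 220, true), (8, 200, true), (7, 163, true), (6, 115, true), (5, 88, true), (4, 76, true), (3, 65, true), (8, 221, true), (7, 201, true), (6, 164, true), (5, 116, true), (4, 89, true), (3, 77, true), (7, 223, true), (6, 203, true), (5, 166, true), (4, 118, true), (8, 225, true), (7, 205, true), (6, 168, true), (9, 226, true), (8, 206, true), (7, 169, true), (10, 227, true), (9, 207, true), (8, 170, true), (9, 228, true), (8, 208,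 true), (10, 229, true), (9, 209, true), (9, 221, true), (8, 182, true), (7, 147, true), (6, 131, true), (5, 116, true), (4, 102, true), (3, 89, true), (10, 224, true), (9, 185, true), (8, 150, true), (7, 134, true), (6, 119, true), (9, 227, true), (8, 188, true), (10, 229, true), (11, 230, true), (10, 200, true), (9, 181, true), (8, 163, true), (7, 146, true), (6, 130, true), (5, 101, true), (4, 88, true), (3, 76, true), (11, 206, true), (10, 187, true), (9, 169, true), (8, 152, true), (10, 203, true), (9, 184, true), (8, 166, true), (7, 133, true), (6, 104, true), (9, 205, true), (8, 186, true), (7, 168, true), (6, 135, true), (8, 207, true), (7, 188, true), (6, 170, true)])]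

/-- part of the pairs -/
def twoEqs27 : List Pair :=
  [([28, 10, 2, 7, 8], [(0, 338, true), (7, 337, true), (6, 231, true), (5, 190, true), (4, 153, true), (3, 105, true), (2, 78, true), (1, 66, true), (0, 55, true), (7, 242, true), (6, 221, true), (5, 182, true), (4, 164, true), (3, 116, true), (2, 102, true), (8, 244, true), (7, 223, true), (6, 184, true), (5, 166, true), (4, 118, true), (3, 104, true), (7, 248, true), (6, 227, true), (5, 188, true), (4, 170, true), (6, 243, true), (5, 222, true), (4, 183, true), (3, 117, true), (7, 245, true), (6, 224, true), (5, 185, true), (4, 119, true), (6, 249, true), (5, 228, true), (4, 189, true), (5, 245, true), (4, 224, true), (6, 251, true), (5, 230, true), (5, 252, true), (8, 252, true), (7,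 212, true), (6, 192, true), (5, 155, true), (4, 107, true), (3, 80, true), (2, 68, true), (1, 57, true), (5, 164, true), (4, 131, true), (3, 102, true), (6, 165, true), (5, 132, true), (4, 103, true), (7, 168, true), (6, 135, true), (6, 167, true), (7, 169, true), (8, 170, true), (9, 215, true), (8, 195, true), (7, 141, true), (6, 110, true), (5, 96, true), (4, 83, true), (3, 71, true), (2, 60, true), (6, 182, true), (5, 131, true), (4, 116, true), (7, 186, true), (6, 135, true), (6, 187, true), (7, 183, true), (6, 148, true), (5, 117, true), (8, 187, true), (7, 152, true), (7, 184, true), (6, 118, true), (8, 187, true), (9, 185, true), (8, 150, true), (7, 119, true), (8, 187, true), (7, 152, true), (9, 217, true), (8, 197, true), (7, 178, true),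 (6, 98, true), (5, 85, true), (4, 73, true), (3, 62, true), (9, 242, true), (8, 221, true), (7, 201, true), (6, 182, true), (5, 164, true), (10, 248, true), (9, 227, true), (8, 207, true), (7, 188, true), (6, 170, true), (9, 251, true), (8, 230, true), (8, 243, true), (7, 202, true), (6, 183, true), (9, 249, true), (8, 208, true), (7, 189, true), (8, 250, true), (7, 209, true), (7, 251, true), (8, 244, true), (7, 223, true), (9, 249, true), (8, 228, true), (10, 252, true), (9, 229, true), (11, 251, true), (10, 230, true), (10, 240, true), (9, 199, true), (8, 180, true), (7, 100, true), (6, 87, true), (5, 75, true), (4, 64, true), (6, 182, true), (8, 202, true), (7, 183, true), (9, 203, true), (8, 184, true), (11, 228, true), (10, 208, true),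 (9, 189, true), (10, 229, true), (9, 209, true)], [(1, 57, true), (5, 160, true), (4, 127, true), (3, 98, true), (2, 62, true), (8, 244, true), (7, 223, true), (6, 203, true), (5, 184, true), (4, 166, true), (9, 246, true), (8, 225, true), (7, 205, true), (6, 186, true), (5, 168, true), (10, 251, true), (9, 230, true), (9, 252, true), (8, 207, true), (7, 188, true), (6, 170, true), (7, 198, true), (6, 179, true), (5, 128, true), (4, 99, true), (3, 63, true), (7, 223, true), (6, 203, true), (5, 166, true), (8, 225, true), (7, 205, true), (6, 168, true), (9, 228, true), (8, 208, true), (11, 250, true), (10, 229, true), (9, 209, true), (0, 337, true), (5, 338, true), (12, 341, true), (14, 343, true), (20, 345, true), (23, 346, true), (28, 348,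 true), (31, 349, true), (11, 251, true), (12, 252, true), (11, 221, true), (10, 201, true), (9, 164, true), (8, 116, true), (7, 89, true), (6, 77, true), (10, 225, true), (9, 205, true), (8, 168, true), (11, 226, true), (10, 206, true), (9, 169, true), (12, 227, true), (11, 207, true), (10, 170, true), (11, 230, true), (11, 248, true), (10, 207, true), (12, 250, true), (11, 209, true), (11, 251, true), (12, 242, true), (11, 221, true), (10, 164, true), (9, 147, true), (8, 131, true), (7, 116, true), (6, 89, true), (13, 245, true), (12, 224, true), (11, 167, true), (10, 150, true), (9, 134, true), (8, 119, true), (12, 248, true), (11, 227, true), (10, 170, true), (11, 250, true), (10, 229, true), (12, 251, true), (11, 230, true), (11, 244, true),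 (10, 203, true), (9, 149, true), (8, 133, true), (12, 246, true), (11, 205, true), (10, 151, true), (9, 135, true), (11, 248, true), (10, 207, true), (12, 247, true), (11, 206, true), (10, 169, true), (9, 152, true), (11, 248, true), (10, 207, true), (9, 170, true), (10, 250, true), (9, 209, true), (9, 251, true)]),
    ([28, 11, 0, 8], [(0, 339, true), (3, 336, true), (2, 153, true), (1, 91, true), (0, 55, true), (7, 244, true), (6, 223, true), (5, 184, true), (4, 166, true), (3, 118, true), (2, 104, true), (6, 248, true), (5, 227, true), (4, 188, true), (3, 170, true), (5, 236, true), (4, 215, true), (3, 176, true), (2, 110, true), (1, 60, true), (5, 185, true), (4, 134, true), (3, 119, true), (4, 189, true), (5, 239, true), (4, 218, true),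 (3, 128, true), (2, 63, true), (6, 225, true), (5, 205, true), (4, 168, true), (7, 230, true)], [(1, 66, true), (4, 161, true), (3, 99, true), (2, 74, true), (4, 223, true), (5, 227, true), (0, 336, true), (3, 339, true), (6, 341, true), (8, 345, true), (11, 348, true), (7, 248, true), (6, 227, true), (5, 170, true), (6, 250, true), (5, 229, true), (7, 251, true), (6, 230, true), (6, 244, true), (5, 203, true), (4, 104, true), (5, 246, true), (4, 205, true), (6, 248, true), (5, 207, true)]),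
    ([28, 11, 2, 7, 8], [(0, 339, true), (3, 337, true), (2, 153, true), (1, 91, true), (0, 55, true), (7, 244, true), (6, 223, true), (5, 184, true), (4, 166, true), (3, 118, true), (2, 104, true), (6, 248, true), (5, 227, true), (4, 188, true), (3, 170, true), (5, 233, true), (4, 212, true), (3, 173, true), (2, 107, true), (1, 57, true), (5, 167, true), (4, 134, true), (6, 169, true), (10, 251, true), (9, 230, true), (9, 252, true), (8, 176, true), (7, 158, true), (6, 141, true), (5, 125, true), (4, 110, true), (3, 96, true), (2, 60, true), (6, 184, true), (5, 133, true), (4, 118, true), (7, 187, true), (8, 185, true), (7, 150, true), (6, 134, true), (5, 119, true), (7, 186, true), (6, 151, true), (5, 135, true), (6, 187, true), (5, 152, true),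 (5, 188, true), (8, 249, true), (7, 228, true), (6, 189, true), (7, 238, true), (6, 217, true), (5, 160, true), (4, 98, true), (3, 62, true), (9, 244, true), (8, 223, true), (7, 203, true), (6, 184, true), (5, 166, true), (10, 248, true), (9, 227, true), (8, 207, true), (7, 188, true), (6, 170, true), (9, 251, true), (8, 230, true), (8, 252, true), (7, 199, true), (6, 180, true), (5, 100, true), (4, 64, true), (6, 184, true), (8, 228, true), (7, 189, true), (7, 229, true)], [(1, 68, true), (2, 73, true), (5, 218, true), (4, 161, true), (3, 74, true), (5, 227, true), (6, 230, true), (0, 337, true), (5, 339, true), (8, 345, true), (7, 170, true)]),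
    ([28, 12, 0, 8], [(0, 340, true), (9, 336, true), (8, 231, true), (7, 210, true), (6, 171, true), (5, 153, true), (4, 136, true), (3, 120, true), (2, 105, true), (1, 91, true), (0, 78, true), (3, 184, true), (2, 118, true), (4, 185, true), (3, 119, true), (5, 246, true), (4, 225, true), (3, 186, true), (6, 247, true), (5, 226, true), (4, 187, true), (7, 251, true), (6, 230, true), (6, 252, true), (5, 187, true), (4, 152, true), (4, 188, true), (5, 189, true), (6, 251, true), (5, 230, true), (5, 252, true), (4, 158, true), (3, 125, true), (2, 96, true), (1, 83, true), (3, 149, true), (4, 152, true), (7, 239, true), (6, 218, true), (5, 161, true), (4, 128, true), (3, 99, true), (2, 86, true), (4, 203, true), (5, 205, true), (6, 207, true)],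 [(1, 78, true), (4, 179, true), (3, 113, true), (2, 86, true), (4, 204, true), (6, 228, true), (5, 208, true), (0, 336, true), (3, 340, true), (12, 342, true), (20, 346, true), (25, 347, true), (27, 348, true), (30, 349, true), (11, 241, true), (10, 220, true), (9, 181, true), (8, 163, true), (7, 146, true), (6, 130, true), (5, 115, true), (4, 101, true), (3, 88, true), (12, 242, true), (11, 221, true), (10, 182, true), (9, 164, true), (8, 147, true), (7, 131, true), (6, 116, true), (5, 102, true), (4, 89, true), (13, 244, true), (12, 223, true), (11, 184, true), (10, 166, true), (9, 149, true), (8, 133, true), (7, 118, true), (6, 104, true), (12, 246, true), (11, 225, true), (10, 186, true), (9, 168, true), (8, 151, true), (7, 135, true), (11,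 247, true), (10, 226, true), (9, 187, true), (8, 169, true), (7, 152, true), (10, 248, true), (9, 227, true), (8, 188, true), (7, 170, true), (9, 249, true), (8, 228, true), (7, 189, true), (8, 250, true), (7, 229, true), (9, 242, true), (8, 221, true), (7, 201, true), (6, 116, true), (5, 89, true), (4, 77, true), (8, 245, true), (7, 224, true), (6, 204, true), (5, 119, true), (7, 248, true), (6, 227, true), (5, 207, true), (8, 250, true), (7, 229, true), (6, 209, true), (7, 251, true), (6, 230, true), (6, 241, true), (5, 163, true), (4, 88, true), (3, 65, true), (5, 247, true), (4, 169, true), (6, 244, true), (5, 166, true), (4, 149, true), (7, 246, true), (6, 168, true), (5, 151, true), (8, 248, true), (7, 170, true), (7, 247, true), (6, 152,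 true), (6, 248, true), (7, 250, true), (8, 251, true)]),
    ([28, 12, 2, 7, 8], [(0, 340, true), (9, 337, true), (8, 231, true), (7, 210, true), (6, 171, true), (5, 153, true), (4, 136, true), (3, 120, true), (2, 105, true), (1, 91, true), (0, 78, true), (3, 184, true), (2, 118, true), (4, 185, true), (3, 119, true), (5, 246, true), (4, 225, true), (3, 186, true), (6, 247, true), (5, 226, true), (4, 187, true), (7, 251, true), (6, 230, true), (6, 252, true), (5, 187, true), (4, 152, true), (4, 188, true), (5, 189, true), (6, 251, true), (5, 230, true), (5, 252, true), (4, 155, true), (3, 122, true), (2, 93, true), (1, 80, true), (3, 133, true), (4, 135, true), (4, 158, true), (3, 96, true), (2, 83, true), (4, 149, true), (5, 152, true), (7,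 238, true), (6, 217, true), (5, 160, true), (4, 98, true), (3, 85, true), (7, 223, true), (6, 203, true), (5, 184, true), (8, 227, true), (7, 207, true), (6, 188, true), (9, 230, true), (9, 240, true), (8, 199, true), (7, 180, true), (6, 162, true), (5, 100, true), (4, 87, true), (7, 227, true), (9, 249, true), (8, 228, true), (10, 250, true), (9, 229, true), (11, 252, true)], [(1, 80, true), (3, 127, true), (2, 85, true), (6, 225, true), (5, 205, true), (4, 186, true), (7, 230, true), (7, 239, true), (6, 198, true), (5, 179, true), (4, 128, true), (3, 86, true), (5, 205, true), (6, 208, true), (8, 250, true), (7, 209, true), (7, 252, true), (0, 337, true), (5, 340, true), (14, 343, true), (20, 346, true), (13, 242, true), (12, 221, true), (11,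 182, true), (10, 164, true), (9, 147, true), (8, 131, true), (7, 116, true), (6, 102, true), (5, 89, true), (14, 246, true), (13, 225, true), (12, 186, true), (11, 168, true), (10, 151, true), (9, 135, true), (13, 247, true), (12, 226, true), (11, 187, true), (10, 169, true), (9, 152, true), (12, 248, true), (11, 227, true), (10, 188, true), (9, 170, true), (11, 251, true), (10, 230, true), (10, 252, true), (9, 182, true), (8, 116, true), (7, 102, true), (6, 89, true), (5, 77, true), (8, 185, true), (7, 119, true), (7, 188, true)]),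
    ([28, 14, 2, 7, 8], [(0, 342, true), (8, 337, true), (7, 190, true), (6, 171, true), (5, 153, true), (4, 136, true), (3, 120, true), (2, 91, true), (1, 66, true), (0, 55, true), (7, 242, true), (6, 221, true), (5, 182, true), (4, 164, true), (3, 116, true), (2, 102, true), (8, 244, true), (7, 223, true), (6, 184, true), (5, 166, true), (4, 118, true), (3, 104, true), (7, 248, true), (6, 227, true), (5, 188, true), (4, 170, true), (6, 244, true), (5, 223, true), (4, 184, true), (3, 118, true), (7, 246, true), (6, 225, true), (5, 186, true), (8, 247, true), (7, 226, true), (6, 187, true), (9, 251, true), (8, 230, true), (8, 252, true), (7, 187, true), (6, 152, true), (6, 188, true), (7, 189, true), (8, 250, true), (7, 229, true), (9, 251,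 true), (8, 230, true), (8, 252, true), (7, 192, true), (6, 155, true), (5, 122, true), (4, 107, true), (3, 93, true), (2, 68, true), (1, 57, true), (5, 164, true), (4, 131, true), (3, 102, true), (6, 166, true), (5, 133, true), (4, 104, true), (5, 167, true), (4, 134, true), (6, 169, true), (7, 168, true), (6, 151, true), (5, 135, true), (6, 170, true), (6, 195, true), (5, 141, true), (4, 110, true), (3, 71, true), (2, 60, true), (6, 182, true), (5, 131, true), (4, 116, true), (7, 186, true), (6, 135, true), (6, 187, true), (7, 185, true), (6, 150, true), (5, 119, true), (6, 187, true), (5, 152, true), (6, 197, true), (5, 178, true), (4, 73, true), (3, 62, true), (9, 242, true), (8, 221, true), (7, 201, true), (6, 182, true), (5, 164, true),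 (10, 248, true), (9, 227, true), (8, 207, true), (7, 188, true), (6, 170, true), (9, 251, true), (8, 230, true), (8, 249, true), (7, 208, true), (6, 189, true), (7, 252, true), (6, 209, true), (6, 240, true), (5, 75, true), (4, 64, true), (6, 182, true)], [(1, 107, true), (3, 143, true), (2, 112, true), (4, 247, true), (5, 239, true), (4, 144, true), (3, 113, true), (5, 226, true), (0, 337, true), (5, 342, true), (13, 344, true), (17, 348, true), (20, 349, true), (12, 207, true), (11, 188, true), (10, 170, true), (11, 209, true), (12, 244, true), (11, 223, true), (10, 184, true), (9, 149, true), (8, 133, true), (7, 104, true), (11, 246, true), (10, 225, true), (9, 186, true), (8, 151, true), (7, 135, true), (10, 248, true), (9, 227, true), (8,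 188, true), (11, 247, true), (10, 226, true), (9, 187, true), (8, 169, true), (7, 152, true), (10, 248, true), (9, 227, true), (8, 188, true), (7, 170, true), (9, 250, true), (8, 229, true), (10, 251, true), (9, 230, true)]),
    ([29, 0, 3, 8, 14, 18, 0, 3, 8, 14, 18], [(0, 350, true), (4, 350, true), (3, 198, true), (2, 144, true), (1, 113, true), (0, 44, true), (1, 226, true), (2, 229, true), (3, 224, true), (2, 204, true), (1, 150, true), (0, 119, true), (2, 226, true), (1, 206, true), (0, 152, true), (1, 229, true), (0, 209, true)], [(5, 171, true), (4, 105, true), (3, 36, true), (2, 6, true), (1, 0, true), (5, 249, true), (4, 228, true), (6, 251, true), (5, 230, true), (5, 252, true), (4, 174, true), (3, 108, true), (2, 39, true), (1,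 9, true), (5, 249, true), (4, 228, true), (6, 251, true), (5, 230, true), (5, 252, true), (4, 179, true), (3, 113, true), (2, 53, true), (1, 44, true), (3, 228, true), (5, 245, true), (4, 224, true), (3, 185, true), (2, 119, true), (4, 249, true), (3, 228, true), (2, 189, true), (0, 357, true), (1, 365, true), (4, 366, true), (0, 54, true), (1, 252, true)]),
    ([29, 1, 0, 3, 8, 14, 18], [(0, 351, true), (1, 350, true)], [(1, 1, true), (8, 252, false), (8, 230, false), (9, 251, false), (8, 209, false), (9, 229, false), (10, 250, false), (7, 135, false), (8, 186, false), (9, 205, false), (10, 225, false), (11, 246, false), (6, 90, false), (7, 117, false), (8, 132, false), (9, 183, false), (10, 202, false), (11, 222, false), (12, 243, false),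 (9, 152, false), (10, 187, false), (11, 206, false), (12, 226, false), (13, 247, false), (8, 151, false), (7, 150, false), (5, 20, false), (6, 41, false), (7, 83, false), (8, 110, false), (9, 125, false), (10, 176, false), (11, 195, false), (12, 215, false), (13, 236, false), (11, 229, false), (12, 250, false), (7, 117, false), (8, 132, false), (9, 183, false), (10, 222, false), (11, 243, false), (5, 14, false), (6, 19, false), (7, 40, false), (8, 109, false), (9, 124, false), (10, 175, false), (11, 252, false), (11, 230, false), (12, 251, false), (10, 152, false), (9, 151, false), (5, 19, false), (3, 8, false), (4, 12, false), (5, 38, false), (6, 107, false), (7, 122, false), (8, 138, false), (9, 173, false), (10, 212, false), (11, 233, false),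 (10, 209, false), (11, 229, false), (9, 208, false), (10, 228, false), (2, 7, false), (3, 37, false), (4, 106, false), (5, 172, false), (0, 350, true), (4, 351, true), (5, 352, true), (8, 353, true), (9, 358, true), (16, 360, true), (23, 364, true), (24, 365, true), (27, 366, true), (3, 191, true), (2, 137, true), (1, 106, true), (0, 37, true), (6, 226, true), (5, 206, true), (4, 152, true), (5, 229, true), (4, 209, true), (4, 215, true), (3, 125, true), (2, 110, true), (1, 41, true), (5, 219, true), (4, 129, true), (3, 114, true), (6, 222, true), (5, 132, true), (4, 117, true), (7, 215, true), (6, 125, true), (5, 110, true), (4, 83, true), (3, 50, true), (2, 41, true), (1, 20, true), (4, 150, true), (5, 151, true), (7, 212, true), (6, 138,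 true), (5, 122, true), (4, 107, true), (3, 80, true), (2, 47, true), (1, 38, true), (5, 134, true), (7, 151, true), (6, 135, true), (6, 152, true), (6, 214, true), (5, 109, true), (4, 82, true), (3, 49, true), (2, 40, true), (7, 150, true), (6, 134, true), (9, 215, true), (8, 141, true), (7, 125, true), (6, 110, true), (5, 83, true), (4, 50, true), (3, 41, true), (7, 150, true), (8, 151, true), (9, 152, true), (9, 219, true), (8, 129, true), (7, 114, true), (6, 87, true), (5, 54, true), (8, 222, true), (7, 132, true), (6, 117, true), (5, 90, true), (7, 226, true), (8, 229, true), (9, 212, true), (8, 192, true), (7, 138, true), (6, 122, true), (5, 107, true), (4, 38, true), (3, 17, true), (2, 12, true), (1, 5, true), (5, 151, true), (6, 152,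 true), (7, 214, true), (6, 194, true), (5, 124, true), (4, 109, true), (3, 40, true), (2, 19, true), (1, 14, true), (6, 215, true), (5, 195, true), (4, 125, true), (3, 110, true), (2, 41, true), (1, 20, true), (5, 219, true), (4, 199, true), (3, 129, true), (2, 114, true), (6, 225, true), (5, 205, true), (4, 135, true), (5, 226, true), (4, 206, true), (6, 229, true), (5, 209, true), (5, 229, true), (6, 219, true), (5, 199, true), (4, 145, true), (3, 114, true), (2, 54, true), (5, 230, true), (5, 252, true)]),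
    ([29, 2, 4, 12, 19, 0, 3, 8, 14, 18], [(0, 352, true), (3, 350, true), (2, 86, true), (1, 53, true), (4, 204, true), (5, 206, true), (6, 209, true)], [(4, 190, true), (3, 78, true), (2, 10, true), (1, 3, true), (10, 234, true), (9, 213, true), (8, 193, true), (7, 174, true), (6, 108, true), (5, 81, true), (4, 18, true), (3, 13, true), (9, 185, true), (8, 150, true), (7, 119, true), (10, 249, true), (9, 228, true), (8, 189, true), (9, 251, true), (8, 230, true), (8, 252, true), (10, 251, true), (9, 230, true), (9, 252, true), (8, 198, true), (7, 144, true), (6, 86, true), (8, 206, true), (9, 209, true), (8, 150, true), (11, 209, false), (7, 117, false), (8, 148, false), (9, 183, false), (10, 252, false), (10, 230, false), (11, 251, false),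 (4, 19, false), (5, 40, false), (6, 109, false), (7, 140, false), (8, 175, false), (9, 214, false), (10, 235, false), (2, 8, false), (3, 38, false), (4, 107, false), (5, 173, false), (0, 350, true), (4, 352, true), (7, 364, true), (3, 195, true), (2, 141, true), (1, 110, true), (0, 41, true), (4, 199, true), (3, 145, true), (2, 114, true), (5, 202, true), (4, 148, true), (3, 117, true), (6, 209, true)]),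
    ([29, 2, 4, 12, 19, 2, 4, 12, 19], [(0, 352, true), (3, 352, true), (2, 83, true), (1, 50, true), (0, 20, true), (2, 145, true), (1, 87, true), (0, 54, true), (1, 148, true), (0, 90, true)], [(4, 192, true), (3, 80, true), (2, 12, true), (1, 5, true), (4, 194, true), (3, 124, true), (2, 82, true), (1, 14, true), (3, 151, true), (2, 135, true), (3, 202, true), (2, 148, true), (1, 90, true), (2, 209, true), (0, 361, true)])]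

/-- part of the pairs -/
def twoEqs28 : List Pair :=
  [([29, 6, 0, 3, 8, 14, 18], [(0, 354, true), (1, 350, true)], [(1, 21, true), (3, 31, true), (2, 24, true), (4, 35, true), (7, 209, false), (6, 208, false), (6, 189, false), (7, 208, false), (3, 42, false), (4, 111, false), (5, 177, false), (0, 350, true), (4, 354, true), (5, 363, true), (6, 364, true), (3, 196, true), (2, 142, true), (1, 111, true), (0, 42, true), (4, 206, true), (3, 187, true), (5, 209, true), (4, 189, true)]),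
    ([29, 6, 1], [(0, 354, true), (1, 351, true), (0, 22, true)], [(1, 22, true), (0, 351, true), (1, 354, true), (2, 357, true)]),
    ([29, 7, 1], [(0, 355, true), (1, 351, true), (0, 29, true)], [(1, 29, true), (0, 351, true), (1, 355, true), (2, 356, true)]),
    ([29, 12, 7], [(0, 358, true), (7, 355, true), (6, 197, true), (5, 143, true), (4, 85, true), (3, 52, true), (8, 226, true), (7, 206, true), (6, 187, true), (9, 229, true), (8, 209, true)], [(1, 85, true), (0, 355, true), (1, 358, true), (8, 363, true), (9, 364, true), (10, 365, true), (0, 30, true), (1, 32, true), (3, 50, true), (2, 33, true), (4, 54, true), (6, 208, true), (7, 209, true), (6, 180, true), (5, 145, true), (4, 87, true)]),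
    ([29, 14, 1], [(0, 359, true), (7, 351, true), (6, 191, true), (5, 172, true), (4, 137, true), (3, 106, true), (2, 46, true), (1, 7, true), (9, 226, true), (8, 206, true), (7, 152, true), (8, 228, true), (7, 208, true), (9, 229, true), (8, 209, true), (9, 250, true), (8, 229, true)], [(1, 106, true), (0, 351, true), (1, 359, true), (8, 360, true), (15, 361, true), (16, 364, true), (17, 365, true), (0, 1, true), (8, 192, true), (7, 173, true), (6, 138, true), (5, 107, true), (4, 47, true), (3, 8, true), (2, 5, true), (6, 152, true), (8, 250, true), (7, 229, true), (9, 235, true), (8, 214, true), (7, 194, true), (6, 175, true), (5, 109, true), (4, 49, true), (3, 19, true), (9, 250, true), (8, 229, true), (10, 251, true), (9, 230, true), (9,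 252, true), (8, 195, true), (7, 176, true), (6, 110, true), (5, 50, true), (4, 20, true), (7, 199, true), (6, 180, true), (5, 114, true), (4, 54, true), (6, 205, true), (5, 186, true), (7, 206, true), (6, 187, true), (8, 209, true), (7, 187, true), (6, 152, true), (7, 199, true), (6, 180, true), (5, 129, true), (4, 114, true)]),
    ([29, 17, 1], [(0, 362, true), (3, 351, true), (2, 232, true), (1, 154, true), (0, 22, true), (5, 252, true)], [(1, 154, true), (0, 351, true), (1, 362, true), (4, 365, true), (7, 366, true), (3, 240, true), (2, 162, true), (4, 252, true), (5, 252, true)])]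

/-- the pairs -/
def twoEqs : List Pair := twoEqs0 ++ twoEqs1 ++ twoEqs2 ++ twoEqs3 ++ twoEqs4 ++ twoEqs5 ++ twoEqs6 ++ twoEqs7 ++ twoEqs8 ++ twoEqs9 ++ twoEqs10 ++ twoEqs11 ++ twoEqs12 ++ twoEqs13 ++ twoEqs14 ++ twoEqs15 ++ twoEqs16 ++ twoEqs17 ++ twoEqs18 ++ twoEqs19 ++ twoEqs20 ++ twoEqs21 ++ twoEqs22 ++ twoEqs23 ++ twoEqs24 ++ twoEqs25 ++ twoEqs26 ++ twoEqs27 ++ twoEqs28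

/-- part of the exponents -/
def twoVecs0 : List (List ℤ) :=
  [[0, 0, 0, 1, 0, 1, 0, 0, 0, 0, 0, 0, 0, 0, 0, 0, 0, 0, 0, 0, 0, 0, 0, 0, 0, 0, 0, 0, 0, 0, 0, 0, 0, 0, 0, 0, 0, 0, 0, 0, 0, 0, 0, 0, 0, 0, 0, 0, 0, 0, 0, 0, 0, 0, 0, 0, 0, 0, 0, 0, 0, 0, 0, 0, 0, 0, 0, 0, 0, 0, 0, 0, 0, 0, 0, 0, 0, 0, 0, 0, 0, 0, 0, 0, 0, 0, 0, 0, 0, 0, 0, 0, 0, 0, 0, 0, 0, 0, 0, 0, 0, 0, 0, 0, 0, 0, 0, 0, 0, 0, 0, 0, 0, 0, 0, 0, 0, 0, 0, 0, 0, 0, 0, 0, 0, 0, 0, 0, 0, 0, 0, 0, 0, 0, 0, 0, 0, 0, 0, 0, 0, 0, 0, 0, 0, 0, 0, 0, 0, 0, 0, 0, 0, 0, 0, 0, 0, 0, 0, 0, 0, 0, 0, 0, 0, 0, 0, 0, 0, 0, 0, 0, 0, 0, 0, 0, 0, 0, 0, 0, 0, 0, 0, 0, 0, 0, 0, 0, 0, 0, 0, 0, 0, 0, 0, 0, 0, 0, 0, 0, 0, 0, 0, 0, 0, 0, 0, 0, 0, 0, 0, 0, 0, 0, 0, 0, 0, 0, 0, 0, 0, 0, 0, 0, 0, 0, 0, 0, 0,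 0, 0, 0, 0, 0, 0, 0, 0, 0, 0, 0, 0, 0, 0, 0, 0, 0, 0, 0, 0, 0, 0, 0, 0, 0, 0, 0, 0, 0, 0, 0, 0, 0, 0, 0, 0, 0, 0, 0, 0, 0, 0, 0, 0, 0, 0, 0, 0, 0, 0, 0, 0, 0, 0, 0, 0, 0, 0, 0, 0, 0, 0, 0, 0, 0, 0, 0, 0, 0, 0, 0, 0, 0, 0, 0, 0, 0, 0, 0, 0, 0, 0, 0, 0, 0, 0, 0, 0, 0, 0, 0, 0, 0, 0, 0, 0, 0, 0, 0, 0, 0, 0, 0, 0, 0, 0, 0, 0, 0, 0, 0, 0, 0, 0, 0, 0, 0, 0, 0, 0, 0, 0, 0, 0, 0, 0, 0, 0, 0, 0, 0, 0, 0, 0, 0, 0, 0, 0],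
    [0, 0, 0, 0, 1, 1, 0, 0, 0, 0, 0, 0, 0, 0, 0, 0, 0, 0, 0, 0, 0, 0, 0, 0, 0, 0, 0, 0, 0, 0, 0, 0, 0, 0, 0, 0, 0, 0, 0, 0, 0, 0, 0, 0, 0, 0, 0, 0, 0, 0, 0, 0, 0, 0, 0, 0, 0, 0, 0, 0, 0, 0, 0, 0, 0, 0, 0, 0, 0, 0, 0, 0, 0, 0, 0, 0, 0, 0, 0, 0, 0, 0, 0, 0, 0, 0, 0, 0, 0, 0, 0, 0, 0, 0, 0, 0, 0, 0, 0, 0, 0, 0, 0, 0, 0, 0, 0, 0, 0, 0, 0, 0, 0, 0, 0, 0, 0, 0, 0, 0, 0, 0, 0, 0, 0, 0, 0, 0, 0, 0, 0, 0, 0, 0, 0, 0, 0, 0, 0, 0, 0, 0, 0, 0, 0, 0, 0, 0, 0, 0, 0, 0, 0, 0, 0, 0, 0, 0, 0, 0, 0, 0, 0, 0, 0, 0, 0, 0, 0, 0, 0, 0, 0, 0, 0, 0, 0, 0, 0, 0, 0, 0, 0, 0, 0, 0, 0, 0, 0, 0, 0, 0, 0, 0, 0, 0, 0, 0, 0, 0, 0, 0, 0, 0, 0, 0, 0, 0, 0, 0, 0, 0, 0, 0, 0, 0, 0, 0, 0, 0, 0, 0, 0, 0, 0, 0, 0, 0, 0, 0, 0, 0, 0, 0, 0, 0, 0, 0, 0, 0, 0, 0, 0, 0, 0, 0, 0, 0, 0,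 0, 0, 0, 0, 0, 0, 0, 0, 0, 0, 0, 0, 0, 0, 0, 0, 0, 0, 0, 0, 0, 0, 0, 0, 0, 0, 0, 0, 0, 0, 0, 0, 0, 0, 0, 0, 0, 0, 0, 0, 0, 0, 0, 0, 0, 0, 0, 0, 0, 0, 0, 0, 0, 0, 0, 0, 0, 0, 0, 0, 0, 0, 0, 0, 0, 0, 0, 0, 0, 0, 0, 0, 0, 0, 0, 0, 0, 0, 0, 0, 0, 0, 0, 0, 0, 0, 0, 0, 0, 0, 0, 0, 0, 0, 0, 0, 0, 0, 0, 0, 0, 0, 0, 0, 0, 0, 0, 0, 0, 0, 0, 0, 0, 0, 0, 0, 0, 0],
    [0, 0, 0, 0, 0, 0, 0, 0, 0, 0, 0, 1, 0, 0, 1, 0, 0, 0, 0, 0, 0, 0, 0, 0, 0, 0, 0, 0, 0, 0, 0, 0, 0, 0, 0, 0, 0, 0, 0, 0, 0, 0, 0, 0, 0, 0, 0, 0, 0, 0, 0, 0, 0, 0, 0, 0, 0, 0, 0, 0, 0, 0, 0, 0, 0, 0, 0, 0, 0, 0, 0, 0, 0, 0, 0, 0, 0, 0, 0, 0, 0, 0, 0, 0, 0, 0, 0, 0, 0, 0, 0, 0, 0, 0, 0, 0, 0, 0, 0, 0, 0, 0, 0, 0, 0, 0, 0, 0, 0, 0, 0, 0, 0, 0, 0, 0, 0, 0, 0, 0, 0, 0, 0, 0, 0, 0, 0, 0, 0, 0, 0,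 0, 0, 0, 0, 0, 0, 0, 0, 0, 0, 0, 0, 0, 0, 0, 0, 0, 0, 0, 0, 0, 0, 0, 0, 0, 0, 0, 0, 0, 0, 0, 0, 0, 0, 0, 0, 0, 0, 0, 0, 0, 0, 0, 0, 0, 0, 0, 0, 0, 0, 0, 0, 0, 0, 0, 0, 0, 0, 0, 0, 0, 0, 0, 0, 0, 0, 0, 0, 0, 0, 0, 0, 0, 0, 0, 0, 0, 0, 0, 0, 0, 0, 0, 0, 0, 0, 0, 0, 0, 0, 0, 0, 0, 0, 0, 0, 0, 0, 0, 0, 0, 0, 0, 0, 0, 0, 0, 0, 0, 0, 0, 0, 0, 0, 0, 0, 0, 0, 0, 0, 0, 0, 0, 0, 0, 0, 0, 0, 0, 0, 0, 0, 0, 0, 0, 0, 0, 0, 0, 0, 0, 0, 0, 0, 0, 0, 0, 0, 0, 0, 0, 0, 0, 0, 0, 0, 0, 0, 0, 0, 0, 0, 0, 0, 0, 0, 0, 0, 0, 0, 0, 0, 0, 0, 0, 0, 0, 0, 0, 0, 0, 0, 0, 0, 0, 0, 0, 0, 0, 0, 0, 0, 0, 0, 0, 0, 0, 0, 0, 0, 0, 0, 0, 0, 0, 0, 0, 0, 0, 0, 0, 0, 0, 0, 0, 0, 0, 0, 0, 0, 0, 0, 0, 0, 0, 0, 0, 0, 0, 0, 0, 0, 0, 0, 0, 0],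
    [0, 0, 0, 0, 0, 0, 0, 0, 0, 0, 0, 0, 0, 0, 0, 0, 0, 1, 0, 0, 1, 0, 0, 0, 0, 0, 0, 0, 0, 0, 0, 0, 0, 0, 0, 0, 0, 0, 0, 0, 0, 0, 0, 0, 0, 0, 0, 0, 0, 0, 0, 0, 0, 0, 0, 0, 0, 0, 0, 0, 0, 0, 0, 0, 0, 0, 0, 0, 0, 0, 0, 0, 0, 0, 0, 0, 0, 0, 0, 0, 0, 0, 0, 0, 0, 0, 0, 0, 0, 0, 0, 0, 0, 0, 0, 0, 0, 0, 0, 0, 0, 0, 0, 0, 0, 0, 0, 0, 0, 0, 0, 0, 0, 0, 0, 0, 0, 0, 0, 0, 0, 0, 0, 0, 0, 0, 0, 0, 0, 0, 0, 0, 0, 0, 0, 0, 0, 0, 0, 0, 0, 0, 0, 0, 0, 0, 0, 0, 0, 0, 0, 0, 0, 0, 0, 0, 0, 0, 0, 0, 0, 0, 0, 0, 0, 0, 0, 0, 0, 0, 0, 0, 0, 0, 0, 0, 0, 0, 0, 0, 0, 0, 0, 0, 0, 0, 0, 0, 0, 0, 0, 0, 0, 0, 0, 0, 0, 0, 0, 0, 0, 0, 0, 0, 0, 0, 0, 0, 0, 0, 0, 0, 0, 0, 0, 0, 0, 0, 0, 0, 0, 0, 0, 0, 0, 0, 0, 0, 0, 0, 0, 0, 0, 0, 0, 0, 0, 0, 0, 0, 0, 0, 0, 0, 0, 0, 0, 0, 0,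 0, 0, 0, 0, 0, 0, 0, 0, 0, 0, 0, 0, 0, 0, 0, 0, 0, 0, 0, 0, 0, 0, 0, 0, 0, 0, 0, 0, 0, 0, 0, 0, 0, 0, 0, 0, 0, 0, 0, 0, 0, 0, 0, 0, 0, 0, 0, 0, 0, 0, 0, 0, 0, 0, 0, 0, 0, 0, 0, 0, 0, 0, 0, 0, 0, 0, 0, 0, 0, 0, 0, 0, 0, 0, 0, 0, 0, 0, 0, 0, 0, 0, 0, 0, 0, 0, 0, 0, 0, 0, 0, 0, 0, 0, 0, 0, 0, 0, 0, 0, 0, 0, 0, 0, 0, 0, 0, 0, 0, 0, 0, 0, 0, 0, 0, 0, 0, 0],
    [0, 0, 0, 0, 0, 0, 0, 0, 0, 0, 0, 0, 0, 1, 1, 0, 0, 0, 0, 0, 0, 0, 0, 0, 0, 0, 0, 0, 0, 0, 0, 0, 0, 0, 0, 0, 0, 0, 0, 0, 0, 0, 0, 0, 0, 0, 0, 0, 0, 0, 0, 0, 0, 0, 0, 0, 0, 0, 0, 0, 0, 0, 0, 0, 0, 0, 0, 0, 0, 0, 0, 0, 0, 0, 0, 0, 0, 0, 0, 0, 0, 0, 0, 0, 0, 0, 0, 0, 0, 0, 0, 0, 0, 0, 0, 0, 0, 0, 0, 0, 0, 0, 0, 0, 0, 0, 0, 0, 0, 0, 0, 0, 0, 0, 0, 0, 0, 0, 0, 0, 0, 0, 0, 0, 0, 0, 0, 0, 0, 0, 0,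 0, 0, 0, 0, 0, 0, 0, 0, 0, 0, 0, 0, 0, 0, 0, 0, 0, 0, 0, 0, 0, 0, 0, 0, 0, 0, 0, 0, 0, 0, 0, 0, 0, 0, 0, 0, 0, 0, 0, 0, 0, 0, 0, 0, 0, 0, 0, 0, 0, 0, 0, 0, 0, 0, 0, 0, 0, 0, 0, 0, 0, 0, 0, 0, 0, 0, 0, 0, 0, 0, 0, 0, 0, 0, 0, 0, 0, 0, 0, 0, 0, 0, 0, 0, 0, 0, 0, 0, 0, 0, 0, 0, 0, 0, 0, 0, 0, 0, 0, 0, 0, 0, 0, 0, 0, 0, 0, 0, 0, 0, 0, 0, 0, 0, 0, 0, 0, 0, 0, 0, 0, 0, 0, 0, 0, 0, 0, 0, 0, 0, 0, 0, 0, 0, 0, 0, 0, 0, 0, 0, 0, 0, 0, 0, 0, 0, 0, 0, 0, 0, 0, 0, 0, 0, 0, 0, 0, 0, 0, 0, 0, 0, 0, 0, 0, 0, 0, 0, 0, 0, 0, 0, 0, 0, 0, 0, 0, 0, 0, 0, 0, 0, 0, 0, 0, 0, 0, 0, 0, 0, 0, 0, 0, 0, 0, 0, 0, 0, 0, 0, 0, 0, 0, 0, 0, 0, 0, 0, 0, 0, 0, 0, 0, 0, 0, 0, 0, 0, 0, 0, 0, 0, 0, 0, 0, 0, 0, 0, 0, 0, 0, 0, 0, 0, 0, 0],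
    [0, 0, 0, 0, 0, 0, 0, 0, 0, 0, 0, 0, 0, 0, 0, 0, 0, 0, 1, 0, 1, 0, 0, 0, 0, 0, 0, 0, 0, 0, 0, 0, 0, 0, 0, 0, 0, 0, 0, 0, 0, 0, 0, 0, 0, 0, 0, 0, 0, 0, 0, 0, 0, 0, 0, 0, 0, 0, 0, 0, 0, 0, 0, 0, 0, 0, 0, 0, 0, 0, 0, 0, 0, 0, 0, 0, 0, 0, 0, 0, 0, 0, 0, 0, 0, 0, 0, 0, 0, 0, 0, 0, 0, 0, 0, 0, 0, 0, 0, 0, 0, 0, 0, 0, 0, 0, 0, 0, 0, 0, 0, 0, 0, 0, 0, 0, 0, 0, 0, 0, 0, 0, 0, 0, 0, 0, 0, 0, 0, 0, 0, 0, 0, 0, 0, 0, 0, 0, 0, 0, 0, 0, 0, 0, 0, 0, 0, 0, 0, 0, 0, 0, 0, 0, 0, 0, 0, 0, 0, 0, 0, 0, 0, 0, 0, 0, 0, 0, 0, 0, 0, 0, 0, 0, 0, 0, 0, 0, 0, 0, 0, 0, 0, 0, 0, 0, 0, 0, 0, 0, 0, 0, 0, 0, 0, 0, 0, 0, 0, 0, 0, 0, 0, 0, 0, 0, 0, 0, 0, 0, 0, 0, 0, 0, 0, 0, 0, 0, 0, 0, 0, 0, 0, 0, 0, 0, 0, 0, 0, 0, 0, 0, 0, 0, 0, 0, 0, 0, 0, 0, 0, 0, 0, 0, 0, 0, 0, 0, 0,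 0, 0, 0, 0, 0, 0, 0, 0, 0, 0, 0, 0, 0, 0, 0, 0, 0, 0, 0, 0, 0, 0, 0, 0, 0, 0, 0, 0, 0, 0, 0, 0, 0, 0, 0, 0, 0, 0, 0, 0, 0, 0, 0, 0, 0, 0, 0, 0, 0, 0, 0, 0, 0, 0, 0, 0, 0, 0, 0, 0, 0, 0, 0, 0, 0, 0, 0, 0, 0, 0, 0, 0, 0, 0, 0, 0, 0, 0, 0, 0, 0, 0, 0, 0, 0, 0, 0, 0, 0, 0, 0, 0, 0, 0, 0, 0, 0, 0, 0, 0, 0, 0, 0, 0, 0, 0, 0, 0, 0, 0, 0, 0, 0, 0, 0, 0, 0, 0],
    [0, 0, 0, 0, 0, 0, 0, 0, 0, 0, 0, 0, 0, 0, 0, 1, 0, 0, 0, 0, 1, 0, 0, 0, 0, 0, 0, 0, 0, 0, 0, 0, 0, 0, 0, 0, 0, 0, 0, 0, 0, 0, 0, 0, 0, 0, 0, 0, 0, 0, 0, 0, 0, 0, 0, 0, 0, 0, 0, 0, 0, 0, 0, 0, 0, 0, 0, 0, 0, 0, 0, 0, 0, 0, 0, 0, 0, 0, 0, 0, 0, 0, 0, 0, 0, 0, 0, 0, 0, 0, 0, 0, 0, 0, 0, 0, 0, 0, 0, 0, 0, 0, 0, 0, 0, 0, 0, 0, 0, 0, 0, 0, 0, 0, 0, 0, 0, 0, 0, 0, 0, 0, 0, 0, 0, 0, 0, 0, 0, 0, 0,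 0, 0, 0, 0, 0, 0, 0, 0, 0, 0, 0, 0, 0, 0, 0, 0, 0, 0, 0, 0, 0, 0, 0, 0, 0, 0, 0, 0, 0, 0, 0, 0, 0, 0, 0, 0, 0, 0, 0, 0, 0, 0, 0, 0, 0, 0, 0, 0, 0, 0, 0, 0, 0, 0, 0, 0, 0, 0, 0, 0, 0, 0, 0, 0, 0, 0, 0, 0, 0, 0, 0, 0, 0, 0, 0, 0, 0, 0, 0, 0, 0, 0, 0, 0, 0, 0, 0, 0, 0, 0, 0, 0, 0, 0, 0, 0, 0, 0, 0, 0, 0, 0, 0, 0, 0, 0, 0, 0, 0, 0, 0, 0, 0, 0, 0, 0, 0, 0, 0, 0, 0, 0, 0, 0, 0, 0, 0, 0, 0, 0, 0, 0, 0, 0, 0, 0, 0, 0, 0, 0, 0, 0, 0, 0, 0, 0, 0, 0, 0, 0, 0, 0, 0, 0, 0, 0, 0, 0, 0, 0, 0, 0, 0, 0, 0, 0, 0, 0, 0, 0, 0, 0, 0, 0, 0, 0, 0, 0, 0, 0, 0, 0, 0, 0, 0, 0, 0, 0, 0, 0, 0, 0, 0, 0, 0, 0, 0, 0, 0, 0, 0, 0, 0, 0, 0, 0, 0, 0, 0, 0, 0, 0, 0, 0, 0, 0, 0, 0, 0, 0, 0, 0, 0, 0, 0, 0, 0, 0, 0, 0, 0, 0, 0, 0, 0, 0],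
    [0, 0, 0, 0, 0, 0, 0, 0, 0, 0, 0, 0, 0, 0, 0, 0, 0, 0, 0, 1, 1, 0, 0, 0, 0, 0, 0, 0, 0, 0, 0, 0, 0, 0, 0, 0, 0, 0, 0, 0, 0, 0, 0, 0, 0, 0, 0, 0, 0, 0, 0, 0, 0, 0, 0, 0, 0, 0, 0, 0, 0, 0, 0, 0, 0, 0, 0, 0, 0, 0, 0, 0, 0, 0, 0, 0, 0, 0, 0, 0, 0, 0, 0, 0, 0, 0, 0, 0, 0, 0, 0, 0, 0, 0, 0, 0, 0, 0, 0, 0, 0, 0, 0, 0, 0, 0, 0, 0, 0, 0, 0, 0, 0, 0, 0, 0, 0, 0, 0, 0, 0, 0, 0, 0, 0, 0, 0, 0, 0, 0, 0, 0, 0, 0, 0, 0, 0, 0, 0, 0, 0, 0, 0, 0, 0, 0, 0, 0, 0, 0, 0, 0, 0, 0, 0, 0, 0, 0, 0, 0, 0, 0, 0, 0, 0, 0, 0, 0, 0, 0, 0, 0, 0, 0, 0, 0, 0, 0, 0, 0, 0, 0, 0, 0, 0, 0, 0, 0, 0, 0, 0, 0, 0, 0, 0, 0, 0, 0, 0, 0, 0, 0, 0, 0, 0, 0, 0, 0, 0, 0, 0, 0, 0, 0, 0, 0, 0, 0, 0, 0, 0, 0, 0, 0, 0, 0, 0, 0, 0, 0, 0, 0, 0, 0, 0, 0, 0, 0, 0, 0, 0, 0, 0, 0, 0, 0, 0, 0, 0,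 0, 0, 0, 0, 0, 0, 0, 0, 0, 0, 0, 0, 0, 0, 0, 0, 0, 0, 0, 0, 0, 0, 0, 0, 0, 0, 0, 0, 0, 0, 0, 0, 0, 0, 0, 0, 0, 0, 0, 0, 0, 0, 0, 0, 0, 0, 0, 0, 0, 0, 0, 0, 0, 0, 0, 0, 0, 0, 0, 0, 0, 0, 0, 0, 0, 0, 0, 0, 0, 0, 0, 0, 0, 0, 0, 0, 0, 0, 0, 0, 0, 0, 0, 0, 0, 0, 0, 0, 0, 0, 0, 0, 0, 0, 0, 0, 0, 0, 0, 0, 0, 0, 0, 0, 0, 0, 0, 0, 0, 0, 0, 0, 0, 0, 0, 0, 0, 0],
    [0, 0, 0, 0, 0, 0, 0, 0, 0, 0, 0, 0, 0, 0, 0, 0, 0, 0, 0, 0, 0, 0, 0, 0, 0, 0, 0, 0, 1, 0, 0, 0, 0, 0, 0, 1, 0, 0, 0, 0, 0, 0, 0, 0, 0, 0, 0, 0, 0, 0, 0, 0, 0, 0, 0, 0, 0, 0, 0, 0, 0, 0, 0, 0, 0, 0, 0, 0, 0, 0, 0, 0, 0, 0, 0, 0, 0, 0, 0, 0, 0, 0, 0, 0, 0, 0, 0, 0, 0, 0, 0, 0, 0, 0, 0, 0, 0, 0, 0, 0, 0, 0, 0, 0, 0, 0, 0, 0, 0, 0, 0, 0, 0, 0, 0, 0, 0, 0, 0, 0, 0, 0, 0, 0, 0, 0, 0, 0, 0, 0, 0,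 0, 0, 0, 0, 0, 0, 0, 0, 0, 0, 0, 0, 0, 0, 0, 0, 0, 0, 0, 0, 0, 0, 0, 0, 0, 0, 0, 0, 0, 0, 0, 0, 0, 0, 0, 0, 0, 0, 0, 0, 0, 0, 0, 0, 0, 0, 0, 0, 0, 0, 0, 0, 0, 0, 0, 0, 0, 0, 0, 0, 0, 0, 0, 0, 0, 0, 0, 0, 0, 0, 0, 0, 0, 0, 0, 0, 0, 0, 0, 0, 0, 0, 0, 0, 0, 0, 0, 0, 0, 0, 0, 0, 0, 0, 0, 0, 0, 0, 0, 0, 0, 0, 0, 0, 0, 0, 0, 0, 0, 0, 0, 0, 0, 0, 0, 0, 0, 0, 0, 0, 0, 0, 0, 0, 0, 0, 0, 0, 0, 0, 0, 0, 0, 0, 0, 0, 0, 0, 0, 0, 0, 0, 0, 0, 0, 0, 0, 0, 0, 0, 0, 0, 0, 0, 0, 0, 0, 0, 0, 0, 0, 0, 0, 0, 0, 0, 0, 0, 0, 0, 0, 0, 0, 0, 0, 0, 0, 0, 0, 0, 0, 0, 0, 0, 0, 0, 0, 0, 0, 0, 0, 0, 0, 0, 0, 0, 0, 0, 0, 0, 0, 0, 0, 0, 0, 0, 0, 0, 0, 0, 0, 0, 0, 0, 0, 0, 0, 0, 0, 0, 0, 0, 0, 0, 0, 0, 0, 0, 0, 0, 0, 0, 0, 0, 0, 0],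
    [0, 0, 0, 0, 0, 0, 0, 0, 0, 0, 0, 0, 0, 0, 0, 0, 0, 0, 0, 0, 0, 0, 0, 0, 0, 0, 0, 0, 0, 0, 0, 0, 0, 0, 0, 0, 0, 0, 0, 0, 0, 0, 0, 0, 0, 0, 1, 0, 0, 0, 0, 0, 0, 0, 1, 0, 0, 0, 0, 0, 0, 0, 0, 0, 0, 0, 0, 0, 0, 0, 0, 0, 0, 0, 0, 0, 0, 0, 0, 0, 0, 0, 0, 0, 0, 0, 0, 0, 0, 0, 0, 0, 0, 0, 0, 0, 0, 0, 0, 0, 0, 0, 0, 0, 0, 0, 0, 0, 0, 0, 0, 0, 0, 0, 0, 0, 0, 0, 0, 0, 0, 0, 0, 0, 0, 0, 0, 0, 0, 0, 0, 0, 0, 0, 0, 0, 0, 0, 0, 0, 0, 0, 0, 0, 0, 0, 0, 0, 0, 0, 0, 0, 0, 0, 0, 0, 0, 0, 0, 0, 0, 0, 0, 0, 0, 0, 0, 0, 0, 0, 0, 0, 0, 0, 0, 0, 0, 0, 0, 0, 0, 0, 0, 0, 0, 0, 0, 0, 0, 0, 0, 0, 0, 0, 0, 0, 0, 0, 0, 0, 0, 0, 0, 0, 0, 0, 0, 0, 0, 0, 0, 0, 0, 0, 0, 0, 0, 0, 0, 0, 0, 0, 0, 0, 0, 0, 0, 0, 0, 0, 0, 0, 0, 0, 0, 0, 0, 0, 0, 0, 0, 0, 0, 0, 0, 0, 0, 0, 0,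 0, 0, 0, 0, 0, 0, 0, 0, 0, 0, 0, 0, 0, 0, 0, 0, 0, 0, 0, 0, 0, 0, 0, 0, 0, 0, 0, 0, 0, 0, 0, 0, 0, 0, 0, 0, 0, 0, 0, 0, 0, 0, 0, 0, 0, 0, 0, 0, 0, 0, 0, 0, 0, 0, 0, 0, 0, 0, 0, 0, 0, 0, 0, 0, 0, 0, 0, 0, 0, 0, 0, 0, 0, 0, 0, 0, 0, 0, 0, 0, 0, 0, 0, 0, 0, 0, 0, 0, 0, 0, 0, 0, 0, 0, 0, 0, 0, 0, 0, 0, 0, 0, 0, 0, 0, 0, 0, 0, 0, 0, 0, 0, 0, 0, 0, 0, 0, 0]]

/-- part of the exponents -/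
def twoVecs1 : List (List ℤ) :=
  [[0, 0, 0, 0, 0, 0, 0, 0, 0, 0, 0, 0, 0, 0, 0, 0, 0, 0, 0, 0, 0, 0, 0, 0, 0, 0, 0, 0, 0, 0, 0, 0, 0, 0, 0, 0, 0, 0, 1, 0, 0, 0, 0, 0, 1, 0, 0, 0, 0, 0, 0, 0, 0, 0, 0, 0, 0, 0, 0, 0, 0, 0, 0, 0, 0, 0, 0, 0, 0, 0, 0, 0, 0, 0, 0, 0, 0, 0, 0, 0, 0, 0, 0, 0, 0, 0, 0, 0, 0, 0, 0, 0, 0, 0, 0, 0, 0, 0, 0, 0, 0, 0, 0, 0, 0, 0, 0, 0, 0, 0, 0, 0, 0, 0, 0, 0, 0, 0, 0, 0, 0, 0, 0, 0, 0, 0, 0, 0, 0, 0, 0, 0, 0, 0, 0, 0, 0, 0, 0, 0, 0, 0, 0, 0, 0, 0, 0, 0, 0, 0, 0, 0, 0, 0, 0, 0, 0, 0, 0, 0, 0, 0, 0, 0, 0, 0, 0, 0, 0, 0, 0, 0, 0, 0, 0, 0, 0, 0, 0, 0, 0, 0, 0, 0, 0, 0, 0, 0, 0, 0, 0, 0, 0, 0, 0, 0, 0, 0, 0, 0, 0, 0, 0, 0, 0, 0, 0, 0, 0, 0, 0, 0, 0, 0, 0, 0, 0, 0, 0, 0, 0, 0, 0, 0, 0, 0, 0, 0, 0, 0, 0, 0, 0, 0, 0, 0, 0, 0, 0,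 0, 0, 0, 0, 0, 0, 0, 0, 0, 0, 0, 0, 0, 0, 0, 0, 0, 0, 0, 0, 0, 0, 0, 0, 0, 0, 0, 0, 0, 0, 0, 0, 0, 0, 0, 0, 0, 0, 0, 0, 0, 0, 0, 0, 0, 0, 0, 0, 0, 0, 0, 0, 0, 0, 0, 0, 0, 0, 0, 0, 0, 0, 0, 0, 0, 0, 0, 0, 0, 0, 0, 0, 0, 0, 0, 0, 0, 0, 0, 0, 0, 0, 0, 0, 0, 0, 0, 0, 0, 0, 0, 0, 0, 0, 0, 0, 0, 0, 0, 0, 0, 0, 0, 0, 0, 0, 0, 0, 0, 0, 0, 0, 0, 0, 0, 0, 0, 0, 0, 0, 0, 0, 0, 0, 0, 0, 0, 0],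
    [0, 0, 0, 0, 0, 0, 0, 0, 0, 0, 0, 0, 0, 0, 0, 0, 0, 0, 0, 0, 0, 0, 0, 0, 0, 0, 0, 0, 0, 0, 0, 1, 0, 0, 0, 1, 0, 0, 0, 0, 0, 0, 0, 0, 0, 0, 0, 0, 0, 0, 0, 0, 0, 0, 0, 0, 0, 0, 0, 0, 0, 0, 0, 0, 0, 0, 0, 0, 0, 0, 0, 0, 0, 0, 0, 0, 0, 0, 0, 0, 0, 0, 0, 0, 0, 0, 0, 0, 0, 0, 0, 0, 0, 0, 0, 0, 0, 0, 0, 0, 0, 0, 0, 0, 0, 0, 0, 0, 0, 0, 0, 0, 0, 0, 0, 0, 0, 0, 0, 0, 0, 0, 0, 0, 0, 0, 0, 0, 0, 0, 0, 0, 0, 0, 0, 0, 0, 0, 0, 0, 0, 0, 0, 0, 0, 0, 0, 0, 0, 0, 0, 0, 0, 0, 0, 0, 0, 0, 0, 0, 0, 0, 0, 0, 0, 0, 0, 0, 0, 0, 0, 0, 0, 0, 0, 0, 0, 0, 0, 0, 0, 0, 0, 0, 0, 0, 0, 0, 0, 0, 0, 0, 0, 0, 0, 0, 0, 0, 0, 0, 0, 0, 0, 0, 0, 0, 0, 0, 0, 0, 0, 0, 0, 0, 0, 0, 0, 0, 0, 0, 0, 0, 0, 0, 0, 0, 0, 0, 0, 0, 0, 0, 0, 0, 0, 0, 0, 0, 0, 0, 0, 0, 0, 0, 0, 0, 0, 0, 0,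 0, 0, 0, 0, 0, 0, 0, 0, 0, 0, 0, 0, 0, 0, 0, 0, 0, 0, 0, 0, 0, 0, 0, 0, 0, 0, 0, 0, 0, 0, 0, 0, 0, 0, 0, 0, 0, 0, 0, 0, 0, 0, 0, 0, 0, 0, 0, 0, 0, 0, 0, 0, 0, 0, 0, 0, 0, 0, 0, 0, 0, 0, 0, 0, 0, 0, 0, 0, 0, 0, 0, 0, 0, 0, 0, 0, 0, 0, 0, 0, 0, 0, 0, 0, 0, 0, 0, 0, 0, 0, 0, 0, 0, 0, 0, 0, 0, 0, 0, 0, 0, 0, 0, 0, 0, 0, 0, 0, 0, 0, 0, 0, 0, 0, 0, 0, 0, 0],
    [0, 0, 0, 0, 0, 0, 0, 0, 0, 0, 0, 0, 0, 0, 0, 0, 0, 0, 0, 0, 0, 0, 0, 0, 0, 0, 0, 0, 0, 0, 0, 0, 0, 0, 0, 0, 0, 0, 0, 0, 0, 0, 0, 0, 0, 0, 0, 0, 0, 0, 1, 0, 0, 0, 1, 0, 0, 0, 0, 0, 0, 0, 0, 0, 0, 0, 0, 0, 0, 0, 0, 0, 0, 0, 0, 0, 0, 0, 0, 0, 0, 0, 0, 0, 0, 0, 0, 0, 0, 0, 0, 0, 0, 0, 0, 0, 0, 0, 0, 0, 0, 0, 0, 0, 0, 0, 0, 0, 0, 0, 0, 0, 0, 0, 0, 0, 0, 0, 0, 0, 0, 0, 0, 0, 0, 0, 0, 0, 0, 0, 0,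 0, 0, 0, 0, 0, 0, 0, 0, 0, 0, 0, 0, 0, 0, 0, 0, 0, 0, 0, 0, 0, 0, 0, 0, 0, 0, 0, 0, 0, 0, 0, 0, 0, 0, 0, 0, 0, 0, 0, 0, 0, 0, 0, 0, 0, 0, 0, 0, 0, 0, 0, 0, 0, 0, 0, 0, 0, 0, 0, 0, 0, 0, 0, 0, 0, 0, 0, 0, 0, 0, 0, 0, 0, 0, 0, 0, 0, 0, 0, 0, 0, 0, 0, 0, 0, 0, 0, 0, 0, 0, 0, 0, 0, 0, 0, 0, 0, 0, 0, 0, 0, 0, 0, 0, 0, 0, 0, 0, 0, 0, 0, 0, 0, 0, 0, 0, 0, 0, 0, 0, 0, 0, 0, 0, 0, 0, 0, 0, 0, 0, 0, 0, 0, 0, 0, 0, 0, 0, 0, 0, 0, 0, 0, 0, 0, 0, 0, 0, 0, 0, 0, 0, 0, 0, 0, 0, 0, 0, 0, 0, 0, 0, 0, 0, 0, 0, 0, 0, 0, 0, 0, 0, 0, 0, 0, 0, 0, 0, 0, 0, 0, 0, 0, 0, 0, 0, 0, 0, 0, 0, 0, 0, 0, 0, 0, 0, 0, 0, 0, 0, 0, 0, 0, 0, 0, 0, 0, 0, 0, 0, 0, 0, 0, 0, 0, 0, 0, 0, 0, 0, 0, 0, 0, 0, 0, 0, 0, 0, 0, 0, 0, 0, 0, 0, 0, 0],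
    [0, 0, 0, 0, 0, 0, 0, 0, 0, 0, 0, 0, 0, 0, 0, 0, 0, 0, 0, 0, 0, 0, 0, 0, 0, 0, 0, 0, 0, 0, 0, 0, 0, 0, 1, 1, 0, 0, 0, 0, 0, 0, 0, 0, 0, 0, 0, 0, 0, 0, 0, 0, 0, 0, 0, 0, 0, 0, 0, 0, 0, 0, 0, 0, 0, 0, 0, 0, 0, 0, 0, 0, 0, 0, 0, 0, 0, 0, 0, 0, 0, 0, 0, 0, 0, 0, 0, 0, 0, 0, 0, 0, 0, 0, 0, 0, 0, 0, 0, 0, 0, 0, 0, 0, 0, 0, 0, 0, 0, 0, 0, 0, 0, 0, 0, 0, 0, 0, 0, 0, 0, 0, 0, 0, 0, 0, 0, 0, 0, 0, 0, 0, 0, 0, 0, 0, 0, 0, 0, 0, 0, 0, 0, 0, 0, 0, 0, 0, 0, 0, 0, 0, 0, 0, 0, 0, 0, 0, 0, 0, 0, 0, 0, 0, 0, 0, 0, 0, 0, 0, 0, 0, 0, 0, 0, 0, 0, 0, 0, 0, 0, 0, 0, 0, 0, 0, 0, 0, 0, 0, 0, 0, 0, 0, 0, 0, 0, 0, 0, 0, 0, 0, 0, 0, 0, 0, 0, 0, 0, 0, 0, 0, 0, 0, 0, 0, 0, 0, 0, 0, 0, 0, 0, 0, 0, 0, 0, 0, 0, 0, 0, 0, 0, 0, 0, 0, 0, 0, 0, 0, 0, 0, 0, 0, 0, 0, 0, 0, 0,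 0, 0, 0, 0, 0, 0, 0, 0, 0, 0, 0, 0, 0, 0, 0, 0, 0, 0, 0, 0, 0, 0, 0, 0, 0, 0, 0, 0, 0, 0, 0, 0, 0, 0, 0, 0, 0, 0, 0, 0, 0, 0, 0, 0, 0, 0, 0, 0, 0, 0, 0, 0, 0, 0, 0, 0, 0, 0, 0, 0, 0, 0, 0, 0, 0, 0, 0, 0, 0, 0, 0, 0, 0, 0, 0, 0, 0, 0, 0, 0, 0, 0, 0, 0, 0, 0, 0, 0, 0, 0, 0, 0, 0, 0, 0, 0, 0, 0, 0, 0, 0, 0, 0, 0, 0, 0, 0, 0, 0, 0, 0, 0, 0, 0, 0, 0, 0, 0],
    [0, 0, 0, 0, 0, 0, 0, 0, 0, 0, 0, 0, 0, 0, 0, 0, 0, 0, 0, 0, 0, 0, 0, 0, 0, 0, 0, 0, 0, 0, 0, 0, 0, 0, 0, 0, 0, 0, 0, 0, 0, 0, 0, 0, 0, 0, 0, 0, 0, 0, 0, 1, 0, 0, 1, 0, 0, 0, 0, 0, 0, 0, 0, 0, 0, 0, 0, 0, 0, 0, 0, 0, 0, 0, 0, 0, 0, 0, 0, 0, 0, 0, 0, 0, 0, 0, 0, 0, 0, 0, 0, 0, 0, 0, 0, 0, 0, 0, 0, 0, 0, 0, 0, 0, 0, 0, 0, 0, 0, 0, 0, 0, 0, 0, 0, 0, 0, 0, 0, 0, 0, 0, 0, 0, 0, 0, 0, 0, 0, 0, 0,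 0, 0, 0, 0, 0, 0, 0, 0, 0, 0, 0, 0, 0, 0, 0, 0, 0, 0, 0, 0, 0, 0, 0, 0, 0, 0, 0, 0, 0, 0, 0, 0, 0, 0, 0, 0, 0, 0, 0, 0, 0, 0, 0, 0, 0, 0, 0, 0, 0, 0, 0, 0, 0, 0, 0, 0, 0, 0, 0, 0, 0, 0, 0, 0, 0, 0, 0, 0, 0, 0, 0, 0, 0, 0, 0, 0, 0, 0, 0, 0, 0, 0, 0, 0, 0, 0, 0, 0, 0, 0, 0, 0, 0, 0, 0, 0, 0, 0, 0, 0, 0, 0, 0, 0, 0, 0, 0, 0, 0, 0, 0, 0, 0, 0, 0, 0, 0, 0, 0, 0, 0, 0, 0, 0, 0, 0, 0, 0, 0, 0, 0, 0, 0, 0, 0, 0, 0, 0, 0, 0, 0, 0, 0, 0, 0, 0, 0, 0, 0, 0, 0, 0, 0, 0, 0, 0, 0, 0, 0, 0, 0, 0, 0, 0, 0, 0, 0, 0, 0, 0, 0, 0, 0, 0, 0, 0, 0, 0, 0, 0, 0, 0, 0, 0, 0, 0, 0, 0, 0, 0, 0, 0, 0, 0, 0, 0, 0, 0, 0, 0, 0, 0, 0, 0, 0, 0, 0, 0, 0, 0, 0, 0, 0, 0, 0, 0, 0, 0, 0, 0, 0, 0, 0, 0, 0, 0, 0, 0, 0, 0, 0, 0, 0, 0, 0, 0],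
    [0, 0, 0, 0, 0, 0, 0, 0, 0, 0, 0, 0, 0, 0, 0, 0, 0, 0, 0, 0, 0, 0, 0, 0, 0, 0, 0, 0, 0, 0, 0, 0, 0, 0, 0, 0, 0, 0, 0, 0, 0, 0, 1, 0, 1, 0, 0, 0, 0, 0, 0, 0, 0, 0, 0, 0, 0, 0, 0, 0, 0, 0, 0, 0, 0, 0, 0, 0, 0, 0, 0, 0, 0, 0, 0, 0, 0, 0, 0, 0, 0, 0, 0, 0, 0, 0, 0, 0, 0, 0, 0, 0, 0, 0, 0, 0, 0, 0, 0, 0, 0, 0, 0, 0, 0, 0, 0, 0, 0, 0, 0, 0, 0, 0, 0, 0, 0, 0, 0, 0, 0, 0, 0, 0, 0, 0, 0, 0, 0, 0, 0, 0, 0, 0, 0, 0, 0, 0, 0, 0, 0, 0, 0, 0, 0, 0, 0, 0, 0, 0, 0, 0, 0, 0, 0, 0, 0, 0, 0, 0, 0, 0, 0, 0, 0, 0, 0, 0, 0, 0, 0, 0, 0, 0, 0, 0, 0, 0, 0, 0, 0, 0, 0, 0, 0, 0, 0, 0, 0, 0, 0, 0, 0, 0, 0, 0, 0, 0, 0, 0, 0, 0, 0, 0, 0, 0, 0, 0, 0, 0, 0, 0, 0, 0, 0, 0, 0, 0, 0, 0, 0, 0, 0, 0, 0, 0, 0, 0, 0, 0, 0, 0, 0, 0, 0, 0, 0, 0, 0, 0, 0, 0, 0, 0, 0, 0, 0, 0, 0,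 0, 0, 0, 0, 0, 0, 0, 0, 0, 0, 0, 0, 0, 0, 0, 0, 0, 0, 0, 0, 0, 0, 0, 0, 0, 0, 0, 0, 0, 0, 0, 0, 0, 0, 0, 0, 0, 0, 0, 0, 0, 0, 0, 0, 0, 0, 0, 0, 0, 0, 0, 0, 0, 0, 0, 0, 0, 0, 0, 0, 0, 0, 0, 0, 0, 0, 0, 0, 0, 0, 0, 0, 0, 0, 0, 0, 0, 0, 0, 0, 0, 0, 0, 0, 0, 0, 0, 0, 0, 0, 0, 0, 0, 0, 0, 0, 0, 0, 0, 0, 0, 0, 0, 0, 0, 0, 0, 0, 0, 0, 0, 0, 0, 0, 0, 0, 0, 0],
    [0, 0, 0, 0, 0, 0, 0, 0, 0, 0, 0, 0, 0, 0, 0, 0, 0, 0, 0, 0, 0, 0, 0, 0, 0, 0, 0, 0, 0, 0, 0, 0, 0, 0, 0, 0, 0, 1, 0, 0, 0, 0, 0, 0, 1, 0, 0, 0, 0, 0, 0, 0, 0, 0, 0, 0, 0, 0, 0, 0, 0, 0, 0, 0, 0, 0, 0, 0, 0, 0, 0, 0, 0, 0, 0, 0, 0, 0, 0, 0, 0, 0, 0, 0, 0, 0, 0, 0, 0, 0, 0, 0, 0, 0, 0, 0, 0, 0, 0, 0, 0, 0, 0, 0, 0, 0, 0, 0, 0, 0, 0, 0, 0, 0, 0, 0, 0, 0, 0, 0, 0, 0, 0, 0, 0, 0, 0, 0, 0, 0, 0,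 0, 0, 0, 0, 0, 0, 0, 0, 0, 0, 0, 0, 0, 0, 0, 0, 0, 0, 0, 0, 0, 0, 0, 0, 0, 0, 0, 0, 0, 0, 0, 0, 0, 0, 0, 0, 0, 0, 0, 0, 0, 0, 0, 0, 0, 0, 0, 0, 0, 0, 0, 0, 0, 0, 0, 0, 0, 0, 0, 0, 0, 0, 0, 0, 0, 0, 0, 0, 0, 0, 0, 0, 0, 0, 0, 0, 0, 0, 0, 0, 0, 0, 0, 0, 0, 0, 0, 0, 0, 0, 0, 0, 0, 0, 0, 0, 0, 0, 0, 0, 0, 0, 0, 0, 0, 0, 0, 0, 0, 0, 0, 0, 0, 0, 0, 0, 0, 0, 0, 0, 0, 0, 0, 0, 0, 0, 0, 0, 0, 0, 0, 0, 0, 0, 0, 0, 0, 0, 0, 0, 0, 0, 0, 0, 0, 0, 0, 0, 0, 0, 0, 0, 0, 0, 0, 0, 0, 0, 0, 0, 0, 0, 0, 0, 0, 0, 0, 0, 0, 0, 0, 0, 0, 0, 0, 0, 0, 0, 0, 0, 0, 0, 0, 0, 0, 0, 0, 0, 0, 0, 0, 0, 0, 0, 0, 0, 0, 0, 0, 0, 0, 0, 0, 0, 0, 0, 0, 0, 0, 0, 0, 0, 0, 0, 0, 0, 0, 0, 0, 0, 0, 0, 0, 0, 0, 0, 0, 0, 0, 0, 0, 0, 0, 0, 0, 0],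
    [0, 0, 0, 0, 0, 0, 0, 0, 0, 0, 0, 0, 0, 0, 0, 0, 0, 0, 0, 0, 0, 0, 0, 0, 0, 0, 0, 0, 0, 0, 0, 0, 0, 0, 0, 0, 0, 0, 0, 0, 0, 0, 0, 0, 0, 0, 0, 0, 0, 1, 0, 0, 0, 0, 1, 0, 0, 0, 0, 0, 0, 0, 0, 0, 0, 0, 0, 0, 0, 0, 0, 0, 0, 0, 0, 0, 0, 0, 0, 0, 0, 0, 0, 0, 0, 0, 0, 0, 0, 0, 0, 0, 0, 0, 0, 0, 0, 0, 0, 0, 0, 0, 0, 0, 0, 0, 0, 0, 0, 0, 0, 0, 0, 0, 0, 0, 0, 0, 0, 0, 0, 0, 0, 0, 0, 0, 0, 0, 0, 0, 0, 0, 0, 0, 0, 0, 0, 0, 0, 0, 0, 0, 0, 0, 0, 0, 0, 0, 0, 0, 0, 0, 0, 0, 0, 0, 0, 0, 0, 0, 0, 0, 0, 0, 0, 0, 0, 0, 0, 0, 0, 0, 0, 0, 0, 0, 0, 0, 0, 0, 0, 0, 0, 0, 0, 0, 0, 0, 0, 0, 0, 0, 0, 0, 0, 0, 0, 0, 0, 0, 0, 0, 0, 0, 0, 0, 0, 0, 0, 0, 0, 0, 0, 0, 0, 0, 0, 0, 0, 0, 0, 0, 0, 0, 0, 0, 0, 0, 0, 0, 0, 0, 0, 0, 0, 0, 0, 0, 0, 0, 0, 0, 0, 0, 0, 0, 0, 0, 0,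 0, 0, 0, 0, 0, 0, 0, 0, 0, 0, 0, 0, 0, 0, 0, 0, 0, 0, 0, 0, 0, 0, 0, 0, 0, 0, 0, 0, 0, 0, 0, 0, 0, 0, 0, 0, 0, 0, 0, 0, 0, 0, 0, 0, 0, 0, 0, 0, 0, 0, 0, 0, 0, 0, 0, 0, 0, 0, 0, 0, 0, 0, 0, 0, 0, 0, 0, 0, 0, 0, 0, 0, 0, 0, 0, 0, 0, 0, 0, 0, 0, 0, 0, 0, 0, 0, 0, 0, 0, 0, 0, 0, 0, 0, 0, 0, 0, 0, 0, 0, 0, 0, 0, 0, 0, 0, 0, 0, 0, 0, 0, 0, 0, 0, 0, 0, 0, 0],
    [0, 0, 0, 0, 0, 0, 0, 0, 0, 0, 0, 0, 0, 0, 0, 0, 0, 0, 0, 0, 0, 0, 0, 0, 0, 0, 0, 0, 0, 0, 0, 0, 0, 0, 0, 0, 0, 0, 0, 0, 0, 0, 0, 1, 1, 0, 0, 0, 0, 0, 0, 0, 0, 0, 0, 0, 0, 0, 0, 0, 0, 0, 0, 0, 0, 0, 0, 0, 0, 0, 0, 0, 0, 0, 0, 0, 0, 0, 0, 0, 0, 0, 0, 0, 0, 0, 0, 0, 0, 0, 0, 0, 0, 0, 0, 0, 0, 0, 0, 0, 0, 0, 0, 0, 0, 0, 0, 0, 0, 0, 0, 0, 0, 0, 0, 0, 0, 0, 0, 0, 0, 0, 0, 0, 0, 0, 0, 0, 0, 0, 0,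 0, 0, 0, 0, 0, 0, 0, 0, 0, 0, 0, 0, 0, 0, 0, 0, 0, 0, 0, 0, 0, 0, 0, 0, 0, 0, 0, 0, 0, 0, 0, 0, 0, 0, 0, 0, 0, 0, 0, 0, 0, 0, 0, 0, 0, 0, 0, 0, 0, 0, 0, 0, 0, 0, 0, 0, 0, 0, 0, 0, 0, 0, 0, 0, 0, 0, 0, 0, 0, 0, 0, 0, 0, 0, 0, 0, 0, 0, 0, 0, 0, 0, 0, 0, 0, 0, 0, 0, 0, 0, 0, 0, 0, 0, 0, 0, 0, 0, 0, 0, 0, 0, 0, 0, 0, 0, 0, 0, 0, 0, 0, 0, 0, 0, 0, 0, 0, 0, 0, 0, 0, 0, 0, 0, 0, 0, 0, 0, 0, 0, 0, 0, 0, 0, 0, 0, 0, 0, 0, 0, 0, 0, 0, 0, 0, 0, 0, 0, 0, 0, 0, 0, 0, 0, 0, 0, 0, 0, 0, 0, 0, 0, 0, 0, 0, 0, 0, 0, 0, 0, 0, 0, 0, 0, 0, 0, 0, 0, 0, 0, 0, 0, 0, 0, 0, 0, 0, 0, 0, 0, 0, 0, 0, 0, 0, 0, 0, 0, 0, 0, 0, 0, 0, 0, 0, 0, 0, 0, 0, 0, 0, 0, 0, 0, 0, 0, 0, 0, 0, 0, 0, 0, 0, 0, 0, 0, 0, 0, 0, 0, 0, 0, 0, 0, 0, 0],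
    [0, 0, 0, 0, 0, 0, 0, 0, 0, 0, 0, 0, 0, 0, 0, 0, 0, 0, 0, 0, 0, 0, 0, 0, 0, 0, 0, 0, 0, 0, 0, 0, 0, 0, 0, 0, 0, 0, 0, 0, 0, 0, 0, 0, 0, 0, 0, 0, 0, 0, 0, 0, 1, 0, 1, 0, 0, 0, 0, 0, 0, 0, 0, 0, 0, 0, 0, 0, 0, 0, 0, 0, 0, 0, 0, 0, 0, 0, 0, 0, 0, 0, 0, 0, 0, 0, 0, 0, 0, 0, 0, 0, 0, 0, 0, 0, 0, 0, 0, 0, 0, 0, 0, 0, 0, 0, 0, 0, 0, 0, 0, 0, 0, 0, 0, 0, 0, 0, 0, 0, 0, 0, 0, 0, 0, 0, 0, 0, 0, 0, 0, 0, 0, 0, 0, 0, 0, 0, 0, 0, 0, 0, 0, 0, 0, 0, 0, 0, 0, 0, 0, 0, 0, 0, 0, 0, 0, 0, 0, 0, 0, 0, 0, 0, 0, 0, 0, 0, 0, 0, 0, 0, 0, 0, 0, 0, 0, 0, 0, 0, 0, 0, 0, 0, 0, 0, 0, 0, 0, 0, 0, 0, 0, 0, 0, 0, 0, 0, 0, 0, 0, 0, 0, 0, 0, 0, 0, 0, 0, 0, 0, 0, 0, 0, 0, 0, 0, 0, 0, 0, 0, 0, 0, 0, 0, 0, 0, 0, 0, 0, 0, 0, 0, 0, 0, 0, 0, 0, 0, 0, 0, 0, 0, 0, 0, 0, 0, 0, 0,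 0, 0, 0, 0, 0, 0, 0, 0, 0, 0, 0, 0, 0, 0, 0, 0, 0, 0, 0, 0, 0, 0, 0, 0, 0, 0, 0, 0, 0, 0, 0, 0, 0, 0, 0, 0, 0, 0, 0, 0, 0, 0, 0, 0, 0, 0, 0, 0, 0, 0, 0, 0, 0, 0, 0, 0, 0, 0, 0, 0, 0, 0, 0, 0, 0, 0, 0, 0, 0, 0, 0, 0, 0, 0, 0, 0, 0, 0, 0, 0, 0, 0, 0, 0, 0, 0, 0, 0, 0, 0, 0, 0, 0, 0, 0, 0, 0, 0, 0, 0, 0, 0, 0, 0, 0, 0, 0, 0, 0, 0, 0, 0, 0, 0, 0, 0, 0, 0]]

/-- part of the exponents -/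
def twoVecs2 : List (List ℤ) :=
  [[0, 0, 0, 0, 0, 0, 0, 0, 0, 0, 0, 0, 0, 0, 0, 0, 0, 0, 0, 0, 0, 0, 0, 0, 0, 0, 0, 0, 0, 0, 0, 0, 0, 0, 0, 0, 0, 0, 0, 0, 0, 0, 0, 0, 0, 0, 0, 0, 1, 0, 0, 0, 0, 0, 1, 0, 0, 0, 0, 0, 0, 0, 0, 0, 0, 0, 0, 0, 0, 0, 0, 0, 0, 0, 0, 0, 0, 0, 0, 0, 0, 0, 0, 0, 0, 0, 0, 0, 0, 0, 0, 0, 0, 0, 0, 0, 0, 0, 0, 0, 0, 0, 0, 0, 0, 0, 0, 0, 0, 0, 0, 0, 0, 0, 0, 0, 0, 0, 0, 0, 0, 0, 0, 0, 0, 0, 0, 0, 0, 0, 0, 0, 0, 0, 0, 0, 0, 0, 0, 0, 0, 0, 0, 0, 0, 0, 0, 0, 0, 0, 0, 0, 0, 0, 0, 0, 0, 0, 0, 0, 0, 0, 0, 0, 0, 0, 0, 0, 0, 0, 0, 0, 0, 0, 0, 0, 0, 0, 0, 0, 0, 0, 0, 0, 0, 0, 0, 0, 0, 0, 0, 0, 0, 0, 0, 0, 0, 0, 0, 0, 0, 0, 0, 0, 0, 0, 0, 0, 0, 0, 0, 0, 0, 0, 0, 0, 0, 0, 0, 0, 0, 0, 0, 0, 0, 0, 0, 0, 0, 0, 0, 0, 0, 0, 0, 0, 0, 0, 0,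 0, 0, 0, 0, 0, 0, 0, 0, 0, 0, 0, 0, 0, 0, 0, 0, 0, 0, 0, 0, 0, 0, 0, 0, 0, 0, 0, 0, 0, 0, 0, 0, 0, 0, 0, 0, 0, 0, 0, 0, 0, 0, 0, 0, 0, 0, 0, 0, 0, 0, 0, 0, 0, 0, 0, 0, 0, 0, 0, 0, 0, 0, 0, 0, 0, 0, 0, 0, 0, 0, 0, 0, 0, 0, 0, 0, 0, 0, 0, 0, 0, 0, 0, 0, 0, 0, 0, 0, 0, 0, 0, 0, 0, 0, 0, 0, 0, 0, 0, 0, 0, 0, 0, 0, 0, 0, 0, 0, 0, 0, 0, 0, 0, 0, 0, 0, 0, 0, 0, 0, 0, 0, 0, 0, 0, 0, 0, 0],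
    [0, 0, 0, 0, 0, 0, 0, 0, 0, 0, 0, 0, 0, 0, 0, 0, 0, 0, 0, 0, 0, 0, 0, 0, 0, 0, 0, 0, 0, 0, 0, 0, 0, 0, 0, 0, 0, 0, 0, 0, 0, 0, 0, 0, 0, 0, 0, 0, 0, 0, 0, 0, 0, 1, 1, 0, 0, 0, 0, 0, 0, 0, 0, 0, 0, 0, 0, 0, 0, 0, 0, 0, 0, 0, 0, 0, 0, 0, 0, 0, 0, 0, 0, 0, 0, 0, 0, 0, 0, 0, 0, 0, 0, 0, 0, 0, 0, 0, 0, 0, 0, 0, 0, 0, 0, 0, 0, 0, 0, 0, 0, 0, 0, 0, 0, 0, 0, 0, 0, 0, 0, 0, 0, 0, 0, 0, 0, 0, 0, 0, 0, 0, 0, 0, 0, 0, 0, 0, 0, 0, 0, 0, 0, 0, 0, 0, 0, 0, 0, 0, 0, 0, 0, 0, 0, 0, 0, 0, 0, 0, 0, 0, 0, 0, 0, 0, 0, 0, 0, 0, 0, 0, 0, 0, 0, 0, 0, 0, 0, 0, 0, 0, 0, 0, 0, 0, 0, 0, 0, 0, 0, 0, 0, 0, 0, 0, 0, 0, 0, 0, 0, 0, 0, 0, 0, 0, 0, 0, 0, 0, 0, 0, 0, 0, 0, 0, 0, 0, 0, 0, 0, 0, 0, 0, 0, 0, 0, 0, 0, 0, 0, 0, 0, 0, 0, 0, 0, 0, 0, 0, 0, 0, 0, 0, 0, 0, 0, 0, 0,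 0, 0, 0, 0, 0, 0, 0, 0, 0, 0, 0, 0, 0, 0, 0, 0, 0, 0, 0, 0, 0, 0, 0, 0, 0, 0, 0, 0, 0, 0, 0, 0, 0, 0, 0, 0, 0, 0, 0, 0, 0, 0, 0, 0, 0, 0, 0, 0, 0, 0, 0, 0, 0, 0, 0, 0, 0, 0, 0, 0, 0, 0, 0, 0, 0, 0, 0, 0, 0, 0, 0, 0, 0, 0, 0, 0, 0, 0, 0, 0, 0, 0, 0, 0, 0, 0, 0, 0, 0, 0, 0, 0, 0, 0, 0, 0, 0, 0, 0, 0, 0, 0, 0, 0, 0, 0, 0, 0, 0, 0, 0, 0, 0, 0, 0, 0, 0, 0],
    [0, 0, 0, 0, 0, 0, 0, 0, 0, 0, 0, 0, 0, 0, 0, 0, 0, 0, 0, 0, 0, 0, 0, 0, 0, 0, 0, 0, 0, 0, 0, 0, 0, 0, 0, 0, 0, 0, 0, 0, 0, 0, 0, 0, 0, 0, 0, 0, 0, 0, 0, 0, 0, 0, 0, 0, 0, 0, 0, 0, 0, 0, 0, 0, 0, 0, 0, 0, 0, 0, 0, 0, 0, 0, 0, 0, 0, 0, 0, 0, 0, 0, 0, 0, 0, 0, 0, 0, 0, 0, 0, 0, 0, 0, 0, 0, 0, 0, 0, 0, 0, 0, 0, 0, 0, 0, 0, 0, 0, 0, 0, 0, 0, 0, 0, 0, 0, 0, 0, 0, 0, 0, 0, 0, 0, 0, 0, 0, 0, 0, 0,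 0, 0, 0, 0, 0, 0, 0, 0, 0, 0, 0, 0, 0, 0, 0, 0, 0, 0, 0, 0, 0, 0, 0, 0, 0, 0, 0, 0, 0, 0, 0, 0, 0, 0, 0, 0, 0, 0, 0, 0, 0, 0, 0, 0, 0, 0, 1, 0, 0, 0, 0, 0, 0, 0, 0, 0, 0, 0, 1, 0, 0, 0, 0, 0, 0, 0, 0, 0, 0, 0, 0, 0, 0, 0, 0, 0, 0, 0, 0, 0, 0, 0, 0, 0, 0, 0, 0, 0, 0, 0, 0, 0, 0, 0, 0, 0, 0, 0, 0, 0, 0, 0, 0, 0, 0, 0, 0, 0, 0, 0, 0, 0, 0, 0, 0, 0, 0, 0, 0, 0, 0, 0, 0, 0, 0, 0, 0, 0, 0, 0, 0, 0, 0, 0, 0, 0, 0, 0, 0, 0, 0, 0, 0, 0, 0, 0, 0, 0, 0, 0, 0, 0, 0, 0, 0, 0, 0, 0, 0, 0, 0, 0, 0, 0, 0, 0, 0, 0, 0, 0, 0, 0, 0, 0, 0, 0, 0, 0, 0, 0, 0, 0, 0, 0, 0, 0, 0, 0, 0, 0, 0, 0, 0, 0, 0, 0, 0, 0, 0, 0, 0, 0, 0, 0, 0, 0, 0, 0, 0, 0, 0, 0, 0, 0, 0, 0, 0, 0, 0, 0, 0, 0, 0, 0, 0, 0, 0, 0, 0, 0, 0, 0, 0, 0, 0, 0],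
    [0, 0, 0, 0, 0, 0, 0, 0, 0, 0, 0, 0, 0, 0, 0, 0, 0, 0, 0, 0, 0, 0, 0, 0, 0, 0, 0, 0, 0, 0, 0, 0, 0, 0, 0, 0, 0, 0, 0, 0, 0, 0, 0, 0, 0, 0, 0, 0, 0, 0, 0, 0, 0, 0, 0, 0, 0, 0, 0, 0, 0, 0, 0, 0, 0, 0, 0, 0, 0, 0, 0, 0, 0, 0, 0, 0, 0, 0, 0, 0, 0, 0, 0, 0, 0, 0, 0, 0, 0, 0, 0, 0, 0, 0, 0, 0, 0, 0, 0, 0, 0, 0, 0, 0, 0, 0, 0, 0, 0, 0, 0, 0, 0, 0, 0, 0, 0, 0, 0, 0, 0, 0, 0, 0, 0, 0, 0, 0, 0, 0, 0, 0, 0, 0, 0, 0, 0, 0, 0, 0, 0, 0, 0, 0, 0, 0, 0, 0, 0, 0, 0, 0, 0, 0, 0, 0, 0, 0, 0, 0, 0, 0, 0, 0, 0, 0, 0, 0, 0, 0, 0, 0, 0, 0, 0, 0, 0, 0, 0, 0, 1, 0, 0, 0, 0, 0, 0, 0, 0, 1, 0, 0, 0, 0, 0, 0, 0, 0, 0, 0, 0, 0, 0, 0, 0, 0, 0, 0, 0, 0, 0, 0, 0, 0, 0, 0, 0, 0, 0, 0, 0, 0, 0, 0, 0, 0, 0, 0, 0, 0, 0, 0, 0, 0, 0, 0, 0, 0, 0, 0, 0, 0, 0, 0, 0, 0, 0, 0, 0,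 0, 0, 0, 0, 0, 0, 0, 0, 0, 0, 0, 0, 0, 0, 0, 0, 0, 0, 0, 0, 0, 0, 0, 0, 0, 0, 0, 0, 0, 0, 0, 0, 0, 0, 0, 0, 0, 0, 0, 0, 0, 0, 0, 0, 0, 0, 0, 0, 0, 0, 0, 0, 0, 0, 0, 0, 0, 0, 0, 0, 0, 0, 0, 0, 0, 0, 0, 0, 0, 0, 0, 0, 0, 0, 0, 0, 0, 0, 0, 0, 0, 0, 0, 0, 0, 0, 0, 0, 0, 0, 0, 0, 0, 0, 0, 0, 0, 0, 0, 0, 0, 0, 0, 0, 0, 0, 0, 0, 0, 0, 0, 0, 0, 0, 0, 0, 0, 0],
    [0, 0, 0, 0, 0, 0, 0, 0, 0, 0, 0, 0, 0, 0, 0, 0, 0, 0, 0, 0, 0, 0, 0, 0, 0, 0, 0, 0, 0, 0, 0, 0, 0, 0, 0, 0, 0, 0, 0, 0, 0, 0, 0, 0, 0, 0, 0, 0, 0, 0, 0, 0, 0, 0, 0, 0, 0, 0, 0, 0, 0, 0, 0, 0, 0, 0, 0, 0, 0, 0, 0, 0, 0, 0, 0, 0, 0, 0, 0, 0, 0, 0, 0, 0, 0, 0, 0, 0, 0, 0, 0, 0, 0, 0, 0, 0, 0, 0, 0, 0, 0, 0, 0, 0, 0, 0, 0, 0, 0, 0, 0, 0, 0, 0, 0, 0, 0, 0, 0, 0, 0, 0, 0, 0, 0, 0, 0, 0, 0, 0, 0,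 0, 0, 0, 0, 0, 0, 0, 0, 0, 0, 0, 0, 0, 0, 0, 0, 0, 0, 0, 0, 0, 0, 0, 0, 0, 0, 0, 0, 0, 0, 0, 0, 0, 0, 0, 0, 0, 0, 0, 0, 0, 0, 0, 0, 0, 0, 0, 0, 0, 0, 1, 0, 0, 0, 0, 0, 0, 0, 1, 0, 0, 0, 0, 0, 0, 0, 0, 0, 0, 0, 0, 0, 0, 0, 0, 0, 0, 0, 0, 0, 0, 0, 0, 0, 0, 0, 0, 0, 0, 0, 0, 0, 0, 0, 0, 0, 0, 0, 0, 0, 0, 0, 0, 0, 0, 0, 0, 0, 0, 0, 0, 0, 0, 0, 0, 0, 0, 0, 0, 0, 0, 0, 0, 0, 0, 0, 0, 0, 0, 0, 0, 0, 0, 0, 0, 0, 0, 0, 0, 0, 0, 0, 0, 0, 0, 0, 0, 0, 0, 0, 0, 0, 0, 0, 0, 0, 0, 0, 0, 0, 0, 0, 0, 0, 0, 0, 0, 0, 0, 0, 0, 0, 0, 0, 0, 0, 0, 0, 0, 0, 0, 0, 0, 0, 0, 0, 0, 0, 0, 0, 0, 0, 0, 0, 0, 0, 0, 0, 0, 0, 0, 0, 0, 0, 0, 0, 0, 0, 0, 0, 0, 0, 0, 0, 0, 0, 0, 0, 0, 0, 0, 0, 0, 0, 0, 0, 0, 0, 0, 0, 0, 0, 0, 0, 0, 0],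
    [0, 0, 0, 0, 0, 0, 0, 0, 0, 0, 0, 0, 0, 0, 0, 0, 0, 0, 0, 0, 0, 0, 0, 0, 0, 0, 0, 0, 0, 0, 0, 0, 0, 0, 0, 0, 0, 0, 0, 0, 0, 0, 0, 0, 0, 0, 0, 0, 0, 0, 0, 0, 0, 0, 0, 0, 0, 0, 0, 0, 0, 0, 0, 0, 0, 0, 0, 0, 0, 0, 0, 0, 0, 0, 0, 0, 0, 0, 0, 0, 0, 0, 0, 0, 0, 0, 0, 0, 0, 0, 0, 0, 0, 0, 0, 0, 0, 0, 0, 0, 0, 0, 0, 0, 0, 0, 0, 0, 0, 0, 0, 0, 0, 0, 0, 0, 0, 0, 0, 0, 0, 0, 0, 0, 0, 0, 0, 0, 0, 0, 0, 0, 0, 0, 0, 0, 0, 0, 0, 0, 0, 0, 0, 0, 0, 0, 0, 0, 0, 0, 0, 0, 0, 0, 0, 0, 0, 0, 0, 0, 0, 0, 0, 0, 0, 0, 0, 0, 0, 0, 0, 0, 0, 0, 0, 0, 0, 0, 0, 0, 0, 0, 0, 0, 0, 0, 0, 0, 0, 0, 0, 0, 0, 0, 0, 0, 0, 0, 0, 0, 0, 0, 0, 0, 0, 0, 0, 0, 0, 0, 0, 0, 0, 0, 0, 0, 0, 0, 1, 0, 0, 0, 0, 0, 0, 0, 0, 0, 0, 0, 1, 0, 0, 0, 0, 0, 0, 0, 0, 0, 0, 0, 0, 0, 0, 0, 0, 0, 0,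 0, 0, 0, 0, 0, 0, 0, 0, 0, 0, 0, 0, 0, 0, 0, 0, 0, 0, 0, 0, 0, 0, 0, 0, 0, 0, 0, 0, 0, 0, 0, 0, 0, 0, 0, 0, 0, 0, 0, 0, 0, 0, 0, 0, 0, 0, 0, 0, 0, 0, 0, 0, 0, 0, 0, 0, 0, 0, 0, 0, 0, 0, 0, 0, 0, 0, 0, 0, 0, 0, 0, 0, 0, 0, 0, 0, 0, 0, 0, 0, 0, 0, 0, 0, 0, 0, 0, 0, 0, 0, 0, 0, 0, 0, 0, 0, 0, 0, 0, 0, 0, 0, 0, 0, 0, 0, 0, 0, 0, 0, 0, 0, 0, 0, 0, 0, 0, 0],
    [0, 0, 0, 0, 0, 0, 0, 0, 0, 0, 0, 0, 0, 0, 0, 0, 0, 0, 0, 0, 0, 0, 0, 0, 0, 0, 0, 0, 0, 0, 0, 0, 0, 0, 0, 0, 0, 0, 0, 0, 0, 0, 0, 0, 0, 0, 0, 0, 0, 0, 0, 0, 0, 0, 0, 0, 0, 0, 0, 0, 0, 0, 0, 0, 0, 0, 0, 0, 0, 0, 0, 0, 0, 0, 0, 0, 0, 0, 0, 0, 0, 0, 0, 0, 0, 0, 0, 0, 0, 0, 0, 0, 0, 0, 0, 0, 0, 0, 0, 0, 0, 0, 0, 0, 0, 0, 0, 0, 0, 0, 0, 0, 0, 0, 0, 0, 0, 0, 0, 0, 0, 0, 0, 0, 0, 0, 0, 0, 0, 0, 0,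 0, 0, 0, 0, 0, 0, 0, 0, 0, 0, 0, 0, 0, 0, 0, 0, 0, 0, 0, 0, 0, 0, 0, 0, 0, 0, 0, 0, 0, 0, 0, 0, 0, 0, 0, 0, 0, 0, 0, 0, 0, 0, 0, 0, 0, 0, 0, 0, 0, 0, 0, 0, 0, 0, 0, 0, 0, 0, 0, 0, 0, 0, 0, 0, 0, 0, 0, 0, 1, 0, 0, 0, 0, 0, 0, 0, 0, 0, 1, 0, 0, 0, 0, 0, 0, 0, 0, 0, 0, 0, 0, 0, 0, 0, 0, 0, 0, 0, 0, 0, 0, 0, 0, 0, 0, 0, 0, 0, 0, 0, 0, 0, 0, 0, 0, 0, 0, 0, 0, 0, 0, 0, 0, 0, 0, 0, 0, 0, 0, 0, 0, 0, 0, 0, 0, 0, 0, 0, 0, 0, 0, 0, 0, 0, 0, 0, 0, 0, 0, 0, 0, 0, 0, 0, 0, 0, 0, 0, 0, 0, 0, 0, 0, 0, 0, 0, 0, 0, 0, 0, 0, 0, 0, 0, 0, 0, 0, 0, 0, 0, 0, 0, 0, 0, 0, 0, 0, 0, 0, 0, 0, 0, 0, 0, 0, 0, 0, 0, 0, 0, 0, 0, 0, 0, 0, 0, 0, 0, 0, 0, 0, 0, 0, 0, 0, 0, 0, 0, 0, 0, 0, 0, 0, 0, 0, 0, 0, 0, 0, 0, 0, 0, 0, 0, 0, 0],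
    [0, 0, 0, 0, 0, 0, 0, 0, 0, 0, 0, 0, 0, 0, 0, 0, 0, 0, 0, 0, 0, 0, 0, 0, 0, 0, 0, 0, 0, 0, 0, 0, 0, 0, 0, 0, 0, 0, 0, 0, 0, 0, 0, 0, 0, 0, 0, 0, 0, 0, 0, 0, 0, 0, 0, 0, 0, 0, 0, 0, 0, 0, 0, 0, 0, 0, 0, 0, 0, 0, 0, 0, 0, 0, 0, 0, 0, 0, 0, 0, 0, 0, 0, 0, 0, 0, 0, 0, 0, 0, 0, 0, 0, 0, 0, 0, 0, 0, 0, 0, 0, 0, 0, 0, 0, 0, 0, 0, 0, 0, 0, 0, 0, 0, 0, 0, 0, 0, 0, 0, 0, 0, 0, 0, 0, 0, 0, 0, 0, 0, 0, 0, 0, 0, 0, 0, 0, 0, 0, 0, 0, 0, 0, 0, 0, 0, 0, 0, 0, 0, 0, 0, 0, 0, 0, 0, 0, 0, 0, 0, 0, 0, 0, 0, 0, 0, 0, 0, 0, 0, 0, 0, 0, 0, 0, 0, 0, 0, 0, 0, 0, 0, 1, 0, 0, 0, 0, 0, 0, 1, 0, 0, 0, 0, 0, 0, 0, 0, 0, 0, 0, 0, 0, 0, 0, 0, 0, 0, 0, 0, 0, 0, 0, 0, 0, 0, 0, 0, 0, 0, 0, 0, 0, 0, 0, 0, 0, 0, 0, 0, 0, 0, 0, 0, 0, 0, 0, 0, 0, 0, 0, 0, 0, 0, 0, 0, 0, 0, 0,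 0, 0, 0, 0, 0, 0, 0, 0, 0, 0, 0, 0, 0, 0, 0, 0, 0, 0, 0, 0, 0, 0, 0, 0, 0, 0, 0, 0, 0, 0, 0, 0, 0, 0, 0, 0, 0, 0, 0, 0, 0, 0, 0, 0, 0, 0, 0, 0, 0, 0, 0, 0, 0, 0, 0, 0, 0, 0, 0, 0, 0, 0, 0, 0, 0, 0, 0, 0, 0, 0, 0, 0, 0, 0, 0, 0, 0, 0, 0, 0, 0, 0, 0, 0, 0, 0, 0, 0, 0, 0, 0, 0, 0, 0, 0, 0, 0, 0, 0, 0, 0, 0, 0, 0, 0, 0, 0, 0, 0, 0, 0, 0, 0, 0, 0, 0, 0, 0],
    [0, 0, 0, 0, 0, 0, 0, 0, 0, 0, 0, 0, 0, 0, 0, 0, 0, 0, 0, 0, 0, 0, 0, 0, 0, 0, 0, 0, 0, 0, 0, 0, 0, 0, 0, 0, 0, 0, 0, 0, 0, 0, 0, 0, 0, 0, 0, 0, 0, 0, 0, 0, 0, 0, 0, 0, 0, 0, 0, 0, 0, 0, 0, 0, 0, 0, 0, 0, 0, 0, 0, 0, 0, 0, 0, 0, 0, 0, 0, 0, 0, 0, 0, 0, 0, 0, 0, 0, 0, 0, 0, 0, 0, 0, 0, 0, 0, 0, 0, 0, 0, 0, 0, 0, 0, 0, 0, 0, 0, 0, 0, 0, 0, 0, 0, 0, 0, 0, 0, 0, 0, 0, 0, 0, 0, 0, 0, 0, 0, 0, 0,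 0, 0, 0, 0, 0, 0, 0, 0, 0, 0, 0, 0, 0, 0, 0, 0, 0, 0, 0, 0, 0, 0, 0, 0, 0, 0, 0, 0, 0, 0, 0, 0, 0, 0, 0, 0, 0, 0, 0, 0, 0, 0, 0, 0, 0, 0, 0, 0, 0, 0, 0, 0, 0, 0, 0, 0, 0, 0, 0, 0, 0, 0, 0, 0, 0, 0, 0, 0, 0, 0, 0, 0, 0, 0, 0, 0, 0, 0, 0, 0, 0, 0, 0, 0, 0, 0, 0, 0, 0, 0, 1, 0, 0, 0, 0, 0, 0, 0, 0, 1, 0, 0, 0, 0, 0, 0, 0, 0, 0, 0, 0, 0, 0, 0, 0, 0, 0, 0, 0, 0, 0, 0, 0, 0, 0, 0, 0, 0, 0, 0, 0, 0, 0, 0, 0, 0, 0, 0, 0, 0, 0, 0, 0, 0, 0, 0, 0, 0, 0, 0, 0, 0, 0, 0, 0, 0, 0, 0, 0, 0, 0, 0, 0, 0, 0, 0, 0, 0, 0, 0, 0, 0, 0, 0, 0, 0, 0, 0, 0, 0, 0, 0, 0, 0, 0, 0, 0, 0, 0, 0, 0, 0, 0, 0, 0, 0, 0, 0, 0, 0, 0, 0, 0, 0, 0, 0, 0, 0, 0, 0, 0, 0, 0, 0, 0, 0, 0, 0, 0, 0, 0, 0, 0, 0, 0, 0, 0, 0, 0, 0, 0, 0, 0, 0, 0, 0],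
    [0, 0, 0, 0, 0, 0, 0, 0, 0, 0, 0, 0, 0, 0, 0, 0, 0, 0, 0, 0, 0, 0, 0, 0, 0, 0, 0, 0, 0, 0, 0, 0, 0, 0, 0, 0, 0, 0, 0, 0, 0, 0, 0, 0, 0, 0, 0, 0, 0, 0, 0, 0, 0, 0, 0, 0, 0, 0, 0, 0, 0, 0, 0, 0, 0, 0, 0, 0, 0, 0, 0, 0, 0, 0, 0, 0, 0, 0, 0, 0, 0, 0, 0, 0, 0, 0, 0, 0, 0, 0, 0, 0, 0, 0, 0, 0, 0, 0, 0, 0, 0, 0, 0, 0, 0, 0, 0, 0, 0, 0, 0, 0, 0, 0, 0, 0, 0, 0, 0, 0, 0, 0, 0, 0, 0, 0, 0, 0, 0, 0, 0, 0, 0, 0, 0, 0, 0, 0, 0, 0, 0, 0, 0, 0, 0, 0, 0, 0, 0, 0, 0, 0, 0, 0, 0, 0, 0, 0, 0, 0, 0, 0, 0, 0, 0, 0, 0, 0, 0, 0, 0, 0, 0, 0, 0, 0, 0, 0, 0, 0, 0, 0, 0, 0, 0, 0, 0, 0, 0, 0, 0, 0, 0, 0, 0, 0, 0, 0, 0, 0, 0, 1, 0, 0, 0, 0, 0, 0, 0, 1, 0, 0, 0, 0, 0, 0, 0, 0, 0, 0, 0, 0, 0, 0, 0, 0, 0, 0, 0, 0, 0, 0, 0, 0, 0, 0, 0, 0, 0, 0, 0, 0, 0, 0, 0, 0, 0, 0, 0,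 0, 0, 0, 0, 0, 0, 0, 0, 0, 0, 0, 0, 0, 0, 0, 0, 0, 0, 0, 0, 0, 0, 0, 0, 0, 0, 0, 0, 0, 0, 0, 0, 0, 0, 0, 0, 0, 0, 0, 0, 0, 0, 0, 0, 0, 0, 0, 0, 0, 0, 0, 0, 0, 0, 0, 0, 0, 0, 0, 0, 0, 0, 0, 0, 0, 0, 0, 0, 0, 0, 0, 0, 0, 0, 0, 0, 0, 0, 0, 0, 0, 0, 0, 0, 0, 0, 0, 0, 0, 0, 0, 0, 0, 0, 0, 0, 0, 0, 0, 0, 0, 0, 0, 0, 0, 0, 0, 0, 0, 0, 0, 0, 0, 0, 0, 0, 0, 0]]

/-- part of the exponents -/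
def twoVecs3 : List (List ℤ) :=
  [[0, 0, 0, 0, 0, 0, 0, 0, 0, 0, 0, 0, 0, 0, 0, 0, 0, 0, 0, 0, 0, 0, 0, 0, 0, 0, 0, 0, 0, 0, 0, 0, 0, 0, 0, 0, 0, 0, 0, 0, 0, 0, 0, 0, 0, 0, 0, 0, 0, 0, 0, 0, 0, 0, 0, 0, 0, 0, 0, 0, 0, 0, 0, 0, 0, 0, 0, 0, 0, 0, 0, 0, 0, 0, 0, 0, 0, 0, 0, 0, 0, 0, 0, 0, 0, 0, 0, 0, 0, 0, 0, 0, 0, 0, 0, 0, 0, 0, 0, 0, 0, 0, 0, 0, 0, 0, 0, 0, 0, 0, 0, 0, 0, 0, 0, 0, 0, 0, 0, 0, 0, 0, 1, 0, 0, 0, 0, 0, 0, 0, 0, 0, 0, 0, 0, 1, 0, 0, 0, 0, 0, 0, 0, 0, 0, 0, 0, 0, 0, 0, 0, 0, 0, 0, 0, 0, 0, 0, 0, 0, 0, 0, 0, 0, 0, 0, 0, 0, 0, 0, 0, 0, 0, 0, 0, 0, 0, 0, 0, 0, 0, 0, 0, 0, 0, 0, 0, 0, 0, 0, 0, 0, 0, 0, 0, 0, 0, 0, 0, 0, 0, 0, 0, 0, 0, 0, 0, 0, 0, 0, 0, 0, 0, 0, 0, 0, 0, 0, 0, 0, 0, 0, 0, 0, 0, 0, 0, 0, 0, 0, 0, 0, 0, 0, 0, 0, 0, 0, 0,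 0, 0, 0, 0, 0, 0, 0, 0, 0, 0, 0, 0, 0, 0, 0, 0, 0, 0, 0, 0, 0, 0, 0, 0, 0, 0, 0, 0, 0, 0, 0, 0, 0, 0, 0, 0, 0, 0, 0, 0, 0, 0, 0, 0, 0, 0, 0, 0, 0, 0, 0, 0, 0, 0, 0, 0, 0, 0, 0, 0, 0, 0, 0, 0, 0, 0, 0, 0, 0, 0, 0, 0, 0, 0, 0, 0, 0, 0, 0, 0, 0, 0, 0, 0, 0, 0, 0, 0, 0, 0, 0, 0, 0, 0, 0, 0, 0, 0, 0, 0, 0, 0, 0, 0, 0, 0, 0, 0, 0, 0, 0, 0, 0, 0, 0, 0, 0, 0, 0, 0, 0, 0, 0, 0, 0, 0, 0, 0],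
    [0, 0, 0, 0, 0, 0, 0, 0, 0, 0, 0, 0, 0, 0, 0, 0, 0, 0, 0, 0, 0, 0, 0, 0, 0, 0, 0, 0, 0, 0, 0, 0, 0, 0, 0, 0, 0, 0, 0, 0, 0, 0, 0, 0, 0, 0, 0, 0, 0, 0, 0, 0, 0, 0, 0, 0, 0, 0, 0, 0, 0, 0, 0, 0, 0, 0, 0, 0, 0, 0, 0, 0, 0, 0, 0, 0, 0, 0, 0, 0, 0, 0, 0, 0, 0, 0, 0, 0, 0, 0, 0, 0, 0, 0, 0, 0, 0, 0, 0, 0, 0, 0, 0, 0, 0, 0, 0, 0, 0, 0, 0, 0, 0, 0, 0, 0, 0, 0, 0, 0, 0, 0, 0, 0, 0, 0, 0, 0, 0, 0, 0, 0, 0, 0, 0, 0, 0, 0, 0, 0, 0, 1, 0, 0, 0, 0, 0, 0, 0, 0, 0, 0, 1, 0, 0, 0, 0, 0, 0, 0, 0, 0, 0, 0, 0, 0, 0, 0, 0, 0, 0, 0, 0, 0, 0, 0, 0, 0, 0, 0, 0, 0, 0, 0, 0, 0, 0, 0, 0, 0, 0, 0, 0, 0, 0, 0, 0, 0, 0, 0, 0, 0, 0, 0, 0, 0, 0, 0, 0, 0, 0, 0, 0, 0, 0, 0, 0, 0, 0, 0, 0, 0, 0, 0, 0, 0, 0, 0, 0, 0, 0, 0, 0, 0, 0, 0, 0, 0, 0, 0, 0, 0, 0, 0, 0, 0, 0, 0, 0,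 0, 0, 0, 0, 0, 0, 0, 0, 0, 0, 0, 0, 0, 0, 0, 0, 0, 0, 0, 0, 0, 0, 0, 0, 0, 0, 0, 0, 0, 0, 0, 0, 0, 0, 0, 0, 0, 0, 0, 0, 0, 0, 0, 0, 0, 0, 0, 0, 0, 0, 0, 0, 0, 0, 0, 0, 0, 0, 0, 0, 0, 0, 0, 0, 0, 0, 0, 0, 0, 0, 0, 0, 0, 0, 0, 0, 0, 0, 0, 0, 0, 0, 0, 0, 0, 0, 0, 0, 0, 0, 0, 0, 0, 0, 0, 0, 0, 0, 0, 0, 0, 0, 0, 0, 0, 0, 0, 0, 0, 0, 0, 0, 0, 0, 0, 0, 0, 0],
    [0, 0, 0, 0, 0, 0, 0, 0, 0, 0, 0, 0, 0, 0, 0, 0, 0, 0, 0, 0, 0, 0, 0, 0, 0, 0, 0, 0, 0, 0, 0, 0, 0, 0, 0, 0, 0, 0, 0, 0, 0, 0, 0, 0, 0, 0, 0, 0, 0, 0, 0, 0, 0, 0, 0, 0, 0, 0, 0, 0, 0, 0, 0, 0, 0, 0, 0, 0, 0, 0, 0, 0, 0, 0, 0, 0, 0, 0, 0, 0, 0, 0, 0, 0, 0, 0, 0, 0, 0, 0, 0, 0, 0, 0, 0, 0, 0, 0, 0, 0, 0, 0, 0, 0, 0, 0, 0, 0, 0, 0, 0, 0, 0, 0, 0, 0, 0, 0, 0, 0, 0, 0, 0, 0, 0, 0, 0, 0, 0, 0, 0,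 0, 0, 0, 0, 0, 0, 0, 0, 0, 0, 0, 0, 0, 0, 0, 0, 0, 0, 0, 0, 0, 0, 0, 0, 0, 0, 0, 0, 0, 0, 0, 0, 0, 0, 0, 0, 0, 0, 0, 0, 0, 0, 0, 0, 0, 0, 0, 0, 0, 0, 0, 0, 0, 0, 0, 0, 0, 0, 0, 0, 0, 0, 0, 0, 0, 1, 0, 0, 0, 0, 0, 0, 0, 0, 0, 0, 0, 0, 1, 0, 0, 0, 0, 0, 0, 0, 0, 0, 0, 0, 0, 0, 0, 0, 0, 0, 0, 0, 0, 0, 0, 0, 0, 0, 0, 0, 0, 0, 0, 0, 0, 0, 0, 0, 0, 0, 0, 0, 0, 0, 0, 0, 0, 0, 0, 0, 0, 0, 0, 0, 0, 0, 0, 0, 0, 0, 0, 0, 0, 0, 0, 0, 0, 0, 0, 0, 0, 0, 0, 0, 0, 0, 0, 0, 0, 0, 0, 0, 0, 0, 0, 0, 0, 0, 0, 0, 0, 0, 0, 0, 0, 0, 0, 0, 0, 0, 0, 0, 0, 0, 0, 0, 0, 0, 0, 0, 0, 0, 0, 0, 0, 0, 0, 0, 0, 0, 0, 0, 0, 0, 0, 0, 0, 0, 0, 0, 0, 0, 0, 0, 0, 0, 0, 0, 0, 0, 0, 0, 0, 0, 0, 0, 0, 0, 0, 0, 0, 0, 0, 0, 0, 0, 0, 0, 0, 0],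
    [0, 0, 0, 0, 0, 0, 0, 0, 0, 0, 0, 0, 0, 0, 0, 0, 0, 0, 0, 0, 0, 0, 0, 0, 0, 0, 0, 0, 0, 0, 0, 0, 0, 0, 0, 0, 0, 0, 0, 0, 0, 0, 0, 0, 0, 0, 0, 0, 0, 0, 0, 0, 0, 0, 0, 0, 0, 0, 0, 0, 0, 0, 0, 0, 0, 0, 0, 0, 0, 0, 0, 0, 0, 0, 0, 0, 0, 0, 0, 0, 0, 0, 0, 0, 0, 0, 0, 0, 0, 0, 0, 0, 0, 0, 0, 0, 0, 0, 0, 0, 0, 0, 0, 0, 0, 0, 0, 0, 0, 0, 0, 0, 0, 0, 0, 0, 0, 0, 0, 0, 0, 0, 0, 0, 0, 0, 0, 0, 0, 0, 0, 0, 0, 0, 0, 0, 0, 0, 0, 0, 0, 0, 0, 0, 0, 0, 0, 0, 0, 0, 0, 0, 0, 0, 0, 0, 0, 0, 0, 0, 0, 0, 0, 0, 0, 0, 0, 0, 0, 0, 0, 0, 0, 0, 0, 0, 0, 0, 0, 0, 0, 0, 0, 0, 0, 0, 0, 0, 0, 0, 0, 0, 0, 0, 0, 0, 0, 0, 1, 0, 0, 0, 0, 0, 0, 0, 0, 0, 0, 1, 0, 0, 0, 0, 0, 0, 0, 0, 0, 0, 0, 0, 0, 0, 0, 0, 0, 0, 0, 0, 0, 0, 0, 0, 0, 0, 0, 0, 0, 0, 0, 0, 0, 0, 0, 0, 0, 0, 0,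 0, 0, 0, 0, 0, 0, 0, 0, 0, 0, 0, 0, 0, 0, 0, 0, 0, 0, 0, 0, 0, 0, 0, 0, 0, 0, 0, 0, 0, 0, 0, 0, 0, 0, 0, 0, 0, 0, 0, 0, 0, 0, 0, 0, 0, 0, 0, 0, 0, 0, 0, 0, 0, 0, 0, 0, 0, 0, 0, 0, 0, 0, 0, 0, 0, 0, 0, 0, 0, 0, 0, 0, 0, 0, 0, 0, 0, 0, 0, 0, 0, 0, 0, 0, 0, 0, 0, 0, 0, 0, 0, 0, 0, 0, 0, 0, 0, 0, 0, 0, 0, 0, 0, 0, 0, 0, 0, 0, 0, 0, 0, 0, 0, 0, 0, 0, 0, 0],
    [0, 0, 0, 0, 0, 0, 0, 0, 0, 0, 0, 0, 0, 0, 0, 0, 0, 0, 0, 0, 0, 0, 0, 0, 0, 0, 0, 0, 0, 0, 0, 0, 0, 0, 0, 0, 0, 0, 0, 0, 0, 0, 0, 0, 0, 0, 0, 0, 0, 0, 0, 0, 0, 0, 0, 0, 0, 0, 0, 0, 0, 0, 0, 0, 0, 0, 0, 0, 0, 0, 0, 0, 0, 0, 0, 0, 0, 0, 0, 0, 0, 0, 0, 0, 0, 0, 0, 0, 0, 0, 0, 0, 0, 0, 0, 0, 0, 0, 0, 0, 0, 0, 0, 0, 0, 0, 0, 0, 0, 0, 0, 0, 0, 0, 0, 0, 0, 0, 0, 0, 0, 0, 0, 0, 0, 0, 0, 0, 0, 0, 0,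 0, 1, 0, 0, 1, 0, 0, 0, 0, 0, 0, 0, 0, 0, 0, 0, 0, 0, 0, 0, 0, 0, 0, 0, 0, 0, 0, 0, 0, 0, 0, 0, 0, 0, 0, 0, 0, 0, 0, 0, 0, 0, 0, 0, 0, 0, 0, 0, 0, 0, 0, 0, 0, 0, 0, 0, 0, 0, 0, 0, 0, 0, 0, 0, 0, 0, 0, 0, 0, 0, 0, 0, 0, 0, 0, 0, 0, 0, 0, 0, 0, 0, 0, 0, 0, 0, 0, 0, 0, 0, 0, 0, 0, 0, 0, 0, 0, 0, 0, 0, 0, 0, 0, 0, 0, 0, 0, 0, 0, 0, 0, 0, 0, 0, 0, 0, 0, 0, 0, 0, 0, 0, 0, 0, 0, 0, 0, 0, 0, 0, 0, 0, 0, 0, 0, 0, 0, 0, 0, 0, 0, 0, 0, 0, 0, 0, 0, 0, 0, 0, 0, 0, 0, 0, 0, 0, 0, 0, 0, 0, 0, 0, 0, 0, 0, 0, 0, 0, 0, 0, 0, 0, 0, 0, 0, 0, 0, 0, 0, 0, 0, 0, 0, 0, 0, 0, 0, 0, 0, 0, 0, 0, 0, 0, 0, 0, 0, 0, 0, 0, 0, 0, 0, 0, 0, 0, 0, 0, 0, 0, 0, 0, 0, 0, 0, 0, 0, 0, 0, 0, 0, 0, 0, 0, 0, 0, 0, 0, 0, 0, 0, 0, 0, 0, 0, 0],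
    [0, 0, 0, 0, 0, 0, 0, 0, 0, 0, 0, 0, 0, 0, 0, 0, 0, 0, 0, 0, 0, 0, 0, 0, 0, 0, 0, 0, 0, 0, 0, 0, 0, 0, 0, 0, 0, 0, 0, 0, 0, 0, 0, 0, 0, 0, 0, 0, 0, 0, 0, 0, 0, 0, 0, 0, 0, 0, 0, 0, 0, 0, 0, 0, 0, 0, 0, 0, 0, 0, 0, 0, 0, 0, 0, 0, 0, 0, 0, 0, 0, 0, 0, 0, 0, 0, 0, 0, 0, 0, 0, 0, 0, 0, 0, 0, 0, 0, 0, 0, 0, 0, 0, 0, 0, 0, 0, 0, 0, 0, 0, 0, 0, 0, 0, 0, 0, 0, 0, 0, 0, 0, 0, 0, 0, 0, 0, 0, 0, 0, 0, 0, 0, 0, 0, 0, 0, 0, 0, 0, 0, 0, 0, 0, 0, 0, 0, 0, 1, 0, 0, 0, 1, 0, 0, 0, 0, 0, 0, 0, 0, 0, 0, 0, 0, 0, 0, 0, 0, 0, 0, 0, 0, 0, 0, 0, 0, 0, 0, 0, 0, 0, 0, 0, 0, 0, 0, 0, 0, 0, 0, 0, 0, 0, 0, 0, 0, 0, 0, 0, 0, 0, 0, 0, 0, 0, 0, 0, 0, 0, 0, 0, 0, 0, 0, 0, 0, 0, 0, 0, 0, 0, 0, 0, 0, 0, 0, 0, 0, 0, 0, 0, 0, 0, 0, 0, 0, 0, 0, 0, 0, 0, 0, 0, 0, 0, 0, 0, 0,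 0, 0, 0, 0, 0, 0, 0, 0, 0, 0, 0, 0, 0, 0, 0, 0, 0, 0, 0, 0, 0, 0, 0, 0, 0, 0, 0, 0, 0, 0, 0, 0, 0, 0, 0, 0, 0, 0, 0, 0, 0, 0, 0, 0, 0, 0, 0, 0, 0, 0, 0, 0, 0, 0, 0, 0, 0, 0, 0, 0, 0, 0, 0, 0, 0, 0, 0, 0, 0, 0, 0, 0, 0, 0, 0, 0, 0, 0, 0, 0, 0, 0, 0, 0, 0, 0, 0, 0, 0, 0, 0, 0, 0, 0, 0, 0, 0, 0, 0, 0, 0, 0, 0, 0, 0, 0, 0, 0, 0, 0, 0, 0, 0, 0, 0, 0, 0, 0],
    [0, 0, 0, 0, 0, 0, 0, 0, 0, 0, 0, 0, 0, 0, 0, 0, 0, 0, 0, 0, 0, 0, 0, 0, 0, 0, 0, 0, 0, 0, 0, 0, 0, 0, 0, 0, 0, 0, 0, 0, 0, 0, 0, 0, 0, 0, 0, 0, 0, 0, 0, 0, 0, 0, 0, 0, 0, 0, 0, 0, 0, 0, 0, 0, 0, 0, 0, 0, 0, 0, 0, 0, 0, 0, 0, 0, 0, 0, 0, 0, 0, 0, 0, 0, 0, 0, 0, 0, 0, 0, 0, 0, 0, 0, 0, 0, 0, 0, 0, 0, 0, 0, 0, 0, 0, 0, 0, 0, 0, 0, 0, 0, 0, 0, 0, 0, 0, 0, 0, 0, 0, 0, 0, 0, 0, 0, 0, 0, 0, 0, 0,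 0, 0, 0, 0, 0, 0, 0, 0, 0, 0, 0, 0, 0, 0, 0, 0, 0, 0, 0, 0, 0, 0, 0, 0, 0, 0, 0, 0, 0, 0, 0, 0, 0, 0, 0, 0, 0, 0, 0, 0, 0, 0, 0, 0, 0, 0, 0, 0, 0, 0, 0, 0, 0, 0, 0, 0, 0, 0, 0, 0, 0, 0, 0, 0, 0, 0, 0, 0, 0, 0, 0, 1, 0, 0, 0, 0, 0, 0, 1, 0, 0, 0, 0, 0, 0, 0, 0, 0, 0, 0, 0, 0, 0, 0, 0, 0, 0, 0, 0, 0, 0, 0, 0, 0, 0, 0, 0, 0, 0, 0, 0, 0, 0, 0, 0, 0, 0, 0, 0, 0, 0, 0, 0, 0, 0, 0, 0, 0, 0, 0, 0, 0, 0, 0, 0, 0, 0, 0, 0, 0, 0, 0, 0, 0, 0, 0, 0, 0, 0, 0, 0, 0, 0, 0, 0, 0, 0, 0, 0, 0, 0, 0, 0, 0, 0, 0, 0, 0, 0, 0, 0, 0, 0, 0, 0, 0, 0, 0, 0, 0, 0, 0, 0, 0, 0, 0, 0, 0, 0, 0, 0, 0, 0, 0, 0, 0, 0, 0, 0, 0, 0, 0, 0, 0, 0, 0, 0, 0, 0, 0, 0, 0, 0, 0, 0, 0, 0, 0, 0, 0, 0, 0, 0, 0, 0, 0, 0, 0, 0, 0, 0, 0, 0, 0, 0, 0],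
    [0, 0, 0, 0, 0, 0, 0, 0, 0, 0, 0, 0, 0, 0, 0, 0, 0, 0, 0, 0, 0, 0, 0, 0, 0, 0, 0, 0, 0, 0, 0, 0, 0, 0, 0, 0, 0, 0, 0, 0, 0, 0, 0, 0, 0, 0, 0, 0, 0, 0, 0, 0, 0, 0, 0, 0, 0, 0, 0, 0, 0, 0, 0, 0, 0, 0, 0, 0, 0, 0, 0, 0, 0, 0, 0, 0, 0, 0, 0, 0, 0, 0, 0, 0, 0, 0, 0, 0, 0, 0, 0, 0, 0, 0, 0, 0, 0, 0, 0, 0, 0, 0, 0, 0, 0, 0, 0, 0, 0, 0, 0, 0, 0, 0, 0, 0, 0, 0, 0, 0, 0, 0, 0, 0, 0, 0, 0, 0, 0, 0, 0, 0, 0, 0, 0, 0, 0, 0, 0, 0, 0, 0, 0, 0, 0, 0, 0, 0, 0, 0, 0, 0, 0, 0, 0, 0, 0, 0, 0, 1, 0, 0, 0, 0, 0, 0, 0, 0, 0, 0, 1, 0, 0, 0, 0, 0, 0, 0, 0, 0, 0, 0, 0, 0, 0, 0, 0, 0, 0, 0, 0, 0, 0, 0, 0, 0, 0, 0, 0, 0, 0, 0, 0, 0, 0, 0, 0, 0, 0, 0, 0, 0, 0, 0, 0, 0, 0, 0, 0, 0, 0, 0, 0, 0, 0, 0, 0, 0, 0, 0, 0, 0, 0, 0, 0, 0, 0, 0, 0, 0, 0, 0, 0, 0, 0, 0, 0, 0, 0,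 0, 0, 0, 0, 0, 0, 0, 0, 0, 0, 0, 0, 0, 0, 0, 0, 0, 0, 0, 0, 0, 0, 0, 0, 0, 0, 0, 0, 0, 0, 0, 0, 0, 0, 0, 0, 0, 0, 0, 0, 0, 0, 0, 0, 0, 0, 0, 0, 0, 0, 0, 0, 0, 0, 0, 0, 0, 0, 0, 0, 0, 0, 0, 0, 0, 0, 0, 0, 0, 0, 0, 0, 0, 0, 0, 0, 0, 0, 0, 0, 0, 0, 0, 0, 0, 0, 0, 0, 0, 0, 0, 0, 0, 0, 0, 0, 0, 0, 0, 0, 0, 0, 0, 0, 0, 0, 0, 0, 0, 0, 0, 0, 0, 0, 0, 0, 0, 0],
    [0, 0, 0, 0, 0, 0, 0, 0, 0, 0, 0, 0, 0, 0, 0, 0, 0, 0, 0, 0, 0, 0, 0, 0, 0, 0, 0, 0, 0, 0, 0, 0, 0, 0, 0, 0, 0, 0, 0, 0, 0, 0, 0, 0, 0, 0, 0, 0, 0, 0, 0, 0, 0, 0, 0, 0, 0, 0, 0, 0, 0, 0, 0, 0, 0, 0, 0, 0, 0, 0, 0, 0, 0, 0, 0, 0, 0, 0, 0, 0, 0, 0, 0, 0, 0, 0, 0, 0, 0, 0, 0, 0, 0, 0, 0, 0, 0, 0, 0, 0, 0, 0, 0, 0, 0, 0, 0, 0, 0, 0, 0, 0, 0, 0, 0, 0, 0, 0, 0, 0, 0, 0, 0, 0, 0, 0, 0, 0, 0, 0, 0,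 0, 0, 0, 0, 0, 0, 0, 0, 0, 0, 0, 0, 0, 0, 0, 0, 0, 0, 0, 0, 0, 0, 0, 0, 0, 0, 0, 0, 0, 0, 0, 0, 0, 0, 0, 0, 0, 0, 0, 0, 0, 0, 0, 0, 0, 0, 0, 0, 0, 0, 0, 0, 0, 0, 0, 0, 0, 0, 0, 0, 0, 0, 0, 0, 0, 0, 0, 0, 0, 0, 0, 0, 0, 0, 0, 0, 0, 0, 0, 0, 0, 0, 0, 0, 0, 0, 0, 0, 1, 0, 0, 0, 0, 0, 0, 0, 0, 0, 0, 1, 0, 0, 0, 0, 0, 0, 0, 0, 0, 0, 0, 0, 0, 0, 0, 0, 0, 0, 0, 0, 0, 0, 0, 0, 0, 0, 0, 0, 0, 0, 0, 0, 0, 0, 0, 0, 0, 0, 0, 0, 0, 0, 0, 0, 0, 0, 0, 0, 0, 0, 0, 0, 0, 0, 0, 0, 0, 0, 0, 0, 0, 0, 0, 0, 0, 0, 0, 0, 0, 0, 0, 0, 0, 0, 0, 0, 0, 0, 0, 0, 0, 0, 0, 0, 0, 0, 0, 0, 0, 0, 0, 0, 0, 0, 0, 0, 0, 0, 0, 0, 0, 0, 0, 0, 0, 0, 0, 0, 0, 0, 0, 0, 0, 0, 0, 0, 0, 0, 0, 0, 0, 0, 0, 0, 0, 0, 0, 0, 0, 0, 0, 0, 0, 0, 0, 0],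
    [0, 0, 0, 0, 0, 0, 0, 0, 0, 0, 0, 0, 0, 0, 0, 0, 0, 0, 0, 0, 0, 0, 0, 0, 0, 0, 0, 0, 0, 0, 0, 0, 0, 0, 0, 0, 0, 0, 0, 0, 0, 0, 0, 0, 0, 0, 0, 0, 0, 0, 0, 0, 0, 0, 0, 0, 0, 0, 0, 0, 0, 0, 0, 0, 0, 0, 0, 0, 0, 0, 0, 0, 0, 0, 0, 0, 0, 0, 0, 0, 0, 0, 0, 0, 0, 0, 0, 0, 0, 0, 0, 0, 0, 0, 0, 0, 0, 0, 0, 0, 0, 0, 0, 0, 0, 0, 0, 0, 0, 0, 0, 0, 0, 0, 0, 0, 0, 0, 0, 0, 0, 0, 0, 0, 0, 0, 0, 0, 0, 0, 0, 0, 0, 0, 0, 0, 0, 0, 0, 0, 0, 0, 0, 0, 0, 0, 0, 0, 0, 1, 0, 0, 1, 0, 0, 0, 0, 0, 0, 0, 0, 0, 0, 0, 0, 0, 0, 0, 0, 0, 0, 0, 0, 0, 0, 0, 0, 0, 0, 0, 0, 0, 0, 0, 0, 0, 0, 0, 0, 0, 0, 0, 0, 0, 0, 0, 0, 0, 0, 0, 0, 0, 0, 0, 0, 0, 0, 0, 0, 0, 0, 0, 0, 0, 0, 0, 0, 0, 0, 0, 0, 0, 0, 0, 0, 0, 0, 0, 0, 0, 0, 0, 0, 0, 0, 0, 0, 0, 0, 0, 0, 0, 0, 0, 0, 0, 0, 0, 0,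 0, 0, 0, 0, 0, 0, 0, 0, 0, 0, 0, 0, 0, 0, 0, 0, 0, 0, 0, 0, 0, 0, 0, 0, 0, 0, 0, 0, 0, 0, 0, 0, 0, 0, 0, 0, 0, 0, 0, 0, 0, 0, 0, 0, 0, 0, 0, 0, 0, 0, 0, 0, 0, 0, 0, 0, 0, 0, 0, 0, 0, 0, 0, 0, 0, 0, 0, 0, 0, 0, 0, 0, 0, 0, 0, 0, 0, 0, 0, 0, 0, 0, 0, 0, 0, 0, 0, 0, 0, 0, 0, 0, 0, 0, 0, 0, 0, 0, 0, 0, 0, 0, 0, 0, 0, 0, 0, 0, 0, 0, 0, 0, 0, 0, 0, 0, 0, 0]]

/-- part of the exponents -/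
def twoVecs4 : List (List ℤ) :=
  [[0, 0, 0, 0, 0, 0, 0, 0, 0, 0, 0, 0, 0, 0, 0, 0, 0, 0, 0, 0, 0, 0, 0, 0, 0, 0, 0, 0, 0, 0, 0, 0, 0, 0, 0, 0, 0, 0, 0, 0, 0, 0, 0, 0, 0, 0, 0, 0, 0, 0, 0, 0, 0, 0, 0, 0, 0, 0, 0, 0, 0, 0, 0, 0, 0, 0, 0, 0, 0, 0, 0, 0, 0, 0, 0, 0, 0, 0, 0, 0, 0, 0, 0, 0, 0, 0, 0, 0, 0, 0, 0, 0, 0, 0, 0, 0, 0, 0, 0, 0, 0, 0, 0, 0, 0, 0, 0, 0, 0, 0, 0, 0, 0, 0, 0, 0, 0, 0, 0, 0, 0, 0, 0, 0, 0, 0, 0, 0, 0, 0, 0, 0, 0, 0, 0, 0, 0, 0, 0, 0, 0, 0, 0, 0, 0, 0, 0, 0, 0, 0, 0, 0, 0, 0, 0, 0, 0, 0, 0, 0, 0, 0, 0, 0, 0, 0, 1, 0, 0, 0, 1, 0, 0, 0, 0, 0, 0, 0, 0, 0, 0, 0, 0, 0, 0, 0, 0, 0, 0, 0, 0, 0, 0, 0, 0, 0, 0, 0, 0, 0, 0, 0, 0, 0, 0, 0, 0, 0, 0, 0, 0, 0, 0, 0, 0, 0, 0, 0, 0, 0, 0, 0, 0, 0, 0, 0, 0, 0, 0, 0, 0, 0, 0, 0, 0, 0, 0, 0, 0,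 0, 0, 0, 0, 0, 0, 0, 0, 0, 0, 0, 0, 0, 0, 0, 0, 0, 0, 0, 0, 0, 0, 0, 0, 0, 0, 0, 0, 0, 0, 0, 0, 0, 0, 0, 0, 0, 0, 0, 0, 0, 0, 0, 0, 0, 0, 0, 0, 0, 0, 0, 0, 0, 0, 0, 0, 0, 0, 0, 0, 0, 0, 0, 0, 0, 0, 0, 0, 0, 0, 0, 0, 0, 0, 0, 0, 0, 0, 0, 0, 0, 0, 0, 0, 0, 0, 0, 0, 0, 0, 0, 0, 0, 0, 0, 0, 0, 0, 0, 0, 0, 0, 0, 0, 0, 0, 0, 0, 0, 0, 0, 0, 0, 0, 0, 0, 0, 0, 0, 0, 0, 0, 0, 0, 0, 0, 0, 0],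
    [0, 0, 0, 0, 0, 0, 0, 0, 0, 0, 0, 0, 0, 0, 0, 0, 0, 0, 0, 0, 0, 0, 0, 0, 0, 0, 0, 0, 0, 0, 0, 0, 0, 0, 0, 0, 0, 0, 0, 0, 0, 0, 0, 0, 0, 0, 0, 0, 0, 0, 0, 0, 0, 0, 0, 0, 0, 0, 0, 0, 0, 0, 0, 0, 0, 0, 0, 0, 0, 0, 0, 0, 0, 0, 0, 0, 0, 0, 0, 0, 0, 0, 0, 0, 0, 0, 0, 0, 0, 0, 0, 0, 0, 0, 0, 0, 0, 0, 0, 0, 0, 0, 0, 0, 0, 0, 0, 0, 0, 0, 0, 0, 0, 0, 0, 0, 0, 0, 0, 0, 0, 0, 0, 0, 0, 0, 0, 0, 0, 0, 0, 0, 0, 0, 0, 0, 0, 0, 0, 0, 0, 0, 0, 0, 0, 0, 0, 0, 0, 0, 0, 0, 0, 0, 0, 0, 0, 0, 0, 0, 0, 0, 0, 0, 0, 0, 0, 0, 0, 0, 0, 0, 0, 0, 0, 0, 0, 0, 0, 0, 0, 0, 0, 0, 0, 0, 0, 0, 0, 0, 0, 0, 0, 0, 0, 0, 0, 0, 0, 0, 0, 0, 0, 0, 0, 0, 0, 0, 0, 0, 0, 0, 0, 0, 0, 0, 0, 0, 0, 0, 0, 0, 0, 1, 0, 0, 0, 0, 0, 0, 1, 0, 0, 0, 0, 0, 0, 0, 0, 0, 0, 0, 0, 0, 0, 0, 0, 0, 0,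 0, 0, 0, 0, 0, 0, 0, 0, 0, 0, 0, 0, 0, 0, 0, 0, 0, 0, 0, 0, 0, 0, 0, 0, 0, 0, 0, 0, 0, 0, 0, 0, 0, 0, 0, 0, 0, 0, 0, 0, 0, 0, 0, 0, 0, 0, 0, 0, 0, 0, 0, 0, 0, 0, 0, 0, 0, 0, 0, 0, 0, 0, 0, 0, 0, 0, 0, 0, 0, 0, 0, 0, 0, 0, 0, 0, 0, 0, 0, 0, 0, 0, 0, 0, 0, 0, 0, 0, 0, 0, 0, 0, 0, 0, 0, 0, 0, 0, 0, 0, 0, 0, 0, 0, 0, 0, 0, 0, 0, 0, 0, 0, 0, 0, 0, 0, 0, 0],
    [0, 0, 0, 0, 0, 0, 0, 0, 0, 0, 0, 0, 0, 0, 0, 0, 0, 0, 0, 0, 0, 0, 0, 0, 0, 0, 0, 0, 0, 0, 0, 0, 0, 0, 0, 0, 0, 0, 0, 0, 0, 0, 0, 0, 0, 0, 0, 0, 0, 0, 0, 0, 0, 0, 0, 0, 0, 0, 0, 0, 0, 0, 0, 0, 0, 0, 0, 0, 0, 0, 0, 0, 0, 0, 0, 0, 0, 0, 0, 0, 0, 0, 0, 0, 0, 0, 0, 0, 0, 0, 0, 0, 0, 0, 0, 0, 0, 0, 0, 0, 0, 0, 0, 0, 0, 0, 0, 0, 0, 0, 0, 0, 0, 0, 0, 0, 0, 0, 0, 0, 0, 0, 0, 0, 0, 0, 0, 0, 0, 0, 0,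 0, 0, 0, 0, 0, 0, 0, 1, 0, 0, 0, 0, 0, 0, 0, 0, 0, 0, 0, 0, 0, 1, 0, 0, 0, 0, 0, 0, 0, 0, 0, 0, 0, 0, 0, 0, 0, 0, 0, 0, 0, 0, 0, 0, 0, 0, 0, 0, 0, 0, 0, 0, 0, 0, 0, 0, 0, 0, 0, 0, 0, 0, 0, 0, 0, 0, 0, 0, 0, 0, 0, 0, 0, 0, 0, 0, 0, 0, 0, 0, 0, 0, 0, 0, 0, 0, 0, 0, 0, 0, 0, 0, 0, 0, 0, 0, 0, 0, 0, 0, 0, 0, 0, 0, 0, 0, 0, 0, 0, 0, 0, 0, 0, 0, 0, 0, 0, 0, 0, 0, 0, 0, 0, 0, 0, 0, 0, 0, 0, 0, 0, 0, 0, 0, 0, 0, 0, 0, 0, 0, 0, 0, 0, 0, 0, 0, 0, 0, 0, 0, 0, 0, 0, 0, 0, 0, 0, 0, 0, 0, 0, 0, 0, 0, 0, 0, 0, 0, 0, 0, 0, 0, 0, 0, 0, 0, 0, 0, 0, 0, 0, 0, 0, 0, 0, 0, 0, 0, 0, 0, 0, 0, 0, 0, 0, 0, 0, 0, 0, 0, 0, 0, 0, 0, 0, 0, 0, 0, 0, 0, 0, 0, 0, 0, 0, 0, 0, 0, 0, 0, 0, 0, 0, 0, 0, 0, 0, 0, 0, 0, 0, 0, 0, 0, 0, 0],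
    [0, 0, 0, 0, 0, 0, 0, 0, 0, 0, 0, 0, 0, 0, 0, 0, 0, 0, 0, 0, 0, 0, 0, 0, 0, 0, 0, 0, 0, 0, 0, 0, 0, 0, 0, 0, 0, 0, 0, 0, 0, 0, 0, 0, 0, 0, 0, 0, 0, 0, 0, 0, 0, 0, 0, 0, 0, 0, 0, 0, 0, 0, 0, 0, 0, 0, 0, 0, 0, 0, 0, 0, 0, 0, 0, 0, 0, 0, 0, 0, 0, 0, 0, 0, 0, 0, 0, 0, 0, 0, 0, 0, 0, 0, 0, 0, 0, 0, 0, 0, 0, 0, 0, 0, 0, 0, 0, 0, 0, 0, 0, 0, 0, 0, 0, 0, 0, 0, 0, 0, 0, 0, 0, 0, 0, 0, 0, 0, 0, 0, 0, 0, 0, 0, 0, 0, 0, 0, 0, 0, 0, 0, 0, 0, 0, 0, 0, 0, 0, 0, 0, 0, 0, 0, 0, 0, 0, 0, 0, 0, 0, 0, 0, 0, 0, 0, 0, 0, 0, 0, 0, 0, 0, 0, 0, 0, 0, 0, 0, 0, 0, 0, 0, 0, 0, 0, 0, 0, 0, 0, 0, 0, 0, 0, 0, 0, 0, 0, 0, 0, 0, 0, 0, 0, 0, 0, 0, 0, 0, 0, 0, 0, 0, 0, 0, 0, 0, 0, 0, 0, 0, 0, 0, 0, 0, 0, 0, 0, 0, 0, 0, 0, 0, 0, 0, 0, 0, 0, 1, 0, 0, 0, 0, 0, 0, 0, 0, 0, 0,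 0, 0, 0, 1, 0, 0, 0, 0, 0, 0, 0, 0, 0, 0, 0, 0, 0, 0, 0, 0, 0, 0, 0, 0, 0, 0, 0, 0, 0, 0, 0, 0, 0, 0, 0, 0, 0, 0, 0, 0, 0, 0, 0, 0, 0, 0, 0, 0, 0, 0, 0, 0, 0, 0, 0, 0, 0, 0, 0, 0, 0, 0, 0, 0, 0, 0, 0, 0, 0, 0, 0, 0, 0, 0, 0, 0, 0, 0, 0, 0, 0, 0, 0, 0, 0, 0, 0, 0, 0, 0, 0, 0, 0, 0, 0, 0, 0, 0, 0, 0, 0, 0, 0, 0, 0, 0, 0, 0, 0, 0, 0, 0, 0, 0, 0, 0, 0, 0],
    [0, 0, 0, 0, 0, 0, 0, 0, 0, 0, 0, 0, 0, 0, 0, 0, 0, 0, 0, 0, 0, 0, 0, 0, 0, 0, 0, 0, 0, 0, 0, 0, 0, 0, 0, 0, 0, 0, 0, 0, 0, 0, 0, 0, 0, 0, 0, 0, 0, 0, 0, 0, 0, 0, 0, 0, 0, 0, 0, 0, 0, 0, 0, 0, 0, 0, 0, 0, 0, 0, 0, 0, 0, 0, 0, 0, 0, 0, 0, 0, 0, 0, 0, 0, 0, 0, 0, 0, 0, 0, 0, 0, 0, 0, 0, 0, 0, 0, 0, 0, 0, 0, 0, 0, 0, 0, 0, 0, 0, 0, 0, 0, 0, 0, 0, 0, 0, 0, 0, 0, 0, 0, 0, 0, 0, 0, 0, 0, 0, 0, 0,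 0, 0, 0, 0, 0, 0, 0, 0, 0, 0, 0, 0, 0, 0, 0, 0, 0, 0, 0, 1, 0, 1, 0, 0, 0, 0, 0, 0, 0, 0, 0, 0, 0, 0, 0, 0, 0, 0, 0, 0, 0, 0, 0, 0, 0, 0, 0, 0, 0, 0, 0, 0, 0, 0, 0, 0, 0, 0, 0, 0, 0, 0, 0, 0, 0, 0, 0, 0, 0, 0, 0, 0, 0, 0, 0, 0, 0, 0, 0, 0, 0, 0, 0, 0, 0, 0, 0, 0, 0, 0, 0, 0, 0, 0, 0, 0, 0, 0, 0, 0, 0, 0, 0, 0, 0, 0, 0, 0, 0, 0, 0, 0, 0, 0, 0, 0, 0, 0, 0, 0, 0, 0, 0, 0, 0, 0, 0, 0, 0, 0, 0, 0, 0, 0, 0, 0, 0, 0, 0, 0, 0, 0, 0, 0, 0, 0, 0, 0, 0, 0, 0, 0, 0, 0, 0, 0, 0, 0, 0, 0, 0, 0, 0, 0, 0, 0, 0, 0, 0, 0, 0, 0, 0, 0, 0, 0, 0, 0, 0, 0, 0, 0, 0, 0, 0, 0, 0, 0, 0, 0, 0, 0, 0, 0, 0, 0, 0, 0, 0, 0, 0, 0, 0, 0, 0, 0, 0, 0, 0, 0, 0, 0, 0, 0, 0, 0, 0, 0, 0, 0, 0, 0, 0, 0, 0, 0, 0, 0, 0, 0, 0, 0, 0, 0, 0, 0],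
    [0, 0, 0, 0, 0, 0, 0, 0, 0, 0, 0, 0, 0, 0, 0, 0, 0, 0, 0, 0, 0, 0, 0, 0, 0, 0, 0, 0, 0, 0, 0, 0, 0, 0, 0, 0, 0, 0, 0, 0, 0, 0, 0, 0, 0, 0, 0, 0, 0, 0, 0, 0, 0, 0, 0, 0, 0, 0, 0, 0, 0, 0, 0, 0, 0, 0, 0, 0, 0, 0, 0, 0, 0, 0, 0, 0, 0, 0, 0, 0, 0, 0, 0, 0, 0, 0, 0, 0, 0, 0, 0, 0, 0, 0, 0, 0, 0, 0, 0, 0, 0, 0, 0, 0, 0, 0, 0, 0, 0, 0, 0, 0, 0, 0, 0, 0, 0, 0, 0, 0, 0, 0, 0, 0, 0, 0, 0, 0, 0, 0, 0, 0, 0, 0, 0, 0, 0, 0, 0, 0, 0, 0, 0, 0, 0, 0, 0, 0, 0, 0, 0, 0, 0, 0, 0, 0, 0, 0, 0, 0, 0, 0, 0, 0, 0, 0, 0, 0, 0, 0, 0, 0, 0, 0, 0, 0, 0, 0, 0, 0, 0, 0, 0, 0, 0, 0, 0, 0, 0, 0, 0, 0, 0, 0, 0, 0, 0, 0, 0, 0, 0, 0, 0, 0, 0, 0, 0, 0, 0, 0, 0, 0, 0, 0, 0, 0, 0, 0, 0, 0, 0, 0, 0, 0, 0, 0, 0, 0, 0, 0, 0, 0, 0, 0, 0, 0, 0, 0, 0, 0, 0, 0, 0, 0, 0, 1, 0, 0, 0,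 0, 0, 0, 1, 0, 0, 0, 0, 0, 0, 0, 0, 0, 0, 0, 0, 0, 0, 0, 0, 0, 0, 0, 0, 0, 0, 0, 0, 0, 0, 0, 0, 0, 0, 0, 0, 0, 0, 0, 0, 0, 0, 0, 0, 0, 0, 0, 0, 0, 0, 0, 0, 0, 0, 0, 0, 0, 0, 0, 0, 0, 0, 0, 0, 0, 0, 0, 0, 0, 0, 0, 0, 0, 0, 0, 0, 0, 0, 0, 0, 0, 0, 0, 0, 0, 0, 0, 0, 0, 0, 0, 0, 0, 0, 0, 0, 0, 0, 0, 0, 0, 0, 0, 0, 0, 0, 0, 0, 0, 0, 0, 0, 0, 0, 0, 0, 0, 0],
    [0, 0, 0, 0, 0, 0, 0, 0, 0, 0, 0, 0, 0, 0, 0, 0, 0, 0, 0, 0, 0, 0, 0, 0, 0, 0, 0, 0, 0, 0, 0, 0, 0, 0, 0, 0, 0, 0, 0, 0, 0, 0, 0, 0, 0, 0, 0, 0, 0, 0, 0, 0, 0, 0, 0, 0, 0, 0, 0, 0, 0, 0, 0, 0, 0, 0, 0, 0, 0, 0, 0, 0, 0, 0, 0, 0, 0, 0, 0, 0, 0, 0, 0, 0, 0, 0, 0, 0, 0, 0, 0, 0, 0, 0, 0, 0, 0, 0, 0, 0, 0, 0, 0, 0, 0, 0, 0, 0, 0, 0, 0, 0, 0, 0, 0, 0, 0, 0, 0, 0, 0, 0, 0, 0, 0, 0, 0, 0, 0, 0, 0,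 0, 0, 0, 0, 0, 0, 0, 0, 0, 0, 0, 0, 0, 0, 0, 0, 0, 0, 0, 0, 0, 0, 0, 0, 0, 0, 0, 0, 0, 0, 0, 0, 0, 0, 0, 0, 0, 0, 0, 0, 0, 0, 0, 0, 0, 0, 0, 0, 0, 0, 0, 0, 0, 0, 0, 0, 0, 0, 0, 0, 0, 0, 0, 0, 0, 0, 0, 0, 0, 0, 0, 0, 0, 0, 0, 0, 0, 0, 0, 0, 0, 0, 0, 0, 0, 0, 0, 0, 0, 0, 0, 0, 0, 1, 0, 0, 0, 0, 0, 1, 0, 0, 0, 0, 0, 0, 0, 0, 0, 0, 0, 0, 0, 0, 0, 0, 0, 0, 0, 0, 0, 0, 0, 0, 0, 0, 0, 0, 0, 0, 0, 0, 0, 0, 0, 0, 0, 0, 0, 0, 0, 0, 0, 0, 0, 0, 0, 0, 0, 0, 0, 0, 0, 0, 0, 0, 0, 0, 0, 0, 0, 0, 0, 0, 0, 0, 0, 0, 0, 0, 0, 0, 0, 0, 0, 0, 0, 0, 0, 0, 0, 0, 0, 0, 0, 0, 0, 0, 0, 0, 0, 0, 0, 0, 0, 0, 0, 0, 0, 0, 0, 0, 0, 0, 0, 0, 0, 0, 0, 0, 0, 0, 0, 0, 0, 0, 0, 0, 0, 0, 0, 0, 0, 0, 0, 0, 0, 0, 0, 0, 0, 0, 0, 0, 0, 0],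
    [0, 0, 0, 0, 0, 0, 0, 0, 0, 0, 0, 0, 0, 0, 0, 0, 0, 0, 0, 0, 0, 0, 0, 0, 0, 0, 0, 0, 0, 0, 0, 0, 0, 0, 0, 0, 0, 0, 0, 0, 0, 0, 0, 0, 0, 0, 0, 0, 0, 0, 0, 0, 0, 0, 0, 0, 0, 0, 0, 0, 0, 0, 0, 0, 0, 0, 0, 0, 0, 0, 0, 0, 0, 0, 0, 0, 0, 0, 0, 0, 0, 0, 0, 0, 0, 0, 0, 0, 0, 0, 0, 0, 0, 0, 0, 0, 0, 0, 0, 0, 0, 0, 0, 0, 0, 0, 0, 0, 0, 0, 0, 0, 0, 0, 0, 0, 0, 0, 0, 0, 0, 0, 0, 0, 0, 0, 0, 0, 0, 0, 0, 0, 0, 0, 0, 0, 0, 0, 0, 0, 0, 0, 0, 0, 0, 0, 0, 0, 0, 0, 0, 0, 0, 0, 0, 0, 0, 0, 0, 0, 0, 0, 0, 0, 0, 0, 0, 0, 0, 0, 0, 0, 0, 0, 0, 0, 0, 0, 0, 0, 0, 0, 0, 0, 0, 0, 0, 0, 0, 0, 0, 0, 0, 0, 0, 0, 0, 0, 0, 0, 0, 0, 0, 0, 0, 1, 0, 0, 0, 1, 0, 0, 0, 0, 0, 0, 0, 0, 0, 0, 0, 0, 0, 0, 0, 0, 0, 0, 0, 0, 0, 0, 0, 0, 0, 0, 0, 0, 0, 0, 0, 0, 0, 0, 0, 0, 0, 0, 0,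 0, 0, 0, 0, 0, 0, 0, 0, 0, 0, 0, 0, 0, 0, 0, 0, 0, 0, 0, 0, 0, 0, 0, 0, 0, 0, 0, 0, 0, 0, 0, 0, 0, 0, 0, 0, 0, 0, 0, 0, 0, 0, 0, 0, 0, 0, 0, 0, 0, 0, 0, 0, 0, 0, 0, 0, 0, 0, 0, 0, 0, 0, 0, 0, 0, 0, 0, 0, 0, 0, 0, 0, 0, 0, 0, 0, 0, 0, 0, 0, 0, 0, 0, 0, 0, 0, 0, 0, 0, 0, 0, 0, 0, 0, 0, 0, 0, 0, 0, 0, 0, 0, 0, 0, 0, 0, 0, 0, 0, 0, 0, 0, 0, 0, 0, 0, 0, 0],
    [0, 0, 0, 0, 0, 0, 0, 0, 0, 0, 0, 0, 0, 0, 0, 0, 0, 0, 0, 0, 0, 0, 0, 0, 0, 0, 0, 0, 0, 0, 0, 0, 0, 0, 0, 0, 0, 0, 0, 0, 0, 0, 0, 0, 0, 0, 0, 0, 0, 0, 0, 0, 0, 0, 0, 0, 0, 0, 0, 0, 0, 0, 0, 0, 0, 0, 0, 0, 0, 0, 0, 0, 0, 0, 0, 0, 0, 0, 0, 0, 0, 0, 0, 0, 0, 0, 0, 0, 0, 0, 0, 0, 0, 0, 0, 0, 0, 0, 0, 0, 0, 0, 0, 0, 0, 0, 0, 0, 0, 0, 0, 0, 0, 0, 0, 0, 0, 0, 0, 0, 0, 0, 0, 0, 0, 0, 0, 0, 0, 0, 0,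 0, 0, 0, 0, 0, 0, 0, 0, 0, 0, 0, 0, 0, 0, 0, 0, 0, 0, 0, 0, 0, 0, 0, 0, 0, 0, 0, 0, 0, 0, 0, 0, 0, 0, 0, 0, 0, 0, 0, 0, 0, 0, 0, 0, 0, 0, 0, 0, 0, 0, 0, 0, 0, 0, 0, 0, 0, 0, 0, 0, 0, 0, 0, 0, 0, 0, 0, 0, 0, 0, 0, 0, 0, 0, 0, 0, 0, 0, 0, 0, 0, 0, 0, 0, 0, 0, 0, 0, 0, 0, 0, 0, 0, 0, 0, 0, 0, 0, 0, 0, 0, 0, 0, 0, 0, 0, 0, 0, 0, 1, 0, 0, 0, 0, 0, 0, 0, 0, 0, 0, 0, 1, 0, 0, 0, 0, 0, 0, 0, 0, 0, 0, 0, 0, 0, 0, 0, 0, 0, 0, 0, 0, 0, 0, 0, 0, 0, 0, 0, 0, 0, 0, 0, 0, 0, 0, 0, 0, 0, 0, 0, 0, 0, 0, 0, 0, 0, 0, 0, 0, 0, 0, 0, 0, 0, 0, 0, 0, 0, 0, 0, 0, 0, 0, 0, 0, 0, 0, 0, 0, 0, 0, 0, 0, 0, 0, 0, 0, 0, 0, 0, 0, 0, 0, 0, 0, 0, 0, 0, 0, 0, 0, 0, 0, 0, 0, 0, 0, 0, 0, 0, 0, 0, 0, 0, 0, 0, 0, 0, 0, 0, 0, 0, 0, 0, 0],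
    [0, 0, 0, 0, 0, 0, 0, 0, 0, 0, 0, 0, 0, 0, 0, 0, 0, 0, 0, 0, 0, 0, 0, 0, 0, 0, 0, 0, 0, 0, 0, 0, 0, 0, 0, 0, 0, 0, 0, 0, 0, 0, 0, 0, 0, 0, 0, 0, 0, 0, 0, 0, 0, 0, 0, 0, 0, 0, 0, 0, 0, 0, 0, 0, 0, 0, 0, 0, 0, 0, 0, 0, 0, 0, 0, 0, 0, 0, 0, 0, 0, 0, 0, 0, 0, 0, 0, 0, 0, 0, 0, 0, 0, 0, 0, 0, 0, 0, 0, 0, 0, 0, 0, 0, 0, 0, 0, 0, 0, 0, 0, 0, 0, 0, 0, 0, 0, 0, 0, 0, 0, 0, 0, 0, 0, 0, 0, 0, 0, 0, 0, 0, 0, 0, 0, 0, 0, 0, 0, 0, 0, 0, 0, 0, 0, 0, 0, 0, 0, 0, 0, 0, 0, 0, 0, 0, 0, 0, 0, 0, 0, 0, 0, 0, 0, 0, 0, 0, 0, 0, 0, 0, 0, 0, 0, 0, 0, 0, 0, 0, 0, 0, 0, 0, 0, 0, 0, 0, 0, 0, 0, 0, 0, 0, 0, 0, 0, 0, 0, 0, 0, 0, 0, 0, 0, 0, 0, 0, 0, 0, 0, 0, 0, 0, 0, 0, 0, 0, 0, 0, 0, 0, 0, 0, 0, 0, 0, 0, 0, 0, 0, 0, 0, 0, 0, 0, 0, 0, 0, 0, 0, 0, 0, 0, 0, 0, 0, 0, 1,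 0, 0, 0, 1, 0, 0, 0, 0, 0, 0, 0, 0, 0, 0, 0, 0, 0, 0, 0, 0, 0, 0, 0, 0, 0, 0, 0, 0, 0, 0, 0, 0, 0, 0, 0, 0, 0, 0, 0, 0, 0, 0, 0, 0, 0, 0, 0, 0, 0, 0, 0, 0, 0, 0, 0, 0, 0, 0, 0, 0, 0, 0, 0, 0, 0, 0, 0, 0, 0, 0, 0, 0, 0, 0, 0, 0, 0, 0, 0, 0, 0, 0, 0, 0, 0, 0, 0, 0, 0, 0, 0, 0, 0, 0, 0, 0, 0, 0, 0, 0, 0, 0, 0, 0, 0, 0, 0, 0, 0, 0, 0, 0, 0, 0, 0, 0, 0, 0]]

/-- part of the exponents -/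
def twoVecs5 : List (List ℤ) :=
  [[0, 0, 0, 0, 0, 0, 0, 0, 0, 0, 0, 0, 0, 0, 0, 0, 0, 0, 0, 0, 0, 0, 0, 0, 0, 0, 0, 0, 0, 0, 0, 0, 0, 0, 0, 0, 0, 0, 0, 0, 0, 0, 0, 0, 0, 0, 0, 0, 0, 0, 0, 0, 0, 0, 0, 0, 0, 0, 0, 0, 0, 0, 0, 0, 0, 0, 0, 0, 0, 0, 0, 0, 0, 0, 0, 0, 0, 0, 0, 0, 0, 0, 0, 0, 0, 0, 0, 0, 0, 0, 0, 0, 0, 0, 0, 0, 0, 0, 0, 0, 0, 0, 0, 0, 0, 0, 0, 0, 0, 0, 0, 0, 0, 0, 0, 0, 0, 0, 0, 0, 0, 0, 0, 0, 0, 0, 0, 0, 0, 0, 0, 0, 0, 0, 0, 0, 0, 0, 0, 0, 0, 0, 0, 0, 0, 0, 0, 0, 0, 0, 0, 0, 0, 0, 0, 0, 0, 0, 0, 0, 0, 0, 0, 0, 0, 0, 0, 0, 0, 0, 0, 0, 0, 0, 0, 0, 0, 0, 0, 0, 0, 0, 0, 0, 0, 0, 0, 0, 0, 0, 0, 0, 0, 0, 0, 0, 0, 0, 0, 0, 0, 0, 0, 0, 0, 0, 0, 0, 0, 0, 0, 0, 0, 0, 0, 0, 0, 0, 0, 0, 0, 0, 0, 0, 0, 0, 0, 0, 0, 0, 0, 0, 0, 0, 0, 0, 0, 0, 0,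 1, 0, 0, 0, 0, 0, 0, 0, 0, 0, 0, 0, 0, 1, 0, 0, 0, 0, 0, 0, 0, 0, 0, 0, 0, 0, 0, 0, 0, 0, 0, 0, 0, 0, 0, 0, 0, 0, 0, 0, 0, 0, 0, 0, 0, 0, 0, 0, 0, 0, 0, 0, 0, 0, 0, 0, 0, 0, 0, 0, 0, 0, 0, 0, 0, 0, 0, 0, 0, 0, 0, 0, 0, 0, 0, 0, 0, 0, 0, 0, 0, 0, 0, 0, 0, 0, 0, 0, 0, 0, 0, 0, 0, 0, 0, 0, 0, 0, 0, 0, 0, 0, 0, 0, 0, 0, 0, 0, 0, 0, 0, 0, 0, 0, 0, 0, 0, 0, 0, 0, 0, 0, 0, 0, 0, 0, 0, 0],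
    [0, 0, 0, 0, 0, 0, 0, 0, 0, 0, 0, 0, 0, 0, 0, 0, 0, 0, 0, 0, 0, 0, 0, 0, 0, 0, 0, 0, 0, 0, 0, 0, 0, 0, 0, 0, 0, 0, 0, 0, 0, 0, 0, 0, 0, 0, 0, 0, 0, 0, 0, 0, 0, 0, 0, 0, 0, 0, 0, 0, 0, 0, 0, 0, 0, 0, 0, 0, 0, 0, 0, 0, 0, 0, 0, 0, 0, 0, 0, 0, 0, 0, 0, 0, 0, 0, 0, 0, 0, 0, 0, 0, 0, 0, 0, 0, 0, 0, 0, 0, 0, 0, 0, 0, 0, 0, 0, 0, 0, 0, 0, 0, 0, 0, 0, 0, 0, 0, 0, 0, 0, 0, 0, 0, 0, 0, 0, 0, 0, 0, 0, 0, 0, 0, 0, 0, 0, 0, 0, 0, 0, 0, 0, 0, 0, 0, 0, 0, 0, 0, 0, 0, 0, 0, 0, 0, 0, 0, 0, 0, 0, 0, 0, 0, 0, 0, 0, 0, 0, 0, 0, 0, 0, 0, 0, 0, 0, 0, 0, 0, 0, 0, 0, 0, 0, 0, 0, 0, 0, 0, 0, 0, 0, 0, 0, 0, 0, 0, 0, 0, 0, 0, 0, 0, 0, 0, 0, 0, 0, 0, 0, 0, 0, 0, 0, 0, 0, 0, 0, 0, 0, 0, 0, 0, 0, 0, 0, 0, 0, 0, 0, 0, 0, 0, 0, 0, 0, 0, 0, 0, 0, 0, 0, 0, 0, 0, 0, 0, 0,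 1, 0, 0, 1, 0, 0, 0, 0, 0, 0, 0, 0, 0, 0, 0, 0, 0, 0, 0, 0, 0, 0, 0, 0, 0, 0, 0, 0, 0, 0, 0, 0, 0, 0, 0, 0, 0, 0, 0, 0, 0, 0, 0, 0, 0, 0, 0, 0, 0, 0, 0, 0, 0, 0, 0, 0, 0, 0, 0, 0, 0, 0, 0, 0, 0, 0, 0, 0, 0, 0, 0, 0, 0, 0, 0, 0, 0, 0, 0, 0, 0, 0, 0, 0, 0, 0, 0, 0, 0, 0, 0, 0, 0, 0, 0, 0, 0, 0, 0, 0, 0, 0, 0, 0, 0, 0, 0, 0, 0, 0, 0, 0, 0, 0, 0, 0, 0, 0],
    [0, 0, 0, 0, 0, 0, 0, 0, 0, 0, 0, 0, 0, 0, 0, 0, 0, 0, 0, 0, 0, 0, 0, 0, 0, 0, 0, 0, 0, 0, 0, 0, 0, 0, 0, 0, 0, 0, 0, 0, 0, 0, 0, 0, 0, 0, 0, 0, 0, 0, 0, 0, 0, 0, 0, 0, 0, 0, 0, 0, 0, 0, 0, 0, 0, 0, 0, 0, 0, 0, 0, 0, 0, 0, 0, 0, 0, 0, 0, 0, 0, 0, 0, 0, 0, 0, 0, 0, 0, 0, 0, 0, 0, 0, 0, 0, 0, 0, 0, 0, 0, 0, 0, 0, 0, 0, 0, 0, 0, 0, 0, 0, 0, 0, 0, 0, 0, 0, 0, 0, 0, 0, 0, 0, 0, 0, 0, 0, 0, 0, 0,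 0, 0, 0, 0, 0, 0, 0, 0, 0, 0, 0, 0, 0, 0, 0, 0, 0, 0, 0, 0, 0, 0, 0, 0, 0, 0, 0, 0, 0, 0, 0, 0, 0, 0, 0, 0, 0, 0, 0, 0, 0, 0, 0, 0, 0, 0, 0, 0, 0, 0, 0, 0, 0, 0, 0, 0, 0, 0, 0, 0, 0, 0, 0, 0, 0, 0, 0, 0, 0, 0, 0, 0, 0, 0, 0, 0, 0, 0, 0, 0, 0, 0, 0, 0, 0, 0, 0, 0, 0, 0, 0, 0, 0, 0, 0, 0, 0, 0, 0, 0, 0, 0, 0, 0, 0, 0, 0, 0, 0, 0, 0, 0, 0, 0, 0, 0, 0, 0, 0, 1, 0, 1, 0, 0, 0, 0, 0, 0, 0, 0, 0, 0, 0, 0, 0, 0, 0, 0, 0, 0, 0, 0, 0, 0, 0, 0, 0, 0, 0, 0, 0, 0, 0, 0, 0, 0, 0, 0, 0, 0, 0, 0, 0, 0, 0, 0, 0, 0, 0, 0, 0, 0, 0, 0, 0, 0, 0, 0, 0, 0, 0, 0, 0, 0, 0, 0, 0, 0, 0, 0, 0, 0, 0, 0, 0, 0, 0, 0, 0, 0, 0, 0, 0, 0, 0, 0, 0, 0, 0, 0, 0, 0, 0, 0, 0, 0, 0, 0, 0, 0, 0, 0, 0, 0, 0, 0, 0, 0, 0, 0, 0, 0, 0, 0, 0, 0],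
    [0, 0, 0, 0, 0, 0, 0, 0, 0, 0, 0, 0, 0, 0, 0, 0, 0, 0, 0, 0, 0, 0, 0, 0, 0, 0, 0, 0, 0, 0, 0, 0, 0, 0, 0, 0, 0, 0, 0, 0, 0, 0, 0, 0, 0, 0, 0, 0, 0, 0, 0, 0, 0, 0, 0, 0, 0, 0, 0, 0, 0, 0, 0, 0, 0, 0, 0, 0, 0, 0, 0, 0, 0, 0, 0, 0, 0, 0, 0, 0, 0, 0, 0, 0, 0, 0, 0, 0, 0, 0, 0, 0, 0, 0, 0, 0, 0, 0, 0, 0, 0, 0, 0, 0, 0, 0, 0, 0, 0, 0, 0, 0, 0, 0, 0, 0, 0, 0, 0, 0, 0, 0, 0, 0, 0, 0, 0, 0, 0, 0, 0, 0, 0, 0, 0, 0, 0, 0, 0, 0, 0, 0, 0, 0, 0, 0, 0, 0, 0, 0, 0, 0, 0, 0, 0, 0, 0, 0, 0, 0, 0, 0, 0, 0, 0, 0, 0, 0, 0, 0, 0, 0, 0, 0, 0, 0, 0, 0, 0, 0, 0, 0, 0, 0, 0, 0, 0, 0, 0, 0, 0, 0, 0, 0, 0, 0, 0, 0, 0, 0, 0, 0, 0, 0, 0, 0, 0, 0, 0, 0, 0, 0, 0, 0, 0, 0, 0, 0, 0, 0, 0, 0, 0, 0, 0, 0, 0, 0, 0, 0, 0, 0, 0, 0, 0, 0, 0, 1, 0, 0, 0, 0, 0, 0, 0, 0, 0, 0, 0,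 0, 0, 0, 1, 0, 0, 0, 0, 0, 0, 0, 0, 0, 0, 0, 0, 0, 0, 0, 0, 0, 0, 0, 0, 0, 0, 0, 0, 0, 0, 0, 0, 0, 0, 0, 0, 0, 0, 0, 0, 0, 0, 0, 0, 0, 0, 0, 0, 0, 0, 0, 0, 0, 0, 0, 0, 0, 0, 0, 0, 0, 0, 0, 0, 0, 0, 0, 0, 0, 0, 0, 0, 0, 0, 0, 0, 0, 0, 0, 0, 0, 0, 0, 0, 0, 0, 0, 0, 0, 0, 0, 0, 0, 0, 0, 0, 0, 0, 0, 0, 0, 0, 0, 0, 0, 0, 0, 0, 0, 0, 0, 0, 0, 0, 0, 0, 0, 0],
    [0, 0, 0, 0, 0, 0, 0, 0, 0, 0, 0, 0, 0, 0, 0, 0, 0, 0, 0, 0, 0, 0, 0, 0, 0, 0, 0, 0, 0, 0, 0, 0, 0, 0, 0, 0, 0, 0, 0, 0, 0, 0, 0, 0, 0, 0, 0, 0, 0, 0, 0, 0, 0, 0, 0, 0, 0, 0, 0, 0, 0, 0, 0, 0, 0, 0, 0, 0, 0, 0, 0, 0, 0, 0, 0, 0, 0, 0, 0, 0, 0, 0, 0, 0, 0, 0, 0, 0, 0, 0, 0, 0, 0, 0, 0, 0, 0, 0, 0, 0, 0, 0, 0, 0, 0, 0, 0, 0, 0, 0, 0, 0, 0, 0, 0, 0, 0, 0, 0, 0, 0, 0, 0, 0, 0, 0, 0, 0, 0, 0, 0,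 0, 0, 0, 0, 0, 0, 0, 0, 0, 0, 0, 0, 0, 0, 0, 0, 0, 0, 0, 0, 0, 0, 0, 0, 0, 0, 0, 0, 0, 0, 0, 0, 0, 0, 0, 0, 0, 0, 0, 0, 0, 0, 0, 0, 0, 0, 0, 0, 0, 0, 0, 0, 0, 0, 0, 0, 0, 0, 0, 0, 0, 0, 0, 0, 0, 0, 0, 0, 0, 0, 0, 0, 0, 0, 0, 0, 0, 0, 0, 0, 0, 0, 0, 0, 0, 0, 0, 0, 0, 0, 0, 0, 0, 0, 0, 0, 0, 0, 0, 0, 0, 0, 0, 0, 0, 0, 0, 0, 0, 0, 0, 0, 0, 0, 0, 0, 0, 0, 0, 0, 1, 1, 0, 0, 0, 0, 0, 0, 0, 0, 0, 0, 0, 0, 0, 0, 0, 0, 0, 0, 0, 0, 0, 0, 0, 0, 0, 0, 0, 0, 0, 0, 0, 0, 0, 0, 0, 0, 0, 0, 0, 0, 0, 0, 0, 0, 0, 0, 0, 0, 0, 0, 0, 0, 0, 0, 0, 0, 0, 0, 0, 0, 0, 0, 0, 0, 0, 0, 0, 0, 0, 0, 0, 0, 0, 0, 0, 0, 0, 0, 0, 0, 0, 0, 0, 0, 0, 0, 0, 0, 0, 0, 0, 0, 0, 0, 0, 0, 0, 0, 0, 0, 0, 0, 0, 0, 0, 0, 0, 0, 0, 0, 0, 0, 0, 0],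
    [0, 0, 0, 0, 0, 0, 0, 0, 0, 0, 0, 0, 0, 0, 0, 1, 0, 0, 0, 0, 0, 0, 0, 0, 0, 0, 0, 0, 0, 0, 0, 0, 0, 0, 0, 0, 0, 0, 0, 0, 0, 0, 0, 0, 0, 0, 0, 0, 0, 0, 0, 0, 0, 0, 0, 0, 0, 0, 0, 0, 0, 0, 0, 0, 0, 0, 0, 0, 0, 0, 0, 0, 0, 0, 0, 0, 0, 0, 0, 0, 0, 0, 0, 0, 0, 0, 0, 0, 0, 0, 0, 0, 0, 0, 0, 0, 0, 0, 0, 0, 0, 0, 0, 0, 0, 0, 0, 0, 0, 0, 0, 0, 0, 0, 0, 0, 0, 0, 0, 0, 0, 0, 0, 0, 0, 0, 0, 0, 0, 0, 0, 0, 0, 0, 0, 0, 0, 0, 0, 0, 0, 0, 0, 0, 0, 0, 0, 0, 0, 0, 0, 0, 0, 0, 0, 0, 0, 0, 0, 0, 0, 0, 0, 0, 0, 0, 0, 0, 0, 0, 0, 0, 0, 0, 0, 0, 0, 0, 0, 0, 0, 0, 0, 0, 0, 0, 0, 0, 0, 0, 0, 0, 0, 0, 0, 0, 0, 0, 0, 0, 0, 0, 0, 0, 0, 0, 0, 0, 0, 0, 0, 0, 0, 0, 0, 0, 0, 0, 0, 0, 0, 0, 0, 0, 0, 0, 0, 0, 0, 0, 0, 0, 0, 0, 0, 0, 0, 0, 0, 0, 0, 0, 0, 0, 0, 0, 0, 0, 0,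 0, 0, 0, 0, 0, 0, 0, 0, 0, 0, 0, 0, 0, 0, 0, 0, 0, 0, 0, 0, 0, 0, 0, 0, 0, 0, 0, 0, 0, 0, 0, 0, 0, 0, 0, 0, 0, 0, 0, 0, 0, 0, 0, 0, 0, 0, 0, 0, 0, 0, 0, 0, 0, 0, 0, 0, 0, 0, 0, 0, 0, 0, 0, 0, 0, 0, 0, 0, 0, 0, 0, 0, 0, 0, 0, 0, 0, 0, 0, 0, 0, 0, 0, 0, 0, 0, 0, 0, 0, 0, 0, 0, 0, 0, 0, 0, 0, 0, 0, 0, 0, 0, 0, 0, 0, 0, 0, 0, 0, 0, 0, 0, 0, 0, 0, 0, 0, 0],
    [0, 0, 0, 0, 0, 0, 0, 0, 0, 0, 0, 0, 0, 0, 0, 0, 0, 0, 0, 0, 0, 0, 0, 0, 0, 0, 0, 0, 0, 0, 0, 0, 0, 0, 0, 0, 0, 0, 1, 0, 0, 0, 0, 0, 0, 0, 0, 0, 0, 0, 0, 0, 0, 0, 0, 0, 0, 0, 0, 0, 0, 0, 0, 0, 0, 0, 0, 0, 0, 0, 0, 0, 0, 0, 0, 0, 0, 0, 0, 0, 0, 0, 0, 0, 0, 0, 0, 0, 0, 0, 0, 0, 0, 0, 0, 0, 0, 0, 0, 0, 0, 0, 0, 0, 0, 0, 0, 0, 0, 0, 0, 0, 0, 0, 0, 0, 0, 0, 0, 0, 0, 0, 0, 0, 0, 0, 0, 0, 0, 0, 0,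 0, 0, 0, 0, 0, 0, 0, 0, 0, 0, 0, 0, 0, 0, 0, 0, 0, 0, 0, 0, 0, 0, 0, 0, 0, 0, 0, 0, 0, 0, 0, 0, 0, 0, 0, 0, 0, 0, 0, 0, 0, 0, 0, 0, 0, 0, 0, 0, 0, 0, 0, 0, 0, 0, 0, 0, 0, 0, 0, 0, 0, 0, 0, 0, 0, 0, 0, 0, 0, 0, 0, 0, 0, 0, 0, 0, 0, 0, 0, 0, 0, 0, 0, 0, 0, 0, 0, 0, 0, 0, 0, 0, 0, 0, 0, 0, 0, 0, 0, 0, 0, 0, 0, 0, 0, 0, 0, 0, 0, 0, 0, 0, 0, 0, 0, 0, 0, 0, 0, 0, 0, 0, 0, 0, 0, 0, 0, 0, 0, 0, 0, 0, 0, 0, 0, 0, 0, 0, 0, 0, 0, 0, 0, 0, 0, 0, 0, 0, 0, 0, 0, 0, 0, 0, 0, 0, 0, 0, 0, 0, 0, 0, 0, 0, 0, 0, 0, 0, 0, 0, 0, 0, 0, 0, 0, 0, 0, 0, 0, 0, 0, 0, 0, 0, 0, 0, 0, 0, 0, 0, 0, 0, 0, 0, 0, 0, 0, 0, 0, 0, 0, 0, 0, 0, 0, 0, 0, 0, 0, 0, 0, 0, 0, 0, 0, 0, 0, 0, 0, 0, 0, 0, 0, 0, 0, 0, 0, 0, 0, 0, 0, 0, 0, 0, 0, 0],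
    [0, 0, 0, 0, 0, 0, 0, 0, 0, 0, 0, 0, 0, 0, 0, 0, 0, 0, 0, 0, 0, 0, 0, 0, 0, 0, 0, 0, 0, 0, 0, 0, 0, 1, 0, 0, 0, 0, 0, 0, 0, 0, 0, 0, 0, 0, 0, 0, 0, 0, 0, 0, 0, 0, 0, 0, 0, 0, 0, 0, 0, 0, 0, 0, 0, 0, 0, 0, 0, 0, 0, 0, 0, 0, 0, 0, 0, 0, 0, 0, 0, 0, 0, 0, 0, 0, 0, 0, 0, 0, 0, 0, 0, 0, 0, 0, 0, 0, 0, 0, 0, 0, 0, 0, 0, 0, 0, 0, 0, 0, 0, 0, 0, 0, 0, 0, 0, 0, 0, 0, 0, 0, 0, 0, 0, 0, 0, 0, 0, 0, 0, 0, 0, 0, 0, 0, 0, 0, 0, 0, 0, 0, 0, 0, 0, 0, 0, 0, 0, 0, 0, 0, 0, 0, 0, 0, 0, 0, 0, 0, 0, 0, 0, 0, 0, 0, 0, 0, 0, 0, 0, 0, 0, 0, 0, 0, 0, 0, 0, 0, 0, 0, 0, 0, 0, 0, 0, 0, 0, 0, 0, 0, 0, 0, 0, 0, 0, 0, 0, 0, 0, 0, 0, 0, 0, 0, 0, 0, 0, 0, 0, 0, 0, 0, 0, 0, 0, 0, 0, 0, 0, 0, 0, 0, 0, 0, 0, 0, 0, 0, 0, 0, 0, 0, 0, 0, 0, 0, 0, 0, 0, 0, 0, 0, 0, 0, 0, 0, 0,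 0, 0, 0, 0, 0, 0, 0, 0, 0, 0, 0, 0, 0, 0, 0, 0, 0, 0, 0, 0, 0, 0, 0, 0, 0, 0, 0, 0, 0, 0, 0, 0, 0, 0, 0, 0, 0, 0, 0, 0, 0, 0, 0, 0, 0, 0, 0, 0, 0, 0, 0, 0, 0, 0, 0, 0, 0, 0, 0, 0, 0, 0, 0, 0, 0, 0, 0, 0, 0, 0, 0, 0, 0, 0, 0, 0, 0, 0, 0, 0, 0, 0, 0, 0, 0, 0, 0, 0, 0, 0, 0, 0, 0, 0, 0, 0, 0, 0, 0, 0, 0, 0, 0, 0, 0, 0, 0, 0, 0, 0, 0, 0, 0, 0, 0, 0, 0, 0],
    [0, 0, 0, 0, 0, 0, 0, 0, 0, 0, 0, 0, 0, 0, 0, 0, 0, 0, 0, 0, 0, 0, 0, 0, 0, 0, 0, 0, 0, 0, 0, 0, 0, 0, 0, 0, 0, 0, 0, 0, 0, 0, 0, 0, 0, 0, 0, 1, 0, 0, 0, 0, 0, 0, 0, 0, 0, 0, 0, 0, 0, 0, 0, 0, 0, 0, 0, 0, 0, 0, 0, 0, 0, 0, 0, 0, 0, 0, 0, 0, 0, 0, 0, 0, 0, 0, 0, 0, 0, 0, 0, 0, 0, 0, 0, 0, 0, 0, 0, 0, 0, 0, 0, 0, 0, 0, 0, 0, 0, 0, 0, 0, 0, 0, 0, 0, 0, 0, 0, 0, 0, 0, 0, 0, 0, 0, 0, 0, 0, 0, 0,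 0, 0, 0, 0, 0, 0, 0, 0, 0, 0, 0, 0, 0, 0, 0, 0, 0, 0, 0, 0, 0, 0, 0, 0, 0, 0, 0, 0, 0, 0, 0, 0, 0, 0, 0, 0, 0, 0, 0, 0, 0, 0, 0, 0, 0, 0, 0, 0, 0, 0, 0, 0, 0, 0, 0, 0, 0, 0, 0, 0, 0, 0, 0, 0, 0, 0, 0, 0, 0, 0, 0, 0, 0, 0, 0, 0, 0, 0, 0, 0, 0, 0, 0, 0, 0, 0, 0, 0, 0, 0, 0, 0, 0, 0, 0, 0, 0, 0, 0, 0, 0, 0, 0, 0, 0, 0, 0, 0, 0, 0, 0, 0, 0, 0, 0, 0, 0, 0, 0, 0, 0, 0, 0, 0, 0, 0, 0, 0, 0, 0, 0, 0, 0, 0, 0, 0, 0, 0, 0, 0, 0, 0, 0, 0, 0, 0, 0, 0, 0, 0, 0, 0, 0, 0, 0, 0, 0, 0, 0, 0, 0, 0, 0, 0, 0, 0, 0, 0, 0, 0, 0, 0, 0, 0, 0, 0, 0, 0, 0, 0, 0, 0, 0, 0, 0, 0, 0, 0, 0, 0, 0, 0, 0, 0, 0, 0, 0, 0, 0, 0, 0, 0, 0, 0, 0, 0, 0, 0, 0, 0, 0, 0, 0, 0, 0, 0, 0, 0, 0, 0, 0, 0, 0, 0, 0, 0, 0, 0, 0, 0, 0, 0, 0, 0, 0, 0],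
    [0, 0, 0, 0, 0, 0, 0, 0, 0, 0, 0, 0, 0, 0, 0, 0, 0, 0, 0, 0, 0, 0, 0, 0, 0, 0, 0, 0, 0, 0, 0, 0, 0, 0, 0, 0, 0, 0, 0, 0, 0, 0, 0, 0, 0, 0, 0, 0, 1, 0, 0, 0, 0, 0, 0, 0, 0, 0, 0, 0, 0, 0, 0, 0, 0, 0, 0, 0, 0, 0, 0, 0, 0, 0, 0, 0, 0, 0, 0, 0, 0, 0, 0, 0, 0, 0, 0, 0, 0, 0, 0, 0, 0, 0, 0, 0, 0, 0, 0, 0, 0, 0, 0, 0, 0, 0, 0, 0, 0, 0, 0, 0, 0, 0, 0, 0, 0, 0, 0, 0, 0, 0, 0, 0, 0, 0, 0, 0, 0, 0, 0, 0, 0, 0, 0, 0, 0, 0, 0, 0, 0, 0, 0, 0, 0, 0, 0, 0, 0, 0, 0, 0, 0, 0, 0, 0, 0, 0, 0, 0, 0, 0, 0, 0, 0, 0, 0, 0, 0, 0, 0, 0, 0, 0, 0, 0, 0, 0, 0, 0, 0, 0, 0, 0, 0, 0, 0, 0, 0, 0, 0, 0, 0, 0, 0, 0, 0, 0, 0, 0, 0, 0, 0, 0, 0, 0, 0, 0, 0, 0, 0, 0, 0, 0, 0, 0, 0, 0, 0, 0, 0, 0, 0, 0, 0, 0, 0, 0, 0, 0, 0, 0, 0, 0, 0, 0, 0, 0, 0, 0, 0, 0, 0, 0, 0, 0, 0, 0, 0,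 0, 0, 0, 0, 0, 0, 0, 0, 0, 0, 0, 0, 0, 0, 0, 0, 0, 0, 0, 0, 0, 0, 0, 0, 0, 0, 0, 0, 0, 0, 0, 0, 0, 0, 0, 0, 0, 0, 0, 0, 0, 0, 0, 0, 0, 0, 0, 0, 0, 0, 0, 0, 0, 0, 0, 0, 0, 0, 0, 0, 0, 0, 0, 0, 0, 0, 0, 0, 0, 0, 0, 0, 0, 0, 0, 0, 0, 0, 0, 0, 0, 0, 0, 0, 0, 0, 0, 0, 0, 0, 0, 0, 0, 0, 0, 0, 0, 0, 0, 0, 0, 0, 0, 0, 0, 0, 0, 0, 0, 0, 0, 0, 0, 0, 0, 0, 0, 0]]

/-- part of the exponents -/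
def twoVecs6 : List (List ℤ) :=
  [[0, 0, 0, 0, 0, 0, 0, 0, 0, 0, 0, 0, 0, 0, 0, 0, 0, 0, 0, 0, 0, 0, 0, 0, 0, 0, 0, 0, 0, 0, 0, 0, 0, 0, 0, 0, 0, 0, 0, 0, 0, 1, 0, 0, 0, 0, 0, 0, 0, 0, 0, 0, 0, 0, 0, 0, 0, 0, 0, 0, 0, 0, 0, 0, 0, 0, 0, 0, 0, 0, 0, 0, 0, 0, 0, 0, 0, 0, 0, 0, 0, 0, 0, 0, 0, 0, 0, 0, 0, 0, 0, 0, 0, 0, 0, 0, 0, 0, 0, 0, 0, 0, 0, 0, 0, 0, 0, 0, 0, 0, 0, 0, 0, 0, 0, 0, 0, 0, 0, 0, 0, 0, 0, 0, 0, 0, 0, 0, 0, 0, 0, 0, 0, 0, 0, 0, 0, 0, 0, 0, 0, 0, 0, 0, 0, 0, 0, 0, 0, 0, 0, 0, 0, 0, 0, 0, 0, 0, 0, 0, 0, 0, 0, 0, 0, 0, 0, 0, 0, 0, 0, 0, 0, 0, 0, 0, 0, 0, 0, 0, 0, 0, 0, 0, 0, 0, 0, 0, 0, 0, 0, 0, 0, 0, 0, 0, 0, 0, 0, 0, 0, 0, 0, 0, 0, 0, 0, 0, 0, 0, 0, 0, 0, 0, 0, 0, 0, 0, 0, 0, 0, 0, 0, 0, 0, 0, 0, 0, 0, 0, 0, 0, 0, 0, 0, 0, 0, 0, 0,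 0, 0, 0, 0, 0, 0, 0, 0, 0, 0, 0, 0, 0, 0, 0, 0, 0, 0, 0, 0, 0, 0, 0, 0, 0, 0, 0, 0, 0, 0, 0, 0, 0, 0, 0, 0, 0, 0, 0, 0, 0, 0, 0, 0, 0, 0, 0, 0, 0, 0, 0, 0, 0, 0, 0, 0, 0, 0, 0, 0, 0, 0, 0, 0, 0, 0, 0, 0, 0, 0, 0, 0, 0, 0, 0, 0, 0, 0, 0, 0, 0, 0, 0, 0, 0, 0, 0, 0, 0, 0, 0, 0, 0, 0, 0, 0, 0, 0, 0, 0, 0, 0, 0, 0, 0, 0, 0, 0, 0, 0, 0, 0, 0, 0, 0, 0, 0, 0, 0, 0, 0, 0, 0, 0, 0, 0, 0, 0],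
    [0, 0, 0, 0, 0, 0, 0, 0, 0, 0, 0, 0, 0, 0, 0, 0, 0, 0, 0, 0, 0, 0, 0, 0, 0, 0, 0, 0, 0, 0, 0, 0, 0, 0, 0, 0, 0, 0, 0, 0, 0, 0, 0, 0, 0, 1, 0, 0, 0, 0, 0, 0, 0, 0, 0, 0, 0, 0, 0, 0, 0, 0, 0, 0, 0, 0, 0, 0, 0, 0, 0, 0, 0, 0, 0, 0, 0, 0, 0, 0, 0, 0, 0, 0, 0, 0, 0, 0, 0, 0, 0, 0, 0, 0, 0, 0, 0, 0, 0, 0, 0, 0, 0, 0, 0, 0, 0, 0, 0, 0, 0, 0, 0, 0, 0, 0, 0, 0, 0, 0, 0, 0, 0, 0, 0, 0, 0, 0, 0, 0, 0, 0, 0, 0, 0, 0, 0, 0, 0, 0, 0, 0, 0, 0, 0, 0, 0, 0, 0, 0, 0, 0, 0, 0, 0, 0, 0, 0, 0, 0, 0, 0, 0, 0, 0, 0, 0, 0, 0, 0, 0, 0, 0, 0, 0, 0, 0, 0, 0, 0, 0, 0, 0, 0, 0, 0, 0, 0, 0, 0, 0, 0, 0, 0, 0, 0, 0, 0, 0, 0, 0, 0, 0, 0, 0, 0, 0, 0, 0, 0, 0, 0, 0, 0, 0, 0, 0, 0, 0, 0, 0, 0, 0, 0, 0, 0, 0, 0, 0, 0, 0, 0, 0, 0, 0, 0, 0, 0, 0, 0, 0, 0, 0, 0, 0, 0, 0, 0, 0,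 0, 0, 0, 0, 0, 0, 0, 0, 0, 0, 0, 0, 0, 0, 0, 0, 0, 0, 0, 0, 0, 0, 0, 0, 0, 0, 0, 0, 0, 0, 0, 0, 0, 0, 0, 0, 0, 0, 0, 0, 0, 0, 0, 0, 0, 0, 0, 0, 0, 0, 0, 0, 0, 0, 0, 0, 0, 0, 0, 0, 0, 0, 0, 0, 0, 0, 0, 0, 0, 0, 0, 0, 0, 0, 0, 0, 0, 0, 0, 0, 0, 0, 0, 0, 0, 0, 0, 0, 0, 0, 0, 0, 0, 0, 0, 0, 0, 0, 0, 0, 0, 0, 0, 0, 0, 0, 0, 0, 0, 0, 0, 0, 0, 0, 0, 0, 0, 0],
    [0, 0, 0, 0, 0, 0, 0, 0, 0, 0, 0, 0, 0, 0, 0, 0, 0, 0, 0, 0, 0, 0, 0, 0, 0, 0, 0, 0, 0, 0, 0, 0, 0, 0, 0, 0, 0, 0, 0, 0, 0, 0, 0, 0, 0, 0, 0, 0, 0, 0, 0, 0, 0, 0, 0, 0, 0, 0, 0, 0, 0, 0, 0, 0, 0, 0, 0, 0, 0, 0, 0, 0, 0, 0, 0, 0, 0, 0, 0, 0, 0, 0, 0, 0, 0, 0, 0, 0, 0, 0, 0, 0, 0, 0, 0, 0, 0, 0, 0, 0, 0, 0, 0, 0, 0, 0, 0, 0, 0, 0, 0, 0, 0, 0, 0, 0, 0, 0, 0, 0, 0, 0, 0, 0, 0, 0, 0, 0, 0, 0, 0,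 0, 0, 0, 0, 0, 0, 0, 0, 0, 0, 0, 0, 0, 0, 0, 0, 0, 0, 0, 0, 0, 0, 0, 0, 0, 0, 0, 0, 0, 0, 0, 0, 0, 0, 0, 0, 0, 0, 0, 0, 0, 0, 0, 0, 0, 0, 0, 0, 0, 0, 0, 0, 0, 0, 0, 0, 0, 0, 0, 0, 0, 0, 0, 0, 0, 0, 0, 0, 0, 0, 0, 0, 0, 0, 0, 0, 0, 0, 0, 0, 0, 1, 0, 0, 0, 0, 0, 0, 0, 0, 0, 0, 0, 0, 0, 0, 0, 0, 0, 0, 0, 0, 0, 0, 0, 0, 0, 0, 0, 0, 0, 0, 0, 0, 0, 0, 0, 0, 0, 0, 0, 0, 0, 0, 0, 0, 0, 0, 0, 0, 0, 0, 0, 0, 0, 0, 0, 0, 0, 0, 0, 0, 0, 0, 0, 0, 0, 0, 0, 0, 0, 0, 0, 0, 0, 0, 0, 0, 0, 0, 0, 0, 0, 0, 0, 0, 0, 0, 0, 0, 0, 0, 0, 0, 0, 0, 0, 0, 0, 0, 0, 0, 0, 0, 0, 0, 0, 0, 0, 0, 0, 0, 0, 0, 0, 0, 0, 0, 0, 0, 0, 0, 0, 0, 0, 0, 0, 0, 0, 0, 0, 0, 0, 0, 0, 0, 0, 0, 0, 0, 0, 0, 0, 0, 0, 0, 0, 0, 0, 0, 0, 0, 0, 0, 0, 0],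
    [0, 0, 0, 0, 0, 0, 0, 0, 0, 0, 0, 0, 0, 0, 0, 0, 0, 0, 0, 0, 0, 0, 0, 0, 0, 0, 0, 0, 0, 0, 0, 0, 0, 0, 0, 0, 0, 0, 0, 0, 0, 0, 0, 0, 0, 0, 0, 0, 0, 0, 0, 0, 0, 0, 0, 0, 0, 0, 0, 0, 0, 0, 0, 0, 0, 0, 0, 0, 0, 0, 0, 0, 0, 0, 0, 0, 0, 0, 0, 0, 0, 0, 0, 0, 0, 0, 0, 0, 0, 0, 0, 0, 0, 0, 0, 0, 0, 0, 0, 0, 0, 0, 0, 0, 0, 0, 0, 0, 0, 0, 0, 0, 0, 0, 0, 0, 0, 0, 0, 0, 0, 0, 0, 0, 0, 0, 0, 0, 0, 0, 0, 0, 0, 0, 0, 0, 0, 0, 0, 0, 0, 0, 0, 0, 0, 0, 0, 0, 0, 0, 0, 0, 0, 0, 0, 0, 0, 0, 0, 0, 0, 0, 0, 0, 0, 0, 0, 0, 0, 0, 0, 0, 0, 0, 0, 0, 0, 0, 0, 0, 0, 0, 0, 0, 0, 0, 0, 0, 0, 0, 0, 0, 1, 0, 0, 0, 0, 0, 0, 0, 0, 0, 0, 0, 0, 0, 0, 0, 0, 0, 0, 0, 0, 0, 0, 0, 0, 0, 0, 0, 0, 0, 0, 0, 0, 0, 0, 0, 0, 0, 0, 0, 0, 0, 0, 0, 0, 0, 0, 0, 0, 0, 0, 0, 0, 0, 0, 0, 0,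 0, 0, 0, 0, 0, 0, 0, 0, 0, 0, 0, 0, 0, 0, 0, 0, 0, 0, 0, 0, 0, 0, 0, 0, 0, 0, 0, 0, 0, 0, 0, 0, 0, 0, 0, 0, 0, 0, 0, 0, 0, 0, 0, 0, 0, 0, 0, 0, 0, 0, 0, 0, 0, 0, 0, 0, 0, 0, 0, 0, 0, 0, 0, 0, 0, 0, 0, 0, 0, 0, 0, 0, 0, 0, 0, 0, 0, 0, 0, 0, 0, 0, 0, 0, 0, 0, 0, 0, 0, 0, 0, 0, 0, 0, 0, 0, 0, 0, 0, 0, 0, 0, 0, 0, 0, 0, 0, 0, 0, 0, 0, 0, 0, 0, 0, 0, 0, 0],
    [0, 0, 0, 0, 0, 0, 0, 0, 0, 0, 0, 0, 0, 0, 0, 0, 0, 0, 0, 0, 0, 0, 0, 0, 0, 0, 0, 0, 0, 0, 0, 0, 0, 0, 0, 0, 0, 0, 0, 0, 0, 0, 0, 0, 0, 0, 0, 0, 0, 0, 0, 0, 0, 0, 0, 0, 0, 0, 0, 0, 0, 0, 0, 0, 0, 0, 0, 0, 0, 0, 0, 0, 0, 0, 0, 0, 0, 0, 0, 0, 0, 0, 0, 0, 0, 0, 0, 0, 0, 0, 0, 0, 0, 0, 0, 0, 0, 0, 0, 0, 0, 0, 0, 0, 0, 0, 0, 0, 0, 0, 0, 0, 0, 0, 0, 0, 0, 0, 0, 0, 0, 1, 0, 0, 0, 0, 0, 0, 0, 0, 0,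 0, 0, 0, 0, 0, 0, 0, 0, 0, 0, 0, 0, 0, 0, 0, 0, 0, 0, 0, 0, 0, 0, 0, 0, 0, 0, 0, 0, 0, 0, 0, 0, 0, 0, 0, 0, 0, 0, 0, 0, 0, 0, 0, 0, 0, 0, 0, 0, 0, 0, 0, 0, 0, 0, 0, 0, 0, 0, 0, 0, 0, 0, 0, 0, 0, 0, 0, 0, 0, 0, 0, 0, 0, 0, 0, 0, 0, 0, 0, 0, 0, 0, 0, 0, 0, 0, 0, 0, 0, 0, 0, 0, 0, 0, 0, 0, 0, 0, 0, 0, 0, 0, 0, 0, 0, 0, 0, 0, 0, 0, 0, 0, 0, 0, 0, 0, 0, 0, 0, 0, 0, 0, 0, 0, 0, 0, 0, 0, 0, 0, 0, 0, 0, 0, 0, 0, 0, 0, 0, 0, 0, 0, 0, 0, 0, 0, 0, 0, 0, 0, 0, 0, 0, 0, 0, 0, 0, 0, 0, 0, 0, 0, 0, 0, 0, 0, 0, 0, 0, 0, 0, 0, 0, 0, 0, 0, 0, 0, 0, 0, 0, 0, 0, 0, 0, 0, 0, 0, 0, 0, 0, 0, 0, 0, 0, 0, 0, 0, 0, 0, 0, 0, 0, 0, 0, 0, 0, 0, 0, 0, 0, 0, 0, 0, 0, 0, 0, 0, 0, 0, 0, 0, 0, 0, 0, 0, 0, 0, 0, 0, 0, 0, 0, 0, 0, 0],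
    [0, 0, 0, 0, 0, 0, 0, 0, 0, 0, 0, 0, 0, 0, 0, 0, 0, 0, 0, 0, 0, 0, 0, 0, 0, 0, 0, 0, 0, 0, 0, 0, 0, 0, 0, 0, 0, 0, 0, 0, 0, 0, 0, 0, 0, 0, 0, 0, 0, 0, 0, 0, 0, 0, 0, 0, 0, 0, 0, 0, 0, 0, 0, 0, 0, 0, 0, 0, 0, 0, 0, 0, 0, 0, 0, 0, 0, 0, 0, 0, 0, 0, 0, 0, 0, 0, 0, 0, 0, 0, 0, 0, 0, 0, 0, 0, 0, 0, 0, 0, 0, 0, 0, 0, 0, 0, 0, 0, 0, 0, 0, 0, 0, 0, 0, 0, 0, 0, 0, 0, 0, 0, 0, 0, 0, 0, 0, 0, 0, 0, 0, 0, 0, 0, 0, 0, 0, 1, 0, 0, 0, 0, 0, 0, 0, 0, 0, 0, 0, 0, 0, 0, 0, 0, 0, 0, 0, 0, 0, 0, 0, 0, 0, 0, 0, 0, 0, 0, 0, 0, 0, 0, 0, 0, 0, 0, 0, 0, 0, 0, 0, 0, 0, 0, 0, 0, 0, 0, 0, 0, 0, 0, 0, 0, 0, 0, 0, 0, 0, 0, 0, 0, 0, 0, 0, 0, 0, 0, 0, 0, 0, 0, 0, 0, 0, 0, 0, 0, 0, 0, 0, 0, 0, 0, 0, 0, 0, 0, 0, 0, 0, 0, 0, 0, 0, 0, 0, 0, 0, 0, 0, 0, 0, 0, 0, 0, 0, 0, 0,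 0, 0, 0, 0, 0, 0, 0, 0, 0, 0, 0, 0, 0, 0, 0, 0, 0, 0, 0, 0, 0, 0, 0, 0, 0, 0, 0, 0, 0, 0, 0, 0, 0, 0, 0, 0, 0, 0, 0, 0, 0, 0, 0, 0, 0, 0, 0, 0, 0, 0, 0, 0, 0, 0, 0, 0, 0, 0, 0, 0, 0, 0, 0, 0, 0, 0, 0, 0, 0, 0, 0, 0, 0, 0, 0, 0, 0, 0, 0, 0, 0, 0, 0, 0, 0, 0, 0, 0, 0, 0, 0, 0, 0, 0, 0, 0, 0, 0, 0, 0, 0, 0, 0, 0, 0, 0, 0, 0, 0, 0, 0, 0, 0, 0, 0, 0, 0, 0],
    [0, 0, 0, 0, 0, 0, 0, 0, 0, 0, 0, 0, 0, 0, 0, 0, 0, 0, 0, 0, 0, 0, 0, 0, 0, 0, 0, 0, 0, 0, 0, 0, 0, 0, 0, 0, 0, 0, 0, 0, 0, 0, 0, 0, 0, 0, 0, 0, 0, 0, 0, 0, 0, 0, 0, 0, 0, 0, 0, 0, 0, 0, 0, 0, 0, 0, 0, 0, 0, 0, 0, 0, 0, 0, 0, 0, 0, 0, 0, 0, 0, 0, 0, 0, 0, 0, 0, 0, 0, 0, 0, 0, 0, 0, 0, 0, 0, 0, 0, 0, 0, 0, 0, 0, 0, 0, 0, 0, 0, 0, 0, 0, 0, 0, 0, 0, 0, 0, 0, 0, 0, 0, 0, 0, 0, 0, 0, 0, 0, 0, 0,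 0, 0, 0, 0, 0, 0, 0, 0, 0, 0, 0, 0, 0, 0, 0, 0, 0, 0, 0, 0, 0, 0, 0, 0, 0, 0, 0, 0, 0, 0, 0, 0, 0, 0, 0, 0, 0, 0, 0, 0, 0, 0, 0, 0, 0, 0, 0, 0, 0, 0, 0, 0, 0, 0, 0, 0, 0, 0, 0, 0, 1, 0, 0, 0, 0, 0, 0, 0, 0, 0, 0, 0, 0, 0, 0, 0, 0, 0, 0, 0, 0, 0, 0, 0, 0, 0, 0, 0, 0, 0, 0, 0, 0, 0, 0, 0, 0, 0, 0, 0, 0, 0, 0, 0, 0, 0, 0, 0, 0, 0, 0, 0, 0, 0, 0, 0, 0, 0, 0, 0, 0, 0, 0, 0, 0, 0, 0, 0, 0, 0, 0, 0, 0, 0, 0, 0, 0, 0, 0, 0, 0, 0, 0, 0, 0, 0, 0, 0, 0, 0, 0, 0, 0, 0, 0, 0, 0, 0, 0, 0, 0, 0, 0, 0, 0, 0, 0, 0, 0, 0, 0, 0, 0, 0, 0, 0, 0, 0, 0, 0, 0, 0, 0, 0, 0, 0, 0, 0, 0, 0, 0, 0, 0, 0, 0, 0, 0, 0, 0, 0, 0, 0, 0, 0, 0, 0, 0, 0, 0, 0, 0, 0, 0, 0, 0, 0, 0, 0, 0, 0, 0, 0, 0, 0, 0, 0, 0, 0, 0, 0, 0, 0, 0, 0, 0, 0],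
    [0, 0, 0, 0, 0, 0, 0, 0, 0, 0, 0, 0, 0, 0, 0, 0, 0, 0, 0, 0, 0, 0, 0, 0, 0, 0, 0, 0, 0, 0, 0, 0, 0, 0, 0, 0, 0, 0, 0, 0, 0, 0, 0, 0, 0, 0, 0, 0, 0, 0, 0, 0, 0, 0, 0, 0, 0, 0, 0, 0, 0, 0, 0, 0, 0, 0, 0, 0, 0, 0, 0, 0, 0, 0, 0, 0, 0, 0, 0, 0, 0, 0, 0, 0, 0, 0, 0, 0, 0, 0, 0, 0, 0, 0, 0, 0, 0, 0, 0, 0, 0, 0, 0, 0, 0, 0, 0, 0, 0, 0, 0, 0, 0, 0, 0, 0, 0, 0, 0, 0, 0, 0, 0, 0, 0, 0, 0, 0, 0, 1, 0, 0, 0, 0, 0, 0, 0, 0, 0, 0, 0, 0, 0, 0, 0, 0, 0, 0, 0, 0, 0, 0, 0, 0, 0, 0, 0, 0, 0, 0, 0, 0, 0, 0, 0, 0, 0, 0, 0, 0, 0, 0, 0, 0, 0, 0, 0, 0, 0, 0, 0, 0, 0, 0, 0, 0, 0, 0, 0, 0, 0, 0, 0, 0, 0, 0, 0, 0, 0, 0, 0, 0, 0, 0, 0, 0, 0, 0, 0, 0, 0, 0, 0, 0, 0, 0, 0, 0, 0, 0, 0, 0, 0, 0, 0, 0, 0, 0, 0, 0, 0, 0, 0, 0, 0, 0, 0, 0, 0, 0, 0, 0, 0, 0, 0, 0, 0, 0, 0,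 0, 0, 0, 0, 0, 0, 0, 0, 0, 0, 0, 0, 0, 0, 0, 0, 0, 0, 0, 0, 0, 0, 0, 0, 0, 0, 0, 0, 0, 0, 0, 0, 0, 0, 0, 0, 0, 0, 0, 0, 0, 0, 0, 0, 0, 0, 0, 0, 0, 0, 0, 0, 0, 0, 0, 0, 0, 0, 0, 0, 0, 0, 0, 0, 0, 0, 0, 0, 0, 0, 0, 0, 0, 0, 0, 0, 0, 0, 0, 0, 0, 0, 0, 0, 0, 0, 0, 0, 0, 0, 0, 0, 0, 0, 0, 0, 0, 0, 0, 0, 0, 0, 0, 0, 0, 0, 0, 0, 0, 0, 0, 0, 0, 0, 0, 0, 0, 0],
    [0, 0, 0, 0, 0, 0, 0, 0, 0, 0, 0, 0, 0, 0, 0, 0, 0, 0, 0, 0, 0, 0, 0, 0, 0, 0, 0, 0, 0, 0, 0, 0, 0, 0, 0, 0, 0, 0, 0, 0, 0, 0, 0, 0, 0, 0, 0, 0, 0, 0, 0, 0, 0, 0, 0, 0, 0, 0, 0, 0, 0, 0, 0, 0, 0, 0, 0, 0, 0, 0, 0, 0, 0, 0, 0, 0, 0, 0, 0, 0, 0, 0, 0, 0, 0, 0, 0, 0, 0, 0, 0, 0, 0, 0, 0, 0, 0, 0, 0, 0, 0, 0, 0, 0, 0, 0, 0, 0, 0, 0, 0, 0, 0, 0, 0, 0, 0, 0, 0, 0, 0, 0, 0, 0, 0, 0, 0, 0, 0, 0, 0,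 0, 0, 0, 0, 0, 0, 0, 0, 0, 0, 0, 0, 0, 0, 1, 0, 0, 0, 0, 0, 0, 0, 0, 0, 0, 0, 0, 0, 0, 0, 0, 0, 0, 0, 0, 0, 0, 0, 0, 0, 0, 0, 0, 0, 0, 0, 0, 0, 0, 0, 0, 0, 0, 0, 0, 0, 0, 0, 0, 0, 0, 0, 0, 0, 0, 0, 0, 0, 0, 0, 0, 0, 0, 0, 0, 0, 0, 0, 0, 0, 0, 0, 0, 0, 0, 0, 0, 0, 0, 0, 0, 0, 0, 0, 0, 0, 0, 0, 0, 0, 0, 0, 0, 0, 0, 0, 0, 0, 0, 0, 0, 0, 0, 0, 0, 0, 0, 0, 0, 0, 0, 0, 0, 0, 0, 0, 0, 0, 0, 0, 0, 0, 0, 0, 0, 0, 0, 0, 0, 0, 0, 0, 0, 0, 0, 0, 0, 0, 0, 0, 0, 0, 0, 0, 0, 0, 0, 0, 0, 0, 0, 0, 0, 0, 0, 0, 0, 0, 0, 0, 0, 0, 0, 0, 0, 0, 0, 0, 0, 0, 0, 0, 0, 0, 0, 0, 0, 0, 0, 0, 0, 0, 0, 0, 0, 0, 0, 0, 0, 0, 0, 0, 0, 0, 0, 0, 0, 0, 0, 0, 0, 0, 0, 0, 0, 0, 0, 0, 0, 0, 0, 0, 0, 0, 0, 0, 0, 0, 0, 0, 0, 0, 0, 0, 0, 0],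
    [0, 0, 0, 0, 0, 0, 0, 0, 0, 0, 0, 0, 0, 0, 0, 0, 0, 0, 0, 0, 0, 0, 0, 0, 0, 0, 0, 0, 0, 0, 0, 0, 0, 0, 0, 0, 0, 0, 0, 0, 0, 0, 0, 0, 0, 0, 0, 0, 0, 0, 0, 0, 0, 0, 0, 0, 0, 0, 0, 0, 0, 0, 0, 0, 0, 0, 0, 0, 0, 0, 0, 0, 0, 0, 0, 0, 0, 0, 0, 0, 0, 0, 0, 0, 0, 0, 0, 0, 0, 0, 0, 0, 0, 0, 0, 0, 0, 0, 0, 0, 0, 0, 0, 0, 0, 0, 0, 0, 0, 0, 0, 0, 0, 0, 0, 0, 0, 0, 0, 0, 0, 0, 0, 0, 0, 0, 0, 0, 0, 0, 0, 0, 0, 0, 0, 0, 0, 0, 0, 0, 0, 0, 0, 0, 0, 0, 0, 0, 0, 0, 0, 0, 0, 0, 0, 0, 0, 0, 0, 0, 0, 0, 0, 0, 0, 0, 0, 0, 0, 0, 0, 0, 0, 0, 0, 0, 0, 0, 0, 0, 0, 0, 0, 0, 0, 0, 0, 0, 0, 0, 0, 0, 0, 0, 0, 0, 0, 0, 0, 1, 0, 0, 0, 0, 0, 0, 0, 0, 0, 0, 0, 0, 0, 0, 0, 0, 0, 0, 0, 0, 0, 0, 0, 0, 0, 0, 0, 0, 0, 0, 0, 0, 0, 0, 0, 0, 0, 0, 0, 0, 0, 0, 0, 0, 0, 0, 0, 0, 0,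 0, 0, 0, 0, 0, 0, 0, 0, 0, 0, 0, 0, 0, 0, 0, 0, 0, 0, 0, 0, 0, 0, 0, 0, 0, 0, 0, 0, 0, 0, 0, 0, 0, 0, 0, 0, 0, 0, 0, 0, 0, 0, 0, 0, 0, 0, 0, 0, 0, 0, 0, 0, 0, 0, 0, 0, 0, 0, 0, 0, 0, 0, 0, 0, 0, 0, 0, 0, 0, 0, 0, 0, 0, 0, 0, 0, 0, 0, 0, 0, 0, 0, 0, 0, 0, 0, 0, 0, 0, 0, 0, 0, 0, 0, 0, 0, 0, 0, 0, 0, 0, 0, 0, 0, 0, 0, 0, 0, 0, 0, 0, 0, 0, 0, 0, 0, 0, 0]]

/-- part of the exponents -/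
def twoVecs7 : List (List ℤ) :=
  [[0, 0, 0, 0, 0, 0, 0, 0, 0, 0, 0, 0, 0, 0, 0, 0, 0, 0, 0, 0, 0, 0, 0, 0, 0, 0, 0, 0, 0, 0, 0, 0, 0, 0, 0, 0, 0, 0, 0, 0, 0, 0, 0, 0, 0, 0, 0, 0, 0, 0, 0, 0, 0, 0, 0, 0, 0, 0, 0, 0, 0, 0, 0, 0, 0, 0, 0, 0, 0, 0, 0, 0, 0, 0, 0, 0, 0, 0, 0, 0, 0, 0, 0, 0, 0, 0, 0, 0, 0, 0, 0, 0, 0, 0, 0, 0, 0, 0, 0, 0, 0, 0, 0, 0, 0, 0, 0, 0, 0, 0, 0, 0, 0, 0, 0, 0, 0, 0, 0, 0, 0, 0, 0, 0, 0, 0, 0, 0, 0, 0, 0, 0, 0, 0, 0, 0, 0, 0, 0, 0, 0, 0, 0, 0, 0, 0, 0, 0, 0, 0, 0, 0, 0, 0, 0, 0, 0, 0, 0, 0, 0, 0, 0, 0, 0, 0, 0, 0, 0, 0, 0, 0, 0, 0, 0, 0, 0, 0, 0, 0, 0, 0, 0, 1, 0, 0, 0, 0, 0, 0, 0, 0, 0, 0, 0, 0, 0, 0, 0, 0, 0, 0, 0, 0, 0, 0, 0, 0, 0, 0, 0, 0, 0, 0, 0, 0, 0, 0, 0, 0, 0, 0, 0, 0, 0, 0, 0, 0, 0, 0, 0, 0, 0, 0, 0, 0, 0, 0, 0,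 0, 0, 0, 0, 0, 0, 0, 0, 0, 0, 0, 0, 0, 0, 0, 0, 0, 0, 0, 0, 0, 0, 0, 0, 0, 0, 0, 0, 0, 0, 0, 0, 0, 0, 0, 0, 0, 0, 0, 0, 0, 0, 0, 0, 0, 0, 0, 0, 0, 0, 0, 0, 0, 0, 0, 0, 0, 0, 0, 0, 0, 0, 0, 0, 0, 0, 0, 0, 0, 0, 0, 0, 0, 0, 0, 0, 0, 0, 0, 0, 0, 0, 0, 0, 0, 0, 0, 0, 0, 0, 0, 0, 0, 0, 0, 0, 0, 0, 0, 0, 0, 0, 0, 0, 0, 0, 0, 0, 0, 0, 0, 0, 0, 0, 0, 0, 0, 0, 0, 0, 0, 0, 0, 0, 0, 0, 0, 0],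
    [0, 0, 0, 0, 0, 0, 0, 0, 0, 0, 0, 0, 0, 0, 0, 0, 0, 0, 0, 0, 0, 0, 0, 0, 0, 0, 0, 0, 0, 0, 0, 0, 0, 0, 0, 0, 0, 0, 0, 0, 0, 0, 0, 0, 0, 0, 0, 0, 0, 0, 0, 0, 0, 0, 0, 0, 0, 0, 0, 0, 0, 0, 0, 0, 0, 0, 0, 0, 0, 0, 0, 0, 0, 0, 0, 0, 0, 0, 0, 0, 0, 0, 0, 0, 0, 0, 0, 0, 0, 0, 0, 0, 0, 0, 0, 0, 0, 0, 0, 0, 0, 0, 0, 0, 0, 0, 0, 0, 0, 0, 0, 0, 0, 0, 0, 0, 0, 0, 0, 0, 0, 0, 0, 0, 0, 0, 0, 0, 0, 0, 0, 1, 0, 0, 0, 0, 0, 0, 0, 0, 0, 0, 0, 0, 0, 0, 0, 0, 0, 0, 0, 0, 0, 0, 0, 0, 0, 0, 0, 0, 0, 0, 0, 0, 0, 0, 0, 0, 0, 0, 0, 0, 0, 0, 0, 0, 0, 0, 0, 0, 0, 0, 0, 0, 0, 0, 0, 0, 0, 0, 0, 0, 0, 0, 0, 0, 0, 0, 0, 0, 0, 0, 0, 0, 0, 0, 0, 0, 0, 0, 0, 0, 0, 0, 0, 0, 0, 0, 0, 0, 0, 0, 0, 0, 0, 0, 0, 0, 0, 0, 0, 0, 0, 0, 0, 0, 0, 0, 0, 0, 0, 0, 0, 0, 0, 0, 0, 0, 0,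 0, 0, 0, 0, 0, 0, 0, 0, 0, 0, 0, 0, 0, 0, 0, 0, 0, 0, 0, 0, 0, 0, 0, 0, 0, 0, 0, 0, 0, 0, 0, 0, 0, 0, 0, 0, 0, 0, 0, 0, 0, 0, 0, 0, 0, 0, 0, 0, 0, 0, 0, 0, 0, 0, 0, 0, 0, 0, 0, 0, 0, 0, 0, 0, 0, 0, 0, 0, 0, 0, 0, 0, 0, 0, 0, 0, 0, 0, 0, 0, 0, 0, 0, 0, 0, 0, 0, 0, 0, 0, 0, 0, 0, 0, 0, 0, 0, 0, 0, 0, 0, 0, 0, 0, 0, 0, 0, 0, 0, 0, 0, 0, 0, 0, 0, 0, 0, 0],
    [0, 0, 0, 0, 0, 0, 0, 0, 0, 0, 0, 0, 0, 0, 0, 0, 0, 0, 0, 0, 0, 0, 0, 0, 0, 0, 0, 0, 0, 0, 0, 0, 0, 0, 0, 0, 0, 0, 0, 0, 0, 0, 0, 0, 0, 0, 0, 0, 0, 0, 0, 0, 0, 0, 0, 0, 0, 0, 0, 0, 0, 0, 0, 0, 0, 0, 0, 0, 0, 0, 0, 0, 0, 0, 0, 0, 0, 0, 0, 0, 0, 0, 0, 0, 0, 0, 0, 0, 0, 0, 0, 0, 0, 1, 0, 0, 0, 0, 0, 0, 0, 0, 0, 0, 0, 0, 0, 0, 0, 0, 0, 0, 0, 0, 0, 0, 0, 0, 0, 0, 0, 0, 0, 0, 0, 0, 0, 0, 0, 0, 0,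 0, 0, 0, 0, 0, 0, 0, 0, 0, 0, 0, 0, 0, 0, 0, 0, 0, 0, 0, 0, 0, 0, 0, 0, 0, 0, 0, 0, 0, 0, 0, 0, 0, 0, 0, 0, 0, 0, 0, 0, 0, 0, 0, 0, 0, 0, 0, 0, 0, 0, 0, 0, 0, 0, 0, 0, 0, 0, 0, 0, 0, 0, 0, 0, 0, 0, 0, 0, 0, 0, 0, 0, 0, 0, 0, 0, 0, 0, 0, 0, 0, 0, 0, 0, 0, 0, 0, 0, 0, 0, 0, 0, 0, 0, 0, 0, 0, 0, 0, 0, 0, 0, 0, 0, 0, 0, 0, 0, 0, 0, 0, 0, 0, 0, 0, 0, 0, 0, 0, 0, 0, 0, 0, 0, 0, 0, 0, 0, 0, 0, 0, 0, 0, 0, 0, 0, 0, 0, 0, 0, 0, 0, 0, 0, 0, 0, 0, 0, 0, 0, 0, 0, 0, 0, 0, 0, 0, 0, 0, 0, 0, 0, 0, 0, 0, 0, 0, 0, 0, 0, 0, 0, 0, 0, 0, 0, 0, 0, 0, 0, 0, 0, 0, 0, 0, 0, 0, 0, 0, 0, 0, 0, 0, 0, 0, 0, 0, 0, 0, 0, 0, 0, 0, 0, 0, 0, 0, 0, 0, 0, 0, 0, 0, 0, 0, 0, 0, 0, 0, 0, 0, 0, 0, 0, 0, 0, 0, 0, 0, 0, 0, 0, 0, 0, 0, 0],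
    [0, 0, 0, 0, 0, 0, 0, 0, 0, 0, 0, 0, 0, 0, 0, 0, 0, 0, 0, 0, 0, 0, 0, 0, 0, 0, 0, 0, 0, 0, 0, 0, 0, 0, 0, 0, 0, 0, 0, 0, 0, 0, 0, 0, 0, 0, 0, 0, 0, 0, 0, 0, 0, 0, 0, 0, 0, 0, 0, 0, 0, 0, 0, 0, 0, 0, 0, 0, 0, 0, 0, 0, 0, 0, 0, 0, 0, 0, 0, 0, 0, 0, 0, 0, 0, 0, 0, 0, 0, 0, 0, 0, 0, 0, 0, 0, 0, 0, 0, 0, 0, 0, 0, 0, 0, 0, 0, 0, 0, 0, 0, 0, 0, 0, 0, 0, 0, 0, 0, 0, 0, 0, 0, 0, 0, 0, 0, 0, 0, 0, 0, 0, 0, 0, 0, 0, 1, 0, 0, 0, 0, 0, 0, 0, 0, 0, 0, 0, 0, 0, 0, 0, 0, 0, 0, 0, 0, 0, 0, 0, 0, 0, 0, 0, 0, 0, 0, 0, 0, 0, 0, 0, 0, 0, 0, 0, 0, 0, 0, 0, 0, 0, 0, 0, 0, 0, 0, 0, 0, 0, 0, 0, 0, 0, 0, 0, 0, 0, 0, 0, 0, 0, 0, 0, 0, 0, 0, 0, 0, 0, 0, 0, 0, 0, 0, 0, 0, 0, 0, 0, 0, 0, 0, 0, 0, 0, 0, 0, 0, 0, 0, 0, 0, 0, 0, 0, 0, 0, 0, 0, 0, 0, 0, 0, 0, 0, 0, 0, 0,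 0, 0, 0, 0, 0, 0, 0, 0, 0, 0, 0, 0, 0, 0, 0, 0, 0, 0, 0, 0, 0, 0, 0, 0, 0, 0, 0, 0, 0, 0, 0, 0, 0, 0, 0, 0, 0, 0, 0, 0, 0, 0, 0, 0, 0, 0, 0, 0, 0, 0, 0, 0, 0, 0, 0, 0, 0, 0, 0, 0, 0, 0, 0, 0, 0, 0, 0, 0, 0, 0, 0, 0, 0, 0, 0, 0, 0, 0, 0, 0, 0, 0, 0, 0, 0, 0, 0, 0, 0, 0, 0, 0, 0, 0, 0, 0, 0, 0, 0, 0, 0, 0, 0, 0, 0, 0, 0, 0, 0, 0, 0, 0, 0, 0, 0, 0, 0, 0],
    [0, 0, 0, 0, 0, 0, 0, 0, 0, 0, 0, 0, 0, 0, 0, 0, 0, 0, 0, 0, 0, 0, 0, 0, 0, 0, 0, 0, 0, 0, 0, 0, 0, 0, 0, 0, 0, 0, 0, 0, 0, 0, 0, 0, 0, 0, 0, 0, 0, 0, 0, 0, 0, 0, 0, 0, 0, 0, 0, 0, 0, 0, 0, 0, 0, 0, 0, 0, 0, 0, 0, 0, 0, 0, 0, 0, 0, 0, 0, 0, 0, 0, 0, 0, 0, 0, 0, 0, 0, 0, 0, 0, 0, 0, 0, 0, 0, 0, 0, 0, 0, 0, 0, 0, 0, 0, 0, 0, 0, 0, 0, 0, 0, 0, 0, 0, 0, 0, 0, 0, 0, 0, 0, 0, 0, 0, 0, 0, 0, 0, 0,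 0, 0, 0, 0, 0, 0, 0, 1, 0, 0, 0, 0, 0, 0, 0, 0, 0, 0, 0, 0, 0, 0, 0, 0, 0, 0, 0, 0, 0, 0, 0, 0, 0, 0, 0, 0, 0, 0, 0, 0, 0, 0, 0, 0, 0, 0, 0, 0, 0, 0, 0, 0, 0, 0, 0, 0, 0, 0, 0, 0, 0, 0, 0, 0, 0, 0, 0, 0, 0, 0, 0, 0, 0, 0, 0, 0, 0, 0, 0, 0, 0, 0, 0, 0, 0, 0, 0, 0, 0, 0, 0, 0, 0, 0, 0, 0, 0, 0, 0, 0, 0, 0, 0, 0, 0, 0, 0, 0, 0, 0, 0, 0, 0, 0, 0, 0, 0, 0, 0, 0, 0, 0, 0, 0, 0, 0, 0, 0, 0, 0, 0, 0, 0, 0, 0, 0, 0, 0, 0, 0, 0, 0, 0, 0, 0, 0, 0, 0, 0, 0, 0, 0, 0, 0, 0, 0, 0, 0, 0, 0, 0, 0, 0, 0, 0, 0, 0, 0, 0, 0, 0, 0, 0, 0, 0, 0, 0, 0, 0, 0, 0, 0, 0, 0, 0, 0, 0, 0, 0, 0, 0, 0, 0, 0, 0, 0, 0, 0, 0, 0, 0, 0, 0, 0, 0, 0, 0, 0, 0, 0, 0, 0, 0, 0, 0, 0, 0, 0, 0, 0, 0, 0, 0, 0, 0, 0, 0, 0, 0, 0, 0, 0, 0, 0, 0, 0],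
    [0, 0, 0, 0, 0, 0, 0, 0, 0, 0, 0, 0, 0, 0, 0, 0, 0, 0, 0, 0, 0, 0, 0, 0, 0, 0, 0, 0, 0, 0, 0, 0, 0, 0, 0, 0, 0, 0, 0, 0, 0, 0, 0, 0, 0, 0, 0, 0, 0, 0, 0, 0, 0, 0, 0, 0, 0, 0, 0, 0, 0, 0, 0, 0, 0, 0, 0, 0, 0, 0, 0, 0, 0, 0, 0, 0, 0, 0, 0, 0, 0, 0, 0, 0, 0, 0, 0, 0, 0, 0, 0, 0, 0, 0, 0, 0, 0, 0, 0, 1, 0, 0, 0, 0, 0, 0, 0, 0, 0, 0, 0, 0, 0, 0, 0, 0, 0, 0, 0, 0, 0, 0, 0, 0, 0, 0, 0, 0, 0, 0, 0, 0, 0, 0, 0, 0, 0, 0, 0, 0, 0, 0, 0, 0, 0, 0, 0, 0, 0, 0, 0, 0, 0, 0, 0, 0, 0, 0, 0, 0, 0, 0, 0, 0, 0, 0, 0, 0, 0, 0, 0, 0, 0, 0, 0, 0, 0, 0, 0, 0, 0, 0, 0, 0, 0, 0, 0, 0, 0, 0, 0, 0, 0, 0, 0, 0, 0, 0, 0, 0, 0, 0, 0, 0, 0, 0, 0, 0, 0, 0, 0, 0, 0, 0, 0, 0, 0, 0, 0, 0, 0, 0, 0, 0, 0, 0, 0, 0, 0, 0, 0, 0, 0, 0, 0, 0, 0, 0, 0, 0, 0, 0, 0, 0, 0, 0, 0, 0, 0,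 0, 0, 0, 0, 0, 0, 0, 0, 0, 0, 0, 0, 0, 0, 0, 0, 0, 0, 0, 0, 0, 0, 0, 0, 0, 0, 0, 0, 0, 0, 0, 0, 0, 0, 0, 0, 0, 0, 0, 0, 0, 0, 0, 0, 0, 0, 0, 0, 0, 0, 0, 0, 0, 0, 0, 0, 0, 0, 0, 0, 0, 0, 0, 0, 0, 0, 0, 0, 0, 0, 0, 0, 0, 0, 0, 0, 0, 0, 0, 0, 0, 0, 0, 0, 0, 0, 0, 0, 0, 0, 0, 0, 0, 0, 0, 0, 0, 0, 0, 0, 0, 0, 0, 0, 0, 0, 0, 0, 0, 0, 0, 0, 0, 0, 0, 0, 0, 0],
    [0, 0, 0, 0, 0, 0, 0, 0, 0, 0, 0, 0, 0, 0, 0, 0, 0, 0, 0, 0, 0, 0, 0, 0, 0, 0, 0, 0, 0, 0, 0, 0, 0, 0, 0, 0, 0, 0, 0, 0, 0, 0, 0, 0, 0, 0, 0, 0, 0, 0, 0, 0, 0, 0, 0, 0, 0, 0, 0, 0, 0, 0, 0, 0, 0, 0, 0, 0, 0, 0, 0, 0, 0, 0, 0, 0, 0, 0, 0, 0, 0, 0, 0, 0, 0, 0, 0, 0, 0, 0, 0, 0, 0, 0, 0, 0, 0, 0, 0, 0, 0, 0, 0, 0, 0, 0, 0, 0, 0, 0, 0, 0, 0, 0, 0, 0, 0, 0, 0, 0, 0, 0, 0, 0, 0, 0, 0, 0, 0, 0, 0,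 0, 0, 0, 0, 0, 0, 0, 0, 0, 0, 0, 0, 1, 0, 0, 0, 0, 0, 0, 0, 0, 0, 0, 0, 0, 0, 0, 0, 0, 0, 0, 0, 0, 0, 0, 0, 0, 0, 0, 0, 0, 0, 0, 0, 0, 0, 0, 0, 0, 0, 0, 0, 0, 0, 0, 0, 0, 0, 0, 0, 0, 0, 0, 0, 0, 0, 0, 0, 0, 0, 0, 0, 0, 0, 0, 0, 0, 0, 0, 0, 0, 0, 0, 0, 0, 0, 0, 0, 0, 0, 0, 0, 0, 0, 0, 0, 0, 0, 0, 0, 0, 0, 0, 0, 0, 0, 0, 0, 0, 0, 0, 0, 0, 0, 0, 0, 0, 0, 0, 0, 0, 0, 0, 0, 0, 0, 0, 0, 0, 0, 0, 0, 0, 0, 0, 0, 0, 0, 0, 0, 0, 0, 0, 0, 0, 0, 0, 0, 0, 0, 0, 0, 0, 0, 0, 0, 0, 0, 0, 0, 0, 0, 0, 0, 0, 0, 0, 0, 0, 0, 0, 0, 0, 0, 0, 0, 0, 0, 0, 0, 0, 0, 0, 0, 0, 0, 0, 0, 0, 0, 0, 0, 0, 0, 0, 0, 0, 0, 0, 0, 0, 0, 0, 0, 0, 0, 0, 0, 0, 0, 0, 0, 0, 0, 0, 0, 0, 0, 0, 0, 0, 0, 0, 0, 0, 0, 0, 0, 0, 0, 0, 0, 0, 0, 0, 0],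
    [0, 0, 0, 0, 0, 0, 0, 0, 0, 0, 0, 0, 0, 0, 0, 0, 0, 0, 0, 0, 0, 0, 0, 0, 0, 0, 0, 0, 0, 0, 0, 0, 0, 0, 0, 0, 0, 0, 0, 0, 0, 0, 0, 0, 0, 0, 0, 0, 0, 0, 0, 0, 0, 0, 0, 0, 0, 0, 0, 0, 0, 0, 0, 0, 0, 0, 0, 0, 0, 0, 0, 0, 0, 0, 0, 0, 0, 0, 0, 0, 0, 0, 0, 0, 0, 0, 0, 0, 0, 0, 0, 0, 0, 0, 0, 0, 0, 0, 0, 0, 0, 0, 0, 0, 0, 0, 0, 0, 0, 0, 0, 0, 0, 0, 0, 0, 0, 0, 0, 0, 0, 0, 0, 0, 0, 0, 0, 0, 0, 0, 0, 0, 0, 0, 0, 0, 0, 0, 0, 0, 0, 0, 0, 0, 0, 0, 0, 0, 0, 0, 0, 0, 0, 0, 0, 0, 0, 0, 0, 0, 1, 0, 0, 0, 0, 0, 0, 0, 0, 0, 0, 0, 0, 0, 0, 0, 0, 0, 0, 0, 0, 0, 0, 0, 0, 0, 0, 0, 0, 0, 0, 0, 0, 0, 0, 0, 0, 0, 0, 0, 0, 0, 0, 0, 0, 0, 0, 0, 0, 0, 0, 0, 0, 0, 0, 0, 0, 0, 0, 0, 0, 0, 0, 0, 0, 0, 0, 0, 0, 0, 0, 0, 0, 0, 0, 0, 0, 0, 0, 0, 0, 0, 0, 0, 0, 0, 0, 0, 0,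 0, 0, 0, 0, 0, 0, 0, 0, 0, 0, 0, 0, 0, 0, 0, 0, 0, 0, 0, 0, 0, 0, 0, 0, 0, 0, 0, 0, 0, 0, 0, 0, 0, 0, 0, 0, 0, 0, 0, 0, 0, 0, 0, 0, 0, 0, 0, 0, 0, 0, 0, 0, 0, 0, 0, 0, 0, 0, 0, 0, 0, 0, 0, 0, 0, 0, 0, 0, 0, 0, 0, 0, 0, 0, 0, 0, 0, 0, 0, 0, 0, 0, 0, 0, 0, 0, 0, 0, 0, 0, 0, 0, 0, 0, 0, 0, 0, 0, 0, 0, 0, 0, 0, 0, 0, 0, 0, 0, 0, 0, 0, 0, 0, 0, 0, 0, 0, 0],
    [0, 0, 0, 0, 0, 0, 0, 0, 0, 0, 0, 0, 0, 0, 0, 0, 0, 0, 0, 0, 0, 0, 0, 0, 0, 0, 0, 0, 0, 0, 0, 0, 0, 0, 0, 0, 0, 0, 0, 0, 0, 0, 0, 0, 0, 0, 0, 0, 0, 0, 0, 0, 0, 0, 0, 0, 0, 0, 0, 0, 0, 0, 0, 0, 0, 0, 0, 0, 0, 0, 0, 0, 0, 0, 0, 0, 0, 0, 0, 0, 0, 0, 0, 0, 0, 0, 0, 0, 0, 0, 0, 0, 0, 0, 0, 0, 0, 0, 0, 0, 0, 0, 0, 0, 0, 0, 0, 0, 0, 0, 0, 0, 0, 0, 0, 0, 0, 0, 0, 0, 0, 0, 0, 0, 0, 0, 0, 0, 0, 0, 0,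 0, 0, 0, 0, 0, 0, 0, 0, 0, 0, 0, 0, 0, 1, 0, 0, 0, 0, 0, 0, 0, 0, 0, 0, 0, 0, 0, 0, 0, 0, 0, 0, 0, 0, 0, 0, 0, 0, 0, 0, 0, 0, 0, 0, 0, 0, 0, 0, 0, 0, 0, 0, 0, 0, 0, 0, 0, 0, 0, 0, 0, 0, 0, 0, 0, 0, 0, 0, 0, 0, 0, 0, 0, 0, 0, 0, 0, 0, 0, 0, 0, 0, 0, 0, 0, 0, 0, 0, 0, 0, 0, 0, 0, 0, 0, 0, 0, 0, 0, 0, 0, 0, 0, 0, 0, 0, 0, 0, 0, 0, 0, 0, 0, 0, 0, 0, 0, 0, 0, 0, 0, 0, 0, 0, 0, 0, 0, 0, 0, 0, 0, 0, 0, 0, 0, 0, 0, 0, 0, 0, 0, 0, 0, 0, 0, 0, 0, 0, 0, 0, 0, 0, 0, 0, 0, 0, 0, 0, 0, 0, 0, 0, 0, 0, 0, 0, 0, 0, 0, 0, 0, 0, 0, 0, 0, 0, 0, 0, 0, 0, 0, 0, 0, 0, 0, 0, 0, 0, 0, 0, 0, 0, 0, 0, 0, 0, 0, 0, 0, 0, 0, 0, 0, 0, 0, 0, 0, 0, 0, 0, 0, 0, 0, 0, 0, 0, 0, 0, 0, 0, 0, 0, 0, 0, 0, 0, 0, 0, 0, 0, 0, 0, 0, 0, 0, 0],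
    [0, 0, 0, 0, 0, 0, 0, 0, 0, 0, 0, 0, 0, 0, 0, 0, 0, 0, 0, 0, 0, 0, 0, 0, 0, 0, 0, 0, 0, 0, 0, 0, 0, 0, 0, 0, 0, 0, 0, 0, 0, 0, 0, 0, 0, 0, 0, 0, 0, 0, 0, 0, 0, 0, 0, 0, 0, 0, 0, 0, 0, 0, 0, 0, 0, 0, 0, 0, 0, 0, 0, 0, 0, 0, 0, 0, 0, 0, 0, 0, 0, 0, 0, 0, 0, 0, 0, 0, 0, 0, 0, 0, 0, 0, 0, 0, 0, 0, 0, 0, 0, 0, 0, 0, 0, 0, 0, 0, 0, 0, 0, 0, 0, 0, 0, 0, 0, 0, 0, 0, 0, 0, 0, 0, 0, 0, 0, 0, 0, 0, 0, 0, 0, 0, 0, 0, 0, 0, 0, 0, 0, 0, 0, 0, 0, 0, 0, 0, 0, 0, 0, 0, 0, 0, 0, 0, 0, 0, 0, 0, 0, 1, 0, 0, 0, 0, 0, 0, 0, 0, 0, 0, 0, 0, 0, 0, 0, 0, 0, 0, 0, 0, 0, 0, 0, 0, 0, 0, 0, 0, 0, 0, 0, 0, 0, 0, 0, 0, 0, 0, 0, 0, 0, 0, 0, 0, 0, 0, 0, 0, 0, 0, 0, 0, 0, 0, 0, 0, 0, 0, 0, 0, 0, 0, 0, 0, 0, 0, 0, 0, 0, 0, 0, 0, 0, 0, 0, 0, 0, 0, 0, 0, 0, 0, 0, 0, 0, 0, 0,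 0, 0, 0, 0, 0, 0, 0, 0, 0, 0, 0, 0, 0, 0, 0, 0, 0, 0, 0, 0, 0, 0, 0, 0, 0, 0, 0, 0, 0, 0, 0, 0, 0, 0, 0, 0, 0, 0, 0, 0, 0, 0, 0, 0, 0, 0, 0, 0, 0, 0, 0, 0, 0, 0, 0, 0, 0, 0, 0, 0, 0, 0, 0, 0, 0, 0, 0, 0, 0, 0, 0, 0, 0, 0, 0, 0, 0, 0, 0, 0, 0, 0, 0, 0, 0, 0, 0, 0, 0, 0, 0, 0, 0, 0, 0, 0, 0, 0, 0, 0, 0, 0, 0, 0, 0, 0, 0, 0, 0, 0, 0, 0, 0, 0, 0, 0, 0, 0]]

/-- part of the exponents -/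
def twoVecs8 : List (List ℤ) :=
  [[0, 0, 0, 0, 0, 0, 0, 0, 0, 0, 0, 0, 0, 0, 0, 0, 0, 0, 0, 0, 0, 0, 0, 0, 0, 0, 0, 0, 0, 0, 0, 0, 0, 0, 0, 0, 0, 0, 0, 0, 0, 0, 0, 0, 0, 0, 0, 0, 0, 0, 0, 0, 0, 0, 0, 0, 0, 0, 0, 0, 0, 0, 0, 0, 0, 0, 0, 0, 0, 0, 0, 0, 0, 0, 0, 0, 0, 0, 0, 0, 0, 0, 0, 0, 0, 0, 0, 0, 0, 0, 0, 0, 0, 0, 0, 0, 0, 0, 0, 0, 0, 0, 0, 0, 0, 0, 0, 0, 0, 0, 0, 0, 0, 0, 0, 0, 0, 0, 0, 0, 0, 0, 0, 0, 0, 0, 0, 0, 0, 0, 0, 0, 0, 0, 0, 0, 0, 0, 0, 0, 0, 0, 0, 0, 0, 0, 0, 0, 0, 0, 0, 0, 0, 0, 0, 0, 0, 0, 0, 0, 0, 0, 0, 0, 0, 0, 0, 0, 0, 0, 0, 0, 0, 0, 0, 0, 0, 0, 0, 0, 0, 0, 0, 0, 0, 0, 0, 0, 0, 0, 0, 0, 0, 0, 0, 0, 0, 0, 0, 0, 0, 0, 0, 0, 0, 0, 0, 0, 0, 0, 1, 0, 0, 0, 0, 0, 0, 0, 0, 0, 0, 0, 0, 0, 0, 0, 0, 0, 0, 0, 0, 0, 0, 0, 0, 0, 0, 0, 0,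 0, 0, 0, 0, 0, 0, 0, 0, 0, 0, 0, 0, 0, 0, 0, 0, 0, 0, 0, 0, 0, 0, 0, 0, 0, 0, 0, 0, 0, 0, 0, 0, 0, 0, 0, 0, 0, 0, 0, 0, 0, 0, 0, 0, 0, 0, 0, 0, 0, 0, 0, 0, 0, 0, 0, 0, 0, 0, 0, 0, 0, 0, 0, 0, 0, 0, 0, 0, 0, 0, 0, 0, 0, 0, 0, 0, 0, 0, 0, 0, 0, 0, 0, 0, 0, 0, 0, 0, 0, 0, 0, 0, 0, 0, 0, 0, 0, 0, 0, 0, 0, 0, 0, 0, 0, 0, 0, 0, 0, 0, 0, 0, 0, 0, 0, 0, 0, 0, 0, 0, 0, 0, 0, 0, 0, 0, 0, 0],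
    [0, 0, 0, 0, 0, 0, 0, 0, 0, 0, 0, 0, 0, 0, 0, 0, 0, 0, 0, 0, 0, 0, 0, 0, 0, 0, 0, 0, 0, 0, 0, 0, 0, 0, 0, 0, 0, 0, 0, 0, 0, 0, 0, 0, 0, 0, 0, 0, 0, 0, 0, 0, 0, 0, 0, 0, 0, 0, 0, 0, 0, 0, 0, 0, 0, 0, 0, 0, 0, 0, 0, 0, 0, 0, 0, 0, 0, 0, 0, 0, 0, 0, 0, 0, 0, 0, 0, 0, 0, 0, 0, 0, 0, 0, 0, 0, 0, 0, 0, 0, 0, 0, 0, 0, 0, 0, 0, 0, 0, 0, 0, 0, 0, 0, 0, 0, 0, 0, 0, 0, 0, 0, 0, 0, 0, 0, 0, 0, 0, 0, 0, 0, 0, 0, 0, 0, 0, 0, 0, 0, 0, 0, 0, 0, 0, 0, 0, 0, 0, 0, 0, 0, 0, 0, 0, 0, 0, 0, 0, 0, 0, 0, 0, 0, 0, 0, 0, 0, 0, 0, 0, 0, 0, 0, 0, 0, 0, 0, 0, 0, 0, 0, 0, 0, 0, 0, 0, 0, 0, 0, 0, 0, 0, 0, 0, 0, 0, 0, 0, 0, 0, 0, 0, 0, 0, 0, 0, 0, 0, 0, 0, 1, 0, 0, 0, 0, 0, 0, 0, 0, 0, 0, 0, 0, 0, 0, 0, 0, 0, 0, 0, 0, 0, 0, 0, 0, 0, 0, 0, 0, 0, 0, 0, 0, 0, 0, 0, 0, 0,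 0, 0, 0, 0, 0, 0, 0, 0, 0, 0, 0, 0, 0, 0, 0, 0, 0, 0, 0, 0, 0, 0, 0, 0, 0, 0, 0, 0, 0, 0, 0, 0, 0, 0, 0, 0, 0, 0, 0, 0, 0, 0, 0, 0, 0, 0, 0, 0, 0, 0, 0, 0, 0, 0, 0, 0, 0, 0, 0, 0, 0, 0, 0, 0, 0, 0, 0, 0, 0, 0, 0, 0, 0, 0, 0, 0, 0, 0, 0, 0, 0, 0, 0, 0, 0, 0, 0, 0, 0, 0, 0, 0, 0, 0, 0, 0, 0, 0, 0, 0, 0, 0, 0, 0, 0, 0, 0, 0, 0, 0, 0, 0, 0, 0, 0, 0, 0, 0],
    [0, 0, 0, 0, 0, 0, 0, 0, 0, 0, 0, 0, 0, 0, 0, 0, 0, 0, 0, 0, 0, 0, 0, 0, 0, 0, 0, 0, 0, 0, 0, 0, 0, 0, 0, 0, 0, 0, 0, 0, 0, 0, 0, 0, 0, 0, 0, 0, 0, 0, 0, 0, 0, 0, 0, 0, 0, 0, 0, 0, 0, 0, 0, 0, 0, 0, 0, 0, 0, 0, 0, 0, 0, 0, 0, 0, 0, 0, 0, 0, 0, 0, 0, 0, 0, 0, 0, 0, 0, 0, 0, 0, 0, 0, 0, 0, 0, 0, 0, 0, 0, 0, 0, 0, 0, 0, 0, 0, 0, 0, 0, 0, 0, 0, 0, 0, 0, 0, 0, 0, 0, 0, 0, 0, 0, 0, 0, 0, 0, 0, 0,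 0, 0, 0, 0, 0, 0, 0, 0, 0, 0, 0, 0, 0, 0, 0, 0, 0, 0, 0, 0, 0, 0, 0, 0, 0, 0, 0, 0, 0, 0, 0, 0, 0, 0, 0, 0, 0, 0, 0, 0, 0, 0, 0, 0, 0, 0, 0, 0, 0, 0, 0, 0, 0, 0, 0, 0, 0, 0, 0, 0, 0, 0, 0, 0, 0, 0, 0, 0, 0, 0, 0, 0, 0, 0, 0, 0, 0, 0, 0, 0, 0, 0, 0, 0, 0, 0, 1, 0, 0, 0, 0, 0, 0, 0, 0, 0, 0, 0, 0, 0, 0, 0, 0, 0, 0, 0, 0, 0, 0, 0, 0, 0, 0, 0, 0, 0, 0, 0, 0, 0, 0, 0, 0, 0, 0, 0, 0, 0, 0, 0, 0, 0, 0, 0, 0, 0, 0, 0, 0, 0, 0, 0, 0, 0, 0, 0, 0, 0, 0, 0, 0, 0, 0, 0, 0, 0, 0, 0, 0, 0, 0, 0, 0, 0, 0, 0, 0, 0, 0, 0, 0, 0, 0, 0, 0, 0, 0, 0, 0, 0, 0, 0, 0, 0, 0, 0, 0, 0, 0, 0, 0, 0, 0, 0, 0, 0, 0, 0, 0, 0, 0, 0, 0, 0, 0, 0, 0, 0, 0, 0, 0, 0, 0, 0, 0, 0, 0, 0, 0, 0, 0, 0, 0, 0, 0, 0, 0, 0, 0, 0, 0, 0, 0, 0, 0, 0],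
    [0, 0, 0, 0, 0, 0, 0, 0, 0, 0, 0, 0, 0, 0, 0, 0, 0, 0, 0, 0, 0, 0, 0, 0, 0, 0, 0, 0, 0, 0, 0, 0, 0, 0, 0, 0, 0, 0, 0, 0, 0, 0, 0, 0, 0, 0, 0, 0, 0, 0, 0, 0, 0, 0, 0, 0, 0, 0, 0, 0, 0, 0, 0, 0, 0, 0, 0, 0, 0, 0, 0, 0, 0, 0, 0, 0, 0, 0, 0, 0, 0, 0, 0, 0, 0, 0, 0, 0, 0, 0, 0, 0, 0, 0, 0, 0, 0, 0, 0, 0, 0, 0, 0, 0, 0, 0, 0, 0, 0, 0, 0, 0, 0, 0, 0, 0, 0, 0, 0, 0, 0, 0, 0, 0, 0, 0, 0, 0, 0, 0, 0, 0, 0, 0, 0, 0, 0, 0, 0, 0, 0, 0, 0, 0, 0, 0, 0, 0, 0, 0, 0, 0, 0, 0, 0, 0, 0, 0, 0, 0, 0, 0, 0, 0, 0, 0, 0, 0, 0, 0, 0, 0, 0, 0, 0, 0, 0, 0, 0, 0, 0, 0, 0, 0, 0, 0, 0, 0, 0, 0, 0, 0, 0, 0, 0, 0, 0, 0, 0, 0, 0, 0, 0, 0, 0, 0, 0, 0, 0, 0, 0, 0, 0, 0, 0, 0, 0, 0, 1, 0, 0, 0, 0, 0, 0, 0, 0, 0, 0, 0, 0, 0, 0, 0, 0, 0, 0, 0, 0, 0, 0, 0, 0, 0, 0, 0, 0, 0, 0,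 0, 0, 0, 0, 0, 0, 0, 0, 0, 0, 0, 0, 0, 0, 0, 0, 0, 0, 0, 0, 0, 0, 0, 0, 0, 0, 0, 0, 0, 0, 0, 0, 0, 0, 0, 0, 0, 0, 0, 0, 0, 0, 0, 0, 0, 0, 0, 0, 0, 0, 0, 0, 0, 0, 0, 0, 0, 0, 0, 0, 0, 0, 0, 0, 0, 0, 0, 0, 0, 0, 0, 0, 0, 0, 0, 0, 0, 0, 0, 0, 0, 0, 0, 0, 0, 0, 0, 0, 0, 0, 0, 0, 0, 0, 0, 0, 0, 0, 0, 0, 0, 0, 0, 0, 0, 0, 0, 0, 0, 0, 0, 0, 0, 0, 0, 0, 0, 0],
    [0, 0, 0, 0, 0, 0, 0, 0, 0, 0, 0, 0, 0, 0, 0, 0, 0, 0, 0, 0, 0, 0, 0, 0, 0, 0, 0, 0, 0, 0, 0, 0, 0, 0, 0, 0, 0, 0, 0, 0, 0, 0, 0, 0, 0, 0, 0, 0, 0, 0, 0, 0, 0, 0, 0, 0, 0, 0, 0, 0, 0, 0, 0, 0, 0, 0, 0, 0, 0, 0, 0, 0, 0, 0, 0, 0, 0, 0, 0, 0, 0, 0, 0, 0, 0, 0, 0, 0, 0, 0, 0, 0, 0, 0, 0, 0, 0, 0, 0, 0, 0, 0, 0, 0, 0, 0, 0, 0, 0, 0, 0, 0, 0, 0, 0, 0, 0, 0, 0, 0, 0, 0, 0, 0, 0, 0, 0, 0, 0, 0, 0,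 0, 0, 1, 0, 0, 0, 0, 0, 0, 0, 0, 0, 0, 0, 0, 0, 0, 0, 0, 0, 0, 0, 0, 0, 0, 0, 0, 0, 0, 0, 0, 0, 0, 0, 0, 0, 0, 0, 0, 0, 0, 0, 0, 0, 0, 0, 0, 0, 0, 0, 0, 0, 0, 0, 0, 0, 0, 0, 0, 0, 0, 0, 0, 0, 0, 0, 0, 0, 0, 0, 0, 0, 0, 0, 0, 0, 0, 0, 0, 0, 0, 0, 0, 0, 0, 0, 0, 0, 0, 0, 0, 0, 0, 0, 0, 0, 0, 0, 0, 0, 0, 0, 0, 0, 0, 0, 0, 0, 0, 0, 0, 0, 0, 0, 0, 0, 0, 0, 0, 0, 0, 0, 0, 0, 0, 0, 0, 0, 0, 0, 0, 0, 0, 0, 0, 0, 0, 0, 0, 0, 0, 0, 0, 0, 0, 0, 0, 0, 0, 0, 0, 0, 0, 0, 0, 0, 0, 0, 0, 0, 0, 0, 0, 0, 0, 0, 0, 0, 0, 0, 0, 0, 0, 0, 0, 0, 0, 0, 0, 0, 0, 0, 0, 0, 0, 0, 0, 0, 0, 0, 0, 0, 0, 0, 0, 0, 0, 0, 0, 0, 0, 0, 0, 0, 0, 0, 0, 0, 0, 0, 0, 0, 0, 0, 0, 0, 0, 0, 0, 0, 0, 0, 0, 0, 0, 0, 0, 0, 0, 0, 0, 0, 0, 0, 0, 0],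
    [0, 0, 0, 0, 0, 0, 0, 0, 0, 0, 0, 0, 0, 0, 0, 0, 0, 0, 0, 0, 0, 0, 0, 0, 0, 0, 0, 0, 0, 0, 0, 0, 0, 0, 0, 0, 0, 0, 0, 0, 0, 0, 0, 0, 0, 0, 0, 0, 0, 0, 0, 0, 0, 0, 0, 0, 0, 0, 0, 0, 0, 0, 0, 0, 0, 0, 0, 0, 0, 0, 0, 0, 0, 0, 0, 0, 0, 0, 0, 0, 0, 0, 0, 0, 0, 0, 0, 0, 0, 0, 0, 0, 0, 0, 0, 0, 0, 0, 0, 0, 0, 0, 0, 0, 0, 0, 0, 0, 0, 0, 0, 0, 0, 0, 0, 0, 0, 0, 0, 0, 0, 0, 0, 0, 0, 0, 0, 0, 0, 0, 0, 0, 0, 0, 0, 0, 0, 0, 0, 0, 0, 0, 0, 0, 0, 0, 0, 0, 0, 0, 0, 0, 0, 0, 0, 0, 0, 0, 0, 0, 0, 0, 0, 0, 0, 0, 0, 0, 0, 0, 0, 0, 0, 0, 0, 0, 0, 0, 0, 0, 0, 0, 0, 0, 0, 0, 0, 0, 0, 0, 0, 0, 0, 0, 0, 0, 0, 0, 0, 0, 0, 0, 0, 1, 0, 0, 0, 0, 0, 0, 0, 0, 0, 0, 0, 0, 0, 0, 0, 0, 0, 0, 0, 0, 0, 0, 0, 0, 0, 0, 0, 0, 0, 0, 0, 0, 0, 0, 0, 0, 0, 0, 0, 0, 0, 0, 0, 0, 0,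 0, 0, 0, 0, 0, 0, 0, 0, 0, 0, 0, 0, 0, 0, 0, 0, 0, 0, 0, 0, 0, 0, 0, 0, 0, 0, 0, 0, 0, 0, 0, 0, 0, 0, 0, 0, 0, 0, 0, 0, 0, 0, 0, 0, 0, 0, 0, 0, 0, 0, 0, 0, 0, 0, 0, 0, 0, 0, 0, 0, 0, 0, 0, 0, 0, 0, 0, 0, 0, 0, 0, 0, 0, 0, 0, 0, 0, 0, 0, 0, 0, 0, 0, 0, 0, 0, 0, 0, 0, 0, 0, 0, 0, 0, 0, 0, 0, 0, 0, 0, 0, 0, 0, 0, 0, 0, 0, 0, 0, 0, 0, 0, 0, 0, 0, 0, 0, 0],
    [0, 0, 0, 0, 0, 0, 0, 0, 0, 0, 0, 0, 0, 0, 0, 0, 0, 0, 0, 0, 0, 0, 0, 0, 0, 0, 0, 0, 0, 0, 0, 0, 0, 0, 0, 0, 0, 0, 0, 0, 0, 0, 0, 0, 0, 0, 0, 0, 0, 0, 0, 0, 0, 0, 0, 0, 0, 0, 0, 0, 0, 0, 0, 0, 0, 0, 0, 0, 0, 0, 0, 0, 0, 0, 0, 0, 0, 0, 0, 0, 0, 0, 0, 0, 0, 0, 0, 0, 0, 0, 0, 0, 0, 0, 0, 0, 0, 0, 0, 0, 0, 0, 0, 0, 0, 0, 0, 0, 0, 0, 0, 0, 0, 0, 0, 0, 0, 0, 0, 0, 0, 0, 0, 0, 0, 0, 0, 0, 0, 0, 0,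 0, 0, 0, 0, 0, 0, 0, 0, 0, 0, 0, 0, 0, 0, 0, 0, 0, 0, 0, 0, 0, 0, 0, 0, 0, 0, 0, 0, 0, 0, 0, 0, 0, 0, 0, 0, 0, 0, 0, 0, 0, 0, 0, 0, 0, 0, 0, 0, 0, 0, 0, 0, 0, 0, 0, 0, 0, 0, 0, 0, 0, 0, 0, 0, 0, 0, 0, 0, 0, 0, 0, 0, 0, 0, 0, 0, 0, 0, 0, 0, 0, 0, 0, 0, 0, 0, 0, 0, 0, 0, 0, 1, 0, 0, 0, 0, 0, 0, 0, 0, 0, 0, 0, 0, 0, 0, 0, 0, 0, 0, 0, 0, 0, 0, 0, 0, 0, 0, 0, 0, 0, 0, 0, 0, 0, 0, 0, 0, 0, 0, 0, 0, 0, 0, 0, 0, 0, 0, 0, 0, 0, 0, 0, 0, 0, 0, 0, 0, 0, 0, 0, 0, 0, 0, 0, 0, 0, 0, 0, 0, 0, 0, 0, 0, 0, 0, 0, 0, 0, 0, 0, 0, 0, 0, 0, 0, 0, 0, 0, 0, 0, 0, 0, 0, 0, 0, 0, 0, 0, 0, 0, 0, 0, 0, 0, 0, 0, 0, 0, 0, 0, 0, 0, 0, 0, 0, 0, 0, 0, 0, 0, 0, 0, 0, 0, 0, 0, 0, 0, 0, 0, 0, 0, 0, 0, 0, 0, 0, 0, 0, 0, 0, 0, 0, 0, 0],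
    [0, 0, 0, 0, 0, 0, 0, 0, 0, 0, 0, 0, 0, 0, 0, 0, 0, 0, 0, 0, 0, 0, 0, 0, 0, 0, 0, 0, 0, 0, 0, 0, 0, 0, 0, 0, 0, 0, 0, 0, 0, 0, 0, 0, 0, 0, 0, 0, 0, 0, 0, 0, 0, 0, 0, 0, 0, 0, 0, 0, 0, 0, 0, 0, 0, 0, 0, 0, 0, 0, 0, 0, 0, 0, 0, 0, 0, 0, 0, 0, 0, 0, 0, 0, 0, 0, 0, 0, 0, 0, 0, 0, 0, 0, 0, 0, 0, 0, 0, 0, 0, 0, 0, 0, 0, 0, 0, 0, 0, 0, 0, 0, 0, 0, 0, 0, 0, 0, 0, 0, 0, 0, 0, 0, 0, 0, 0, 0, 0, 0, 0, 0, 0, 0, 0, 0, 0, 0, 0, 0, 1, 0, 0, 0, 0, 0, 0, 0, 0, 0, 0, 0, 0, 0, 0, 0, 0, 0, 0, 0, 0, 0, 0, 0, 0, 0, 0, 0, 0, 0, 0, 0, 0, 0, 0, 0, 0, 0, 0, 0, 0, 0, 0, 0, 0, 0, 0, 0, 0, 0, 0, 0, 0, 0, 0, 0, 0, 0, 0, 0, 0, 0, 0, 0, 0, 0, 0, 0, 0, 0, 0, 0, 0, 0, 0, 0, 0, 0, 0, 0, 0, 0, 0, 0, 0, 0, 0, 0, 0, 0, 0, 0, 0, 0, 0, 0, 0, 0, 0, 0, 0, 0, 0, 0, 0, 0, 0, 0, 0,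 0, 0, 0, 0, 0, 0, 0, 0, 0, 0, 0, 0, 0, 0, 0, 0, 0, 0, 0, 0, 0, 0, 0, 0, 0, 0, 0, 0, 0, 0, 0, 0, 0, 0, 0, 0, 0, 0, 0, 0, 0, 0, 0, 0, 0, 0, 0, 0, 0, 0, 0, 0, 0, 0, 0, 0, 0, 0, 0, 0, 0, 0, 0, 0, 0, 0, 0, 0, 0, 0, 0, 0, 0, 0, 0, 0, 0, 0, 0, 0, 0, 0, 0, 0, 0, 0, 0, 0, 0, 0, 0, 0, 0, 0, 0, 0, 0, 0, 0, 0, 0, 0, 0, 0, 0, 0, 0, 0, 0, 0, 0, 0, 0, 0, 0, 0, 0, 0],
    [0, 0, 0, 0, 0, 0, 0, 0, 0, 0, 0, 0, 0, 0, 0, 0, 0, 0, 0, 0, 0, 0, 0, 0, 0, 0, 0, 0, 0, 0, 0, 0, 0, 0, 0, 0, 0, 0, 0, 0, 0, 0, 0, 0, 0, 0, 0, 0, 0, 0, 0, 0, 0, 0, 0, 0, 0, 0, 0, 0, 0, 0, 0, 0, 0, 0, 0, 0, 0, 0, 0, 0, 0, 0, 0, 0, 0, 0, 0, 0, 0, 0, 0, 0, 0, 0, 0, 0, 0, 0, 0, 0, 0, 0, 0, 0, 0, 0, 0, 0, 0, 0, 0, 0, 0, 0, 0, 0, 0, 0, 0, 0, 0, 0, 0, 0, 0, 0, 0, 0, 0, 0, 0, 0, 0, 0, 0, 0, 0, 0, 0,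 0, 0, 0, 0, 0, 0, 0, 0, 0, 0, 0, 0, 0, 0, 0, 0, 0, 0, 0, 0, 0, 0, 0, 0, 0, 0, 0, 0, 0, 0, 0, 0, 0, 0, 0, 0, 0, 0, 0, 0, 0, 0, 0, 0, 0, 0, 0, 0, 0, 0, 0, 0, 0, 0, 0, 0, 0, 0, 0, 0, 0, 0, 0, 0, 0, 0, 0, 0, 0, 0, 0, 0, 0, 0, 0, 0, 0, 0, 0, 0, 0, 0, 0, 0, 0, 0, 0, 0, 0, 0, 0, 0, 0, 0, 0, 0, 0, 0, 0, 0, 0, 0, 0, 0, 0, 1, 0, 0, 0, 0, 0, 0, 0, 0, 0, 0, 0, 0, 0, 0, 0, 0, 0, 0, 0, 0, 0, 0, 0, 0, 0, 0, 0, 0, 0, 0, 0, 0, 0, 0, 0, 0, 0, 0, 0, 0, 0, 0, 0, 0, 0, 0, 0, 0, 0, 0, 0, 0, 0, 0, 0, 0, 0, 0, 0, 0, 0, 0, 0, 0, 0, 0, 0, 0, 0, 0, 0, 0, 0, 0, 0, 0, 0, 0, 0, 0, 0, 0, 0, 0, 0, 0, 0, 0, 0, 0, 0, 0, 0, 0, 0, 0, 0, 0, 0, 0, 0, 0, 0, 0, 0, 0, 0, 0, 0, 0, 0, 0, 0, 0, 0, 0, 0, 0, 0, 0, 0, 0, 0, 0, 0, 0, 0, 0, 0, 0],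
    [0, 0, 0, 0, 0, 0, 0, 0, 0, 0, 0, 0, 0, 0, 0, 0, 0, 0, 0, 0, 0, 0, 0, 0, 0, 0, 0, 0, 0, 0, 0, 0, 0, 0, 0, 0, 0, 0, 0, 0, 0, 0, 0, 0, 0, 0, 0, 0, 0, 0, 0, 0, 0, 0, 0, 0, 0, 0, 0, 0, 0, 0, 0, 0, 0, 0, 0, 0, 0, 0, 0, 0, 0, 0, 0, 0, 0, 0, 0, 0, 0, 0, 0, 0, 0, 0, 0, 0, 0, 0, 0, 0, 0, 0, 0, 0, 0, 0, 0, 0, 0, 0, 0, 0, 0, 0, 0, 0, 0, 0, 0, 0, 0, 0, 0, 0, 0, 0, 0, 0, 0, 0, 0, 0, 0, 0, 0, 0, 0, 0, 0, 0, 0, 0, 0, 0, 0, 0, 0, 0, 0, 0, 0, 0, 0, 0, 0, 0, 0, 0, 0, 0, 0, 0, 0, 0, 0, 0, 0, 0, 0, 0, 0, 0, 0, 0, 0, 0, 0, 0, 0, 0, 0, 0, 0, 0, 0, 0, 0, 0, 0, 0, 0, 0, 0, 0, 0, 0, 0, 0, 0, 0, 0, 0, 0, 0, 0, 0, 0, 0, 0, 0, 0, 0, 0, 0, 0, 0, 0, 0, 0, 0, 0, 0, 1, 0, 0, 0, 0, 0, 0, 0, 0, 0, 0, 0, 0, 0, 0, 0, 0, 0, 0, 0, 0, 0, 0, 0, 0, 0, 0, 0, 0, 0, 0, 0, 0, 0, 0,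 0, 0, 0, 0, 0, 0, 0, 0, 0, 0, 0, 0, 0, 0, 0, 0, 0, 0, 0, 0, 0, 0, 0, 0, 0, 0, 0, 0, 0, 0, 0, 0, 0, 0, 0, 0, 0, 0, 0, 0, 0, 0, 0, 0, 0, 0, 0, 0, 0, 0, 0, 0, 0, 0, 0, 0, 0, 0, 0, 0, 0, 0, 0, 0, 0, 0, 0, 0, 0, 0, 0, 0, 0, 0, 0, 0, 0, 0, 0, 0, 0, 0, 0, 0, 0, 0, 0, 0, 0, 0, 0, 0, 0, 0, 0, 0, 0, 0, 0, 0, 0, 0, 0, 0, 0, 0, 0, 0, 0, 0, 0, 0, 0, 0, 0, 0, 0, 0]]

/-- part of the exponents -/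
def twoVecs9 : List (List ℤ) :=
  [[0, 0, 0, 0, 0, 0, 0, 0, 0, 0, 0, 0, 0, 0, 0, 0, 0, 0, 0, 0, 0, 0, 0, 0, 0, 0, 0, 0, 0, 0, 0, 0, 0, 0, 0, 0, 0, 0, 0, 0, 0, 0, 0, 0, 0, 0, 0, 0, 0, 0, 0, 0, 0, 0, 0, 0, 0, 0, 0, 0, 0, 0, 0, 0, 0, 0, 0, 0, 0, 0, 0, 0, 0, 0, 0, 0, 0, 0, 0, 0, 0, 0, 0, 0, 0, 0, 0, 0, 0, 0, 0, 0, 0, 0, 0, 0, 0, 0, 0, 0, 0, 0, 0, 0, 0, 0, 0, 0, 0, 0, 0, 0, 0, 0, 0, 0, 0, 0, 0, 0, 0, 0, 0, 0, 0, 0, 0, 0, 0, 0, 0, 0, 0, 0, 0, 0, 0, 0, 0, 0, 0, 0, 0, 0, 0, 0, 0, 0, 0, 0, 0, 0, 0, 0, 0, 0, 0, 0, 0, 0, 0, 0, 0, 0, 0, 0, 0, 0, 0, 0, 0, 0, 0, 0, 0, 0, 0, 0, 0, 0, 0, 0, 0, 0, 0, 0, 0, 0, 0, 0, 0, 0, 0, 0, 0, 0, 0, 0, 0, 0, 0, 0, 0, 0, 0, 0, 0, 0, 0, 0, 0, 0, 0, 0, 0, 1, 0, 0, 0, 0, 0, 0, 0, 0, 0, 0, 0, 0, 0, 0, 0, 0, 0, 0, 0, 0, 0, 0, 0,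 0, 0, 0, 0, 0, 0, 0, 0, 0, 0, 0, 0, 0, 0, 0, 0, 0, 0, 0, 0, 0, 0, 0, 0, 0, 0, 0, 0, 0, 0, 0, 0, 0, 0, 0, 0, 0, 0, 0, 0, 0, 0, 0, 0, 0, 0, 0, 0, 0, 0, 0, 0, 0, 0, 0, 0, 0, 0, 0, 0, 0, 0, 0, 0, 0, 0, 0, 0, 0, 0, 0, 0, 0, 0, 0, 0, 0, 0, 0, 0, 0, 0, 0, 0, 0, 0, 0, 0, 0, 0, 0, 0, 0, 0, 0, 0, 0, 0, 0, 0, 0, 0, 0, 0, 0, 0, 0, 0, 0, 0, 0, 0, 0, 0, 0, 0, 0, 0, 0, 0, 0, 0, 0, 0, 0, 0, 0, 0],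
    [0, 0, 0, 0, 0, 0, 0, 0, 0, 0, 0, 0, 0, 0, 0, 0, 0, 0, 0, 0, 0, 0, 0, 0, 0, 0, 0, 0, 0, 0, 0, 0, 0, 0, 0, 0, 0, 0, 0, 0, 0, 0, 0, 0, 0, 0, 0, 0, 0, 0, 0, 0, 0, 0, 0, 0, 0, 0, 0, 0, 0, 0, 0, 0, 0, 0, 0, 0, 0, 0, 0, 0, 0, 0, 0, 0, 0, 0, 0, 0, 0, 0, 0, 0, 0, 0, 0, 0, 0, 0, 0, 0, 0, 0, 0, 0, 0, 0, 0, 0, 0, 0, 0, 0, 0, 0, 0, 0, 0, 0, 0, 0, 0, 0, 0, 0, 0, 0, 0, 0, 0, 0, 0, 0, 0, 0, 0, 0, 0, 0, 0, 0, 0, 0, 0, 0, 0, 0, 0, 0, 0, 0, 0, 0, 0, 0, 0, 0, 0, 0, 0, 0, 0, 0, 0, 0, 0, 0, 0, 0, 0, 0, 0, 0, 0, 0, 0, 0, 0, 0, 0, 0, 0, 0, 0, 0, 0, 0, 0, 0, 0, 0, 0, 0, 0, 0, 0, 0, 0, 0, 0, 0, 0, 0, 0, 0, 0, 0, 0, 0, 0, 0, 0, 0, 0, 0, 0, 0, 0, 0, 0, 0, 0, 0, 0, 0, 0, 0, 0, 0, 0, 0, 0, 0, 0, 0, 0, 0, 0, 0, 0, 0, 0, 0, 0, 0, 0, 0, 0, 0, 1, 0, 0, 0, 0, 0, 0, 0, 0,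 0, 0, 0, 0, 0, 0, 0, 0, 0, 0, 0, 0, 0, 0, 0, 0, 0, 0, 0, 0, 0, 0, 0, 0, 0, 0, 0, 0, 0, 0, 0, 0, 0, 0, 0, 0, 0, 0, 0, 0, 0, 0, 0, 0, 0, 0, 0, 0, 0, 0, 0, 0, 0, 0, 0, 0, 0, 0, 0, 0, 0, 0, 0, 0, 0, 0, 0, 0, 0, 0, 0, 0, 0, 0, 0, 0, 0, 0, 0, 0, 0, 0, 0, 0, 0, 0, 0, 0, 0, 0, 0, 0, 0, 0, 0, 0, 0, 0, 0, 0, 0, 0, 0, 0, 0, 0, 0, 0, 0, 0, 0, 0, 0, 0, 0, 0, 0, 0],
    [0, 0, 0, 0, 0, 0, 0, 0, 0, 0, 0, 0, 0, 0, 0, 0, 0, 0, 0, 0, 0, 0, 0, 0, 0, 0, 0, 0, 0, 0, 0, 0, 0, 0, 0, 0, 0, 0, 0, 0, 0, 0, 0, 0, 0, 0, 0, 0, 0, 0, 0, 0, 0, 0, 0, 0, 0, 0, 0, 0, 0, 0, 0, 0, 0, 0, 0, 0, 0, 0, 0, 0, 0, 0, 0, 0, 0, 0, 0, 0, 0, 0, 0, 0, 0, 0, 0, 0, 0, 0, 0, 0, 0, 0, 0, 0, 0, 0, 0, 0, 0, 0, 0, 0, 0, 0, 0, 0, 0, 0, 0, 0, 0, 0, 0, 0, 0, 0, 0, 0, 0, 0, 0, 0, 0, 0, 0, 0, 0, 0, 0,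 0, 0, 0, 0, 0, 0, 0, 0, 0, 0, 0, 0, 0, 0, 0, 0, 0, 0, 0, 0, 0, 0, 0, 0, 0, 0, 0, 0, 0, 0, 0, 0, 0, 0, 0, 0, 0, 0, 0, 0, 0, 0, 0, 0, 0, 0, 0, 0, 0, 0, 0, 0, 0, 0, 1, 0, 0, 0, 0, 0, 0, 0, 0, 0, 0, 0, 0, 0, 0, 0, 0, 0, 0, 0, 0, 0, 0, 0, 0, 0, 0, 0, 0, 0, 0, 0, 0, 0, 0, 0, 0, 0, 0, 0, 0, 0, 0, 0, 0, 0, 0, 0, 0, 0, 0, 0, 0, 0, 0, 0, 0, 0, 0, 0, 0, 0, 0, 0, 0, 0, 0, 0, 0, 0, 0, 0, 0, 0, 0, 0, 0, 0, 0, 0, 0, 0, 0, 0, 0, 0, 0, 0, 0, 0, 0, 0, 0, 0, 0, 0, 0, 0, 0, 0, 0, 0, 0, 0, 0, 0, 0, 0, 0, 0, 0, 0, 0, 0, 0, 0, 0, 0, 0, 0, 0, 0, 0, 0, 0, 0, 0, 0, 0, 0, 0, 0, 0, 0, 0, 0, 0, 0, 0, 0, 0, 0, 0, 0, 0, 0, 0, 0, 0, 0, 0, 0, 0, 0, 0, 0, 0, 0, 0, 0, 0, 0, 0, 0, 0, 0, 0, 0, 0, 0, 0, 0, 0, 0, 0, 0, 0, 0, 0, 0, 0, 0],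
    [0, 0, 0, 0, 0, 0, 0, 0, 0, 0, 0, 0, 0, 0, 0, 0, 0, 0, 0, 0, 0, 0, 0, 0, 0, 0, 0, 0, 0, 0, 0, 0, 0, 0, 0, 0, 0, 0, 0, 0, 0, 0, 0, 0, 0, 0, 0, 0, 0, 0, 0, 0, 0, 0, 0, 0, 0, 0, 0, 0, 0, 0, 0, 0, 0, 0, 0, 0, 0, 0, 0, 0, 0, 0, 0, 0, 0, 0, 0, 0, 0, 0, 0, 0, 0, 0, 0, 0, 0, 0, 0, 0, 0, 0, 0, 0, 0, 0, 0, 0, 0, 0, 0, 0, 0, 0, 0, 0, 0, 0, 0, 0, 0, 0, 0, 0, 0, 0, 0, 0, 0, 0, 0, 0, 0, 0, 0, 0, 0, 0, 0, 0, 0, 0, 0, 0, 0, 0, 0, 0, 0, 0, 0, 0, 0, 0, 0, 1, 0, 0, 0, 0, 0, 0, 0, 0, 0, 0, 0, 0, 0, 0, 0, 0, 0, 0, 0, 0, 0, 0, 0, 0, 0, 0, 0, 0, 0, 0, 0, 0, 0, 0, 0, 0, 0, 0, 0, 0, 0, 0, 0, 0, 0, 0, 0, 0, 0, 0, 0, 0, 0, 0, 0, 0, 0, 0, 0, 0, 0, 0, 0, 0, 0, 0, 0, 0, 0, 0, 0, 0, 0, 0, 0, 0, 0, 0, 0, 0, 0, 0, 0, 0, 0, 0, 0, 0, 0, 0, 0, 0, 0, 0, 0, 0, 0, 0, 0, 0, 0,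 0, 0, 0, 0, 0, 0, 0, 0, 0, 0, 0, 0, 0, 0, 0, 0, 0, 0, 0, 0, 0, 0, 0, 0, 0, 0, 0, 0, 0, 0, 0, 0, 0, 0, 0, 0, 0, 0, 0, 0, 0, 0, 0, 0, 0, 0, 0, 0, 0, 0, 0, 0, 0, 0, 0, 0, 0, 0, 0, 0, 0, 0, 0, 0, 0, 0, 0, 0, 0, 0, 0, 0, 0, 0, 0, 0, 0, 0, 0, 0, 0, 0, 0, 0, 0, 0, 0, 0, 0, 0, 0, 0, 0, 0, 0, 0, 0, 0, 0, 0, 0, 0, 0, 0, 0, 0, 0, 0, 0, 0, 0, 0, 0, 0, 0, 0, 0, 0],
    [0, 0, 0, 0, 0, 0, 0, 0, 0, 0, 0, 0, 0, 0, 0, 0, 0, 0, 0, 0, 0, 0, 0, 0, 0, 0, 0, 0, 0, 0, 0, 0, 0, 0, 0, 0, 0, 0, 0, 0, 0, 0, 0, 0, 0, 0, 0, 0, 0, 0, 0, 0, 0, 0, 0, 0, 0, 0, 0, 0, 0, 0, 0, 0, 0, 0, 0, 0, 0, 0, 0, 0, 0, 0, 0, 0, 0, 0, 0, 0, 0, 0, 0, 0, 0, 0, 0, 0, 0, 0, 0, 0, 0, 0, 0, 0, 0, 0, 0, 0, 0, 0, 0, 0, 0, 0, 0, 0, 0, 0, 0, 0, 0, 0, 0, 0, 0, 0, 0, 0, 0, 0, 0, 0, 0, 0, 0, 0, 0, 0, 0,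 0, 0, 0, 0, 0, 0, 0, 0, 0, 0, 0, 0, 0, 0, 0, 0, 0, 0, 0, 0, 0, 0, 0, 0, 0, 0, 0, 0, 0, 0, 0, 0, 0, 0, 0, 0, 0, 0, 0, 0, 0, 0, 0, 0, 0, 0, 0, 0, 0, 0, 0, 0, 0, 0, 0, 0, 0, 0, 0, 0, 0, 0, 0, 0, 0, 0, 0, 0, 0, 0, 0, 0, 0, 1, 0, 0, 0, 0, 0, 0, 0, 0, 0, 0, 0, 0, 0, 0, 0, 0, 0, 0, 0, 0, 0, 0, 0, 0, 0, 0, 0, 0, 0, 0, 0, 0, 0, 0, 0, 0, 0, 0, 0, 0, 0, 0, 0, 0, 0, 0, 0, 0, 0, 0, 0, 0, 0, 0, 0, 0, 0, 0, 0, 0, 0, 0, 0, 0, 0, 0, 0, 0, 0, 0, 0, 0, 0, 0, 0, 0, 0, 0, 0, 0, 0, 0, 0, 0, 0, 0, 0, 0, 0, 0, 0, 0, 0, 0, 0, 0, 0, 0, 0, 0, 0, 0, 0, 0, 0, 0, 0, 0, 0, 0, 0, 0, 0, 0, 0, 0, 0, 0, 0, 0, 0, 0, 0, 0, 0, 0, 0, 0, 0, 0, 0, 0, 0, 0, 0, 0, 0, 0, 0, 0, 0, 0, 0, 0, 0, 0, 0, 0, 0, 0, 0, 0, 0, 0, 0, 0, 0, 0, 0, 0, 0, 0],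
    [0, 0, 0, 0, 0, 0, 0, 0, 0, 0, 0, 0, 0, 0, 0, 0, 0, 0, 0, 0, 0, 0, 0, 0, 0, 0, 0, 0, 0, 0, 0, 0, 0, 0, 0, 0, 0, 0, 0, 0, 0, 0, 0, 0, 0, 0, 0, 0, 0, 0, 0, 0, 0, 0, 0, 0, 0, 0, 0, 0, 0, 0, 0, 0, 0, 0, 0, 0, 0, 0, 0, 0, 0, 0, 0, 0, 0, 0, 0, 0, 0, 0, 0, 0, 0, 0, 0, 0, 0, 0, 0, 0, 0, 0, 0, 0, 0, 0, 0, 0, 0, 0, 0, 0, 0, 0, 0, 0, 0, 0, 0, 0, 0, 0, 0, 0, 0, 0, 0, 0, 0, 0, 0, 0, 0, 0, 0, 0, 0, 0, 0, 0, 0, 0, 0, 0, 0, 0, 0, 0, 0, 0, 0, 0, 0, 0, 0, 0, 0, 0, 0, 0, 0, 0, 0, 0, 0, 0, 0, 0, 0, 0, 0, 0, 0, 0, 0, 0, 0, 0, 0, 0, 0, 0, 0, 0, 0, 0, 0, 0, 0, 0, 0, 0, 0, 0, 0, 0, 0, 0, 0, 0, 0, 0, 0, 0, 0, 0, 0, 0, 0, 0, 0, 0, 0, 0, 0, 0, 0, 0, 0, 0, 0, 0, 0, 0, 0, 0, 0, 0, 0, 0, 0, 0, 0, 0, 0, 0, 0, 0, 0, 0, 0, 0, 0, 0, 0, 0, 0, 0, 0, 0, 0, 0, 1, 0, 0, 0, 0,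 0, 0, 0, 0, 0, 0, 0, 0, 0, 0, 0, 0, 0, 0, 0, 0, 0, 0, 0, 0, 0, 0, 0, 0, 0, 0, 0, 0, 0, 0, 0, 0, 0, 0, 0, 0, 0, 0, 0, 0, 0, 0, 0, 0, 0, 0, 0, 0, 0, 0, 0, 0, 0, 0, 0, 0, 0, 0, 0, 0, 0, 0, 0, 0, 0, 0, 0, 0, 0, 0, 0, 0, 0, 0, 0, 0, 0, 0, 0, 0, 0, 0, 0, 0, 0, 0, 0, 0, 0, 0, 0, 0, 0, 0, 0, 0, 0, 0, 0, 0, 0, 0, 0, 0, 0, 0, 0, 0, 0, 0, 0, 0, 0, 0, 0, 0, 0, 0],
    [0, 0, 0, 0, 0, 0, 0, 0, 0, 0, 0, 0, 0, 0, 0, 0, 0, 0, 0, 0, 0, 0, 0, 0, 0, 0, 0, 0, 0, 0, 0, 0, 0, 0, 0, 0, 0, 0, 0, 0, 0, 0, 0, 0, 0, 0, 0, 0, 0, 0, 0, 0, 0, 0, 0, 0, 0, 0, 0, 0, 0, 0, 0, 0, 0, 0, 0, 0, 0, 0, 0, 0, 0, 0, 0, 0, 0, 0, 0, 0, 0, 0, 0, 0, 0, 0, 0, 0, 0, 0, 0, 0, 0, 0, 0, 0, 0, 0, 0, 0, 0, 0, 0, 0, 0, 0, 0, 0, 0, 0, 0, 0, 0, 0, 0, 0, 0, 0, 0, 0, 0, 0, 0, 0, 0, 0, 0, 0, 0, 0, 0,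 0, 0, 0, 0, 0, 0, 0, 0, 0, 0, 0, 0, 0, 0, 0, 0, 0, 0, 0, 0, 0, 0, 0, 0, 0, 0, 0, 0, 0, 0, 0, 0, 0, 0, 0, 0, 0, 0, 0, 0, 0, 0, 0, 0, 0, 0, 0, 0, 0, 0, 0, 0, 0, 0, 0, 1, 0, 0, 0, 0, 0, 0, 0, 0, 0, 0, 0, 0, 0, 0, 0, 0, 0, 0, 0, 0, 0, 0, 0, 0, 0, 0, 0, 0, 0, 0, 0, 0, 0, 0, 0, 0, 0, 0, 0, 0, 0, 0, 0, 0, 0, 0, 0, 0, 0, 0, 0, 0, 0, 0, 0, 0, 0, 0, 0, 0, 0, 0, 0, 0, 0, 0, 0, 0, 0, 0, 0, 0, 0, 0, 0, 0, 0, 0, 0, 0, 0, 0, 0, 0, 0, 0, 0, 0, 0, 0, 0, 0, 0, 0, 0, 0, 0, 0, 0, 0, 0, 0, 0, 0, 0, 0, 0, 0, 0, 0, 0, 0, 0, 0, 0, 0, 0, 0, 0, 0, 0, 0, 0, 0, 0, 0, 0, 0, 0, 0, 0, 0, 0, 0, 0, 0, 0, 0, 0, 0, 0, 0, 0, 0, 0, 0, 0, 0, 0, 0, 0, 0, 0, 0, 0, 0, 0, 0, 0, 0, 0, 0, 0, 0, 0, 0, 0, 0, 0, 0, 0, 0, 0, 0, 0, 0, 0, 0, 0, 0],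
    [0, 0, 0, 0, 0, 0, 0, 0, 0, 0, 0, 0, 0, 0, 0, 0, 0, 0, 0, 0, 0, 0, 0, 0, 0, 0, 0, 0, 0, 0, 0, 0, 0, 0, 0, 0, 0, 0, 0, 0, 0, 0, 0, 0, 0, 0, 0, 0, 0, 0, 0, 0, 0, 0, 0, 0, 0, 0, 0, 0, 0, 0, 0, 0, 0, 0, 0, 0, 0, 0, 0, 0, 0, 0, 0, 0, 0, 0, 0, 0, 0, 0, 0, 0, 0, 0, 0, 0, 0, 0, 0, 0, 0, 0, 0, 0, 0, 0, 0, 0, 0, 0, 0, 0, 0, 0, 0, 0, 0, 0, 0, 0, 0, 0, 0, 0, 0, 0, 0, 0, 0, 0, 0, 0, 0, 0, 0, 0, 0, 0, 0, 0, 0, 0, 0, 0, 0, 0, 0, 0, 0, 0, 0, 0, 0, 0, 0, 0, 0, 0, 0, 0, 0, 0, 0, 0, 0, 0, 0, 0, 0, 0, 0, 0, 0, 0, 0, 0, 0, 0, 0, 0, 0, 0, 0, 0, 0, 0, 0, 0, 0, 0, 0, 0, 0, 0, 0, 0, 0, 0, 0, 0, 0, 0, 0, 0, 0, 0, 0, 0, 0, 0, 0, 0, 0, 0, 0, 0, 0, 0, 0, 0, 0, 0, 0, 0, 0, 0, 0, 0, 0, 0, 0, 0, 0, 1, 0, 0, 0, 0, 0, 0, 0, 0, 0, 0, 0, 0, 0, 0, 0, 0, 0, 0, 0, 0, 0, 0, 0,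 0, 0, 0, 0, 0, 0, 0, 0, 0, 0, 0, 0, 0, 0, 0, 0, 0, 0, 0, 0, 0, 0, 0, 0, 0, 0, 0, 0, 0, 0, 0, 0, 0, 0, 0, 0, 0, 0, 0, 0, 0, 0, 0, 0, 0, 0, 0, 0, 0, 0, 0, 0, 0, 0, 0, 0, 0, 0, 0, 0, 0, 0, 0, 0, 0, 0, 0, 0, 0, 0, 0, 0, 0, 0, 0, 0, 0, 0, 0, 0, 0, 0, 0, 0, 0, 0, 0, 0, 0, 0, 0, 0, 0, 0, 0, 0, 0, 0, 0, 0, 0, 0, 0, 0, 0, 0, 0, 0, 0, 0, 0, 0, 0, 0, 0, 0, 0, 0],
    [0, 0, 0, 0, 0, 0, 0, 0, 0, 0, 0, 0, 0, 0, 0, 0, 0, 0, 0, 0, 0, 0, 0, 0, 0, 0, 0, 0, 0, 0, 0, 0, 0, 0, 0, 0, 0, 0, 0, 0, 0, 0, 0, 0, 0, 0, 0, 0, 0, 0, 0, 0, 0, 0, 0, 0, 0, 0, 0, 0, 0, 0, 0, 0, 0, 0, 0, 0, 0, 0, 0, 0, 0, 0, 0, 0, 0, 0, 0, 0, 0, 0, 0, 0, 0, 0, 0, 0, 0, 0, 0, 0, 0, 0, 0, 0, 0, 0, 0, 0, 0, 0, 0, 0, 0, 0, 0, 0, 0, 0, 0, 0, 0, 0, 0, 0, 0, 0, 0, 0, 0, 0, 0, 0, 0, 0, 0, 0, 0, 0, 0,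 0, 0, 0, 0, 0, 0, 0, 0, 0, 0, 0, 0, 0, 0, 0, 0, 0, 0, 0, 0, 1, 0, 0, 0, 0, 0, 0, 0, 0, 0, 0, 0, 0, 0, 0, 0, 0, 0, 0, 0, 0, 0, 0, 0, 0, 0, 0, 0, 0, 0, 0, 0, 0, 0, 0, 0, 0, 0, 0, 0, 0, 0, 0, 0, 0, 0, 0, 0, 0, 0, 0, 0, 0, 0, 0, 0, 0, 0, 0, 0, 0, 0, 0, 0, 0, 0, 0, 0, 0, 0, 0, 0, 0, 0, 0, 0, 0, 0, 0, 0, 0, 0, 0, 0, 0, 0, 0, 0, 0, 0, 0, 0, 0, 0, 0, 0, 0, 0, 0, 0, 0, 0, 0, 0, 0, 0, 0, 0, 0, 0, 0, 0, 0, 0, 0, 0, 0, 0, 0, 0, 0, 0, 0, 0, 0, 0, 0, 0, 0, 0, 0, 0, 0, 0, 0, 0, 0, 0, 0, 0, 0, 0, 0, 0, 0, 0, 0, 0, 0, 0, 0, 0, 0, 0, 0, 0, 0, 0, 0, 0, 0, 0, 0, 0, 0, 0, 0, 0, 0, 0, 0, 0, 0, 0, 0, 0, 0, 0, 0, 0, 0, 0, 0, 0, 0, 0, 0, 0, 0, 0, 0, 0, 0, 0, 0, 0, 0, 0, 0, 0, 0, 0, 0, 0, 0, 0, 0, 0, 0, 0, 0, 0, 0, 0, 0, 0],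
    [0, 0, 0, 0, 0, 0, 0, 0, 0, 0, 0, 0, 0, 0, 0, 0, 0, 0, 0, 0, 0, 0, 0, 0, 0, 0, 0, 0, 0, 0, 0, 0, 0, 0, 0, 0, 0, 0, 0, 0, 0, 0, 0, 0, 0, 0, 0, 0, 0, 0, 0, 0, 0, 0, 0, 0, 0, 0, 0, 0, 0, 0, 0, 0, 0, 0, 0, 0, 0, 0, 0, 0, 0, 0, 0, 0, 0, 0, 0, 0, 0, 0, 0, 0, 0, 0, 0, 0, 0, 0, 0, 0, 0, 0, 0, 0, 0, 0, 0, 0, 0, 0, 0, 0, 0, 0, 0, 0, 0, 0, 0, 0, 0, 0, 0, 0, 0, 0, 0, 0, 0, 0, 0, 0, 0, 0, 0, 0, 0, 0, 0, 0, 0, 0, 0, 0, 0, 0, 0, 0, 0, 0, 0, 0, 0, 0, 0, 0, 0, 0, 0, 0, 0, 0, 0, 0, 0, 0, 0, 0, 0, 0, 0, 0, 0, 0, 0, 0, 0, 0, 0, 0, 0, 0, 0, 0, 0, 0, 0, 0, 0, 0, 0, 0, 0, 0, 0, 1, 0, 0, 0, 0, 0, 0, 0, 0, 0, 0, 0, 0, 0, 0, 0, 0, 0, 0, 0, 0, 0, 0, 0, 0, 0, 0, 0, 0, 0, 0, 0, 0, 0, 0, 0, 0, 0, 0, 0, 0, 0, 0, 0, 0, 0, 0, 0, 0, 0, 0, 0, 0, 0, 0, 0, 0, 0, 0, 0, 0, 0,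 0, 0, 0, 0, 0, 0, 0, 0, 0, 0, 0, 0, 0, 0, 0, 0, 0, 0, 0, 0, 0, 0, 0, 0, 0, 0, 0, 0, 0, 0, 0, 0, 0, 0, 0, 0, 0, 0, 0, 0, 0, 0, 0, 0, 0, 0, 0, 0, 0, 0, 0, 0, 0, 0, 0, 0, 0, 0, 0, 0, 0, 0, 0, 0, 0, 0, 0, 0, 0, 0, 0, 0, 0, 0, 0, 0, 0, 0, 0, 0, 0, 0, 0, 0, 0, 0, 0, 0, 0, 0, 0, 0, 0, 0, 0, 0, 0, 0, 0, 0, 0, 0, 0, 0, 0, 0, 0, 0, 0, 0, 0, 0, 0, 0, 0, 0, 0, 0]]

/-- part of the exponents -/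
def twoVecs10 : List (List ℤ) :=
  [[0, 0, 0, 0, 0, 0, 0, 0, 0, 0, 0, 0, 0, 0, 0, 0, 0, 0, 0, 0, 0, 0, 0, 0, 0, 0, 0, 0, 0, 0, 0, 0, 0, 0, 0, 0, 0, 0, 0, 0, 0, 0, 0, 0, 0, 0, 0, 0, 0, 0, 0, 0, 0, 0, 0, 0, 0, 0, 0, 0, 0, 0, 0, 0, 0, 0, 0, 0, 0, 0, 0, 0, 0, 0, 0, 0, 0, 0, 0, 0, 0, 0, 0, 0, 0, 0, 0, 0, 0, 0, 0, 0, 0, 0, 0, 0, 0, 0, 0, 0, 0, 0, 0, 0, 0, 0, 0, 0, 0, 0, 0, 0, 0, 0, 0, 0, 0, 0, 0, 0, 0, 0, 0, 0, 0, 0, 0, 0, 0, 0, 0, 0, 0, 0, 0, 0, 0, 0, 0, 0, 0, 0, 0, 0, 0, 0, 0, 0, 0, 0, 0, 0, 0, 0, 0, 0, 0, 0, 0, 0, 0, 0, 0, 0, 0, 0, 0, 0, 0, 0, 0, 0, 0, 0, 0, 0, 0, 0, 0, 0, 0, 0, 0, 0, 0, 0, 0, 0, 0, 0, 0, 0, 0, 0, 0, 0, 0, 0, 0, 0, 0, 0, 0, 0, 0, 0, 0, 0, 0, 0, 0, 0, 0, 0, 0, 0, 0, 0, 0, 0, 0, 0, 0, 0, 0, 0, 1, 0, 0, 0, 0, 0, 0, 0, 0, 0, 0, 0,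 0, 0, 0, 0, 0, 0, 0, 0, 0, 0, 0, 0, 0, 0, 0, 0, 0, 0, 0, 0, 0, 0, 0, 0, 0, 0, 0, 0, 0, 0, 0, 0, 0, 0, 0, 0, 0, 0, 0, 0, 0, 0, 0, 0, 0, 0, 0, 0, 0, 0, 0, 0, 0, 0, 0, 0, 0, 0, 0, 0, 0, 0, 0, 0, 0, 0, 0, 0, 0, 0, 0, 0, 0, 0, 0, 0, 0, 0, 0, 0, 0, 0, 0, 0, 0, 0, 0, 0, 0, 0, 0, 0, 0, 0, 0, 0, 0, 0, 0, 0, 0, 0, 0, 0, 0, 0, 0, 0, 0, 0, 0, 0, 0, 0, 0, 0, 0, 0, 0, 0, 0, 0, 0, 0, 0, 0, 0, 0, 0],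
    [0, 0, 0, 0, 0, 0, 0, 0, 0, 0, 0, 0, 0, 0, 0, 0, 0, 0, 0, 0, 0, 0, 0, 0, 0, 0, 0, 0, 0, 0, 0, 0, 0, 0, 0, 0, 0, 0, 0, 0, 0, 0, 0, 0, 0, 0, 0, 0, 0, 0, 0, 0, 0, 0, 0, 0, 0, 0, 0, 0, 0, 0, 0, 0, 0, 0, 0, 0, 0, 0, 0, 0, 0, 0, 0, 0, 0, 0, 0, 0, 0, 0, 0, 0, 0, 0, 0, 0, 0, 0, 0, 0, 0, 0, 0, 0, 0, 0, 0, 0, 0, 0, 0, 0, 0, 0, 0, 0, 0, 0, 0, 0, 0, 0, 0, 0, 0, 0, 0, 0, 0, 0, 0, 0, 0, 0, 0, 0, 0, 0, 0, 0, 0, 0, 0, 0, 0, 0, 0, 0, 0, 0, 0, 0, 0, 0, 0, 0, 0, 0, 0, 0, 0, 0, 0, 0, 0, 0, 0, 0, 0, 0, 0, 0, 0, 0, 0, 0, 0, 0, 0, 0, 0, 0, 0, 0, 0, 0, 0, 0, 0, 0, 0, 0, 0, 0, 0, 0, 0, 0, 0, 0, 0, 0, 0, 0, 0, 0, 0, 0, 0, 0, 0, 0, 0, 0, 1, 0, 0, 0, 0, 0, 0, 0, 0, 0, 0, 0, 0, 0, 0, 0, 0, 0, 0, 0, 0, 0, 0, 0, 0, 0, 0, 0, 0, 0, 0, 0, 0, 0, 0, 0, 0, 0, 0, 0, 0, 0, 0,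 0, 0, 0, 0, 0, 0, 0, 0, 0, 0, 0, 0, 0, 0, 0, 0, 0, 0, 0, 0, 0, 0, 0, 0, 0, 0, 0, 0, 0, 0, 0, 0, 0, 0, 0, 0, 0, 0, 0, 0, 0, 0, 0, 0, 0, 0, 0, 0, 0, 0, 0, 0, 0, 0, 0, 0, 0, 0, 0, 0, 0, 0, 0, 0, 0, 0, 0, 0, 0, 0, 0, 0, 0, 0, 0, 0, 0, 0, 0, 0, 0, 0, 0, 0, 0, 0, 0, 0, 0, 0, 0, 0, 0, 0, 0, 0, 0, 0, 0, 0, 0, 0, 0, 0, 0, 0, 0, 0, 0, 0, 0, 0, 0, 0, 0, 0, 0, 0],
    [0, 0, 0, 0, 0, 0, 0, 0, 0, 0, 0, 0, 0, 0, 0, 0, 0, 0, 0, 0, 0, 0, 0, 0, 0, 0, 0, 0, 0, 0, 0, 0, 0, 0, 0, 0, 0, 0, 0, 0, 0, 0, 0, 0, 0, 0, 0, 0, 0, 0, 0, 0, 0, 0, 0, 0, 0, 0, 0, 0, 0, 0, 0, 0, 0, 0, 0, 0, 0, 0, 0, 0, 0, 0, 0, 0, 0, 0, 0, 0, 0, 0, 0, 0, 0, 0, 0, 0, 0, 0, 0, 0, 0, 0, 0, 0, 0, 0, 0, 0, 0, 0, 0, 0, 0, 0, 0, 0, 0, 0, 0, 0, 0, 0, 0, 0, 0, 0, 0, 0, 0, 0, 0, 0, 0, 0, 0, 0, 0, 0, 0,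 0, 0, 0, 0, 0, 0, 0, 0, 0, 0, 0, 0, 0, 0, 0, 0, 0, 0, 0, 0, 0, 0, 0, 0, 0, 0, 0, 0, 0, 0, 0, 0, 0, 0, 0, 0, 0, 0, 1, 0, 0, 0, 0, 0, 0, 0, 0, 0, 0, 0, 0, 0, 0, 0, 0, 0, 0, 0, 0, 0, 0, 0, 0, 0, 0, 0, 0, 0, 0, 0, 0, 0, 0, 0, 0, 0, 0, 0, 0, 0, 0, 0, 0, 0, 0, 0, 0, 0, 0, 0, 0, 0, 0, 0, 0, 0, 0, 0, 0, 0, 0, 0, 0, 0, 0, 0, 0, 0, 0, 0, 0, 0, 0, 0, 0, 0, 0, 0, 0, 0, 0, 0, 0, 0, 0, 0, 0, 0, 0, 0, 0, 0, 0, 0, 0, 0, 0, 0, 0, 0, 0, 0, 0, 0, 0, 0, 0, 0, 0, 0, 0, 0, 0, 0, 0, 0, 0, 0, 0, 0, 0, 0, 0, 0, 0, 0, 0, 0, 0, 0, 0, 0, 0, 0, 0, 0, 0, 0, 0, 0, 0, 0, 0, 0, 0, 0, 0, 0, 0, 0, 0, 0, 0, 0, 0, 0, 0, 0, 0, 0, 0, 0, 0, 0, 0, 0, 0, 0, 0, 0, 0, 0, 0, 0, 0, 0, 0, 0, 0, 0, 0, 0, 0, 0, 0, 0, 0, 0, 0, 0, 0, 0, 0, 0, 0, 0],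
    [0, 0, 0, 0, 0, 0, 0, 0, 0, 0, 0, 0, 0, 0, 0, 0, 0, 0, 0, 0, 0, 0, 0, 0, 0, 0, 0, 0, 0, 0, 0, 0, 0, 0, 0, 0, 0, 0, 0, 0, 0, 0, 0, 0, 0, 0, 0, 0, 0, 0, 0, 0, 0, 0, 0, 0, 0, 0, 0, 0, 0, 0, 0, 0, 0, 0, 0, 0, 0, 0, 0, 0, 0, 0, 0, 0, 0, 0, 0, 0, 0, 0, 0, 0, 0, 0, 0, 0, 0, 0, 0, 0, 0, 0, 0, 0, 0, 0, 0, 0, 0, 0, 0, 0, 0, 0, 0, 0, 0, 0, 0, 0, 0, 0, 0, 0, 0, 0, 0, 0, 0, 0, 0, 0, 0, 0, 0, 0, 0, 0, 0, 0, 0, 0, 0, 0, 0, 0, 0, 0, 0, 0, 0, 0, 0, 0, 0, 0, 0, 0, 0, 0, 0, 0, 0, 0, 0, 0, 0, 0, 0, 0, 0, 0, 0, 0, 0, 0, 0, 0, 0, 0, 0, 0, 0, 0, 0, 0, 0, 0, 0, 0, 0, 0, 0, 0, 0, 0, 0, 0, 0, 0, 0, 0, 0, 0, 0, 0, 0, 0, 0, 0, 0, 0, 0, 0, 0, 0, 0, 0, 0, 0, 0, 0, 0, 0, 0, 0, 0, 0, 0, 0, 0, 0, 0, 0, 0, 0, 0, 0, 0, 0, 0, 0, 0, 0, 0, 0, 0, 0, 0, 0, 0, 0, 0, 0, 0, 1, 0,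 0, 0, 0, 0, 0, 0, 0, 0, 0, 0, 0, 0, 0, 0, 0, 0, 0, 0, 0, 0, 0, 0, 0, 0, 0, 0, 0, 0, 0, 0, 0, 0, 0, 0, 0, 0, 0, 0, 0, 0, 0, 0, 0, 0, 0, 0, 0, 0, 0, 0, 0, 0, 0, 0, 0, 0, 0, 0, 0, 0, 0, 0, 0, 0, 0, 0, 0, 0, 0, 0, 0, 0, 0, 0, 0, 0, 0, 0, 0, 0, 0, 0, 0, 0, 0, 0, 0, 0, 0, 0, 0, 0, 0, 0, 0, 0, 0, 0, 0, 0, 0, 0, 0, 0, 0, 0, 0, 0, 0, 0, 0, 0, 0, 0, 0, 0, 0, 0],
    [0, 0, 0, 0, 0, 0, 0, 0, 0, 0, 0, 0, 0, 0, 0, 0, 0, 0, 0, 0, 0, 0, 0, 0, 0, 0, 0, 0, 0, 0, 0, 0, 0, 0, 0, 0, 0, 0, 0, 0, 0, 0, 0, 0, 0, 0, 0, 0, 0, 0, 0, 0, 0, 0, 0, 0, 0, 0, 0, 0, 0, 0, 0, 0, 0, 0, 0, 0, 0, 0, 0, 0, 0, 0, 0, 0, 0, 0, 0, 0, 0, 0, 0, 0, 0, 0, 0, 0, 0, 0, 0, 0, 0, 0, 0, 0, 0, 0, 0, 0, 0, 0, 0, 0, 0, 0, 0, 0, 0, 0, 0, 0, 0, 0, 0, 0, 0, 0, 0, 0, 0, 0, 0, 0, 0, 0, 0, 0, 0, 0, 0,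 0, 0, 0, 0, 0, 0, 0, 0, 0, 0, 0, 0, 0, 0, 0, 0, 0, 0, 0, 0, 0, 0, 0, 0, 0, 0, 0, 0, 0, 0, 0, 0, 0, 0, 0, 0, 0, 0, 0, 0, 0, 0, 0, 0, 0, 0, 0, 0, 0, 0, 0, 0, 0, 0, 0, 0, 0, 0, 0, 0, 0, 0, 0, 0, 0, 0, 0, 0, 0, 0, 0, 0, 0, 0, 0, 0, 0, 0, 0, 0, 0, 0, 0, 0, 0, 0, 0, 0, 0, 0, 0, 0, 0, 0, 0, 0, 0, 0, 0, 0, 1, 0, 0, 0, 0, 0, 0, 0, 0, 0, 0, 0, 0, 0, 0, 0, 0, 0, 0, 0, 0, 0, 0, 0, 0, 0, 0, 0, 0, 0, 0, 0, 0, 0, 0, 0, 0, 0, 0, 0, 0, 0, 0, 0, 0, 0, 0, 0, 0, 0, 0, 0, 0, 0, 0, 0, 0, 0, 0, 0, 0, 0, 0, 0, 0, 0, 0, 0, 0, 0, 0, 0, 0, 0, 0, 0, 0, 0, 0, 0, 0, 0, 0, 0, 0, 0, 0, 0, 0, 0, 0, 0, 0, 0, 0, 0, 0, 0, 0, 0, 0, 0, 0, 0, 0, 0, 0, 0, 0, 0, 0, 0, 0, 0, 0, 0, 0, 0, 0, 0, 0, 0, 0, 0, 0, 0, 0, 0, 0, 0, 0, 0, 0, 0, 0, 0],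
    [0, 0, 0, 0, 0, 0, 0, 0, 0, 0, 0, 0, 0, 0, 0, 0, 0, 0, 0, 0, 0, 0, 0, 0, 0, 0, 0, 0, 0, 0, 0, 0, 0, 0, 0, 0, 0, 0, 0, 0, 0, 0, 0, 0, 0, 0, 0, 0, 0, 0, 0, 0, 0, 0, 0, 0, 0, 0, 0, 0, 0, 0, 0, 0, 0, 0, 0, 0, 0, 0, 0, 0, 0, 0, 0, 0, 0, 0, 0, 0, 0, 0, 0, 0, 0, 0, 0, 0, 0, 0, 0, 0, 0, 0, 0, 0, 0, 0, 0, 0, 0, 0, 0, 0, 0, 0, 0, 0, 0, 0, 0, 0, 0, 0, 0, 0, 0, 0, 0, 0, 0, 0, 0, 0, 0, 0, 0, 0, 0, 0, 0, 0, 0, 0, 0, 0, 0, 0, 0, 0, 0, 0, 0, 0, 0, 0, 0, 0, 0, 0, 0, 0, 0, 0, 0, 0, 0, 0, 0, 0, 0, 0, 0, 0, 0, 0, 0, 0, 0, 0, 0, 0, 0, 0, 0, 0, 0, 0, 0, 0, 0, 0, 0, 0, 0, 0, 0, 0, 0, 0, 0, 0, 0, 0, 0, 0, 0, 0, 0, 0, 0, 0, 0, 0, 0, 0, 0, 0, 0, 0, 0, 0, 0, 0, 0, 0, 0, 0, 0, 0, 0, 0, 0, 0, 0, 0, 0, 0, 0, 0, 0, 0, 0, 1, 0, 0, 0, 0, 0, 0, 0, 0, 0, 0, 0, 0, 0, 0, 0,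 0, 0, 0, 0, 0, 0, 0, 0, 0, 0, 0, 0, 0, 0, 0, 0, 0, 0, 0, 0, 0, 0, 0, 0, 0, 0, 0, 0, 0, 0, 0, 0, 0, 0, 0, 0, 0, 0, 0, 0, 0, 0, 0, 0, 0, 0, 0, 0, 0, 0, 0, 0, 0, 0, 0, 0, 0, 0, 0, 0, 0, 0, 0, 0, 0, 0, 0, 0, 0, 0, 0, 0, 0, 0, 0, 0, 0, 0, 0, 0, 0, 0, 0, 0, 0, 0, 0, 0, 0, 0, 0, 0, 0, 0, 0, 0, 0, 0, 0, 0, 0, 0, 0, 0, 0, 0, 0, 0, 0, 0, 0, 0, 0, 0, 0, 0, 0, 0],
    [0, 0, 0, 0, 0, 0, 0, 0, 0, 0, 0, 0, 0, 0, 0, 0, 0, 0, 0, 0, 0, 0, 0, 0, 0, 0, 0, 0, 0, 0, 0, 0, 0, 0, 0, 0, 0, 0, 0, 0, 0, 0, 0, 0, 0, 0, 0, 0, 0, 0, 0, 0, 0, 0, 0, 0, 0, 0, 0, 0, 0, 0, 0, 0, 0, 0, 0, 0, 0, 0, 0, 0, 0, 0, 0, 0, 0, 0, 0, 0, 0, 0, 0, 0, 0, 0, 0, 0, 0, 0, 0, 0, 0, 0, 0, 0, 0, 0, 0, 0, 0, 0, 0, 0, 0, 0, 0, 0, 0, 0, 0, 0, 0, 0, 0, 0, 0, 0, 0, 0, 0, 0, 0, 0, 0, 0, 0, 0, 0, 0, 0,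 0, 0, 0, 0, 0, 0, 0, 0, 0, 0, 0, 0, 0, 0, 0, 0, 0, 0, 0, 0, 0, 0, 0, 0, 0, 0, 0, 0, 0, 0, 0, 0, 0, 0, 0, 0, 0, 0, 0, 0, 0, 0, 0, 0, 0, 0, 0, 0, 0, 0, 0, 0, 0, 0, 0, 0, 0, 1, 0, 0, 0, 0, 0, 0, 0, 0, 0, 0, 0, 0, 0, 0, 0, 0, 0, 0, 0, 0, 0, 0, 0, 0, 0, 0, 0, 0, 0, 0, 0, 0, 0, 0, 0, 0, 0, 0, 0, 0, 0, 0, 0, 0, 0, 0, 0, 0, 0, 0, 0, 0, 0, 0, 0, 0, 0, 0, 0, 0, 0, 0, 0, 0, 0, 0, 0, 0, 0, 0, 0, 0, 0, 0, 0, 0, 0, 0, 0, 0, 0, 0, 0, 0, 0, 0, 0, 0, 0, 0, 0, 0, 0, 0, 0, 0, 0, 0, 0, 0, 0, 0, 0, 0, 0, 0, 0, 0, 0, 0, 0, 0, 0, 0, 0, 0, 0, 0, 0, 0, 0, 0, 0, 0, 0, 0, 0, 0, 0, 0, 0, 0, 0, 0, 0, 0, 0, 0, 0, 0, 0, 0, 0, 0, 0, 0, 0, 0, 0, 0, 0, 0, 0, 0, 0, 0, 0, 0, 0, 0, 0, 0, 0, 0, 0, 0, 0, 0, 0, 0, 0, 0, 0, 0, 0, 0, 0, 0],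
    [0, 0, 0, 0, 0, 0, 0, 0, 0, 0, 0, 0, 0, 0, 0, 0, 0, 0, 0, 0, 0, 0, 0, 0, 0, 0, 0, 0, 0, 0, 0, 0, 0, 0, 0, 0, 0, 0, 0, 0, 0, 0, 0, 0, 0, 0, 0, 0, 0, 0, 0, 0, 0, 0, 0, 0, 0, 0, 0, 0, 0, 0, 0, 0, 0, 0, 0, 0, 0, 0, 0, 0, 0, 0, 0, 0, 0, 0, 0, 0, 0, 0, 0, 0, 0, 0, 0, 0, 0, 0, 0, 0, 0, 0, 0, 0, 0, 0, 0, 0, 0, 0, 0, 0, 0, 0, 0, 0, 0, 0, 0, 0, 0, 0, 0, 0, 0, 0, 0, 0, 0, 0, 0, 0, 0, 0, 0, 0, 0, 0, 0, 0, 0, 0, 0, 0, 0, 0, 0, 0, 0, 0, 0, 0, 0, 0, 0, 0, 0, 0, 0, 0, 0, 0, 0, 0, 0, 0, 0, 0, 0, 0, 0, 0, 0, 0, 0, 0, 0, 0, 0, 0, 0, 0, 0, 0, 0, 0, 0, 0, 0, 0, 0, 0, 0, 0, 0, 0, 0, 0, 0, 0, 0, 0, 0, 0, 0, 0, 0, 0, 0, 0, 0, 0, 0, 0, 0, 0, 0, 0, 0, 0, 0, 0, 0, 0, 0, 0, 0, 0, 0, 0, 0, 0, 0, 0, 0, 1, 0, 0, 0, 0, 0, 0, 0, 0, 0, 0, 0, 0, 0, 0, 0, 0, 0, 0, 0, 0, 0,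 0, 0, 0, 0, 0, 0, 0, 0, 0, 0, 0, 0, 0, 0, 0, 0, 0, 0, 0, 0, 0, 0, 0, 0, 0, 0, 0, 0, 0, 0, 0, 0, 0, 0, 0, 0, 0, 0, 0, 0, 0, 0, 0, 0, 0, 0, 0, 0, 0, 0, 0, 0, 0, 0, 0, 0, 0, 0, 0, 0, 0, 0, 0, 0, 0, 0, 0, 0, 0, 0, 0, 0, 0, 0, 0, 0, 0, 0, 0, 0, 0, 0, 0, 0, 0, 0, 0, 0, 0, 0, 0, 0, 0, 0, 0, 0, 0, 0, 0, 0, 0, 0, 0, 0, 0, 0, 0, 0, 0, 0, 0, 0, 0, 0, 0, 0, 0, 0],
    [0, 0, 0, 0, 0, 0, 0, 0, 0, 0, 0, 0, 0, 0, 0, 0, 0, 0, 0, 0, 0, 0, 0, 0, 0, 0, 0, 0, 0, 0, 0, 0, 0, 0, 0, 0, 0, 0, 0, 0, 0, 0, 0, 0, 0, 0, 0, 0, 0, 0, 0, 0, 0, 0, 0, 0, 0, 0, 0, 0, 0, 0, 0, 0, 0, 0, 0, 0, 0, 0, 0, 0, 0, 0, 0, 0, 0, 0, 0, 0, 0, 0, 0, 0, 0, 0, 0, 0, 0, 0, 0, 0, 0, 0, 0, 0, 0, 0, 0, 0, 0, 0, 0, 0, 0, 0, 0, 0, 0, 0, 0, 0, 0, 0, 0, 0, 0, 0, 0, 0, 0, 0, 0, 0, 0, 0, 0, 0, 0, 0, 0,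 0, 0, 0, 0, 0, 0, 0, 0, 0, 0, 0, 0, 0, 0, 0, 0, 0, 0, 0, 0, 0, 0, 0, 0, 0, 0, 0, 0, 0, 0, 0, 0, 0, 0, 0, 0, 0, 1, 0, 0, 0, 0, 0, 0, 0, 0, 0, 0, 0, 0, 0, 0, 0, 0, 0, 0, 0, 0, 0, 0, 0, 0, 0, 0, 0, 0, 0, 0, 0, 0, 0, 0, 0, 0, 0, 0, 0, 0, 0, 0, 0, 0, 0, 0, 0, 0, 0, 0, 0, 0, 0, 0, 0, 0, 0, 0, 0, 0, 0, 0, 0, 0, 0, 0, 0, 0, 0, 0, 0, 0, 0, 0, 0, 0, 0, 0, 0, 0, 0, 0, 0, 0, 0, 0, 0, 0, 0, 0, 0, 0, 0, 0, 0, 0, 0, 0, 0, 0, 0, 0, 0, 0, 0, 0, 0, 0, 0, 0, 0, 0, 0, 0, 0, 0, 0, 0, 0, 0, 0, 0, 0, 0, 0, 0, 0, 0, 0, 0, 0, 0, 0, 0, 0, 0, 0, 0, 0, 0, 0, 0, 0, 0, 0, 0, 0, 0, 0, 0, 0, 0, 0, 0, 0, 0, 0, 0, 0, 0, 0, 0, 0, 0, 0, 0, 0, 0, 0, 0, 0, 0, 0, 0, 0, 0, 0, 0, 0, 0, 0, 0, 0, 0, 0, 0, 0, 0, 0, 0, 0, 0, 0, 0, 0, 0, 0, 0],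
    [0, 0, 0, 0, 0, 0, 0, 0, 0, 0, 0, 0, 0, 0, 0, 0, 0, 0, 0, 0, 0, 0, 0, 0, 0, 0, 0, 0, 0, 0, 0, 0, 0, 0, 0, 0, 0, 0, 0, 0, 0, 0, 0, 0, 0, 0, 0, 0, 0, 0, 0, 0, 0, 0, 0, 0, 0, 0, 0, 0, 0, 0, 0, 0, 0, 0, 0, 0, 0, 0, 0, 0, 0, 0, 0, 0, 0, 0, 0, 0, 0, 0, 0, 0, 0, 0, 0, 0, 0, 0, 0, 0, 0, 0, 0, 0, 0, 0, 0, 0, 0, 0, 0, 0, 0, 0, 0, 0, 0, 0, 0, 0, 0, 0, 0, 0, 0, 0, 0, 0, 0, 0, 0, 0, 0, 0, 0, 0, 0, 0, 0, 0, 0, 0, 0, 0, 0, 0, 0, 0, 0, 0, 0, 0, 0, 0, 0, 0, 0, 0, 0, 0, 0, 0, 0, 0, 0, 0, 0, 0, 0, 0, 0, 0, 0, 0, 0, 0, 0, 0, 0, 0, 0, 0, 0, 0, 0, 0, 0, 0, 0, 0, 0, 0, 0, 0, 0, 0, 0, 0, 0, 0, 0, 0, 0, 0, 0, 0, 0, 0, 0, 0, 0, 0, 0, 0, 0, 1, 0, 0, 0, 0, 0, 0, 0, 0, 0, 0, 0, 0, 0, 0, 0, 0, 0, 0, 0, 0, 0, 0, 0, 0, 0, 0, 0, 0, 0, 0, 0, 0, 0, 0, 0, 0, 0, 0, 0, 0, 0,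 0, 0, 0, 0, 0, 0, 0, 0, 0, 0, 0, 0, 0, 0, 0, 0, 0, 0, 0, 0, 0, 0, 0, 0, 0, 0, 0, 0, 0, 0, 0, 0, 0, 0, 0, 0, 0, 0, 0, 0, 0, 0, 0, 0, 0, 0, 0, 0, 0, 0, 0, 0, 0, 0, 0, 0, 0, 0, 0, 0, 0, 0, 0, 0, 0, 0, 0, 0, 0, 0, 0, 0, 0, 0, 0, 0, 0, 0, 0, 0, 0, 0, 0, 0, 0, 0, 0, 0, 0, 0, 0, 0, 0, 0, 0, 0, 0, 0, 0, 0, 0, 0, 0, 0, 0, 0, 0, 0, 0, 0, 0, 0, 0, 0, 0, 0, 0, 0]]

/-- part of the exponents -/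
def twoVecs11 : List (List ℤ) :=
  [[0, 0, 0, 0, 0, 0, 0, 0, 0, 0, 0, 0, 0, 0, 0, 0, 0, 0, 0, 0, 0, 0, 0, 0, 0, 0, 0, 0, 0, 0, 0, 0, 0, 0, 0, 0, 0, 0, 0, 0, 0, 0, 0, 0, 0, 0, 0, 0, 0, 0, 0, 0, 0, 0, 0, 0, 0, 0, 0, 0, 0, 0, 0, 0, 0, 0, 0, 0, 0, 0, 0, 0, 0, 0, 0, 0, 0, 0, 0, 0, 0, 0, 0, 0, 0, 0, 0, 0, 0, 0, 0, 0, 0, 0, 0, 0, 0, 0, 0, 0, 0, 0, 0, 0, 0, 0, 0, 0, 0, 0, 0, 0, 0, 0, 0, 0, 0, 0, 0, 0, 0, 0, 0, 0, 0, 0, 0, 0, 0, 0, 0, 0, 0, 0, 0, 0, 0, 0, 0, 0, 0, 0, 0, 0, 0, 0, 0, 0, 0, 0, 0, 0, 0, 0, 0, 0, 0, 0, 0, 0, 0, 0, 0, 0, 0, 0, 0, 0, 0, 0, 0, 0, 0, 0, 0, 0, 0, 0, 0, 0, 0, 0, 0, 0, 0, 0, 0, 0, 0, 0, 0, 0, 0, 0, 0, 0, 0, 0, 0, 0, 0, 0, 0, 0, 0, 0, 0, 0, 0, 0, 0, 0, 0, 0, 0, 0, 0, 0, 0, 0, 0, 0, 0, 0, 0, 0, 0, 0, 0, 0, 0, 0, 0, 0, 0, 0, 0, 0,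 0, 0, 0, 0, 0, 1, 0, 0, 0, 0, 0, 0, 0, 0, 0, 0, 0, 0, 0, 0, 0, 0, 0, 0, 0, 0, 0, 0, 0, 0, 0, 0, 0, 0, 0, 0, 0, 0, 0, 0, 0, 0, 0, 0, 0, 0, 0, 0, 0, 0, 0, 0, 0, 0, 0, 0, 0, 0, 0, 0, 0, 0, 0, 0, 0, 0, 0, 0, 0, 0, 0, 0, 0, 0, 0, 0, 0, 0, 0, 0, 0, 0, 0, 0, 0, 0, 0, 0, 0, 0, 0, 0, 0, 0, 0, 0, 0, 0, 0, 0, 0, 0, 0, 0, 0, 0, 0, 0, 0, 0, 0, 0, 0, 0, 0, 0, 0, 0, 0, 0, 0, 0, 0, 0, 0, 0, 0, 0, 0],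
    [0, 0, 0, 0, 0, 0, 0, 0, 0, 0, 0, 0, 0, 0, 0, 0, 0, 0, 0, 0, 0, 0, 0, 0, 0, 0, 0, 0, 0, 0, 0, 0, 0, 0, 0, 0, 0, 0, 0, 0, 0, 0, 0, 0, 0, 0, 0, 0, 0, 0, 0, 0, 0, 0, 0, 0, 0, 0, 0, 0, 0, 0, 0, 0, 0, 0, 0, 0, 0, 0, 0, 0, 0, 0, 0, 0, 0, 0, 0, 0, 0, 0, 0, 0, 0, 0, 0, 0, 0, 0, 0, 0, 0, 0, 0, 0, 0, 0, 0, 0, 0, 0, 0, 0, 0, 0, 0, 0, 0, 0, 0, 0, 0, 0, 0, 0, 0, 0, 0, 0, 0, 0, 0, 0, 0, 0, 0, 0, 0, 0, 0, 0, 0, 0, 0, 0, 0, 0, 0, 0, 0, 0, 0, 0, 0, 0, 0, 0, 0, 0, 0, 0, 0, 0, 0, 0, 0, 0, 0, 0, 0, 0, 0, 0, 0, 0, 0, 0, 0, 0, 0, 0, 0, 0, 0, 0, 0, 0, 0, 0, 0, 0, 0, 0, 0, 0, 0, 0, 0, 0, 0, 0, 0, 0, 0, 0, 0, 0, 0, 0, 0, 0, 0, 0, 0, 0, 0, 0, 0, 0, 0, 0, 0, 0, 0, 0, 0, 0, 0, 0, 0, 0, 0, 0, 0, 0, 0, 0, 0, 0, 0, 0, 0, 0, 0, 0, 0, 0, 0, 0, 0, 0, 0, 0, 0, 0, 1, 0, 0,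 0, 0, 0, 0, 0, 0, 0, 0, 0, 0, 0, 0, 0, 0, 0, 0, 0, 0, 0, 0, 0, 0, 0, 0, 0, 0, 0, 0, 0, 0, 0, 0, 0, 0, 0, 0, 0, 0, 0, 0, 0, 0, 0, 0, 0, 0, 0, 0, 0, 0, 0, 0, 0, 0, 0, 0, 0, 0, 0, 0, 0, 0, 0, 0, 0, 0, 0, 0, 0, 0, 0, 0, 0, 0, 0, 0, 0, 0, 0, 0, 0, 0, 0, 0, 0, 0, 0, 0, 0, 0, 0, 0, 0, 0, 0, 0, 0, 0, 0, 0, 0, 0, 0, 0, 0, 0, 0, 0, 0, 0, 0, 0, 0, 0, 0, 0, 0, 0],
    [0, 0, 0, 0, 0, 0, 0, 0, 0, 0, 0, 0, 0, 0, 0, 0, 0, 0, 0, 0, 0, 0, 0, 0, 0, 0, 0, 0, 0, 0, 0, 0, 0, 0, 0, 0, 0, 0, 0, 0, 0, 0, 0, 0, 0, 0, 0, 0, 0, 0, 0, 0, 0, 0, 0, 0, 0, 0, 0, 0, 0, 0, 0, 0, 0, 0, 0, 0, 0, 0, 0, 0, 0, 0, 0, 0, 0, 0, 0, 0, 0, 0, 0, 0, 0, 0, 0, 0, 0, 0, 0, 0, 0, 0, 0, 0, 0, 0, 0, 0, 0, 0, 0, 0, 0, 0, 0, 0, 0, 0, 0, 0, 0, 0, 0, 0, 0, 0, 0, 0, 0, 0, 0, 0, 0, 0, 0, 0, 0, 0, 0,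 0, 0, 0, 0, 0, 0, 0, 0, 0, 0, 0, 0, 0, 0, 0, 0, 0, 0, 0, 0, 0, 0, 0, 0, 0, 0, 0, 0, 0, 0, 0, 0, 0, 0, 0, 0, 0, 0, 0, 0, 0, 0, 0, 0, 0, 0, 0, 0, 0, 1, 0, 0, 0, 0, 0, 0, 0, 0, 0, 0, 0, 0, 0, 0, 0, 0, 0, 0, 0, 0, 0, 0, 0, 0, 0, 0, 0, 0, 0, 0, 0, 0, 0, 0, 0, 0, 0, 0, 0, 0, 0, 0, 0, 0, 0, 0, 0, 0, 0, 0, 0, 0, 0, 0, 0, 0, 0, 0, 0, 0, 0, 0, 0, 0, 0, 0, 0, 0, 0, 0, 0, 0, 0, 0, 0, 0, 0, 0, 0, 0, 0, 0, 0, 0, 0, 0, 0, 0, 0, 0, 0, 0, 0, 0, 0, 0, 0, 0, 0, 0, 0, 0, 0, 0, 0, 0, 0, 0, 0, 0, 0, 0, 0, 0, 0, 0, 0, 0, 0, 0, 0, 0, 0, 0, 0, 0, 0, 0, 0, 0, 0, 0, 0, 0, 0, 0, 0, 0, 0, 0, 0, 0, 0, 0, 0, 0, 0, 0, 0, 0, 0, 0, 0, 0, 0, 0, 0, 0, 0, 0, 0, 0, 0, 0, 0, 0, 0, 0, 0, 0, 0, 0, 0, 0, 0, 0, 0, 0, 0, 0, 0, 0, 0, 0, 0, 0],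
    [0, 0, 0, 0, 0, 0, 0, 0, 0, 0, 0, 0, 0, 0, 0, 0, 0, 0, 0, 0, 0, 0, 0, 0, 0, 0, 0, 0, 0, 0, 0, 0, 0, 0, 0, 0, 0, 0, 0, 0, 0, 0, 0, 0, 0, 0, 0, 0, 0, 0, 0, 0, 0, 0, 0, 0, 0, 0, 0, 0, 0, 0, 0, 0, 0, 0, 0, 0, 0, 0, 0, 0, 0, 0, 0, 0, 0, 0, 0, 0, 0, 0, 0, 0, 0, 0, 0, 0, 0, 0, 0, 0, 0, 0, 0, 0, 0, 0, 0, 0, 0, 0, 0, 0, 0, 0, 0, 0, 0, 0, 0, 0, 0, 0, 0, 0, 0, 0, 0, 0, 0, 0, 0, 0, 0, 0, 0, 0, 0, 0, 0, 0, 0, 0, 0, 0, 0, 0, 0, 0, 0, 0, 0, 0, 0, 0, 0, 0, 0, 0, 0, 0, 0, 0, 0, 0, 0, 0, 0, 0, 0, 0, 0, 0, 0, 0, 0, 0, 0, 0, 0, 0, 0, 0, 0, 0, 0, 0, 0, 0, 0, 0, 0, 0, 0, 0, 0, 0, 0, 0, 0, 0, 0, 0, 0, 0, 0, 0, 0, 0, 0, 0, 0, 0, 0, 0, 0, 0, 1, 0, 0, 0, 0, 0, 0, 0, 0, 0, 0, 0, 0, 0, 0, 0, 0, 0, 0, 0, 0, 0, 0, 0, 0, 0, 0, 0, 0, 0, 0, 0, 0, 0, 0, 0, 0, 0, 0, 0, 0,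 0, 0, 0, 0, 0, 0, 0, 0, 0, 0, 0, 0, 0, 0, 0, 0, 0, 0, 0, 0, 0, 0, 0, 0, 0, 0, 0, 0, 0, 0, 0, 0, 0, 0, 0, 0, 0, 0, 0, 0, 0, 0, 0, 0, 0, 0, 0, 0, 0, 0, 0, 0, 0, 0, 0, 0, 0, 0, 0, 0, 0, 0, 0, 0, 0, 0, 0, 0, 0, 0, 0, 0, 0, 0, 0, 0, 0, 0, 0, 0, 0, 0, 0, 0, 0, 0, 0, 0, 0, 0, 0, 0, 0, 0, 0, 0, 0, 0, 0, 0, 0, 0, 0, 0, 0, 0, 0, 0, 0, 0, 0, 0, 0, 0, 0, 0, 0, 0],
    [0, 0, 0, 0, 0, 0, 0, 0, 0, 0, 0, 0, 0, 0, 0, 0, 0, 0, 0, 0, 0, 0, 0, 0, 0, 0, 0, 0, 0, 0, 0, 0, 0, 0, 0, 0, 0, 0, 0, 0, 0, 0, 0, 0, 0, 0, 0, 0, 0, 0, 0, 0, 0, 0, 0, 0, 0, 0, 0, 0, 0, 0, 0, 0, 0, 0, 0, 0, 0, 0, 0, 0, 0, 0, 0, 0, 0, 0, 0, 0, 0, 0, 0, 0, 0, 0, 0, 0, 0, 0, 0, 0, 0, 0, 0, 0, 0, 0, 0, 0, 0, 0, 0, 0, 0, 0, 0, 0, 0, 0, 0, 0, 0, 0, 0, 0, 0, 0, 0, 0, 0, 0, 0, 0, 0, 0, 0, 0, 0, 0, 0,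 0, 0, 0, 0, 0, 0, 0, 0, 0, 0, 0, 0, 0, 0, 0, 0, 0, 0, 0, 0, 0, 0, 0, 0, 0, 0, 0, 0, 0, 0, 0, 0, 0, 0, 0, 0, 0, 0, 0, 0, 0, 0, 0, 0, 0, 0, 0, 0, 0, 0, 0, 0, 0, 0, 0, 0, 0, 0, 0, 0, 0, 0, 0, 0, 0, 0, 0, 0, 0, 0, 0, 0, 0, 0, 0, 0, 0, 0, 0, 0, 0, 0, 0, 0, 0, 0, 0, 0, 0, 0, 0, 0, 0, 0, 0, 0, 0, 1, 0, 0, 0, 0, 0, 0, 0, 0, 0, 0, 0, 0, 0, 0, 0, 0, 0, 0, 0, 0, 0, 0, 0, 0, 0, 0, 0, 0, 0, 0, 0, 0, 0, 0, 0, 0, 0, 0, 0, 0, 0, 0, 0, 0, 0, 0, 0, 0, 0, 0, 0, 0, 0, 0, 0, 0, 0, 0, 0, 0, 0, 0, 0, 0, 0, 0, 0, 0, 0, 0, 0, 0, 0, 0, 0, 0, 0, 0, 0, 0, 0, 0, 0, 0, 0, 0, 0, 0, 0, 0, 0, 0, 0, 0, 0, 0, 0, 0, 0, 0, 0, 0, 0, 0, 0, 0, 0, 0, 0, 0, 0, 0, 0, 0, 0, 0, 0, 0, 0, 0, 0, 0, 0, 0, 0, 0, 0, 0, 0, 0, 0, 0, 0, 0, 0, 0, 0, 0],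
    [0, 0, 0, 0, 0, 0, 0, 0, 0, 0, 0, 0, 0, 0, 0, 0, 0, 0, 0, 0, 0, 0, 0, 0, 0, 0, 0, 0, 0, 0, 0, 0, 0, 0, 0, 0, 0, 0, 0, 0, 0, 0, 0, 0, 0, 0, 0, 0, 0, 0, 0, 0, 0, 0, 0, 0, 0, 0, 0, 0, 0, 0, 0, 0, 0, 0, 0, 0, 0, 0, 0, 0, 0, 0, 0, 0, 0, 0, 0, 0, 0, 0, 0, 0, 0, 0, 0, 0, 0, 0, 0, 0, 0, 0, 0, 0, 0, 0, 0, 0, 0, 0, 0, 0, 0, 0, 0, 0, 0, 0, 0, 0, 0, 0, 0, 0, 0, 0, 0, 0, 0, 0, 0, 0, 0, 0, 0, 0, 0, 0, 0, 0, 0, 0, 0, 0, 0, 0, 0, 0, 0, 0, 0, 0, 0, 0, 0, 0, 0, 0, 0, 0, 0, 0, 0, 0, 0, 0, 0, 0, 0, 0, 0, 0, 0, 0, 0, 0, 0, 0, 0, 0, 0, 0, 0, 0, 0, 0, 0, 0, 0, 0, 0, 0, 0, 0, 0, 0, 0, 0, 0, 0, 0, 0, 0, 0, 0, 0, 0, 0, 0, 0, 0, 0, 0, 0, 0, 0, 0, 0, 0, 0, 0, 0, 0, 0, 0, 0, 0, 0, 0, 0, 0, 0, 0, 0, 0, 0, 0, 1, 0, 0, 0, 0, 0, 0, 0, 0, 0, 0, 0, 0, 0, 0, 0, 0, 0, 0, 0,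 0, 0, 0, 0, 0, 0, 0, 0, 0, 0, 0, 0, 0, 0, 0, 0, 0, 0, 0, 0, 0, 0, 0, 0, 0, 0, 0, 0, 0, 0, 0, 0, 0, 0, 0, 0, 0, 0, 0, 0, 0, 0, 0, 0, 0, 0, 0, 0, 0, 0, 0, 0, 0, 0, 0, 0, 0, 0, 0, 0, 0, 0, 0, 0, 0, 0, 0, 0, 0, 0, 0, 0, 0, 0, 0, 0, 0, 0, 0, 0, 0, 0, 0, 0, 0, 0, 0, 0, 0, 0, 0, 0, 0, 0, 0, 0, 0, 0, 0, 0, 0, 0, 0, 0, 0, 0, 0, 0, 0, 0, 0, 0, 0, 0, 0, 0, 0, 0],
    [0, 0, 0, 0, 0, 0, 0, 0, 0, 0, 0, 0, 0, 0, 0, 0, 0, 0, 0, 0, 0, 0, 0, 0, 0, 0, 0, 0, 0, 0, 0, 0, 0, 0, 0, 0, 0, 0, 0, 0, 0, 0, 0, 0, 0, 0, 0, 0, 0, 0, 0, 0, 0, 0, 0, 0, 0, 0, 0, 0, 0, 0, 0, 0, 0, 0, 0, 0, 0, 0, 0, 0, 0, 0, 0, 0, 0, 0, 0, 0, 0, 0, 0, 0, 0, 0, 0, 0, 0, 0, 0, 0, 0, 0, 0, 0, 0, 0, 0, 0, 0, 0, 0, 0, 0, 0, 0, 0, 0, 0, 0, 0, 0, 0, 0, 0, 0, 0, 0, 0, 0, 0, 0, 0, 0, 0, 0, 0, 0, 0, 0,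 0, 0, 0, 0, 0, 0, 0, 0, 0, 0, 0, 0, 0, 0, 0, 0, 0, 0, 0, 0, 0, 0, 0, 0, 0, 0, 0, 0, 0, 0, 0, 0, 0, 0, 0, 0, 0, 0, 0, 0, 0, 0, 0, 0, 0, 0, 0, 0, 0, 0, 0, 0, 0, 0, 0, 0, 0, 0, 0, 0, 0, 0, 0, 0, 0, 0, 0, 0, 0, 0, 0, 0, 0, 0, 0, 0, 0, 0, 0, 0, 0, 0, 0, 0, 0, 0, 0, 0, 0, 0, 0, 0, 0, 0, 0, 0, 0, 0, 0, 0, 0, 0, 0, 0, 1, 0, 0, 0, 0, 0, 0, 0, 0, 0, 0, 0, 0, 0, 0, 0, 0, 0, 0, 0, 0, 0, 0, 0, 0, 0, 0, 0, 0, 0, 0, 0, 0, 0, 0, 0, 0, 0, 0, 0, 0, 0, 0, 0, 0, 0, 0, 0, 0, 0, 0, 0, 0, 0, 0, 0, 0, 0, 0, 0, 0, 0, 0, 0, 0, 0, 0, 0, 0, 0, 0, 0, 0, 0, 0, 0, 0, 0, 0, 0, 0, 0, 0, 0, 0, 0, 0, 0, 0, 0, 0, 0, 0, 0, 0, 0, 0, 0, 0, 0, 0, 0, 0, 0, 0, 0, 0, 0, 0, 0, 0, 0, 0, 0, 0, 0, 0, 0, 0, 0, 0, 0, 0, 0, 0, 0, 0, 0, 0, 0, 0, 0],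
    [0, 0, 0, 0, 0, 0, 0, 0, 0, 0, 0, 0, 0, 0, 0, 0, 0, 0, 0, 0, 0, 0, 0, 0, 0, 0, 0, 0, 0, 0, 0, 0, 0, 0, 0, 0, 0, 0, 0, 0, 0, 0, 0, 0, 0, 0, 0, 0, 0, 0, 0, 0, 0, 0, 0, 0, 0, 0, 0, 0, 0, 0, 0, 0, 0, 0, 0, 0, 0, 0, 0, 0, 0, 0, 0, 0, 0, 0, 0, 0, 0, 0, 0, 0, 0, 0, 0, 0, 0, 0, 0, 0, 0, 1, 0, 0, 0, 0, 0, 0, 0, 0, 0, 0, 0, 0, 0, 0, 0, 0, 0, 0, 0, 0, 0, 0, 0, 0, 0, 0, 0, 0, 0, 0, 0, 0, 0, 0, 0, 0, 0, 0, 0, 0, 0, 0, 0, 0, 0, 0, 0, 0, 0, 0, 0, 0, 0, 0, 0, 0, 0, 0, 0, 0, 0, 1, 0, 0, 0, 0, 0, 0, 0, 0, 0, 0, 0, 0, 0, 0, 0, 0, 0, 0, 0, 0, 0, 0, 0, 0, 0, 0, 0, 0, 0, 0, 0, 0, 0, 0, 0, 0, 0, 0, 0, 0, 0, 0, 0, 0, 0, 0, 0, 0, 0, 0, 0, 0, 0, 0, 0, 0, 0, 0, 0, 0, 0, 0, 0, 0, 0, 0, 0, 0, 0, 0, 0, 0, 0, 0, 0, 0, 0, 0, 0, 0, 0, 0, 0, 0, 0, 0, 0, 0, 0, 0, 0, 0, 0,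 0, 0, 0, 0, 0, 0, 0, 0, 0, 0, 0, 0, 0, 0, 0, 0, 0, 0, 0, 0, 0, 0, 0, 0, 0, 0, 0, 0, 0, 0, 0, 0, 0, 0, 0, 0, 0, 0, 0, 0, 0, 0, 0, 0, 0, 0, 0, 0, 0, 0, 0, 0, 0, 0, 0, 0, 0, 0, 0, 0, 0, 0, 0, 0, 0, 0, 0, 0, 0, 0, 0, 0, 0, 0, 0, 0, 0, 0, 0, 0, 0, 0, 0, 0, 0, 0, 0, 0, 0, 0, 0, 0, 0, 0, 0, 0, 0, 0, 0, 0, 0, 0, 0, 0, 0, 0, 0, 0, 0, 0, 0, 0, 0, 0, 0, 0, 0, 0],
    [0, 0, 0, 0, 0, 0, 0, 0, 0, 0, 0, 0, 0, 0, 0, 0, 0, 0, 0, 0, 0, 0, 0, 0, 0, 0, 0, 0, 0, 0, 0, 0, 0, 0, 0, 0, 0, 0, 0, 0, 0, 0, 0, 0, 0, 0, 0, 0, 0, 0, 0, 0, 0, 0, 0, 0, 0, 0, 0, 0, 0, 0, 0, 0, 0, 0, 0, 0, 0, 0, 0, 0, 0, 0, 0, 0, 0, 0, 0, 0, 0, 0, 0, 0, 0, 0, 0, 0, 0, 0, 0, 0, 0, 0, 0, 0, 0, 0, 0, 0, 0, 0, 0, 0, 0, 0, 0, 0, 0, 0, 0, 0, 0, 0, 0, 0, 0, 0, 0, 0, 0, 0, 1, 0, 0, 0, 0, 0, 0, 0, 0,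 0, 0, 0, 0, 0, 0, 0, 1, 0, 0, 0, 0, 0, 0, 0, 0, 0, 0, 0, 0, 0, 0, 0, 0, 0, 0, 0, 0, 0, 0, 0, 0, 0, 0, 0, 0, 0, 0, 0, 0, 0, 0, 0, 0, 0, 0, 0, 0, 0, 0, 0, 0, 0, 0, 0, 0, 0, 0, 0, 0, 0, 0, 0, 0, 0, 0, 0, 0, 0, 0, 0, 0, 0, 0, 0, 0, 0, 0, 0, 0, 0, 0, 0, 0, 0, 0, 0, 0, 0, 0, 0, 0, 0, 0, 0, 0, 0, 0, 0, 0, 0, 0, 0, 0, 0, 0, 0, 0, 0, 0, 0, 0, 0, 0, 0, 0, 0, 0, 0, 0, 0, 0, 0, 0, 0, 0, 0, 0, 0, 0, 0, 0, 0, 0, 0, 0, 0, 0, 0, 0, 0, 0, 0, 0, 0, 0, 0, 0, 0, 0, 0, 0, 0, 0, 0, 0, 0, 0, 0, 0, 0, 0, 0, 0, 0, 0, 0, 0, 0, 0, 0, 0, 0, 0, 0, 0, 0, 0, 0, 0, 0, 0, 0, 0, 0, 0, 0, 0, 0, 0, 0, 0, 0, 0, 0, 0, 0, 0, 0, 0, 0, 0, 0, 0, 0, 0, 0, 0, 0, 0, 0, 0, 0, 0, 0, 0, 0, 0, 0, 0, 0, 0, 0, 0, 0, 0, 0, 0, 0, 0, 0, 0, 0, 0, 0, 0],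
    [0, 0, 0, 0, 0, 0, 0, 0, 0, 0, 0, 0, 0, 0, 0, 0, 0, 0, 0, 0, 0, 0, 0, 0, 0, 0, 0, 0, 0, 0, 0, 0, 0, 0, 0, 0, 0, 0, 0, 0, 0, 0, 0, 0, 0, 0, 0, 0, 0, 0, 0, 0, 0, 0, 0, 0, 0, 0, 0, 0, 0, 0, 0, 0, 0, 0, 0, 0, 0, 0, 0, 0, 0, 0, 0, 0, 0, 0, 0, 0, 0, 0, 0, 0, 0, 0, 0, 0, 0, 0, 0, 0, 0, 0, 0, 0, 0, 0, 0, 0, 0, 0, 0, 0, 0, 0, 0, 0, 0, 0, 0, 0, 0, 0, 1, 0, 0, 0, 0, 0, 0, 0, 0, 0, 0, 0, 0, 0, 0, 0, 0, 0, 0, 0, 0, 0, 0, 0, 0, 0, 0, 0, 0, 0, 0, 0, 0, 0, 0, 0, 0, 0, 0, 0, 0, 0, 0, 0, 0, 0, 0, 0, 0, 0, 0, 0, 0, 0, 0, 0, 0, 0, 0, 0, 0, 0, 0, 0, 0, 0, 1, 0, 0, 0, 0, 0, 0, 0, 0, 0, 0, 0, 0, 0, 0, 0, 0, 0, 0, 0, 0, 0, 0, 0, 0, 0, 0, 0, 0, 0, 0, 0, 0, 0, 0, 0, 0, 0, 0, 0, 0, 0, 0, 0, 0, 0, 0, 0, 0, 0, 0, 0, 0, 0, 0, 0, 0, 0, 0, 0, 0, 0, 0, 0, 0, 0, 0, 0, 0,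 0, 0, 0, 0, 0, 0, 0, 0, 0, 0, 0, 0, 0, 0, 0, 0, 0, 0, 0, 0, 0, 0, 0, 0, 0, 0, 0, 0, 0, 0, 0, 0, 0, 0, 0, 0, 0, 0, 0, 0, 0, 0, 0, 0, 0, 0, 0, 0, 0, 0, 0, 0, 0, 0, 0, 0, 0, 0, 0, 0, 0, 0, 0, 0, 0, 0, 0, 0, 0, 0, 0, 0, 0, 0, 0, 0, 0, 0, 0, 0, 0, 0, 0, 0, 0, 0, 0, 0, 0, 0, 0, 0, 0, 0, 0, 0, 0, 0, 0, 0, 0, 0, 0, 0, 0, 0, 0, 0, 0, 0, 0, 0, 0, 0, 0, 0, 0, 0]]

/-- part of the exponents -/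
def twoVecs12 : List (List ℤ) :=
  [[0, 0, 0, 0, 0, 0, 0, 0, 0, 0, 0, 0, 0, 0, 0, 0, 0, 0, 0, 0, 0, 0, 0, 0, 0, 0, 0, 0, 0, 0, 0, 0, 0, 0, 0, 0, 0, 0, 0, 0, 0, 0, 0, 0, 0, 0, 0, 0, 0, 0, 0, 0, 0, 0, 0, 0, 0, 0, 0, 0, 0, 0, 0, 0, 0, 0, 0, 0, 0, 0, 0, 0, 0, 0, 0, 0, 0, 0, 0, 0, 0, 0, 0, 0, 0, 0, 0, 0, 0, 0, 0, 0, 0, 0, 0, 0, 0, 0, 0, 0, 0, 0, 0, 0, 0, 0, 0, 0, 0, 0, 0, 0, 0, 0, 0, 0, 0, 0, 0, 0, 0, 0, 0, 0, 0, 0, 0, 0, 0, 0, 0, 0, 0, 0, 0, 0, 0, 0, 0, 0, 0, 0, 0, 0, 0, 0, 0, 0, 0, 0, 0, 0, 0, 0, 0, 0, 0, 0, 0, 0, 0, 0, 0, 0, 0, 0, 1, 0, 0, 0, 0, 0, 0, 0, 0, 0, 0, 0, 0, 0, 0, 0, 0, 0, 0, 0, 0, 0, 0, 0, 0, 0, 0, 0, 0, 0, 0, 0, 0, 0, 0, 0, 0, 0, 0, 0, 0, 0, 0, 0, 0, 0, 0, 0, 0, 0, 0, 0, 0, 0, 0, 0, 0, 1, 0, 0, 0, 0, 0, 0, 0, 0, 0, 0, 0, 0, 0, 0,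 0, 0, 0, 0, 0, 0, 0, 0, 0, 0, 0, 0, 0, 0, 0, 0, 0, 0, 0, 0, 0, 0, 0, 0, 0, 0, 0, 0, 0, 0, 0, 0, 0, 0, 0, 0, 0, 0, 0, 0, 0, 0, 0, 0, 0, 0, 0, 0, 0, 0, 0, 0, 0, 0, 0, 0, 0, 0, 0, 0, 0, 0, 0, 0, 0, 0, 0, 0, 0, 0, 0, 0, 0, 0, 0, 0, 0, 0, 0, 0, 0, 0, 0, 0, 0, 0, 0, 0, 0, 0, 0, 0, 0, 0, 0, 0, 0, 0, 0, 0, 0, 0, 0, 0, 0, 0, 0, 0, 0, 0, 0, 0, 0, 0, 0, 0, 0, 0, 0, 0, 0, 0, 0, 0, 0, 0, 0, 0, 0],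
    [0, 0, 0, 0, 0, 0, 0, 0, 0, 0, 0, 0, 0, 0, 0, 0, 0, 0, 0, 0, 0, 0, 0, 0, 0, 0, 0, 0, 0, 0, 0, 0, 0, 0, 0, 0, 0, 0, 0, 0, 0, 0, 0, 0, 0, 0, 0, 0, 0, 0, 0, 0, 0, 0, 0, 0, 0, 0, 0, 0, 0, 0, 0, 0, 0, 0, 0, 0, 0, 0, 0, 0, 0, 0, 0, 0, 0, 0, 0, 0, 0, 0, 0, 0, 0, 0, 0, 0, 0, 0, 0, 0, 0, 0, 0, 0, 0, 0, 0, 0, 0, 0, 0, 0, 0, 0, 0, 0, 0, 0, 0, 0, 0, 0, 0, 0, 0, 0, 1, 0, 0, 0, 0, 0, 0, 0, 0, 0, 0, 0, 0, 0, 0, 0, 0, 0, 0, 0, 0, 0, 0, 0, 0, 0, 0, 0, 0, 0, 0, 0, 0, 0, 0, 0, 0, 0, 0, 0, 0, 0, 0, 0, 0, 0, 0, 0, 0, 0, 0, 0, 0, 0, 0, 0, 0, 0, 0, 0, 0, 0, 0, 0, 0, 0, 1, 0, 0, 0, 0, 0, 0, 0, 0, 0, 0, 0, 0, 0, 0, 0, 0, 0, 0, 0, 0, 0, 0, 0, 0, 0, 0, 0, 0, 0, 0, 0, 0, 0, 0, 0, 0, 0, 0, 0, 0, 0, 0, 0, 0, 0, 0, 0, 0, 0, 0, 0, 0, 0, 0, 0, 0, 0, 0, 0, 0, 0, 0, 0, 0,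 0, 0, 0, 0, 0, 0, 0, 0, 0, 0, 0, 0, 0, 0, 0, 0, 0, 0, 0, 0, 0, 0, 0, 0, 0, 0, 0, 0, 0, 0, 0, 0, 0, 0, 0, 0, 0, 0, 0, 0, 0, 0, 0, 0, 0, 0, 0, 0, 0, 0, 0, 0, 0, 0, 0, 0, 0, 0, 0, 0, 0, 0, 0, 0, 0, 0, 0, 0, 0, 0, 0, 0, 0, 0, 0, 0, 0, 0, 0, 0, 0, 0, 0, 0, 0, 0, 0, 0, 0, 0, 0, 0, 0, 0, 0, 0, 0, 0, 0, 0, 0, 0, 0, 0, 0, 0, 0, 0, 0, 0, 0, 0, 0, 0, 0, 0, 0, 0],
    [0, 0, 0, 0, 0, 0, 0, 0, 0, 0, 0, 0, 0, 0, 0, 0, 0, 0, 0, 0, 0, 0, 0, 0, 0, 0, 0, 0, 0, 0, 0, 0, 0, 0, 0, 0, 0, 0, 0, 0, 0, 0, 0, 0, 0, 0, 0, 0, 0, 0, 0, 0, 0, 0, 0, 0, 0, 0, 0, 0, 0, 0, 0, 0, 0, 0, 0, 0, 0, 0, 0, 0, 0, 0, 0, 0, 0, 0, 0, 0, 0, 0, 0, 0, 0, 0, 0, 0, 0, 0, 0, 0, 0, 0, 0, 0, 0, 0, 0, 0, 0, 0, 0, 0, 0, 0, 0, 0, 0, 0, 0, 0, 0, 0, 0, 0, 0, 0, 0, 0, 0, 0, 0, 0, 0, 0, 0, 0, 0, 0, 0,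 0, 0, 0, 1, 0, 0, 0, 0, 0, 0, 0, 0, 0, 0, 0, 0, 0, 0, 0, 1, 0, 0, 0, 0, 0, 0, 0, 0, 0, 0, 0, 0, 0, 0, 0, 0, 0, 0, 0, 0, 0, 0, 0, 0, 0, 0, 0, 0, 0, 0, 0, 0, 0, 0, 0, 0, 0, 0, 0, 0, 0, 0, 0, 0, 0, 0, 0, 0, 0, 0, 0, 0, 0, 0, 0, 0, 0, 0, 0, 0, 0, 0, 0, 0, 0, 0, 0, 0, 0, 0, 0, 0, 0, 0, 0, 0, 0, 0, 0, 0, 0, 0, 0, 0, 0, 0, 0, 0, 0, 0, 0, 0, 0, 0, 0, 0, 0, 0, 0, 0, 0, 0, 0, 0, 0, 0, 0, 0, 0, 0, 0, 0, 0, 0, 0, 0, 0, 0, 0, 0, 0, 0, 0, 0, 0, 0, 0, 0, 0, 0, 0, 0, 0, 0, 0, 0, 0, 0, 0, 0, 0, 0, 0, 0, 0, 0, 0, 0, 0, 0, 0, 0, 0, 0, 0, 0, 0, 0, 0, 0, 0, 0, 0, 0, 0, 0, 0, 0, 0, 0, 0, 0, 0, 0, 0, 0, 0, 0, 0, 0, 0, 0, 0, 0, 0, 0, 0, 0, 0, 0, 0, 0, 0, 0, 0, 0, 0, 0, 0, 0, 0, 0, 0, 0, 0, 0, 0, 0, 0, 0, 0, 0, 0, 0, 0, 0],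
    [0, 0, 0, 0, 0, 0, 0, 0, 0, 0, 0, 0, 0, 0, 0, 0, 0, 0, 0, 0, 0, 0, 0, 0, 0, 0, 0, 0, 0, 0, 0, 0, 0, 0, 0, 0, 0, 0, 0, 0, 0, 0, 0, 0, 0, 0, 0, 0, 0, 0, 0, 0, 0, 0, 0, 0, 0, 0, 0, 0, 0, 0, 0, 0, 0, 0, 0, 0, 0, 0, 0, 0, 0, 0, 0, 0, 0, 0, 0, 0, 0, 0, 0, 0, 0, 0, 0, 0, 0, 0, 0, 0, 0, 0, 0, 0, 0, 0, 0, 0, 0, 0, 0, 0, 0, 0, 0, 0, 0, 0, 0, 0, 0, 0, 0, 0, 0, 0, 0, 0, 0, 0, 0, 0, 0, 0, 0, 0, 0, 0, 0, 0, 0, 0, 0, 0, 0, 0, 0, 0, 0, 0, 0, 0, 0, 0, 0, 0, 0, 0, 0, 0, 0, 0, 0, 0, 0, 0, 0, 0, 0, 0, 0, 0, 0, 0, 0, 1, 0, 0, 0, 0, 0, 0, 0, 0, 0, 0, 0, 0, 0, 0, 0, 0, 0, 0, 0, 0, 1, 0, 0, 0, 0, 0, 0, 0, 0, 0, 0, 0, 0, 0, 0, 0, 0, 0, 0, 0, 0, 0, 0, 0, 0, 0, 0, 0, 0, 0, 0, 0, 0, 0, 0, 0, 0, 0, 0, 0, 0, 0, 0, 0, 0, 0, 0, 0, 0, 0, 0, 0, 0, 0, 0, 0, 0, 0, 0, 0, 0,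 0, 0, 0, 0, 0, 0, 0, 0, 0, 0, 0, 0, 0, 0, 0, 0, 0, 0, 0, 0, 0, 0, 0, 0, 0, 0, 0, 0, 0, 0, 0, 0, 0, 0, 0, 0, 0, 0, 0, 0, 0, 0, 0, 0, 0, 0, 0, 0, 0, 0, 0, 0, 0, 0, 0, 0, 0, 0, 0, 0, 0, 0, 0, 0, 0, 0, 0, 0, 0, 0, 0, 0, 0, 0, 0, 0, 0, 0, 0, 0, 0, 0, 0, 0, 0, 0, 0, 0, 0, 0, 0, 0, 0, 0, 0, 0, 0, 0, 0, 0, 0, 0, 0, 0, 0, 0, 0, 0, 0, 0, 0, 0, 0, 0, 0, 0, 0, 0],
    [0, 0, 0, 0, 0, 0, 0, 0, 0, 0, 0, 0, 0, 0, 0, 0, 0, 0, 0, 0, 0, 0, 0, 0, 0, 0, 0, 0, 0, 0, 0, 0, 0, 0, 0, 0, 0, 0, 0, 0, 0, 0, 0, 0, 0, 0, 0, 0, 0, 0, 0, 0, 0, 0, 0, 0, 0, 0, 0, 0, 0, 0, 0, 0, 0, 0, 0, 0, 0, 0, 0, 0, 0, 0, 0, 0, 0, 0, 0, 0, 0, 0, 0, 0, 0, 0, 0, 0, 0, 0, 0, 0, 0, 0, 0, 0, 0, 0, 0, 0, 0, 0, 0, 0, 0, 0, 0, 0, 0, 0, 0, 0, 0, 0, 0, 0, 0, 0, 0, 0, 0, 0, 0, 0, 0, 0, 0, 0, 0, 0, 0,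 0, 0, 0, 0, 0, 0, 0, 0, 0, 0, 0, 0, 0, 0, 0, 0, 0, 0, 0, 0, 0, 0, 0, 0, 0, 0, 0, 0, 0, 0, 0, 0, 0, 0, 0, 0, 0, 0, 0, 0, 0, 0, 0, 0, 0, 0, 0, 0, 0, 0, 0, 0, 0, 0, 0, 0, 0, 0, 0, 0, 0, 0, 0, 0, 1, 0, 0, 0, 0, 0, 0, 0, 0, 0, 0, 0, 0, 0, 0, 0, 0, 0, 0, 0, 0, 0, 0, 0, 0, 0, 0, 0, 0, 0, 0, 0, 0, 0, 0, 0, 0, 0, 0, 0, 0, 1, 0, 0, 0, 0, 0, 0, 0, 0, 0, 0, 0, 0, 0, 0, 0, 0, 0, 0, 0, 0, 0, 0, 0, 0, 0, 0, 0, 0, 0, 0, 0, 0, 0, 0, 0, 0, 0, 0, 0, 0, 0, 0, 0, 0, 0, 0, 0, 0, 0, 0, 0, 0, 0, 0, 0, 0, 0, 0, 0, 0, 0, 0, 0, 0, 0, 0, 0, 0, 0, 0, 0, 0, 0, 0, 0, 0, 0, 0, 0, 0, 0, 0, 0, 0, 0, 0, 0, 0, 0, 0, 0, 0, 0, 0, 0, 0, 0, 0, 0, 0, 0, 0, 0, 0, 0, 0, 0, 0, 0, 0, 0, 0, 0, 0, 0, 0, 0, 0, 0, 0, 0, 0, 0, 0, 0, 0, 0, 0, 0, 0],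
    [0, 0, 0, 0, 0, 0, 0, 0, 0, 0, 0, 0, 0, 0, 0, 0, 0, 0, 0, 0, 0, 0, 0, 0, 0, 0, 0, 0, 0, 0, 0, 0, 0, 0, 0, 0, 0, 0, 0, 0, 0, 0, 0, 0, 0, 0, 0, 0, 0, 0, 0, 0, 0, 0, 0, 0, 0, 0, 0, 0, 0, 0, 0, 0, 0, 0, 0, 0, 0, 0, 0, 0, 0, 0, 0, 0, 0, 0, 0, 0, 0, 0, 0, 0, 0, 0, 0, 0, 0, 0, 0, 0, 0, 0, 0, 0, 0, 0, 0, 0, 0, 0, 0, 0, 0, 0, 0, 0, 0, 0, 0, 0, 0, 0, 0, 0, 0, 0, 0, 0, 0, 0, 0, 0, 0, 0, 0, 0, 0, 0, 0, 0, 0, 0, 0, 0, 0, 0, 0, 0, 0, 0, 0, 0, 0, 0, 0, 0, 0, 0, 0, 0, 0, 0, 0, 0, 0, 0, 0, 0, 0, 0, 0, 0, 0, 0, 0, 0, 0, 0, 0, 0, 0, 0, 0, 0, 0, 0, 0, 0, 0, 0, 0, 0, 0, 0, 0, 0, 0, 0, 0, 0, 0, 0, 0, 0, 0, 0, 0, 0, 0, 0, 0, 0, 0, 0, 0, 0, 0, 0, 0, 0, 0, 0, 0, 0, 0, 0, 0, 0, 0, 1, 0, 0, 0, 0, 0, 0, 0, 0, 0, 0, 0, 0, 0, 0, 0, 0, 0, 0, 0, 0, 1, 0, 0, 0, 0, 0, 0,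 0, 0, 0, 0, 0, 0, 0, 0, 0, 0, 0, 0, 0, 0, 0, 0, 0, 0, 0, 0, 0, 0, 0, 0, 0, 0, 0, 0, 0, 0, 0, 0, 0, 0, 0, 0, 0, 0, 0, 0, 0, 0, 0, 0, 0, 0, 0, 0, 0, 0, 0, 0, 0, 0, 0, 0, 0, 0, 0, 0, 0, 0, 0, 0, 0, 0, 0, 0, 0, 0, 0, 0, 0, 0, 0, 0, 0, 0, 0, 0, 0, 0, 0, 0, 0, 0, 0, 0, 0, 0, 0, 0, 0, 0, 0, 0, 0, 0, 0, 0, 0, 0, 0, 0, 0, 0, 0, 0, 0, 0, 0, 0, 0, 0, 0, 0, 0, 0],
    [0, 0, 0, 0, 0, 0, 0, 0, 0, 0, 0, 0, 1, 0, 0, 0, 1, 0, 0, 1, 0, 0, 0, 0, 0, 0, 0, 0, 0, 0, 0, 0, 0, 0, 0, 0, 0, 0, 0, 0, 0, 0, 0, 0, 0, 0, 0, 0, 0, 0, 0, 0, 0, 0, 0, 0, 0, 0, 0, 0, 0, 0, 0, 0, 0, 0, 0, 0, 0, 0, 0, 0, 0, 0, 0, 0, 0, 0, 0, 0, 0, 0, 0, 0, 0, 0, 0, 0, 0, 0, 0, 0, 0, 0, 0, 0, 0, 0, 0, 0, 0, 0, 0, 0, 0, 0, 0, 0, 0, 0, 0, 0, 0, 0, 0, 0, 0, 0, 0, 0, 0, 0, 0, 0, 0, 0, 0, 0, 0, 0, 0,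 0, 0, 0, 0, 0, 0, 0, 0, 0, 0, 0, 0, 0, 0, 0, 0, 0, 0, 0, 0, 0, 0, 0, 0, 0, 0, 0, 0, 0, 0, 0, 0, 0, 0, 0, 0, 0, 0, 0, 0, 0, 0, 0, 0, 0, 0, 0, 0, 0, 0, 0, 0, 0, 0, 0, 0, 0, 0, 0, 0, 0, 0, 0, 0, 0, 0, 0, 0, 0, 0, 0, 0, 0, 0, 0, 0, 0, 0, 0, 0, 0, 0, 0, 0, 0, 0, 0, 0, 0, 0, 0, 0, 0, 0, 0, 0, 0, 0, 0, 0, 0, 0, 0, 0, 0, 0, 0, 0, 0, 0, 0, 0, 0, 0, 0, 0, 0, 0, 0, 0, 0, 0, 0, 0, 0, 0, 0, 0, 0, 0, 0, 0, 0, 0, 0, 0, 0, 0, 0, 0, 0, 0, 0, 0, 0, 0, 0, 0, 0, 0, 0, 0, 0, 0, 0, 0, 0, 0, 0, 0, 0, 0, 0, 0, 0, 0, 0, 0, 0, 0, 0, 0, 0, 0, 0, 0, 0, 0, 0, 0, 0, 0, 0, 0, 0, 0, 0, 0, 0, 0, 0, 0, 0, 0, 0, 0, 0, 0, 0, 0, 0, 0, 0, 0, 0, 0, 0, 0, 0, 0, 0, 0, 0, 0, 0, 0, 0, 0, 0, 0, 0, 0, 0, 0, 0, 0, 0, 0, 0, 0, 0, 0, 0, 0, 0, 0],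
    [0, 0, 0, 0, 0, 0, 0, 0, 0, 0, 0, 0, 0, 0, 0, 0, 0, 0, 0, 0, 0, 0, 0, 0, 0, 0, 0, 0, 0, 0, 1, 0, 0, 0, 0, 0, 1, 0, 0, 0, 0, 0, 0, 1, 0, 0, 0, 0, 0, 0, 0, 0, 0, 0, 0, 0, 0, 0, 0, 0, 0, 0, 0, 0, 0, 0, 0, 0, 0, 0, 0, 0, 0, 0, 0, 0, 0, 0, 0, 0, 0, 0, 0, 0, 0, 0, 0, 0, 0, 0, 0, 0, 0, 0, 0, 0, 0, 0, 0, 0, 0, 0, 0, 0, 0, 0, 0, 0, 0, 0, 0, 0, 0, 0, 0, 0, 0, 0, 0, 0, 0, 0, 0, 0, 0, 0, 0, 0, 0, 0, 0, 0, 0, 0, 0, 0, 0, 0, 0, 0, 0, 0, 0, 0, 0, 0, 0, 0, 0, 0, 0, 0, 0, 0, 0, 0, 0, 0, 0, 0, 0, 0, 0, 0, 0, 0, 0, 0, 0, 0, 0, 0, 0, 0, 0, 0, 0, 0, 0, 0, 0, 0, 0, 0, 0, 0, 0, 0, 0, 0, 0, 0, 0, 0, 0, 0, 0, 0, 0, 0, 0, 0, 0, 0, 0, 0, 0, 0, 0, 0, 0, 0, 0, 0, 0, 0, 0, 0, 0, 0, 0, 0, 0, 0, 0, 0, 0, 0, 0, 0, 0, 0, 0, 0, 0, 0, 0, 0, 0, 0, 0, 0, 0, 0, 0, 0, 0, 0, 0,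 0, 0, 0, 0, 0, 0, 0, 0, 0, 0, 0, 0, 0, 0, 0, 0, 0, 0, 0, 0, 0, 0, 0, 0, 0, 0, 0, 0, 0, 0, 0, 0, 0, 0, 0, 0, 0, 0, 0, 0, 0, 0, 0, 0, 0, 0, 0, 0, 0, 0, 0, 0, 0, 0, 0, 0, 0, 0, 0, 0, 0, 0, 0, 0, 0, 0, 0, 0, 0, 0, 0, 0, 0, 0, 0, 0, 0, 0, 0, 0, 0, 0, 0, 0, 0, 0, 0, 0, 0, 0, 0, 0, 0, 0, 0, 0, 0, 0, 0, 0, 0, 0, 0, 0, 0, 0, 0, 0, 0, 0, 0, 0, 0, 0, 0, 0, 0, 0],
    [0, 0, 0, 0, 0, 0, 0, 0, 0, 0, 0, 0, 0, 0, 0, 0, 0, 0, 0, 0, 0, 0, 0, 0, 0, 0, 0, 0, 0, 0, 0, 0, 0, 0, 0, 0, 0, 0, 0, 0, 1, 0, 0, 0, 1, 0, 0, 0, 0, 1, 0, 0, 0, 1, 1, 0, 0, 0, 0, 0, 0, 0, 0, 0, 0, 0, 0, 0, 0, 0, 0, 0, 0, 0, 0, 0, 0, 0, 0, 0, 0, 0, 0, 0, 0, 0, 0, 0, 0, 0, 0, 0, 0, 0, 0, 0, 0, 0, 0, 0, 0, 0, 0, 0, 0, 0, 0, 0, 0, 0, 0, 0, 0, 0, 0, 0, 0, 0, 0, 0, 0, 0, 0, 0, 0, 0, 0, 0, 0, 0, 0,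 0, 0, 0, 0, 0, 0, 0, 0, 0, 0, 0, 0, 0, 0, 0, 0, 0, 0, 0, 0, 0, 0, 0, 0, 0, 0, 0, 0, 0, 0, 0, 0, 0, 0, 0, 0, 0, 0, 0, 0, 0, 0, 0, 0, 0, 0, 0, 0, 0, 0, 0, 0, 0, 0, 0, 0, 0, 0, 0, 0, 0, 0, 0, 0, 0, 0, 0, 0, 0, 0, 0, 0, 0, 0, 0, 0, 0, 0, 0, 0, 0, 0, 0, 0, 0, 0, 0, 0, 0, 0, 0, 0, 0, 0, 0, 0, 0, 0, 0, 0, 0, 0, 0, 0, 0, 0, 0, 0, 0, 0, 0, 0, 0, 0, 0, 0, 0, 0, 0, 0, 0, 0, 0, 0, 0, 0, 0, 0, 0, 0, 0, 0, 0, 0, 0, 0, 0, 0, 0, 0, 0, 0, 0, 0, 0, 0, 0, 0, 0, 0, 0, 0, 0, 0, 0, 0, 0, 0, 0, 0, 0, 0, 0, 0, 0, 0, 0, 0, 0, 0, 0, 0, 0, 0, 0, 0, 0, 0, 0, 0, 0, 0, 0, 0, 0, 0, 0, 0, 0, 0, 0, 0, 0, 0, 0, 0, 0, 0, 0, 0, 0, 0, 0, 0, 0, 0, 0, 0, 0, 0, 0, 0, 0, 0, 0, 0, 0, 0, 0, 0, 0, 0, 0, 0, 0, 0, 0, 0, 0, 0, 0, 0, 0, 0, 0, 0],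
    [0, 0, 0, 0, 0, 0, 0, 0, 0, 0, 0, 0, 0, 0, 0, 0, 0, 0, 0, 0, 0, 0, 0, 0, 0, 0, 0, 0, 0, 0, 0, 0, 0, 0, 0, 0, 0, 0, 0, 0, 0, 0, 0, 0, 0, 0, 0, 0, 0, 0, 0, 0, 0, 0, 0, 0, 0, 0, 0, 0, 0, 0, 0, 0, 0, 0, 0, 0, 0, 0, 0, 0, 0, 0, 0, 0, 0, 0, 0, 0, 0, 0, 0, 0, 0, 0, 0, 0, 0, 0, 0, 1, 0, 0, 0, 0, 0, 0, 0, 0, 0, 0, 0, 0, 1, 0, 0, 0, 0, 0, 0, 0, 0, 0, 0, 0, 0, 0, 0, 0, 0, 0, 0, 0, 0, 0, 0, 0, 0, 0, 0, 0, 0, 0, 0, 0, 0, 0, 0, 0, 0, 0, 0, 0, 0, 0, 0, 0, 0, 0, 0, 0, 0, 1, 0, 0, 0, 0, 0, 0, 0, 0, 0, 0, 0, 0, 1, 0, 0, 0, 1, 0, 0, 0, 0, 0, 0, 0, 0, 0, 0, 0, 0, 0, 0, 0, 0, 0, 0, 0, 0, 0, 0, 0, 0, 0, 0, 0, 0, 0, 0, 0, 0, 0, 0, 0, 0, 0, 0, 0, 0, 0, 0, 0, 0, 0, 0, 0, 0, 0, 0, 0, 0, 0, 0, 0, 0, 0, 0, 0, 0, 0, 0, 0, 0, 0, 0, 0, 0, 0, 0, 0, 0, 0, 0, 0, 0, 0, 0,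 0, 0, 0, 0, 0, 0, 0, 0, 0, 0, 0, 0, 0, 0, 0, 0, 0, 0, 0, 0, 0, 0, 0, 0, 0, 0, 0, 0, 0, 0, 0, 0, 0, 0, 0, 0, 0, 0, 0, 0, 0, 0, 0, 0, 0, 0, 0, 0, 0, 0, 0, 0, 0, 0, 0, 0, 0, 0, 0, 0, 0, 0, 0, 0, 0, 0, 0, 0, 0, 0, 0, 0, 0, 0, 0, 0, 0, 0, 0, 0, 0, 0, 0, 0, 0, 0, 0, 0, 0, 0, 0, 0, 0, 0, 0, 0, 0, 0, 0, 0, 0, 0, 0, 0, 0, 0, 0, 0, 0, 0, 0, 0, 0, 0, 0, 0, 0, 0]]

/-- part of the exponents -/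
def twoVecs13 : List (List ℤ) :=
  [[0, 0, 0, 0, 0, 0, 0, 0, 0, 0, 0, 0, 0, 0, 0, 0, 0, 0, 0, 0, 0, 0, 0, 0, 0, 0, 0, 0, 0, 0, 0, 0, 0, 0, 0, 0, 0, 0, 0, 0, 0, 0, 0, 0, 0, 0, 0, 0, 0, 0, 0, 0, 0, 0, 0, 0, 0, 0, 0, 0, 0, 0, 0, 0, 0, 0, 0, 0, 0, 0, 0, 0, 0, 0, 0, 0, 0, 0, 0, 0, 0, 0, 0, 0, 0, 0, 0, 0, 0, 0, 0, 0, 0, 0, 0, 0, 0, 0, 0, 0, 0, 0, 0, 0, 0, 0, 0, 0, 0, 0, 0, 0, 0, 0, 0, 0, 0, 0, 0, 0, 0, 0, 0, 0, 1, 0, 0, 0, 0, 0, 0, 0, 0, 0, 0, 1, 0, 0, 0, 0, 1, 0, 0, 0, 0, 0, 0, 0, 0, 0, 0, 1, 1, 0, 0, 0, 0, 0, 0, 0, 0, 0, 0, 0, 0, 0, 0, 0, 0, 0, 0, 0, 0, 0, 0, 0, 0, 0, 0, 0, 0, 0, 0, 0, 0, 0, 0, 0, 0, 0, 0, 0, 0, 0, 0, 0, 0, 0, 0, 0, 0, 0, 0, 0, 0, 0, 0, 0, 0, 0, 0, 0, 0, 0, 0, 0, 0, 0, 0, 0, 0, 0, 0, 0, 0, 0, 0, 0, 0, 0, 0, 0, 0, 0, 0, 0, 0, 0,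 0, 0, 0, 0, 0, 0, 0, 0, 0, 0, 0, 0, 0, 0, 0, 0, 0, 0, 0, 0, 0, 0, 0, 0, 0, 0, 0, 0, 0, 0, 0, 0, 0, 0, 0, 0, 0, 0, 0, 0, 0, 0, 0, 0, 0, 0, 0, 0, 0, 0, 0, 0, 0, 0, 0, 0, 0, 0, 0, 0, 0, 0, 0, 0, 0, 0, 0, 0, 0, 0, 0, 0, 0, 0, 0, 0, 0, 0, 0, 0, 0, 0, 0, 0, 0, 0, 0, 0, 0, 0, 0, 0, 0, 0, 0, 0, 0, 0, 0, 0, 0, 0, 0, 0, 0, 0, 0, 0, 0, 0, 0, 0, 0, 0, 0, 0, 0, 0, 0, 0, 0, 0, 0, 0, 0, 0, 0, 0, 0],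
    [0, 0, 0, 0, 0, 0, 0, 0, 0, 0, 0, 0, 0, 0, 0, 0, 0, 0, 0, 0, 0, 0, 0, 0, 0, 0, 0, 0, 0, 0, 0, 0, 0, 0, 0, 0, 0, 0, 0, 0, 0, 0, 0, 0, 0, 0, 0, 0, 0, 0, 0, 0, 0, 0, 0, 0, 0, 0, 0, 0, 0, 0, 0, 0, 0, 0, 0, 0, 0, 0, 0, 0, 0, 0, 0, 0, 0, 0, 0, 0, 0, 0, 0, 0, 0, 0, 0, 0, 0, 0, 0, 0, 0, 0, 0, 0, 0, 0, 0, 0, 0, 0, 0, 0, 0, 0, 0, 0, 0, 0, 0, 0, 0, 0, 0, 0, 0, 0, 0, 0, 0, 0, 0, 0, 0, 1, 0, 0, 0, 0, 0, 0, 0, 0, 0, 1, 0, 0, 0, 0, 0, 1, 0, 0, 0, 0, 0, 0, 0, 0, 0, 1, 1, 0, 0, 0, 0, 0, 0, 0, 0, 0, 0, 0, 0, 0, 0, 0, 0, 0, 0, 0, 0, 0, 0, 0, 0, 0, 0, 0, 0, 0, 0, 0, 0, 0, 0, 0, 0, 0, 0, 0, 0, 0, 0, 0, 0, 0, 0, 0, 0, 0, 0, 0, 0, 0, 0, 0, 0, 0, 0, 0, 0, 0, 0, 0, 0, 0, 0, 0, 0, 0, 0, 0, 0, 0, 0, 0, 0, 0, 0, 0, 0, 0, 0, 0, 0, 0, 0, 0, 0, 0, 0, 0, 0, 0, 0, 0, 0,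 0, 0, 0, 0, 0, 0, 0, 0, 0, 0, 0, 0, 0, 0, 0, 0, 0, 0, 0, 0, 0, 0, 0, 0, 0, 0, 0, 0, 0, 0, 0, 0, 0, 0, 0, 0, 0, 0, 0, 0, 0, 0, 0, 0, 0, 0, 0, 0, 0, 0, 0, 0, 0, 0, 0, 0, 0, 0, 0, 0, 0, 0, 0, 0, 0, 0, 0, 0, 0, 0, 0, 0, 0, 0, 0, 0, 0, 0, 0, 0, 0, 0, 0, 0, 0, 0, 0, 0, 0, 0, 0, 0, 0, 0, 0, 0, 0, 0, 0, 0, 0, 0, 0, 0, 0, 0, 0, 0, 0, 0, 0, 0, 0, 0, 0, 0, 0, 0],
    [0, 0, 0, 0, 0, 0, 0, 0, 0, 0, 0, 0, 0, 0, 0, 0, 0, 0, 0, 0, 0, 0, 0, 0, 0, 0, 0, 0, 0, 0, 0, 0, 0, 0, 0, 0, 0, 0, 0, 0, 0, 0, 0, 0, 0, 0, 0, 0, 0, 0, 0, 0, 0, 0, 0, 0, 0, 0, 0, 0, 0, 0, 0, 0, 0, 0, 0, 0, 0, 0, 0, 0, 0, 0, 0, 0, 0, 0, 0, 0, 0, 0, 0, 0, 0, 0, 0, 0, 0, 0, 0, 0, 0, 0, 0, 0, 0, 0, 0, 0, 0, 0, 0, 0, 0, 0, 0, 0, 0, 0, 0, 0, 0, 0, 0, 0, 0, 0, 0, 0, 0, 0, 0, 0, 0, 0, 0, 0, 0, 0, 0,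 0, 0, 0, 0, 0, 0, 0, 0, 0, 0, 0, 0, 0, 0, 0, 0, 0, 0, 0, 0, 0, 0, 0, 0, 0, 0, 0, 0, 0, 0, 0, 0, 0, 0, 0, 0, 0, 0, 0, 0, 0, 0, 0, 0, 0, 0, 0, 0, 1, 0, 0, 0, 0, 0, 0, 0, 0, 0, 0, 0, 0, 0, 0, 0, 0, 0, 0, 0, 0, 0, 0, 0, 0, 0, 0, 0, 0, 0, 0, 0, 0, 0, 0, 0, 0, 1, 0, 0, 0, 0, 0, 0, 0, 0, 0, 0, 0, 1, 0, 0, 0, 0, 0, 0, 0, 0, 0, 0, 0, 0, 0, 0, 0, 0, 0, 0, 0, 0, 0, 0, 0, 0, 0, 0, 0, 0, 0, 0, 0, 0, 0, 0, 0, 0, 0, 0, 0, 0, 0, 0, 0, 0, 0, 0, 0, 0, 0, 0, 0, 0, 0, 0, 0, 0, 0, 0, 0, 0, 0, 0, 0, 0, 0, 0, 0, 0, 0, 0, 0, 0, 0, 0, 0, 0, 0, 0, 0, 0, 0, 0, 0, 0, 0, 0, 0, 0, 0, 0, 0, 0, 0, 0, 0, 0, 0, 0, 0, 0, 0, 0, 0, 0, 0, 0, 0, 0, 0, 0, 0, 0, 0, 0, 0, 0, 0, 0, 0, 0, 0, 0, 0, 0, 0, 0, 0, 0, 0, 0, 0, 0, 0, 0, 0, 0, 0, 0],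
    [0, 0, 0, 0, 0, 0, 0, 0, 0, 0, 0, 0, 0, 0, 0, 0, 0, 0, 0, 0, 0, 0, 0, 0, 0, 0, 0, 0, 0, 0, 0, 0, 0, 0, 0, 0, 0, 0, 0, 0, 0, 0, 0, 0, 0, 0, 0, 0, 0, 0, 0, 0, 0, 0, 0, 0, 0, 0, 0, 0, 0, 0, 0, 0, 0, 0, 0, 0, 0, 0, 0, 0, 0, 0, 0, 0, 0, 0, 0, 0, 0, 0, 0, 0, 0, 0, 0, 0, 0, 0, 0, 0, 0, 0, 0, 0, 0, 0, 0, 0, 0, 0, 1, 0, 0, 0, 0, 0, 0, 0, 0, 0, 0, 0, 0, 0, 0, 0, 0, 0, 0, 0, 0, 0, 0, 0, 0, 0, 0, 0, 0, 1, 0, 0, 0, 0, 0, 0, 0, 0, 0, 0, 0, 0, 0, 0, 0, 0, 0, 0, 0, 0, 0, 0, 0, 0, 0, 0, 0, 0, 0, 0, 0, 0, 1, 0, 0, 0, 0, 0, 0, 0, 0, 0, 0, 0, 0, 0, 0, 0, 0, 0, 0, 0, 0, 0, 0, 0, 0, 0, 0, 0, 0, 0, 0, 0, 0, 0, 0, 0, 0, 0, 0, 0, 0, 0, 0, 0, 0, 0, 0, 0, 0, 0, 0, 0, 0, 0, 0, 0, 0, 0, 0, 0, 0, 0, 0, 0, 0, 0, 0, 0, 0, 0, 0, 0, 0, 0, 0, 0, 0, 0, 0, 0, 0, 0, 0, 0, 0,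 0, 0, 0, 0, 0, 0, 0, 0, 0, 0, 0, 0, 0, 0, 0, 0, 0, 0, 0, 0, 0, 0, 0, 0, 0, 0, 0, 0, 0, 0, 0, 0, 0, 0, 0, 0, 0, 0, 0, 0, 0, 0, 0, 0, 0, 0, 0, 0, 0, 0, 0, 0, 0, 0, 0, 0, 0, 0, 0, 0, 0, 0, 0, 0, 0, 0, 0, 0, 0, 0, 0, 0, 0, 0, 0, 0, 0, 0, 0, 0, 0, 0, 0, 0, 0, 0, 0, 0, 0, 0, 0, 0, 0, 0, 0, 0, 0, 0, 0, 0, 0, 0, 0, 0, 0, 0, 0, 0, 0, 0, 0, 0, 0, 0, 0, 0, 0, 0],
    [0, 0, 0, 0, 0, 0, 0, 0, 0, 0, 0, 0, 0, 0, 0, 0, 0, 0, 0, 0, 0, 0, 0, 0, 0, 0, 0, 0, 0, 0, 0, 0, 0, 0, 0, 0, 0, 0, 0, 0, 0, 0, 0, 0, 0, 0, 0, 0, 0, 0, 0, 0, 0, 0, 0, 0, 0, 0, 0, 0, 0, 0, 0, 0, 0, 0, 0, 0, 0, 0, 0, 0, 0, 0, 0, 0, 0, 0, 0, 0, 0, 0, 0, 0, 0, 0, 0, 0, 0, 0, 0, 0, 0, 0, 0, 0, 0, 0, 0, 0, 0, 0, 0, 0, 0, 0, 0, 0, 0, 0, 0, 0, 0, 0, 0, 0, 0, 0, 0, 0, 0, 0, 0, 0, 0, 0, 0, 0, 0, 0, 0,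 0, 0, 0, 0, 0, 0, 0, 0, 0, 0, 0, 0, 0, 0, 0, 0, 0, 0, 0, 0, 0, 0, 0, 0, 0, 0, 0, 0, 0, 0, 0, 0, 0, 0, 0, 0, 0, 0, 0, 0, 0, 0, 0, 0, 0, 0, 0, 0, 0, 0, 0, 1, 0, 0, 0, 0, 0, 0, 0, 0, 0, 0, 0, 0, 0, 0, 0, 0, 0, 1, 0, 0, 0, 0, 0, 0, 0, 1, 0, 0, 0, 0, 0, 0, 0, 0, 0, 0, 0, 0, 0, 0, 0, 0, 0, 0, 0, 0, 0, 0, 0, 0, 0, 0, 0, 0, 0, 0, 0, 0, 0, 0, 0, 0, 0, 0, 0, 0, 0, 0, 0, 0, 0, 0, 0, 0, 0, 0, 0, 0, 0, 0, 0, 0, 0, 0, 0, 0, 0, 0, 0, 0, 0, 0, 0, 0, 0, 0, 0, 0, 0, 0, 0, 0, 0, 0, 0, 0, 0, 0, 0, 0, 0, 0, 0, 0, 0, 0, 0, 0, 0, 0, 0, 0, 0, 0, 0, 0, 0, 0, 0, 0, 0, 0, 0, 0, 0, 0, 0, 0, 0, 0, 0, 0, 0, 0, 0, 0, 0, 0, 0, 0, 0, 0, 0, 0, 0, 0, 0, 0, 0, 0, 0, 0, 0, 0, 0, 0, 0, 0, 0, 0, 0, 0, 0, 0, 0, 0, 0, 0, 0, 0, 0, 0, 0, 0],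
    [0, 0, 0, 0, 0, 0, 0, 0, 0, 0, 0, 0, 0, 0, 0, 0, 0, 0, 0, 0, 0, 0, 0, 0, 0, 0, 0, 0, 0, 0, 0, 0, 0, 0, 0, 0, 0, 0, 0, 0, 0, 0, 0, 0, 0, 0, 0, 0, 0, 0, 0, 0, 0, 0, 0, 0, 0, 0, 0, 0, 0, 0, 0, 0, 0, 0, 0, 0, 0, 0, 0, 0, 0, 0, 0, 0, 0, 0, 0, 0, 0, 0, 0, 0, 0, 0, 0, 0, 0, 0, 0, 0, 0, 0, 0, 0, 0, 0, 0, 0, 0, 0, 1, 0, 1, 0, 0, 0, 0, 0, 0, 0, 0, 0, 0, 0, 0, 0, 0, 0, 0, 0, 0, 0, 0, 0, 0, 0, 0, 0, 0, 0, 0, 0, 0, 0, 0, 0, 0, 0, 0, 0, 0, 0, 0, 0, 0, 0, 0, 0, 0, 0, 0, 0, 0, 0, 0, 0, 0, 0, 0, 0, 0, 0, 1, 0, 1, 0, 0, 0, 1, 0, 0, 0, 0, 0, 0, 0, 0, 0, 0, 0, 0, 0, 0, 0, 0, 0, 0, 0, 0, 0, 0, 0, 0, 0, 0, 0, 0, 0, 0, 0, 0, 0, 0, 0, 0, 0, 0, 0, 0, 0, 0, 0, 0, 0, 0, 0, 0, 0, 0, 0, 0, 0, 0, 0, 0, 0, 0, 0, 0, 0, 0, 0, 0, 0, 0, 0, 0, 0, 0, 0, 0, 0, 0, 0, 0, 0, 0,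 0, 0, 0, 0, 0, 0, 0, 0, 0, 0, 0, 0, 0, 0, 0, 0, 0, 0, 0, 0, 0, 0, 0, 0, 0, 0, 0, 0, 0, 0, 0, 0, 0, 0, 0, 0, 0, 0, 0, 0, 0, 0, 0, 0, 0, 0, 0, 0, 0, 0, 0, 0, 0, 0, 0, 0, 0, 0, 0, 0, 0, 0, 0, 0, 0, 0, 0, 0, 0, 0, 0, 0, 0, 0, 0, 0, 0, 0, 0, 0, 0, 0, 0, 0, 0, 0, 0, 0, 0, 0, 0, 0, 0, 0, 0, 0, 0, 0, 0, 0, 0, 0, 0, 0, 0, 0, 0, 0, 0, 0, 0, 0, 0, 0, 0, 0, 0, 0],
    [0, 0, 0, 0, 0, 0, 0, 0, 0, 0, 0, 0, 0, 0, 0, 0, 0, 0, 0, 0, 0, 0, 0, 0, 0, 0, 0, 0, 0, 0, 0, 0, 0, 0, 0, 0, 0, 0, 0, 0, 0, 0, 0, 0, 0, 0, 0, 0, 0, 0, 0, 0, 0, 0, 0, 0, 0, 0, 0, 0, 0, 0, 0, 0, 0, 0, 0, 0, 0, 0, 0, 0, 0, 0, 0, 0, 0, 0, 0, 0, 0, 0, 0, 0, 0, 0, 0, 0, 0, 0, 0, 0, 0, 0, 0, 0, 0, 0, 0, 0, 0, 0, 0, 0, 0, 0, 0, 0, 0, 0, 0, 0, 0, 0, 0, 0, 0, 0, 0, 0, 0, 0, 0, 0, 0, 0, 0, 0, 0, 0, 0,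 0, 0, 0, 0, 0, 0, 0, 0, 0, 0, 0, 0, 0, 0, 0, 0, 0, 0, 0, 0, 0, 0, 0, 0, 0, 0, 0, 0, 0, 0, 0, 0, 0, 1, 0, 0, 0, 0, 0, 1, 0, 0, 0, 0, 0, 0, 0, 0, 0, 0, 0, 0, 0, 0, 0, 0, 0, 0, 0, 0, 0, 0, 0, 0, 0, 0, 0, 0, 0, 0, 0, 0, 0, 0, 0, 0, 0, 0, 0, 0, 0, 0, 0, 0, 0, 0, 0, 0, 0, 0, 1, 0, 0, 0, 0, 0, 1, 0, 0, 1, 0, 0, 0, 0, 0, 0, 0, 0, 0, 0, 0, 0, 0, 0, 0, 0, 0, 0, 0, 0, 0, 0, 0, 0, 0, 0, 0, 0, 0, 0, 0, 0, 0, 0, 0, 0, 0, 0, 0, 0, 0, 0, 0, 0, 0, 0, 0, 0, 0, 0, 0, 0, 0, 0, 0, 0, 0, 0, 0, 0, 0, 0, 0, 0, 0, 0, 0, 0, 0, 0, 0, 0, 0, 0, 0, 0, 0, 0, 0, 0, 0, 0, 0, 0, 0, 0, 0, 0, 0, 0, 0, 0, 0, 0, 0, 0, 0, 0, 0, 0, 0, 0, 0, 0, 0, 0, 0, 0, 0, 0, 0, 0, 0, 0, 0, 0, 0, 0, 0, 0, 0, 0, 0, 0, 0, 0, 0, 0, 0, 0, 0, 0, 0, 0, 0, 0],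
    [0, 0, 0, 0, 0, 0, 0, 0, 0, 0, 0, 0, 0, 0, 0, 0, 0, 0, 0, 0, 0, 0, 0, 0, 0, 0, 0, 0, 0, 0, 0, 0, 0, 0, 0, 0, 0, 0, 0, 0, 0, 0, 0, 0, 0, 0, 0, 0, 0, 0, 0, 0, 0, 0, 0, 0, 0, 0, 0, 0, 0, 0, 0, 0, 0, 0, 0, 0, 0, 0, 0, 0, 0, 0, 0, 0, 0, 0, 0, 0, 0, 0, 0, 0, 0, 0, 0, 1, 0, 0, 0, 0, 0, 0, 0, 0, 0, 0, 0, 0, 0, 0, 0, 0, 0, 0, 0, 0, 0, 0, 0, 0, 0, 0, 0, 0, 0, 0, 0, 0, 0, 0, 0, 0, 0, 0, 0, 0, 0, 0, 0, 0, 0, 0, 0, 0, 0, 0, 0, 0, 0, 0, 0, 0, 0, 0, 0, 0, 0, 0, 0, 0, 0, 0, 0, 0, 0, 0, 0, 0, 0, 0, 0, 0, 0, 0, 0, 0, 0, 0, 0, 0, 0, 0, 0, 0, 0, 0, 0, 0, 0, 0, 0, 0, 0, 0, 0, 0, 0, 0, 0, 1, 0, 0, 0, 0, 0, 0, 0, 1, 0, 0, 0, 0, 0, 0, 0, 0, 0, 0, 0, 0, 0, 0, 0, 0, 0, 0, 0, 0, 0, 0, 0, 0, 0, 0, 0, 0, 0, 0, 0, 0, 0, 0, 0, 0, 0, 0, 0, 0, 0, 0, 0, 0, 0, 0, 0, 0, 0,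 0, 0, 0, 0, 0, 0, 0, 0, 0, 0, 0, 0, 0, 0, 0, 0, 0, 0, 0, 0, 0, 0, 0, 0, 0, 0, 0, 0, 0, 0, 0, 0, 0, 0, 0, 0, 0, 0, 0, 0, 0, 0, 0, 0, 0, 0, 0, 0, 0, 0, 0, 0, 0, 0, 0, 0, 0, 0, 0, 0, 0, 0, 0, 0, 0, 0, 0, 0, 0, 0, 0, 0, 0, 0, 0, 0, 0, 0, 0, 0, 0, 0, 0, 0, 0, 0, 0, 0, 0, 0, 0, 0, 0, 0, 0, 0, 0, 0, 0, 0, 0, 0, 0, 0, 0, 0, 0, 0, 0, 0, 0, 0, 0, 0, 0, 0, 0, 0],
    [0, 0, 0, 0, 0, 0, 0, 0, 0, 0, 0, 0, 0, 0, 0, 0, 0, 0, 0, 0, 0, 0, 0, 0, 0, 0, 0, 0, 0, 0, 0, 0, 0, 0, 0, 0, 0, 0, 0, 0, 0, 0, 0, 0, 0, 0, 0, 0, 0, 0, 0, 0, 0, 0, 0, 0, 0, 0, 0, 0, 0, 0, 0, 0, 0, 0, 0, 0, 0, 0, 0, 0, 0, 0, 0, 0, 0, 0, 0, 0, 0, 0, 0, 0, 0, 0, 0, 0, 0, 0, 0, 0, 0, 0, 0, 0, 0, 0, 0, 0, 0, 0, 0, 0, 0, 0, 0, 0, 0, 0, 0, 0, 0, 0, 0, 0, 0, 0, 0, 0, 0, 0, 0, 0, 0, 0, 0, 0, 1, 0, 0,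 0, 0, 0, 0, 0, 0, 0, 0, 0, 0, 0, 0, 0, 0, 0, 0, 0, 0, 0, 0, 0, 0, 0, 0, 0, 0, 0, 0, 0, 0, 0, 0, 0, 0, 0, 0, 0, 0, 0, 0, 0, 0, 0, 0, 0, 0, 0, 0, 0, 0, 0, 0, 0, 0, 0, 0, 0, 0, 0, 0, 0, 1, 0, 0, 0, 0, 0, 0, 0, 0, 0, 0, 0, 0, 1, 0, 0, 0, 0, 0, 0, 0, 0, 0, 0, 0, 0, 0, 0, 0, 0, 0, 0, 0, 0, 0, 0, 0, 0, 0, 0, 0, 0, 0, 0, 0, 0, 0, 0, 0, 0, 0, 0, 0, 0, 0, 0, 0, 0, 0, 0, 0, 0, 0, 0, 0, 0, 0, 0, 0, 0, 0, 0, 0, 0, 0, 0, 0, 0, 0, 0, 0, 0, 0, 0, 0, 0, 0, 0, 0, 0, 0, 0, 0, 0, 0, 0, 0, 0, 0, 0, 0, 0, 0, 0, 0, 0, 0, 0, 0, 0, 0, 0, 0, 0, 0, 0, 0, 0, 0, 0, 0, 0, 0, 0, 0, 0, 0, 0, 0, 0, 0, 0, 0, 0, 0, 0, 0, 0, 0, 0, 0, 0, 0, 0, 0, 0, 0, 0, 0, 0, 0, 0, 0, 0, 0, 0, 0, 0, 0, 0, 0, 0, 0, 0, 0, 0, 0, 0, 0, 0, 0, 0, 0, 0, 0],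
    [0, 0, 0, 0, 0, 0, 0, 0, 0, 0, 0, 0, 0, 0, 0, 0, 0, 0, 0, 0, 0, 0, 0, 0, 0, 0, 0, 0, 0, 0, 0, 0, 0, 0, 0, 0, 0, 0, 0, 0, 0, 0, 0, 0, 0, 0, 0, 0, 0, 0, 0, 0, 0, 0, 0, 0, 0, 0, 0, 0, 0, 0, 0, 0, 0, 0, 0, 0, 0, 0, 0, 0, 0, 0, 0, 0, 0, 0, 0, 0, 0, 0, 0, 0, 0, 0, 0, 0, 0, 0, 0, 0, 0, 0, 0, 0, 0, 0, 0, 0, 0, 0, 0, 0, 0, 0, 0, 0, 0, 0, 0, 0, 0, 0, 0, 0, 0, 1, 0, 1, 0, 0, 0, 0, 0, 0, 0, 0, 0, 0, 0, 0, 0, 0, 0, 0, 0, 0, 0, 0, 0, 0, 0, 0, 0, 0, 0, 0, 0, 0, 0, 0, 0, 0, 0, 0, 0, 0, 0, 0, 0, 0, 0, 0, 0, 0, 0, 0, 0, 0, 0, 0, 0, 0, 0, 0, 0, 0, 0, 0, 0, 0, 0, 1, 0, 1, 0, 0, 0, 1, 0, 0, 0, 0, 0, 0, 0, 0, 0, 0, 0, 0, 0, 0, 0, 0, 0, 0, 0, 0, 0, 0, 0, 0, 0, 0, 0, 0, 0, 0, 0, 0, 0, 0, 0, 0, 0, 0, 0, 0, 0, 0, 0, 0, 0, 0, 0, 0, 0, 0, 0, 0, 0, 0, 0, 0, 0, 0, 0,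 0, 0, 0, 0, 0, 0, 0, 0, 0, 0, 0, 0, 0, 0, 0, 0, 0, 0, 0, 0, 0, 0, 0, 0, 0, 0, 0, 0, 0, 0, 0, 0, 0, 0, 0, 0, 0, 0, 0, 0, 0, 0, 0, 0, 0, 0, 0, 0, 0, 0, 0, 0, 0, 0, 0, 0, 0, 0, 0, 0, 0, 0, 0, 0, 0, 0, 0, 0, 0, 0, 0, 0, 0, 0, 0, 0, 0, 0, 0, 0, 0, 0, 0, 0, 0, 0, 0, 0, 0, 0, 0, 0, 0, 0, 0, 0, 0, 0, 0, 0, 0, 0, 0, 0, 0, 0, 0, 0, 0, 0, 0, 0, 0, 0, 0, 0, 0, 0]]

/-- part of the exponents -/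
def twoVecs14 : List (List ℤ) :=
  [[0, 0, 0, 0, 0, 0, 0, 0, 0, 0, 0, 0, 0, 0, 0, 0, 0, 0, 0, 0, 0, 0, 0, 0, 0, 0, 0, 0, 0, 0, 0, 0, 0, 0, 0, 0, 0, 0, 0, 0, 0, 0, 0, 0, 0, 0, 0, 0, 0, 0, 0, 0, 0, 0, 0, 0, 0, 0, 0, 0, 0, 0, 0, 0, 0, 0, 0, 0, 0, 0, 0, 0, 0, 0, 0, 0, 0, 0, 0, 0, 0, 0, 0, 0, 0, 0, 0, 0, 0, 0, 0, 0, 0, 0, 0, 0, 0, 0, 1, 0, 0, 0, 0, 0, 0, 0, 0, 0, 0, 0, 0, 0, 0, 0, 0, 0, 0, 0, 0, 0, 0, 0, 0, 0, 0, 0, 0, 0, 0, 0, 0, 0, 0, 0, 0, 0, 0, 0, 0, 0, 0, 0, 0, 0, 0, 0, 0, 0, 0, 0, 0, 0, 0, 1, 0, 0, 0, 0, 0, 0, 1, 0, 0, 0, 0, 0, 0, 0, 0, 0, 0, 0, 0, 0, 0, 0, 0, 0, 0, 0, 0, 0, 0, 0, 0, 0, 0, 0, 0, 0, 0, 0, 0, 0, 0, 0, 0, 0, 0, 0, 0, 0, 0, 0, 0, 0, 0, 0, 0, 0, 0, 0, 0, 0, 0, 0, 0, 0, 0, 0, 0, 0, 0, 0, 0, 0, 0, 0, 0, 0, 0, 0, 0, 0, 0, 0, 0, 0,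 0, 0, 0, 0, 0, 0, 0, 0, 0, 0, 0, 0, 0, 0, 0, 0, 0, 0, 0, 0, 0, 0, 0, 0, 0, 0, 0, 0, 0, 0, 0, 0, 0, 0, 0, 0, 0, 0, 0, 0, 0, 0, 0, 0, 0, 0, 0, 0, 0, 0, 0, 0, 0, 0, 0, 0, 0, 0, 0, 0, 0, 0, 0, 0, 0, 0, 0, 0, 0, 0, 0, 0, 0, 0, 0, 0, 0, 0, 0, 0, 0, 0, 0, 0, 0, 0, 0, 0, 0, 0, 0, 0, 0, 0, 0, 0, 0, 0, 0, 0, 0, 0, 0, 0, 0, 0, 0, 0, 0, 0, 0, 0, 0, 0, 0, 0, 0, 0, 0, 0, 0, 0, 0, 0, 0, 0, 0, 0, 0],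
    [0, 0, 0, 0, 0, 0, 0, 0, 0, 0, 0, 0, 0, 0, 0, 0, 0, 0, 0, 0, 0, 0, 0, 0, 0, 0, 0, 0, 0, 0, 0, 0, 0, 0, 0, 0, 0, 0, 0, 0, 0, 0, 0, 0, 0, 0, 0, 0, 0, 0, 0, 0, 0, 0, 0, 0, 0, 0, 0, 0, 0, 0, 0, 0, 0, 0, 0, 0, 0, 0, 0, 0, 0, 0, 0, 0, 0, 0, 0, 0, 0, 0, 0, 0, 0, 0, 0, 0, 0, 0, 0, 0, 0, 0, 0, 0, 0, 0, 0, 0, 0, 0, 0, 0, 0, 0, 0, 0, 0, 0, 0, 0, 0, 0, 0, 0, 0, 0, 0, 0, 0, 0, 0, 0, 0, 0, 0, 0, 0, 0, 0, 0, 0, 0, 0, 0, 0, 0, 0, 0, 0, 0, 0, 0, 0, 0, 0, 0, 0, 0, 0, 0, 0, 0, 0, 0, 0, 0, 0, 0, 0, 0, 1, 0, 0, 0, 0, 0, 0, 0, 0, 0, 0, 0, 0, 0, 0, 0, 0, 0, 0, 0, 0, 0, 0, 0, 0, 0, 0, 0, 0, 0, 0, 0, 0, 0, 0, 0, 0, 0, 0, 0, 0, 0, 0, 0, 0, 0, 0, 0, 0, 0, 0, 0, 0, 0, 1, 0, 0, 0, 0, 0, 0, 0, 0, 0, 0, 1, 0, 0, 0, 0, 0, 0, 0, 0, 0, 0, 0, 0, 0, 0, 0, 0, 0, 0, 0, 0, 0,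 0, 0, 0, 0, 0, 0, 0, 0, 0, 0, 0, 0, 0, 0, 0, 0, 0, 0, 0, 0, 0, 0, 0, 0, 0, 0, 0, 0, 0, 0, 0, 0, 0, 0, 0, 0, 0, 0, 0, 0, 0, 0, 0, 0, 0, 0, 0, 0, 0, 0, 0, 0, 0, 0, 0, 0, 0, 0, 0, 0, 0, 0, 0, 0, 0, 0, 0, 0, 0, 0, 0, 0, 0, 0, 0, 0, 0, 0, 0, 0, 0, 0, 0, 0, 0, 0, 0, 0, 0, 0, 0, 0, 0, 0, 0, 0, 0, 0, 0, 0, 0, 0, 0, 0, 0, 0, 0, 0, 0, 0, 0, 0, 0, 0, 0, 0, 0, 0],
    [0, 0, 0, 0, 0, 0, 0, 0, 0, 0, 0, 0, 0, 0, 0, 0, 0, 0, 0, 0, 0, 0, 0, 0, 0, 0, 0, 0, 0, 0, 0, 0, 0, 0, 0, 0, 0, 0, 0, 0, 0, 0, 0, 0, 0, 0, 0, 0, 0, 0, 0, 0, 0, 0, 0, 0, 0, 0, 0, 0, 0, 0, 0, 0, 0, 0, 0, 0, 0, 0, 0, 0, 0, 0, 0, 0, 0, 0, 0, 0, 0, 0, 0, 0, 0, 0, 0, 0, 0, 0, 0, 0, 0, 0, 0, 0, 0, 0, 0, 0, 0, 0, 0, 0, 0, 0, 0, 0, 0, 0, 0, 0, 0, 0, 0, 0, 0, 0, 0, 0, 0, 0, 0, 0, 0, 0, 0, 0, 0, 0, 0,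 0, 0, 0, 0, 0, 0, 0, 0, 0, 0, 0, 0, 0, 0, 0, 0, 0, 0, 0, 0, 0, 0, 0, 0, 0, 0, 0, 0, 0, 0, 0, 0, 1, 0, 0, 0, 0, 0, 0, 0, 0, 0, 0, 0, 0, 0, 0, 0, 0, 0, 0, 0, 0, 1, 0, 0, 0, 1, 0, 0, 0, 0, 0, 0, 0, 0, 0, 0, 0, 0, 0, 0, 0, 0, 0, 0, 0, 0, 0, 0, 0, 0, 0, 0, 0, 0, 0, 0, 0, 0, 0, 0, 0, 0, 0, 0, 0, 0, 0, 0, 0, 0, 0, 0, 0, 0, 0, 0, 0, 0, 0, 0, 0, 0, 0, 0, 0, 0, 0, 0, 0, 0, 0, 0, 0, 0, 0, 0, 0, 0, 0, 0, 0, 0, 0, 0, 0, 0, 0, 0, 0, 0, 0, 0, 0, 0, 0, 0, 0, 0, 0, 0, 0, 0, 0, 0, 0, 0, 0, 0, 0, 0, 0, 0, 0, 0, 0, 0, 0, 0, 0, 0, 0, 0, 0, 0, 0, 0, 0, 0, 0, 0, 0, 0, 0, 0, 0, 0, 0, 0, 0, 0, 0, 0, 0, 0, 0, 0, 0, 0, 0, 0, 0, 0, 0, 0, 0, 0, 0, 0, 0, 0, 0, 0, 0, 0, 0, 0, 0, 0, 0, 0, 0, 0, 0, 0, 0, 0, 0, 0, 0, 0, 0, 0, 0, 0],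
    [0, 0, 0, 0, 0, 0, 0, 0, 0, 0, 0, 0, 0, 0, 0, 0, 0, 0, 0, 0, 0, 0, 0, 0, 0, 0, 0, 0, 0, 0, 0, 0, 0, 0, 0, 0, 0, 0, 0, 0, 0, 0, 0, 0, 0, 0, 0, 0, 0, 0, 0, 0, 0, 0, 0, 0, 0, 0, 0, 0, 0, 0, 0, 0, 0, 0, 0, 0, 0, 0, 0, 0, 0, 0, 0, 0, 0, 0, 0, 0, 0, 0, 0, 0, 0, 0, 0, 0, 0, 0, 0, 0, 0, 0, 0, 0, 0, 0, 0, 0, 0, 0, 0, 0, 0, 0, 0, 0, 0, 0, 0, 0, 0, 0, 0, 0, 0, 0, 0, 0, 0, 0, 0, 0, 0, 0, 0, 0, 0, 0, 0, 0, 0, 0, 0, 0, 0, 0, 0, 0, 0, 0, 0, 0, 0, 0, 0, 0, 0, 0, 0, 0, 0, 0, 0, 0, 0, 0, 0, 0, 0, 0, 0, 0, 0, 0, 0, 0, 0, 0, 0, 0, 0, 0, 0, 0, 0, 0, 0, 0, 0, 0, 0, 0, 1, 0, 0, 0, 0, 0, 0, 0, 0, 0, 0, 0, 0, 0, 0, 0, 0, 0, 0, 0, 0, 0, 0, 0, 0, 0, 0, 0, 0, 0, 0, 0, 0, 0, 0, 0, 1, 0, 0, 0, 0, 0, 0, 0, 1, 0, 0, 0, 0, 0, 0, 0, 0, 0, 0, 0, 0, 0, 0, 0, 0, 0, 0, 0, 0,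 0, 0, 0, 0, 0, 0, 0, 0, 0, 0, 0, 0, 0, 0, 0, 0, 0, 0, 0, 0, 0, 0, 0, 0, 0, 0, 0, 0, 0, 0, 0, 0, 0, 0, 0, 0, 0, 0, 0, 0, 0, 0, 0, 0, 0, 0, 0, 0, 0, 0, 0, 0, 0, 0, 0, 0, 0, 0, 0, 0, 0, 0, 0, 0, 0, 0, 0, 0, 0, 0, 0, 0, 0, 0, 0, 0, 0, 0, 0, 0, 0, 0, 0, 0, 0, 0, 0, 0, 0, 0, 0, 0, 0, 0, 0, 0, 0, 0, 0, 0, 0, 0, 0, 0, 0, 0, 0, 0, 0, 0, 0, 0, 0, 0, 0, 0, 0, 0],
    [0, 0, 0, 0, 0, 0, 0, 0, 0, 0, 0, 0, 0, 0, 0, 0, 0, 0, 0, 0, 0, 0, 0, 0, 0, 0, 0, 0, 0, 0, 0, 0, 0, 0, 0, 0, 0, 0, 0, 0, 0, 0, 0, 0, 0, 0, 0, 0, 0, 0, 0, 0, 0, 0, 0, 0, 0, 0, 0, 0, 0, 0, 0, 0, 0, 0, 0, 0, 0, 0, 0, 0, 0, 0, 0, 0, 0, 0, 0, 0, 0, 0, 0, 0, 0, 0, 0, 0, 0, 0, 0, 0, 0, 0, 0, 0, 0, 0, 0, 0, 0, 0, 0, 0, 0, 0, 0, 0, 0, 0, 0, 0, 0, 0, 0, 0, 0, 0, 0, 0, 0, 0, 0, 0, 0, 0, 0, 0, 0, 0, 0,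 0, 0, 0, 0, 0, 0, 0, 0, 0, 0, 0, 0, 0, 0, 0, 0, 0, 0, 0, 0, 0, 0, 0, 0, 0, 0, 0, 0, 0, 0, 0, 0, 0, 1, 0, 0, 0, 0, 0, 0, 0, 0, 0, 0, 0, 0, 0, 0, 0, 0, 0, 0, 0, 1, 0, 0, 0, 1, 0, 0, 0, 0, 0, 0, 0, 0, 0, 0, 0, 0, 0, 0, 0, 0, 0, 0, 0, 0, 0, 0, 0, 0, 0, 0, 0, 0, 0, 0, 0, 0, 0, 0, 0, 0, 0, 0, 0, 0, 0, 0, 0, 0, 0, 0, 0, 0, 0, 0, 0, 0, 0, 0, 0, 0, 0, 0, 0, 0, 0, 0, 0, 0, 0, 0, 0, 0, 0, 0, 0, 0, 0, 0, 0, 0, 0, 0, 0, 0, 0, 0, 0, 0, 0, 0, 0, 0, 0, 0, 0, 0, 0, 0, 0, 0, 0, 0, 0, 0, 0, 0, 0, 0, 0, 0, 0, 0, 0, 0, 0, 0, 0, 0, 0, 0, 0, 0, 0, 0, 0, 0, 0, 0, 0, 0, 0, 0, 0, 0, 0, 0, 0, 0, 0, 0, 0, 0, 0, 0, 0, 0, 0, 0, 0, 0, 0, 0, 0, 0, 0, 0, 0, 0, 0, 0, 0, 0, 0, 0, 0, 0, 0, 0, 0, 0, 0, 0, 0, 0, 0, 0, 0, 0, 0, 0, 0, 0],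
    [0, 0, 0, 0, 0, 0, 0, 0, 0, 0, 0, 0, 0, 0, 0, 0, 0, 0, 0, 0, 0, 0, 0, 0, 0, 0, 0, 0, 0, 0, 0, 0, 0, 0, 0, 0, 0, 0, 0, 0, 0, 0, 0, 0, 0, 0, 0, 0, 0, 0, 0, 0, 0, 0, 0, 0, 0, 0, 0, 0, 0, 0, 0, 0, 0, 0, 0, 0, 0, 0, 0, 0, 0, 0, 0, 0, 0, 0, 0, 0, 0, 0, 0, 0, 0, 0, 0, 0, 0, 0, 0, 0, 0, 0, 0, 0, 0, 0, 0, 0, 0, 0, 0, 0, 0, 0, 0, 0, 0, 0, 0, 0, 0, 0, 0, 0, 0, 0, 0, 0, 0, 0, 0, 0, 0, 0, 0, 0, 0, 0, 0, 0, 0, 0, 0, 0, 0, 0, 0, 0, 0, 0, 0, 0, 0, 0, 0, 0, 0, 0, 0, 0, 0, 0, 0, 0, 0, 0, 0, 0, 0, 0, 0, 0, 0, 1, 0, 0, 0, 0, 0, 0, 0, 0, 0, 0, 0, 0, 0, 0, 0, 0, 0, 0, 0, 0, 0, 0, 0, 0, 0, 0, 0, 0, 0, 0, 0, 0, 0, 0, 0, 0, 0, 1, 0, 0, 0, 1, 0, 0, 0, 0, 0, 0, 0, 0, 0, 0, 0, 0, 0, 0, 0, 0, 0, 0, 0, 0, 0, 0, 0, 0, 0, 0, 0, 0, 0, 0, 0, 0, 0, 0, 0, 0, 0, 0, 0, 0, 0,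 0, 0, 0, 0, 0, 0, 0, 0, 0, 0, 0, 0, 0, 0, 0, 0, 0, 0, 0, 0, 0, 0, 0, 0, 0, 0, 0, 0, 0, 0, 0, 0, 0, 0, 0, 0, 0, 0, 0, 0, 0, 0, 0, 0, 0, 0, 0, 0, 0, 0, 0, 0, 0, 0, 0, 0, 0, 0, 0, 0, 0, 0, 0, 0, 0, 0, 0, 0, 0, 0, 0, 0, 0, 0, 0, 0, 0, 0, 0, 0, 0, 0, 0, 0, 0, 0, 0, 0, 0, 0, 0, 0, 0, 0, 0, 0, 0, 0, 0, 0, 0, 0, 0, 0, 0, 0, 0, 0, 0, 0, 0, 0, 0, 0, 0, 0, 0, 0],
    [0, 0, 0, 0, 0, 0, 0, 0, 0, 0, 0, 0, 0, 0, 0, 0, 0, 0, 0, 0, 0, 0, 0, 0, 0, 0, 0, 0, 0, 0, 0, 0, 0, 0, 0, 0, 0, 0, 0, 0, 0, 0, 0, 0, 0, 0, 0, 0, 0, 0, 0, 0, 0, 0, 0, 0, 0, 0, 0, 0, 0, 0, 0, 0, 0, 0, 0, 0, 0, 0, 0, 0, 0, 0, 0, 0, 0, 0, 0, 0, 0, 0, 0, 0, 0, 0, 0, 0, 0, 0, 0, 0, 0, 0, 0, 0, 0, 0, 0, 0, 0, 0, 0, 0, 0, 0, 0, 0, 0, 0, 0, 0, 0, 0, 0, 0, 0, 0, 0, 0, 0, 0, 0, 0, 0, 0, 0, 0, 0, 0, 0,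 0, 0, 0, 0, 0, 0, 0, 0, 0, 0, 0, 0, 0, 0, 0, 0, 0, 0, 0, 0, 0, 0, 0, 0, 0, 0, 0, 0, 0, 0, 0, 0, 0, 0, 0, 0, 0, 0, 0, 0, 0, 0, 0, 0, 0, 0, 0, 0, 0, 0, 0, 0, 0, 0, 0, 0, 0, 0, 0, 0, 0, 0, 0, 0, 0, 0, 0, 0, 0, 0, 0, 0, 0, 0, 0, 0, 0, 0, 0, 0, 0, 0, 1, 0, 0, 0, 0, 0, 0, 0, 0, 0, 0, 0, 0, 0, 0, 0, 0, 1, 0, 0, 0, 1, 0, 0, 0, 0, 0, 0, 0, 0, 0, 0, 0, 0, 0, 0, 0, 0, 1, 1, 0, 0, 0, 0, 0, 0, 0, 0, 0, 0, 0, 0, 0, 0, 0, 0, 0, 0, 0, 0, 0, 0, 0, 0, 0, 0, 0, 0, 0, 0, 0, 0, 0, 0, 0, 0, 0, 0, 0, 0, 0, 0, 0, 0, 0, 0, 0, 0, 0, 0, 0, 0, 0, 0, 0, 0, 0, 0, 0, 0, 0, 0, 0, 0, 0, 0, 0, 0, 0, 0, 0, 0, 0, 0, 0, 0, 0, 0, 0, 0, 0, 0, 0, 0, 0, 0, 0, 0, 0, 0, 0, 0, 0, 0, 0, 0, 0, 0, 0, 0, 0, 0, 0, 0, 0, 0, 0, 0, 0, 0, 0, 0, 0, 0],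
    [0, 0, 0, 0, 0, 0, 0, 0, 0, 0, 0, 0, 0, 0, 0, 0, 0, 0, 0, 0, 0, 0, 0, 0, 0, 0, 0, 0, 0, 0, 0, 0, 0, 0, 0, 0, 0, 0, 0, 0, 0, 0, 0, 0, 0, 0, 0, 0, 0, 0, 0, 0, 0, 0, 0, 0, 0, 0, 0, 0, 0, 0, 0, 0, 0, 0, 0, 0, 0, 0, 0, 0, 0, 0, 0, 0, 0, 0, 0, 0, 0, 0, 0, 0, 0, 0, 0, 0, 0, 0, 0, 0, 0, 0, 0, 0, 0, 0, 0, 0, 0, 0, 0, 0, 0, 0, 0, 0, 0, 0, 0, 0, 0, 0, 0, 0, 0, 0, 0, 0, 0, 0, 0, 0, 0, 0, 0, 0, 0, 0, 0, 0, 0, 0, 0, 0, 0, 0, 0, 0, 0, 0, 0, 0, 0, 0, 0, 0, 0, 0, 0, 0, 0, 0, 0, 0, 0, 0, 0, 0, 0, 0, 0, 0, 0, 0, 0, 0, 0, 0, 0, 0, 0, 0, 0, 0, 0, 0, 0, 0, 0, 0, 0, 0, 0, 0, 0, 0, 0, 0, 0, 0, 0, 0, 0, 0, 0, 0, 0, 0, 0, 0, 0, 0, 0, 0, 0, 0, 0, 0, 0, 1, 0, 0, 0, 0, 0, 0, 0, 0, 0, 0, 0, 0, 0, 0, 0, 0, 0, 0, 1, 0, 1, 0, 0, 0, 0, 0, 0, 0, 0, 0, 0, 0, 0, 0, 0, 0, 0,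 0, 0, 1, 1, 0, 0, 0, 0, 0, 0, 0, 0, 0, 0, 0, 0, 0, 0, 0, 0, 0, 0, 0, 0, 0, 0, 0, 0, 0, 0, 0, 0, 0, 0, 0, 0, 0, 0, 0, 0, 0, 0, 0, 0, 0, 0, 0, 0, 0, 0, 0, 0, 0, 0, 0, 0, 0, 0, 0, 0, 0, 0, 0, 0, 0, 0, 0, 0, 0, 0, 0, 0, 0, 0, 0, 0, 0, 0, 0, 0, 0, 0, 0, 0, 0, 0, 0, 0, 0, 0, 0, 0, 0, 0, 0, 0, 0, 0, 0, 0, 0, 0, 0, 0, 0, 0, 0, 0, 0, 0, 0, 0, 0, 0, 0, 0, 0, 0],
    [0, 0, 0, 0, 0, 0, 0, 0, 0, 0, 0, 0, 0, 0, 0, 0, 0, 0, 0, 0, 0, 0, 0, 0, 0, 0, 0, 0, 0, 0, 0, 0, 0, 0, 0, 0, 0, 0, 0, 0, 0, 0, 0, 0, 0, 0, 0, 0, 0, 0, 0, 0, 0, 0, 0, 0, 0, 0, 0, 0, 0, 0, 0, 0, 0, 0, 0, 0, 0, 0, 0, 0, 0, 0, 0, 0, 0, 0, 0, 0, 0, 0, 0, 0, 0, 0, 0, 0, 0, 0, 0, 0, 0, 0, 0, 0, 0, 0, 0, 0, 0, 0, 0, 0, 0, 0, 0, 0, 0, 0, 0, 0, 0, 0, 0, 0, 0, 0, 0, 0, 0, 0, 0, 0, 0, 0, 0, 0, 0, 0, 0,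 0, 0, 0, 0, 0, 0, 0, 0, 0, 0, 0, 0, 0, 0, 0, 0, 0, 0, 0, 0, 0, 0, 0, 0, 0, 0, 0, 0, 0, 0, 0, 0, 0, 0, 0, 0, 0, 0, 0, 0, 0, 0, 0, 0, 0, 0, 0, 0, 0, 0, 0, 0, 0, 0, 0, 0, 0, 0, 0, 0, 0, 0, 0, 1, 0, 0, 0, 0, 0, 0, 0, 0, 0, 0, 0, 0, 0, 0, 1, 0, 0, 0, 0, 1, 0, 0, 0, 0, 0, 0, 0, 0, 0, 0, 0, 0, 0, 0, 1, 1, 0, 0, 0, 0, 0, 0, 0, 0, 0, 0, 0, 0, 0, 0, 0, 0, 0, 0, 0, 0, 0, 0, 0, 0, 0, 0, 0, 0, 0, 0, 0, 0, 0, 0, 0, 0, 0, 0, 0, 0, 0, 0, 0, 0, 0, 0, 0, 0, 0, 0, 0, 0, 0, 0, 0, 0, 0, 0, 0, 0, 0, 0, 0, 0, 0, 0, 0, 0, 0, 0, 0, 0, 0, 0, 0, 0, 0, 0, 0, 0, 0, 0, 0, 0, 0, 0, 0, 0, 0, 0, 0, 0, 0, 0, 0, 0, 0, 0, 0, 0, 0, 0, 0, 0, 0, 0, 0, 0, 0, 0, 0, 0, 0, 0, 0, 0, 0, 0, 0, 0, 0, 0, 0, 0, 0, 0, 0, 0, 0, 0, 0, 0, 0, 0, 0, 0],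
    [0, 0, 0, 0, 0, 0, 0, 0, 0, 0, 0, 0, 0, 0, 0, 0, 0, 0, 0, 0, 0, 0, 0, 0, 0, 0, 0, 0, 0, 0, 0, 0, 0, 0, 0, 0, 0, 0, 0, 0, 0, 0, 0, 0, 0, 0, 0, 0, 0, 0, 0, 0, 0, 0, 0, 0, 0, 0, 0, 0, 0, 0, 0, 0, 0, 0, 0, 0, 0, 0, 0, 0, 0, 0, 0, 0, 0, 0, 0, 0, 0, 0, 0, 0, 0, 0, 0, 0, 0, 0, 0, 0, 0, 0, 0, 0, 0, 0, 0, 0, 0, 0, 0, 0, 0, 0, 0, 0, 0, 0, 0, 0, 0, 0, 0, 0, 0, 0, 0, 0, 0, 0, 0, 0, 0, 0, 0, 0, 0, 0, 0, 0, 0, 0, 0, 0, 0, 0, 0, 0, 0, 0, 0, 0, 0, 0, 0, 0, 0, 0, 0, 0, 0, 0, 0, 0, 0, 0, 0, 0, 0, 0, 0, 0, 0, 0, 0, 0, 0, 0, 0, 0, 0, 0, 0, 0, 0, 0, 0, 0, 0, 0, 0, 0, 0, 0, 0, 0, 1, 0, 0, 0, 0, 0, 0, 0, 0, 0, 0, 0, 0, 0, 0, 0, 0, 0, 0, 0, 0, 0, 0, 0, 0, 0, 0, 0, 0, 0, 0, 0, 0, 0, 0, 0, 0, 0, 0, 0, 0, 0, 0, 0, 0, 0, 0, 0, 0, 0, 0, 0, 0, 1, 0, 0, 0, 0, 0, 0, 0,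 1, 0, 0, 0, 0, 0, 0, 0, 0, 0, 0, 0, 0, 0, 0, 0, 0, 0, 0, 0, 0, 0, 0, 0, 0, 0, 0, 0, 0, 0, 0, 0, 0, 0, 0, 0, 0, 0, 0, 0, 0, 0, 0, 0, 0, 0, 0, 0, 0, 0, 0, 0, 0, 0, 0, 0, 0, 0, 0, 0, 0, 0, 0, 0, 0, 0, 0, 0, 0, 0, 0, 0, 0, 0, 0, 0, 0, 0, 0, 0, 0, 0, 0, 0, 0, 0, 0, 0, 0, 0, 0, 0, 0, 0, 0, 0, 0, 0, 0, 0, 0, 0, 0, 0, 0, 0, 0, 0, 0, 0, 0, 0, 0, 0, 0, 0, 0, 0]]

/-- part of the exponents -/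
def twoVecs15 : List (List ℤ) :=
  [[0, 0, 0, 0, 0, 0, 0, 0, 0, 0, 0, 0, 0, 0, 0, 0, 0, 0, 0, 0, 0, 0, 0, 0, 0, 0, 0, 0, 0, 0, 0, 0, 0, 0, 0, 0, 0, 0, 0, 0, 0, 0, 0, 0, 0, 0, 0, 0, 0, 0, 0, 0, 0, 0, 0, 0, 0, 0, 0, 0, 0, 0, 0, 0, 0, 0, 0, 0, 0, 0, 0, 0, 0, 0, 0, 0, 0, 0, 0, 0, 0, 0, 0, 0, 0, 0, 0, 0, 0, 0, 0, 0, 0, 0, 0, 0, 0, 0, 0, 0, 0, 0, 0, 0, 0, 0, 0, 0, 0, 0, 0, 0, 0, 0, 0, 0, 0, 0, 0, 0, 0, 0, 0, 0, 0, 0, 0, 0, 0, 0, 0, 0, 0, 0, 0, 0, 0, 0, 0, 0, 0, 0, 0, 0, 0, 0, 0, 0, 0, 0, 0, 0, 0, 0, 0, 0, 0, 0, 0, 0, 0, 0, 0, 0, 0, 0, 0, 0, 0, 0, 0, 0, 0, 0, 0, 0, 0, 0, 0, 0, 0, 0, 0, 0, 0, 0, 0, 0, 0, 0, 0, 0, 0, 0, 0, 0, 0, 0, 0, 0, 0, 0, 0, 0, 0, 0, 0, 0, 0, 0, 0, 0, 0, 0, 0, 0, 0, 1, 0, 0, 0, 0, 0, 0, 0, 0, 0, 0, 0, 0, 0, 0, 0, 0, 1, 0, 0, 0,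 1, 0, 0, 0, 0, 0, 0, 0, 0, 0, 0, 0, 0, 0, 0, 0, 0, 0, 0, 0, 0, 0, 0, 0, 0, 0, 0, 0, 0, 0, 0, 0, 0, 0, 0, 0, 0, 0, 0, 0, 0, 0, 0, 0, 0, 0, 0, 0, 0, 0, 0, 0, 0, 0, 0, 0, 0, 0, 0, 0, 0, 0, 0, 0, 0, 0, 0, 0, 0, 0, 0, 0, 0, 0, 0, 0, 0, 0, 0, 0, 0, 0, 0, 0, 0, 0, 0, 0, 0, 0, 0, 0, 0, 0, 0, 0, 0, 0, 0, 0, 0, 0, 0, 0, 0, 0, 0, 0, 0, 0, 0, 0, 0, 0, 0, 0, 0, 0, 0, 0, 0, 0, 0, 0, 0, 0, 0, 0, 0],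
    [0, 0, 0, 0, 0, 0, 0, 0, 1, 0, 1, 0, 1, 0, 0, 0, 0, 0, 0, 1, 0, 0, 0, 0, 0, 0, 0, 0, 0, 0, 0, 0, 0, 0, 0, 0, 0, 0, 0, 0, 0, 0, 0, 0, 0, 0, 0, 0, 0, 0, 0, 0, 0, 0, 0, 0, 0, 0, 0, 0, 0, 0, 0, 0, 0, 0, 0, 0, 0, 0, 0, 0, 0, 0, 0, 0, 0, 0, 0, 0, 0, 0, 0, 0, 0, 0, 0, 0, 0, 0, 0, 0, 0, 0, 0, 0, 0, 0, 0, 0, 0, 0, 0, 0, 0, 0, 0, 0, 0, 0, 0, 0, 0, 0, 0, 0, 0, 0, 0, 0, 0, 0, 0, 0, 0, 0, 0, 0, 0, 0, 0, 0, 0, 0, 0, 0, 0, 0, 0, 0, 0, 0, 0, 0, 0, 0, 0, 0, 0, 0, 0, 0, 0, 0, 0, 0, 0, 0, 0, 0, 0, 0, 0, 0, 0, 0, 0, 0, 0, 0, 0, 0, 0, 0, 0, 0, 0, 0, 0, 0, 0, 0, 0, 0, 0, 0, 0, 0, 0, 0, 0, 0, 0, 0, 0, 0, 0, 0, 0, 0, 0, 0, 0, 0, 0, 0, 0, 0, 0, 0, 0, 0, 0, 0, 0, 0, 0, 0, 0, 0, 0, 0, 0, 0, 0, 0, 0, 0, 0, 0, 0, 0, 0, 0, 0, 0, 0, 0, 0, 0, 0, 0, 0, 0, 0, 0, 0, 0, 0,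 0, 0, 0, 0, 0, 0, 0, 0, 0, 0, 0, 0, 0, 0, 0, 0, 0, 0, 0, 0, 0, 0, 0, 0, 0, 0, 0, 0, 0, 0, 0, 0, 0, 0, 0, 0, 0, 0, 0, 0, 0, 0, 0, 0, 0, 0, 0, 0, 0, 0, 0, 0, 0, 0, 0, 0, 0, 0, 0, 0, 0, 0, 0, 0, 0, 0, 0, 0, 0, 0, 0, 0, 0, 0, 0, 0, 0, 0, 0, 0, 0, 0, 0, 0, 0, 0, 0, 0, 0, 0, 0, 0, 0, 0, 0, 0, 0, 0, 0, 0, 0, 0, 0, 0, 0, 0, 0, 0, 0, 0, 0, 0, 0, 0, 0, 0, 0, 0],
    [0, 0, 0, 0, 0, 0, 0, 0, 0, 0, 0, 0, 0, 0, 0, 0, 0, 0, 0, 0, 0, 0, 0, 0, 0, 0, 0, 0, 0, 0, 0, 0, 0, 0, 0, 0, 0, 0, 0, 0, 0, 0, 0, 0, 0, 0, 0, 0, 0, 0, 0, 0, 0, 0, 0, 0, 0, 0, 0, 0, 0, 0, 0, 0, 0, 0, 0, 0, 0, 0, 0, 0, 0, 0, 1, 0, 0, 0, 0, 0, 0, 0, 0, 0, 0, 0, 0, 0, 0, 0, 0, 0, 0, 0, 0, 0, 0, 0, 0, 0, 0, 0, 0, 0, 0, 0, 0, 0, 0, 0, 0, 0, 0, 0, 0, 0, 0, 0, 0, 0, 0, 0, 0, 0, 0, 0, 0, 0, 0, 0, 0,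 0, 0, 0, 0, 0, 0, 0, 0, 0, 0, 0, 0, 0, 0, 0, 0, 0, 0, 0, 0, 0, 0, 0, 0, 0, 0, 0, 0, 0, 0, 0, 0, 0, 0, 0, 0, 0, 0, 0, 0, 0, 0, 1, 0, 0, 0, 0, 0, 1, 0, 0, 0, 0, 0, 0, 0, 0, 0, 0, 0, 0, 0, 0, 0, 0, 0, 0, 0, 0, 0, 0, 0, 0, 0, 0, 0, 0, 0, 0, 0, 0, 0, 0, 0, 0, 0, 0, 0, 0, 0, 0, 0, 0, 0, 0, 0, 0, 1, 0, 0, 0, 0, 0, 0, 0, 0, 0, 0, 0, 0, 0, 0, 0, 0, 0, 0, 0, 0, 0, 0, 0, 0, 0, 0, 0, 0, 0, 0, 0, 0, 0, 0, 0, 0, 0, 0, 0, 0, 0, 0, 0, 0, 0, 0, 0, 0, 0, 0, 0, 0, 0, 0, 0, 0, 0, 0, 0, 0, 0, 0, 0, 0, 0, 0, 0, 0, 0, 0, 0, 0, 0, 0, 0, 0, 0, 0, 0, 0, 0, 0, 0, 0, 0, 0, 0, 0, 0, 0, 0, 0, 0, 0, 0, 0, 0, 0, 0, 0, 0, 0, 0, 0, 0, 0, 0, 0, 0, 0, 0, 0, 0, 0, 0, 0, 0, 0, 0, 0, 0, 0, 0, 0, 0, 0, 0, 0, 0, 0, 0, 0, 0, 0, 0, 0, 0, 0],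
    [0, 0, 0, 0, 0, 0, 0, 0, 0, 0, 0, 0, 0, 0, 0, 0, 0, 0, 0, 0, 0, 0, 0, 0, 0, 0, 0, 0, 0, 0, 0, 0, 0, 0, 0, 0, 0, 0, 0, 0, 0, 0, 0, 0, 0, 0, 0, 0, 0, 0, 0, 0, 0, 0, 0, 0, 0, 0, 0, 0, 0, 0, 0, 0, 0, 0, 0, 0, 0, 0, 0, 0, 0, 0, 0, 0, 0, 0, 0, 0, 0, 0, 0, 0, 0, 0, 0, 0, 0, 0, 0, 0, 0, 0, 0, 0, 0, 0, 0, 0, 1, 0, 0, 0, 0, 0, 0, 0, 0, 0, 0, 0, 0, 0, 0, 0, 0, 0, 0, 0, 0, 0, 0, 0, 0, 0, 0, 0, 0, 0, 0, 0, 0, 0, 0, 0, 0, 0, 0, 0, 0, 0, 0, 0, 0, 0, 0, 0, 0, 0, 0, 0, 0, 0, 1, 0, 0, 0, 0, 0, 0, 0, 1, 0, 0, 0, 0, 0, 0, 0, 0, 0, 0, 0, 0, 0, 0, 0, 0, 0, 0, 0, 0, 0, 0, 0, 0, 0, 0, 0, 0, 0, 0, 0, 0, 0, 0, 0, 0, 0, 0, 0, 0, 0, 0, 0, 0, 0, 0, 0, 0, 0, 0, 0, 0, 0, 0, 0, 0, 0, 0, 0, 0, 0, 0, 0, 0, 1, 0, 0, 0, 0, 0, 0, 0, 0, 0, 0, 0, 0, 0, 0, 0, 0, 0, 0, 0, 0, 0,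 0, 0, 0, 0, 0, 0, 0, 0, 0, 0, 0, 0, 0, 0, 0, 0, 0, 0, 0, 0, 0, 0, 0, 0, 0, 0, 0, 0, 0, 0, 0, 0, 0, 0, 0, 0, 0, 0, 0, 0, 0, 0, 0, 0, 0, 0, 0, 0, 0, 0, 0, 0, 0, 0, 0, 0, 0, 0, 0, 0, 0, 0, 0, 0, 0, 0, 0, 0, 0, 0, 0, 0, 0, 0, 0, 0, 0, 0, 0, 0, 0, 0, 0, 0, 0, 0, 0, 0, 0, 0, 0, 0, 0, 0, 0, 0, 0, 0, 0, 0, 0, 0, 0, 0, 0, 0, 0, 0, 0, 0, 0, 0, 0, 0, 0, 0, 0, 0],
    [0, 0, 0, 0, 0, 0, 0, 0, 0, 0, 0, 0, 0, 0, 0, 0, 0, 0, 0, 0, 0, 0, 0, 0, 0, 0, 0, 0, 0, 0, 0, 0, 0, 0, 0, 0, 0, 0, 0, 0, 0, 0, 0, 0, 0, 0, 0, 0, 0, 0, 0, 0, 0, 0, 0, 0, 0, 0, 0, 0, 0, 0, 0, 0, 0, 0, 0, 0, 0, 0, 0, 0, 0, 0, 0, 0, 0, 0, 0, 0, 0, 0, 0, 0, 0, 0, 0, 0, 0, 0, 0, 0, 0, 0, 0, 0, 0, 0, 0, 0, 0, 0, 0, 0, 0, 0, 0, 0, 0, 0, 0, 0, 0, 0, 0, 0, 0, 0, 0, 0, 0, 0, 0, 0, 0, 0, 0, 0, 0, 0, 0,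 0, 0, 0, 0, 0, 0, 0, 0, 0, 0, 0, 0, 0, 0, 0, 0, 0, 0, 0, 0, 0, 0, 0, 0, 0, 0, 0, 0, 1, 0, 0, 0, 0, 0, 0, 0, 0, 0, 0, 0, 0, 0, 0, 0, 0, 0, 0, 1, 0, 0, 0, 0, 0, 0, 0, 0, 0, 1, 0, 0, 0, 0, 0, 0, 0, 0, 0, 0, 0, 0, 0, 0, 0, 0, 0, 0, 0, 0, 0, 0, 0, 0, 0, 0, 0, 1, 0, 0, 0, 0, 0, 0, 0, 0, 0, 0, 0, 1, 0, 0, 0, 0, 0, 0, 0, 0, 0, 0, 0, 0, 0, 0, 0, 0, 0, 0, 0, 0, 0, 0, 0, 0, 0, 0, 0, 0, 0, 0, 0, 0, 0, 0, 0, 0, 0, 0, 0, 0, 0, 0, 0, 0, 0, 0, 0, 0, 0, 0, 0, 0, 0, 0, 0, 0, 0, 0, 0, 0, 0, 0, 0, 0, 0, 0, 0, 0, 0, 0, 0, 0, 0, 0, 0, 0, 0, 0, 0, 0, 0, 0, 0, 0, 0, 0, 0, 0, 0, 0, 0, 0, 0, 0, 0, 0, 0, 0, 0, 0, 0, 0, 0, 0, 0, 0, 0, 0, 0, 0, 0, 0, 0, 0, 0, 0, 0, 0, 0, 0, 0, 0, 0, 0, 0, 0, 0, 0, 0, 0, 0, 0, 0, 0, 0, 0, 0, 0],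
    [0, 0, 0, 0, 0, 0, 0, 0, 0, 0, 0, 0, 0, 0, 0, 0, 0, 0, 0, 0, 0, 0, 0, 0, 0, 0, 0, 0, 0, 0, 0, 0, 0, 0, 0, 0, 0, 0, 0, 0, 0, 0, 0, 0, 0, 0, 0, 0, 0, 0, 0, 0, 0, 0, 0, 0, 0, 0, 0, 0, 0, 0, 0, 0, 0, 0, 0, 0, 0, 0, 0, 0, 0, 0, 0, 0, 0, 0, 0, 0, 0, 0, 0, 0, 0, 0, 0, 0, 0, 0, 0, 0, 0, 0, 0, 0, 0, 0, 0, 0, 0, 0, 0, 0, 0, 0, 0, 0, 0, 0, 1, 0, 0, 0, 0, 0, 0, 0, 0, 0, 0, 0, 0, 0, 0, 0, 0, 0, 0, 0, 0, 0, 0, 0, 0, 0, 1, 0, 0, 0, 0, 0, 0, 0, 0, 0, 0, 0, 0, 0, 1, 0, 0, 0, 0, 0, 0, 0, 0, 0, 0, 0, 0, 0, 0, 0, 0, 0, 0, 0, 0, 0, 0, 0, 0, 0, 1, 0, 0, 0, 0, 0, 0, 0, 0, 0, 0, 1, 0, 0, 0, 0, 0, 0, 0, 0, 0, 0, 0, 0, 0, 0, 0, 0, 0, 0, 0, 0, 0, 0, 0, 0, 0, 0, 0, 0, 0, 0, 0, 0, 0, 0, 0, 0, 0, 0, 0, 0, 0, 0, 0, 0, 0, 0, 0, 0, 0, 0, 0, 0, 0, 0, 0, 0, 0, 0, 0, 0, 0,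 0, 0, 0, 0, 0, 0, 0, 0, 0, 0, 0, 0, 0, 0, 0, 0, 0, 0, 0, 0, 0, 0, 0, 0, 0, 0, 0, 0, 0, 0, 0, 0, 0, 0, 0, 0, 0, 0, 0, 0, 0, 0, 0, 0, 0, 0, 0, 0, 0, 0, 0, 0, 0, 0, 0, 0, 0, 0, 0, 0, 0, 0, 0, 0, 0, 0, 0, 0, 0, 0, 0, 0, 0, 0, 0, 0, 0, 0, 0, 0, 0, 0, 0, 0, 0, 0, 0, 0, 0, 0, 0, 0, 0, 0, 0, 0, 0, 0, 0, 0, 0, 0, 0, 0, 0, 0, 0, 0, 0, 0, 0, 0, 0, 0, 0, 0, 0, 0],
    [0, 0, 0, 0, 0, 0, 0, 0, 0, 0, 0, 0, 0, 0, 0, 0, 0, 0, 0, 0, 0, 0, 0, 0, 0, 0, 0, 0, 0, 0, 0, 0, 0, 0, 0, 0, 0, 0, 0, 0, 0, 0, 0, 0, 0, 0, 0, 0, 0, 0, 0, 0, 0, 0, 0, 0, 0, 0, 0, 0, 0, 0, 0, 0, 0, 0, 0, 0, 0, 0, 0, 0, 0, 0, 0, 0, 0, 0, 0, 0, 0, 0, 0, 0, 0, 0, 0, 0, 0, 1, 0, 0, 0, 0, 0, 0, 0, 0, 0, 0, 0, 0, 0, 0, 0, 0, 0, 0, 0, 0, 0, 0, 0, 0, 0, 0, 0, 0, 0, 0, 0, 0, 0, 0, 0, 0, 0, 0, 0, 0, 0,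 0, 0, 0, 0, 0, 0, 0, 0, 0, 0, 0, 0, 0, 0, 0, 0, 0, 0, 0, 0, 0, 0, 0, 0, 0, 0, 0, 0, 0, 0, 0, 0, 0, 0, 1, 0, 0, 0, 0, 0, 0, 0, 0, 0, 0, 0, 0, 0, 0, 0, 0, 0, 1, 0, 0, 0, 0, 0, 0, 0, 0, 0, 0, 0, 0, 0, 0, 0, 0, 0, 0, 1, 0, 0, 0, 0, 0, 0, 0, 0, 0, 0, 0, 0, 0, 0, 0, 0, 0, 0, 0, 0, 0, 0, 0, 0, 0, 0, 0, 0, 0, 0, 0, 0, 0, 0, 0, 0, 0, 0, 0, 0, 1, 0, 0, 0, 0, 0, 0, 0, 0, 0, 0, 0, 0, 0, 0, 0, 0, 0, 0, 0, 0, 0, 0, 0, 0, 0, 0, 0, 0, 0, 0, 0, 0, 0, 0, 0, 0, 0, 0, 0, 0, 0, 0, 0, 0, 0, 0, 0, 0, 0, 0, 0, 0, 0, 0, 0, 0, 0, 0, 0, 0, 0, 0, 0, 0, 0, 0, 0, 0, 0, 0, 0, 0, 0, 0, 0, 0, 0, 0, 0, 0, 0, 0, 0, 0, 0, 0, 0, 0, 0, 0, 0, 0, 0, 0, 0, 0, 0, 0, 0, 0, 0, 0, 0, 0, 0, 0, 0, 0, 0, 0, 0, 0, 0, 0, 0, 0, 0, 0, 0, 0, 0, 0, 0],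
    [0, 0, 0, 0, 0, 0, 0, 0, 0, 0, 0, 0, 0, 0, 0, 0, 0, 0, 0, 0, 0, 0, 0, 0, 0, 0, 0, 0, 0, 0, 0, 0, 0, 0, 0, 0, 0, 0, 0, 0, 0, 0, 0, 0, 0, 0, 0, 0, 0, 0, 0, 0, 0, 0, 0, 0, 0, 0, 0, 0, 0, 0, 0, 0, 0, 0, 0, 0, 0, 0, 0, 0, 0, 0, 0, 0, 0, 0, 0, 0, 0, 0, 0, 0, 0, 0, 0, 0, 0, 0, 0, 0, 0, 0, 0, 0, 0, 0, 0, 0, 0, 0, 0, 0, 0, 0, 0, 0, 0, 0, 1, 0, 0, 0, 0, 0, 0, 0, 0, 0, 0, 0, 0, 0, 0, 0, 0, 0, 0, 0, 0, 0, 0, 0, 0, 0, 0, 0, 0, 0, 0, 0, 0, 0, 0, 0, 0, 0, 0, 0, 0, 0, 0, 0, 0, 0, 0, 0, 0, 0, 0, 0, 0, 0, 0, 0, 0, 0, 0, 0, 0, 0, 0, 0, 0, 0, 0, 0, 0, 0, 0, 0, 0, 0, 0, 0, 0, 0, 0, 0, 0, 0, 0, 0, 0, 0, 0, 0, 0, 0, 0, 0, 0, 0, 0, 0, 0, 0, 0, 0, 0, 0, 0, 0, 1, 1, 0, 0, 0, 0, 0, 0, 0, 0, 0, 0, 0, 0, 0, 0, 0, 0, 0, 0, 0, 1, 1, 0, 0, 0, 0, 0, 0, 0, 0, 0, 0, 0, 0,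 0, 0, 0, 0, 0, 0, 0, 0, 0, 0, 0, 0, 0, 0, 0, 0, 0, 0, 0, 0, 0, 0, 0, 0, 0, 0, 0, 0, 0, 0, 0, 0, 0, 0, 0, 0, 0, 0, 0, 0, 0, 0, 0, 0, 0, 0, 0, 0, 0, 0, 0, 0, 0, 0, 0, 0, 0, 0, 0, 0, 0, 0, 0, 0, 0, 0, 0, 0, 0, 0, 0, 0, 0, 0, 0, 0, 0, 0, 0, 0, 0, 0, 0, 0, 0, 0, 0, 0, 0, 0, 0, 0, 0, 0, 0, 0, 0, 0, 0, 0, 0, 0, 0, 0, 0, 0, 0, 0, 0, 0, 0, 0, 0, 0, 0, 0, 0, 0],
    [0, 0, 0, 0, 0, 0, 0, 0, 0, 0, 0, 0, 0, 0, 0, 0, 0, 0, 0, 0, 0, 0, 0, 0, 0, 0, 0, 0, 0, 0, 0, 0, 0, 0, 0, 0, 0, 0, 0, 0, 0, 0, 0, 0, 0, 0, 0, 0, 0, 0, 0, 0, 0, 0, 0, 0, 0, 0, 0, 0, 0, 0, 0, 0, 0, 0, 0, 0, 0, 0, 0, 0, 0, 0, 0, 0, 0, 0, 0, 0, 0, 0, 0, 0, 0, 0, 0, 0, 0, 0, 0, 0, 0, 0, 0, 0, 0, 0, 0, 0, 0, 0, 0, 0, 0, 0, 0, 0, 0, 0, 0, 0, 0, 0, 0, 0, 0, 0, 0, 0, 0, 0, 0, 0, 0, 0, 0, 0, 0, 0, 0,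 0, 0, 0, 0, 0, 0, 0, 0, 0, 0, 0, 0, 0, 0, 0, 0, 0, 0, 0, 0, 0, 0, 0, 0, 0, 0, 0, 0, 0, 0, 0, 0, 0, 0, 0, 0, 0, 0, 0, 0, 0, 0, 0, 0, 0, 0, 0, 1, 0, 0, 0, 0, 0, 0, 0, 0, 0, 0, 0, 0, 0, 0, 0, 0, 0, 0, 1, 0, 0, 0, 0, 0, 0, 0, 0, 0, 0, 0, 0, 0, 0, 0, 0, 0, 0, 0, 0, 0, 0, 0, 0, 0, 0, 0, 0, 0, 0, 0, 0, 0, 0, 0, 0, 0, 0, 0, 1, 0, 0, 0, 0, 0, 0, 0, 0, 0, 0, 0, 1, 0, 0, 1, 0, 0, 0, 0, 0, 0, 0, 0, 0, 0, 0, 0, 0, 0, 0, 0, 0, 0, 0, 0, 0, 0, 0, 0, 0, 0, 0, 0, 0, 0, 0, 0, 0, 0, 0, 0, 0, 0, 0, 0, 0, 0, 0, 0, 0, 0, 0, 0, 0, 0, 0, 0, 0, 0, 0, 0, 0, 0, 0, 0, 0, 0, 0, 0, 0, 0, 0, 0, 0, 0, 0, 0, 0, 0, 0, 0, 0, 0, 0, 0, 0, 0, 0, 0, 0, 0, 0, 0, 0, 0, 0, 0, 0, 0, 0, 0, 0, 0, 0, 0, 0, 0, 0, 0, 0, 0, 0, 0, 0, 0, 0, 0, 0, 0],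
    [0, 0, 0, 0, 0, 0, 0, 0, 0, 0, 0, 0, 0, 0, 0, 0, 0, 0, 0, 0, 0, 0, 0, 0, 0, 0, 0, 0, 0, 0, 0, 0, 0, 0, 0, 0, 0, 0, 0, 0, 0, 0, 0, 0, 0, 0, 0, 0, 0, 0, 0, 0, 0, 0, 0, 0, 0, 0, 0, 0, 0, 0, 0, 0, 0, 0, 0, 0, 0, 0, 0, 0, 0, 0, 0, 0, 0, 0, 0, 0, 0, 0, 0, 0, 0, 0, 0, 0, 0, 0, 0, 0, 0, 0, 0, 0, 0, 0, 0, 0, 0, 0, 0, 0, 0, 0, 0, 0, 0, 0, 0, 0, 0, 0, 0, 0, 0, 1, 1, 0, 0, 0, 0, 0, 0, 0, 0, 0, 0, 0, 0, 0, 0, 0, 0, 0, 0, 0, 0, 0, 0, 0, 0, 0, 0, 0, 0, 0, 0, 0, 0, 0, 0, 0, 0, 0, 0, 0, 0, 0, 0, 0, 0, 0, 0, 0, 0, 1, 0, 0, 0, 0, 0, 0, 0, 0, 0, 0, 0, 0, 0, 0, 0, 0, 0, 0, 0, 0, 0, 0, 0, 0, 0, 0, 0, 0, 0, 0, 0, 0, 0, 0, 0, 0, 0, 0, 0, 0, 0, 0, 0, 0, 0, 0, 0, 0, 0, 0, 0, 0, 0, 0, 0, 0, 0, 0, 0, 0, 0, 0, 0, 0, 0, 0, 0, 0, 0, 0, 0, 0, 0, 0, 0, 0, 0, 0, 0, 0, 0,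 0, 0, 0, 0, 0, 0, 0, 0, 0, 0, 0, 0, 0, 0, 0, 0, 0, 0, 0, 0, 0, 0, 0, 0, 0, 0, 0, 0, 0, 0, 0, 0, 0, 0, 0, 0, 0, 0, 0, 0, 0, 0, 0, 0, 0, 0, 0, 0, 0, 0, 0, 0, 0, 0, 0, 0, 0, 0, 0, 0, 0, 0, 0, 0, 0, 0, 0, 0, 0, 0, 0, 0, 0, 0, 0, 0, 0, 0, 0, 0, 0, 0, 0, 0, 0, 0, 0, 0, 0, 0, 0, 0, 0, 0, 0, 0, 0, 0, 0, 0, 0, 0, 0, 0, 0, 0, 0, 0, 0, 0, 0, 0, 0, 0, 0, 0, 0, 0]]

/-- part of the exponents -/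
def twoVecs16 : List (List ℤ) :=
  [[0, 0, 0, 0, 0, 0, 0, 0, 0, 0, 0, 0, 0, 0, 0, 0, 0, 0, 0, 0, 0, 0, 0, 0, 0, 0, 0, 0, 0, 0, 0, 0, 1, 0, 0, 0, 0, 0, 0, 1, 1, 0, 0, 0, 0, 0, 0, 0, 0, 1, 0, 0, 0, 1, 1, 0, 0, 0, 0, 0, 0, 0, 0, 0, 0, 0, 0, 0, 0, 0, 0, 0, 0, 0, 0, 0, 0, 0, 0, 0, 0, 0, 0, 0, 0, 0, 0, 0, 0, 0, 0, 0, 0, 0, 0, 0, 0, 0, 0, 0, 0, 0, 0, 0, 0, 0, 0, 0, 0, 0, 0, 0, 0, 0, 0, 0, 0, 0, 0, 0, 0, 0, 0, 0, 0, 0, 0, 0, 0, 0, 0, 0, 0, 0, 0, 0, 0, 0, 0, 0, 0, 0, 0, 0, 0, 0, 0, 0, 0, 0, 0, 0, 0, 0, 0, 0, 0, 0, 0, 0, 0, 0, 0, 0, 0, 0, 0, 0, 0, 0, 0, 0, 0, 0, 0, 0, 0, 0, 0, 0, 0, 0, 0, 0, 0, 0, 0, 0, 0, 0, 0, 0, 0, 0, 0, 0, 0, 0, 0, 0, 0, 0, 0, 0, 0, 0, 0, 0, 0, 0, 0, 0, 0, 0, 0, 0, 0, 0, 0, 0, 0, 0, 0, 0, 0, 0, 0, 0, 0, 0, 0, 0, 0, 0, 0, 0, 0, 0,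 0, 0, 0, 0, 0, 0, 0, 0, 0, 0, 0, 0, 0, 0, 0, 0, 0, 0, 0, 0, 0, 0, 0, 0, 0, 0, 0, 0, 0, 0, 0, 0, 0, 0, 0, 0, 0, 0, 0, 0, 0, 0, 0, 0, 0, 0, 0, 0, 0, 0, 0, 0, 0, 0, 0, 0, 0, 0, 0, 0, 0, 0, 0, 0, 0, 0, 0, 0, 0, 0, 0, 0, 0, 0, 0, 0, 0, 0, 0, 0, 0, 0, 0, 0, 0, 0, 0, 0, 0, 0, 0, 0, 0, 0, 0, 0, 0, 0, 0, 0, 0, 0, 0, 0, 0, 0, 0, 0, 0, 0, 0, 0, 0, 0, 0, 0, 0, 0, 0, 0, 0, 0, 0, 0, 0, 0, 0, 0, 0],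
    [0, 0, 0, 0, 0, 0, 0, 0, 0, 0, 0, 0, 0, 0, 0, 0, 0, 0, 0, 0, 0, 0, 0, 0, 0, 0, 0, 0, 0, 0, 0, 0, 0, 0, 0, 0, 0, 0, 0, 0, 0, 0, 0, 0, 0, 0, 0, 0, 0, 0, 0, 0, 0, 0, 0, 0, 0, 0, 0, 0, 0, 0, 0, 0, 0, 0, 0, 0, 0, 0, 0, 0, 0, 0, 0, 0, 0, 0, 0, 0, 0, 0, 0, 0, 0, 0, 0, 0, 0, 0, 0, 0, 0, 0, 0, 0, 0, 0, 0, 0, 1, 0, 0, 0, 0, 0, 0, 0, 0, 0, 0, 0, 0, 0, 0, 0, 0, 0, 0, 0, 0, 0, 0, 0, 0, 0, 0, 0, 0, 0, 0, 0, 0, 0, 0, 0, 0, 0, 0, 0, 0, 0, 0, 0, 0, 0, 0, 0, 0, 0, 0, 0, 0, 0, 0, 0, 0, 0, 0, 0, 0, 0, 1, 0, 0, 0, 0, 0, 0, 0, 0, 0, 0, 0, 0, 0, 0, 0, 0, 0, 0, 0, 0, 0, 0, 0, 0, 0, 0, 0, 1, 0, 0, 0, 0, 0, 0, 0, 0, 0, 0, 0, 0, 1, 0, 0, 0, 1, 0, 0, 0, 0, 0, 0, 0, 0, 0, 0, 0, 0, 0, 0, 0, 0, 0, 0, 0, 1, 0, 0, 0, 0, 0, 0, 0, 0, 0, 0, 0, 0, 0, 0, 0, 0, 0, 0, 0, 0, 0,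 0, 0, 0, 0, 0, 0, 0, 0, 0, 0, 0, 0, 0, 0, 0, 0, 0, 0, 0, 0, 0, 0, 0, 0, 0, 0, 0, 0, 0, 0, 0, 0, 0, 0, 0, 0, 0, 0, 0, 0, 0, 0, 0, 0, 0, 0, 0, 0, 0, 0, 0, 0, 0, 0, 0, 0, 0, 0, 0, 0, 0, 0, 0, 0, 0, 0, 0, 0, 0, 0, 0, 0, 0, 0, 0, 0, 0, 0, 0, 0, 0, 0, 0, 0, 0, 0, 0, 0, 0, 0, 0, 0, 0, 0, 0, 0, 0, 0, 0, 0, 0, 0, 0, 0, 0, 0, 0, 0, 0, 0, 0, 0, 0, 0, 0, 0, 0, 0],
    [0, 0, 0, 0, 0, 0, 0, 0, 0, 0, 0, 0, 0, 0, 0, 0, 0, 0, 0, 0, 0, 0, 0, 0, 0, 0, 0, 0, 0, 0, 0, 0, 0, 0, 0, 0, 0, 0, 0, 0, 0, 0, 0, 0, 0, 0, 0, 0, 0, 0, 0, 0, 0, 0, 0, 0, 0, 0, 0, 0, 0, 0, 0, 0, 0, 0, 0, 0, 0, 0, 0, 0, 0, 0, 0, 0, 0, 0, 0, 0, 0, 0, 0, 0, 0, 0, 0, 0, 0, 0, 0, 0, 0, 0, 0, 0, 0, 0, 0, 0, 0, 0, 0, 0, 0, 0, 0, 1, 0, 0, 0, 0, 0, 0, 0, 0, 0, 0, 0, 0, 1, 0, 0, 0, 0, 0, 0, 0, 0, 0, 0,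 0, 0, 0, 1, 0, 0, 0, 0, 0, 0, 0, 0, 0, 0, 0, 0, 0, 0, 0, 0, 0, 0, 0, 0, 0, 0, 0, 0, 0, 0, 0, 0, 0, 0, 0, 0, 0, 0, 0, 0, 0, 0, 1, 0, 0, 0, 0, 0, 0, 0, 0, 0, 0, 0, 0, 1, 1, 0, 0, 0, 0, 0, 0, 0, 0, 0, 0, 0, 0, 0, 0, 0, 0, 0, 0, 0, 0, 0, 0, 0, 0, 0, 0, 0, 0, 0, 0, 0, 0, 0, 0, 0, 0, 0, 0, 0, 0, 0, 0, 0, 0, 0, 0, 0, 0, 0, 0, 0, 0, 0, 0, 0, 0, 0, 0, 0, 0, 0, 0, 0, 0, 0, 0, 0, 0, 0, 0, 0, 0, 0, 0, 0, 0, 0, 0, 0, 0, 0, 0, 0, 0, 0, 0, 0, 0, 0, 0, 0, 0, 0, 0, 0, 0, 0, 0, 0, 0, 0, 0, 0, 0, 0, 0, 0, 0, 0, 0, 0, 0, 0, 0, 0, 0, 0, 0, 0, 0, 0, 0, 0, 0, 0, 0, 0, 0, 0, 0, 0, 0, 0, 0, 0, 0, 0, 0, 0, 0, 0, 0, 0, 0, 0, 0, 0, 0, 0, 0, 0, 0, 0, 0, 0, 0, 0, 0, 0, 0, 0, 0, 0, 0, 0, 0, 0, 0, 0, 0, 0, 0, 0, 0, 0, 0, 0, 0, 0],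
    [0, 0, 0, 0, 0, 0, 0, 0, 0, 0, 0, 0, 0, 0, 0, 0, 0, 0, 0, 0, 0, 0, 0, 0, 0, 0, 0, 0, 0, 0, 0, 0, 0, 0, 0, 0, 0, 0, 0, 0, 0, 0, 0, 0, 0, 0, 0, 0, 0, 0, 0, 0, 0, 0, 0, 0, 0, 0, 0, 0, 0, 0, 0, 0, 0, 0, 0, 0, 0, 0, 0, 0, 0, 0, 0, 0, 0, 0, 0, 0, 0, 0, 0, 0, 0, 0, 0, 1, 0, 0, 0, 0, 0, 0, 0, 0, 0, 0, 0, 0, 0, 0, 0, 0, 0, 0, 0, 0, 0, 0, 0, 0, 0, 0, 0, 0, 0, 0, 0, 0, 0, 0, 0, 0, 0, 0, 0, 0, 0, 0, 0, 0, 0, 0, 0, 0, 0, 0, 0, 0, 0, 0, 1, 0, 0, 1, 0, 0, 0, 0, 0, 0, 0, 0, 0, 0, 0, 0, 0, 0, 0, 0, 0, 0, 0, 0, 0, 0, 0, 0, 0, 0, 0, 0, 0, 0, 0, 0, 0, 0, 0, 0, 0, 0, 0, 0, 0, 0, 0, 0, 0, 0, 0, 0, 0, 1, 0, 0, 0, 1, 0, 0, 0, 0, 0, 0, 1, 0, 0, 0, 0, 0, 0, 0, 0, 0, 0, 0, 0, 0, 0, 0, 0, 0, 0, 0, 0, 0, 0, 0, 0, 0, 0, 0, 0, 0, 0, 0, 0, 0, 0, 0, 0, 0, 0, 0, 0, 0, 0,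 0, 0, 0, 0, 0, 0, 0, 0, 0, 0, 0, 0, 0, 0, 0, 0, 0, 0, 0, 0, 0, 0, 0, 0, 0, 0, 0, 0, 0, 0, 0, 0, 0, 0, 0, 0, 0, 0, 0, 0, 0, 0, 0, 0, 0, 0, 0, 0, 0, 0, 0, 0, 0, 0, 0, 0, 0, 0, 0, 0, 0, 0, 0, 0, 0, 0, 0, 0, 0, 0, 0, 0, 0, 0, 0, 0, 0, 0, 0, 0, 0, 0, 0, 0, 0, 0, 0, 0, 0, 0, 0, 0, 0, 0, 0, 0, 0, 0, 0, 0, 0, 0, 0, 0, 0, 0, 0, 0, 0, 0, 0, 0, 0, 0, 0, 0, 0, 0],
    [0, 0, 0, 0, 0, 0, 0, 0, 0, 0, 0, 0, 0, 0, 0, 0, 0, 0, 0, 0, 0, 0, 0, 0, 0, 0, 0, 0, 0, 0, 0, 0, 0, 0, 0, 0, 0, 0, 0, 0, 0, 0, 0, 0, 0, 0, 0, 0, 0, 0, 0, 0, 0, 0, 0, 0, 0, 0, 0, 0, 0, 0, 0, 0, 0, 0, 0, 0, 0, 0, 0, 0, 0, 0, 0, 0, 0, 0, 0, 0, 0, 0, 0, 0, 0, 0, 0, 0, 0, 0, 0, 0, 0, 0, 0, 0, 0, 0, 0, 0, 0, 0, 0, 0, 0, 0, 0, 0, 0, 0, 0, 0, 0, 1, 0, 0, 0, 0, 0, 0, 0, 0, 0, 0, 0, 0, 0, 0, 0, 0, 0,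 0, 0, 0, 0, 0, 0, 0, 0, 0, 0, 0, 0, 0, 0, 0, 0, 0, 0, 0, 0, 0, 0, 0, 0, 0, 0, 0, 0, 0, 0, 0, 0, 0, 0, 0, 0, 0, 0, 0, 0, 0, 0, 0, 0, 0, 0, 0, 0, 1, 0, 0, 0, 0, 0, 0, 0, 0, 0, 0, 1, 0, 0, 0, 0, 0, 0, 0, 0, 0, 0, 0, 0, 0, 1, 0, 0, 0, 1, 0, 0, 0, 0, 0, 0, 0, 0, 0, 0, 0, 0, 0, 0, 0, 0, 0, 0, 0, 1, 0, 0, 0, 0, 0, 0, 0, 0, 0, 0, 0, 0, 0, 0, 0, 0, 0, 0, 0, 0, 0, 0, 0, 0, 0, 0, 0, 0, 0, 0, 0, 0, 0, 0, 0, 0, 0, 0, 0, 0, 0, 0, 0, 0, 0, 0, 0, 0, 0, 0, 0, 0, 0, 0, 0, 0, 0, 0, 0, 0, 0, 0, 0, 0, 0, 0, 0, 0, 0, 0, 0, 0, 0, 0, 0, 0, 0, 0, 0, 0, 0, 0, 0, 0, 0, 0, 0, 0, 0, 0, 0, 0, 0, 0, 0, 0, 0, 0, 0, 0, 0, 0, 0, 0, 0, 0, 0, 0, 0, 0, 0, 0, 0, 0, 0, 0, 0, 0, 0, 0, 0, 0, 0, 0, 0, 0, 0, 0, 0, 0, 0, 0, 0, 0, 0, 0, 0, 0],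
    [0, 0, 0, 0, 0, 0, 0, 0, 0, 0, 0, 0, 0, 0, 0, 0, 0, 0, 0, 0, 0, 0, 0, 0, 0, 0, 0, 0, 0, 0, 0, 0, 0, 0, 0, 0, 0, 0, 0, 0, 0, 0, 0, 0, 0, 0, 0, 0, 0, 0, 0, 0, 0, 0, 0, 0, 0, 0, 0, 0, 0, 0, 0, 0, 0, 0, 0, 0, 0, 0, 0, 0, 0, 0, 0, 0, 0, 0, 0, 0, 0, 0, 0, 0, 0, 0, 0, 0, 0, 0, 0, 0, 0, 0, 0, 0, 0, 0, 0, 0, 0, 1, 0, 0, 1, 0, 0, 0, 0, 0, 0, 0, 0, 0, 0, 0, 0, 0, 0, 0, 0, 0, 0, 0, 0, 0, 0, 0, 0, 0, 1, 0, 0, 1, 0, 1, 0, 0, 0, 0, 0, 0, 0, 0, 0, 0, 0, 0, 0, 0, 0, 0, 0, 0, 0, 0, 0, 0, 0, 0, 0, 0, 0, 1, 0, 0, 1, 0, 1, 0, 1, 0, 0, 0, 0, 0, 0, 0, 0, 0, 0, 0, 0, 0, 0, 0, 0, 0, 0, 0, 0, 0, 0, 0, 0, 0, 0, 0, 0, 0, 0, 0, 0, 0, 0, 0, 0, 0, 0, 0, 0, 0, 0, 0, 0, 0, 0, 0, 0, 0, 0, 0, 0, 0, 0, 0, 0, 0, 0, 0, 0, 0, 0, 0, 0, 0, 0, 0, 0, 0, 0, 0, 0, 0, 0, 0, 0, 0, 0,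 0, 0, 0, 0, 0, 0, 0, 0, 0, 0, 0, 0, 0, 0, 0, 0, 0, 0, 0, 0, 0, 0, 0, 0, 0, 0, 0, 0, 0, 0, 0, 0, 0, 0, 0, 0, 0, 0, 0, 0, 0, 0, 0, 0, 0, 0, 0, 0, 0, 0, 0, 0, 0, 0, 0, 0, 0, 0, 0, 0, 0, 0, 0, 0, 0, 0, 0, 0, 0, 0, 0, 0, 0, 0, 0, 0, 0, 0, 0, 0, 0, 0, 0, 0, 0, 0, 0, 0, 0, 0, 0, 0, 0, 0, 0, 0, 0, 0, 0, 0, 0, 0, 0, 0, 0, 0, 0, 0, 0, 0, 0, 0, 0, 0, 0, 0, 0, 0],
    [0, 0, 0, 0, 0, 0, 0, 0, 0, 0, 0, 0, 0, 0, 0, 0, 0, 0, 0, 0, 0, 0, 0, 0, 0, 0, 0, 0, 0, 0, 0, 0, 0, 0, 0, 0, 0, 0, 0, 0, 0, 0, 0, 0, 0, 0, 0, 0, 0, 0, 0, 0, 0, 0, 0, 0, 0, 0, 0, 0, 0, 0, 0, 0, 0, 0, 0, 0, 0, 0, 0, 0, 0, 0, 0, 0, 0, 0, 0, 0, 0, 0, 0, 0, 0, 0, 0, 0, 0, 0, 0, 0, 0, 0, 0, 0, 0, 0, 0, 0, 0, 0, 0, 0, 0, 0, 0, 0, 0, 0, 0, 0, 0, 0, 0, 1, 0, 0, 0, 1, 0, 0, 0, 0, 0, 0, 0, 0, 0, 0, 1,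 0, 0, 0, 1, 1, 0, 0, 0, 0, 0, 0, 0, 0, 0, 0, 0, 0, 0, 0, 0, 0, 0, 0, 0, 0, 0, 0, 0, 0, 0, 0, 0, 0, 0, 0, 0, 0, 0, 0, 0, 0, 0, 0, 0, 0, 0, 0, 0, 0, 0, 1, 0, 0, 0, 1, 1, 0, 0, 1, 0, 0, 0, 0, 0, 0, 0, 0, 0, 0, 0, 0, 0, 0, 0, 0, 0, 0, 0, 0, 0, 0, 0, 0, 0, 0, 0, 0, 0, 0, 0, 0, 0, 0, 0, 0, 0, 0, 0, 0, 0, 0, 0, 0, 0, 0, 0, 0, 0, 0, 0, 0, 0, 0, 0, 0, 0, 0, 0, 0, 0, 0, 0, 0, 0, 0, 0, 0, 0, 0, 0, 0, 0, 0, 0, 0, 0, 0, 0, 0, 0, 0, 0, 0, 0, 0, 0, 0, 0, 0, 0, 0, 0, 0, 0, 0, 0, 0, 0, 0, 0, 0, 0, 0, 0, 0, 0, 0, 0, 0, 0, 0, 0, 0, 0, 0, 0, 0, 0, 0, 0, 0, 0, 0, 0, 0, 0, 0, 0, 0, 0, 0, 0, 0, 0, 0, 0, 0, 0, 0, 0, 0, 0, 0, 0, 0, 0, 0, 0, 0, 0, 0, 0, 0, 0, 0, 0, 0, 0, 0, 0, 0, 0, 0, 0, 0, 0, 0, 0, 0, 0, 0, 0, 0, 0, 0, 0],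
    [0, 0, 0, 0, 0, 0, 0, 0, 0, 0, 0, 0, 0, 0, 0, 0, 0, 0, 0, 0, 0, 0, 0, 0, 0, 0, 0, 0, 0, 0, 0, 0, 0, 0, 0, 0, 0, 0, 0, 0, 0, 0, 0, 0, 0, 0, 0, 0, 0, 0, 0, 0, 0, 0, 0, 0, 0, 0, 0, 0, 0, 0, 0, 0, 0, 0, 0, 0, 0, 0, 0, 0, 0, 0, 0, 0, 0, 0, 0, 0, 0, 0, 0, 0, 0, 0, 1, 0, 0, 0, 0, 0, 0, 0, 0, 0, 0, 0, 0, 0, 0, 0, 0, 0, 0, 0, 0, 0, 0, 0, 0, 0, 0, 0, 0, 0, 0, 0, 0, 0, 0, 0, 0, 0, 0, 0, 1, 0, 1, 0, 0, 0, 0, 0, 0, 0, 0, 0, 0, 0, 0, 0, 0, 0, 0, 0, 0, 0, 0, 0, 0, 0, 0, 0, 0, 0, 0, 0, 0, 0, 0, 0, 0, 0, 0, 0, 0, 0, 0, 0, 0, 0, 0, 0, 0, 0, 0, 0, 0, 0, 0, 0, 0, 0, 0, 0, 0, 0, 0, 0, 0, 0, 1, 0, 0, 0, 0, 0, 0, 0, 0, 0, 0, 0, 0, 0, 0, 0, 0, 1, 0, 0, 0, 0, 0, 0, 0, 0, 0, 0, 0, 0, 0, 0, 0, 0, 0, 0, 0, 0, 0, 0, 0, 0, 0, 0, 0, 0, 0, 0, 0, 0, 0, 0, 0, 0, 0, 0, 0,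 0, 0, 0, 0, 0, 0, 0, 0, 0, 0, 0, 0, 0, 0, 0, 0, 0, 0, 0, 0, 0, 0, 0, 0, 0, 0, 0, 0, 0, 0, 0, 0, 0, 0, 0, 0, 0, 0, 0, 0, 0, 0, 0, 0, 0, 0, 0, 0, 0, 0, 0, 0, 0, 0, 0, 0, 0, 0, 0, 0, 0, 0, 0, 0, 0, 0, 0, 0, 0, 0, 0, 0, 0, 0, 0, 0, 0, 0, 0, 0, 0, 0, 0, 0, 0, 0, 0, 0, 0, 0, 0, 0, 0, 0, 0, 0, 0, 0, 0, 0, 0, 0, 0, 0, 0, 0, 0, 0, 0, 0, 0, 0, 0, 0, 0, 0, 0, 0],
    [0, 0, 0, 0, 0, 0, 0, 0, 0, 0, 0, 0, 0, 0, 0, 0, 0, 0, 0, 0, 0, 0, 0, 0, 0, 0, 0, 0, 0, 0, 0, 0, 0, 0, 0, 0, 0, 0, 0, 0, 0, 0, 0, 0, 0, 0, 0, 0, 0, 0, 0, 0, 0, 0, 0, 0, 0, 0, 0, 0, 0, 0, 0, 0, 0, 0, 0, 0, 0, 0, 0, 0, 0, 0, 0, 0, 0, 0, 0, 0, 0, 0, 0, 0, 0, 0, 0, 0, 0, 0, 0, 0, 0, 0, 0, 0, 0, 0, 0, 0, 0, 0, 0, 0, 0, 0, 0, 0, 0, 0, 0, 0, 0, 0, 0, 0, 0, 1, 0, 0, 0, 0, 0, 0, 0, 0, 0, 0, 0, 0, 0,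 0, 1, 0, 0, 0, 0, 0, 0, 0, 0, 0, 0, 0, 0, 0, 1, 0, 0, 0, 1, 1, 0, 0, 0, 0, 0, 0, 0, 0, 0, 0, 0, 0, 0, 0, 0, 0, 0, 0, 0, 0, 0, 0, 0, 0, 0, 0, 0, 0, 0, 0, 0, 1, 0, 0, 0, 1, 0, 0, 0, 0, 0, 0, 0, 0, 0, 0, 0, 0, 0, 0, 0, 0, 0, 0, 0, 0, 0, 0, 0, 0, 0, 0, 0, 0, 0, 0, 0, 0, 0, 0, 0, 0, 0, 0, 0, 0, 0, 0, 0, 0, 0, 0, 0, 0, 0, 0, 0, 0, 0, 0, 0, 0, 0, 0, 0, 0, 0, 0, 0, 0, 0, 0, 0, 0, 0, 0, 0, 0, 0, 0, 0, 0, 0, 0, 0, 0, 0, 0, 0, 0, 0, 0, 0, 0, 0, 0, 0, 0, 0, 0, 0, 0, 0, 0, 0, 0, 0, 0, 0, 0, 0, 0, 0, 0, 0, 0, 0, 0, 0, 0, 0, 0, 0, 0, 0, 0, 0, 0, 0, 0, 0, 0, 0, 0, 0, 0, 0, 0, 0, 0, 0, 0, 0, 0, 0, 0, 0, 0, 0, 0, 0, 0, 0, 0, 0, 0, 0, 0, 0, 0, 0, 0, 0, 0, 0, 0, 0, 0, 0, 0, 0, 0, 0, 0, 0, 0, 0, 0, 0, 0, 0, 0, 0, 0, 0],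
    [0, 0, 0, 0, 0, 0, 0, 0, 0, 0, 0, 0, 0, 0, 0, 0, 0, 0, 0, 0, 0, 0, 0, 0, 0, 0, 0, 0, 0, 0, 0, 0, 0, 0, 0, 0, 0, 0, 0, 0, 0, 0, 0, 0, 0, 0, 0, 0, 0, 0, 0, 0, 0, 0, 0, 0, 0, 0, 0, 0, 0, 0, 0, 0, 0, 0, 0, 0, 0, 0, 0, 0, 0, 0, 0, 0, 0, 0, 0, 0, 0, 0, 0, 0, 0, 0, 0, 0, 0, 0, 0, 0, 0, 0, 0, 0, 0, 0, 0, 0, 0, 0, 0, 0, 0, 0, 0, 0, 0, 0, 0, 0, 1, 0, 0, 0, 0, 0, 0, 0, 0, 0, 0, 0, 0, 0, 0, 0, 0, 0, 0, 0, 0, 0, 0, 0, 0, 0, 0, 0, 0, 0, 0, 1, 0, 0, 0, 0, 0, 0, 0, 0, 0, 0, 0, 0, 0, 0, 0, 0, 0, 0, 0, 0, 0, 0, 0, 0, 0, 0, 0, 0, 0, 0, 0, 0, 0, 0, 0, 0, 0, 0, 0, 0, 0, 0, 0, 0, 0, 0, 0, 0, 0, 0, 0, 0, 0, 1, 0, 0, 0, 0, 0, 0, 0, 0, 0, 0, 0, 0, 0, 0, 0, 0, 0, 0, 0, 1, 0, 0, 0, 0, 0, 0, 0, 0, 0, 0, 0, 0, 0, 0, 0, 0, 0, 0, 0, 0, 0, 0, 0, 0, 0, 0, 0, 0, 0, 1, 0,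 0, 1, 0, 1, 0, 0, 0, 0, 0, 0, 0, 0, 0, 0, 0, 0, 0, 0, 0, 0, 0, 0, 0, 0, 0, 0, 0, 0, 0, 0, 0, 0, 0, 0, 0, 0, 0, 0, 0, 0, 0, 0, 0, 0, 0, 0, 0, 0, 0, 0, 0, 0, 0, 0, 0, 0, 0, 0, 0, 0, 0, 0, 0, 0, 0, 0, 0, 0, 0, 0, 0, 0, 0, 0, 0, 0, 0, 0, 0, 0, 0, 0, 0, 0, 0, 0, 0, 0, 0, 0, 0, 0, 0, 0, 0, 0, 0, 0, 0, 0, 0, 0, 0, 0, 0, 0, 0, 0, 0, 0, 0, 0, 0, 0, 0, 0, 0, 0]]

/-- part of the exponents -/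
def twoVecs17 : List (List ℤ) :=
  [[0, 0, 0, 0, 0, 0, 0, 0, 0, 0, 0, 0, 0, 0, 0, 0, 0, 0, 0, 0, 0, 0, 0, 0, 0, 0, 0, 0, 0, 0, 0, 0, 0, 0, 0, 0, 0, 0, 0, 0, 0, 0, 0, 0, 0, 0, 0, 0, 0, 0, 0, 0, 0, 0, 0, 0, 0, 0, 0, 0, 0, 0, 0, 0, 0, 0, 0, 0, 0, 0, 0, 0, 0, 0, 0, 0, 0, 0, 0, 0, 0, 0, 0, 0, 0, 0, 0, 0, 0, 0, 0, 0, 0, 0, 0, 0, 0, 0, 0, 0, 0, 0, 0, 0, 0, 1, 0, 0, 0, 0, 0, 0, 0, 0, 0, 0, 0, 0, 0, 1, 0, 0, 0, 0, 0, 0, 0, 0, 0, 0, 0, 0, 0, 0, 0, 0, 0, 0, 0, 0, 0, 0, 0, 0, 0, 0, 0, 0, 0, 0, 0, 0, 0, 0, 0, 0, 0, 0, 0, 0, 0, 0, 0, 0, 0, 0, 0, 0, 0, 0, 0, 1, 0, 0, 0, 0, 0, 0, 0, 0, 0, 0, 0, 0, 0, 1, 0, 0, 0, 1, 0, 0, 0, 0, 0, 0, 0, 0, 0, 0, 0, 0, 0, 0, 0, 0, 0, 0, 0, 0, 0, 0, 0, 0, 0, 0, 0, 0, 0, 0, 0, 0, 0, 0, 0, 0, 0, 0, 1, 0, 1, 0, 0, 0, 0, 0, 0, 0,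 0, 0, 0, 0, 0, 0, 0, 0, 0, 0, 0, 1, 0, 1, 1, 0, 0, 0, 0, 0, 0, 0, 0, 0, 0, 0, 0, 0, 0, 0, 0, 0, 0, 0, 0, 0, 0, 0, 0, 0, 0, 0, 0, 0, 0, 0, 0, 0, 0, 0, 0, 0, 0, 0, 0, 0, 0, 0, 0, 0, 0, 0, 0, 0, 0, 0, 0, 0, 0, 0, 0, 0, 0, 0, 0, 0, 0, 0, 0, 0, 0, 0, 0, 0, 0, 0, 0, 0, 0, 0, 0, 0, 0, 0, 0, 0, 0, 0, 0, 0, 0, 0, 0, 0, 0, 0, 0, 0, 0, 0, 0, 0, 0, 0, 0, 0, 0, 0, 0, 0, 0, 0, 0, 0, 0, 0, 0, 0, 0],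
    [0, 0, 0, 0, 0, 0, 0, 0, 0, 0, 0, 0, 0, 0, 0, 0, 0, 0, 0, 0, 0, 0, 0, 0, 0, 0, 0, 0, 0, 0, 0, 0, 0, 0, 0, 0, 0, 0, 0, 0, 0, 0, 0, 0, 0, 0, 0, 0, 0, 0, 0, 0, 0, 0, 0, 0, 0, 0, 0, 0, 0, 0, 0, 0, 0, 0, 0, 0, 0, 0, 0, 0, 0, 0, 0, 0, 0, 0, 0, 0, 0, 0, 0, 0, 0, 0, 0, 0, 0, 0, 0, 0, 0, 0, 0, 0, 0, 0, 0, 0, 0, 0, 0, 0, 0, 0, 0, 0, 0, 0, 1, 0, 0, 0, 0, 0, 0, 0, 0, 0, 0, 0, 0, 0, 0, 0, 0, 0, 0, 0, 0, 0, 0, 0, 0, 0, 0, 0, 0, 1, 0, 1, 0, 0, 0, 0, 0, 0, 0, 0, 1, 0, 0, 0, 0, 0, 0, 0, 0, 0, 0, 0, 0, 0, 0, 0, 0, 0, 0, 0, 0, 0, 0, 0, 0, 0, 1, 0, 0, 0, 0, 0, 0, 0, 0, 0, 0, 1, 0, 0, 0, 0, 0, 0, 0, 0, 0, 0, 0, 0, 0, 0, 0, 0, 0, 0, 0, 0, 0, 0, 0, 0, 0, 0, 0, 0, 0, 0, 0, 0, 0, 0, 0, 0, 0, 0, 0, 0, 0, 0, 0, 0, 0, 0, 0, 0, 0, 0, 0, 0, 0, 0, 0, 0, 0, 0, 0, 0, 0,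 0, 0, 0, 0, 0, 0, 0, 0, 0, 0, 0, 0, 0, 0, 0, 0, 0, 0, 0, 0, 0, 0, 0, 0, 0, 0, 0, 0, 0, 0, 0, 0, 0, 0, 0, 0, 0, 0, 0, 0, 0, 0, 0, 0, 0, 0, 0, 0, 0, 0, 0, 0, 0, 0, 0, 0, 0, 0, 0, 0, 0, 0, 0, 0, 0, 0, 0, 0, 0, 0, 0, 0, 0, 0, 0, 0, 0, 0, 0, 0, 0, 0, 0, 0, 0, 0, 0, 0, 0, 0, 0, 0, 0, 0, 0, 0, 0, 0, 0, 0, 0, 0, 0, 0, 0, 0, 0, 0, 0, 0, 0, 0, 0, 0, 0, 0, 0, 0],
    [0, 0, 0, 0, 0, 0, 0, 0, 0, 0, 0, 0, 0, 0, 0, 0, 0, 0, 0, 0, 0, 0, 0, 0, 0, 0, 0, 0, 0, 0, 0, 0, 0, 0, 0, 0, 0, 0, 0, 0, 0, 0, 0, 0, 0, 0, 0, 0, 0, 0, 0, 0, 0, 0, 0, 0, 0, 0, 0, 0, 0, 0, 0, 0, 0, 0, 0, 0, 0, 0, 0, 0, 0, 0, 0, 0, 0, 0, 0, 0, 0, 0, 0, 0, 0, 0, 0, 0, 0, 0, 0, 0, 0, 0, 0, 0, 0, 0, 0, 0, 0, 0, 0, 1, 0, 0, 0, 0, 0, 0, 0, 0, 0, 0, 0, 0, 0, 0, 0, 0, 0, 0, 0, 0, 0, 0, 0, 0, 0, 0, 1,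 0, 1, 1, 0, 0, 0, 0, 0, 0, 0, 0, 0, 0, 0, 0, 0, 0, 0, 0, 0, 0, 0, 0, 0, 0, 0, 0, 0, 0, 0, 0, 0, 0, 0, 1, 0, 0, 1, 0, 0, 0, 0, 0, 0, 0, 0, 0, 0, 0, 0, 0, 0, 0, 0, 0, 0, 0, 0, 0, 0, 0, 0, 0, 0, 0, 0, 0, 0, 0, 0, 0, 0, 0, 0, 0, 0, 0, 0, 0, 0, 0, 0, 0, 0, 0, 0, 0, 0, 0, 0, 0, 0, 0, 0, 0, 0, 0, 0, 0, 0, 0, 0, 0, 0, 0, 0, 0, 0, 0, 0, 0, 0, 0, 0, 0, 0, 0, 0, 0, 0, 0, 0, 0, 0, 0, 0, 0, 0, 0, 0, 0, 0, 0, 0, 0, 0, 0, 0, 0, 0, 0, 0, 0, 0, 0, 0, 0, 0, 0, 0, 0, 0, 0, 0, 0, 0, 0, 0, 0, 0, 0, 0, 0, 0, 0, 0, 0, 0, 0, 0, 0, 0, 0, 0, 0, 0, 0, 0, 0, 0, 0, 0, 0, 0, 0, 0, 0, 0, 0, 0, 0, 0, 0, 0, 0, 0, 0, 0, 0, 0, 0, 0, 0, 0, 0, 0, 0, 0, 0, 0, 0, 0, 0, 0, 0, 0, 0, 0, 0, 0, 0, 0, 0, 0, 0, 0, 0, 0, 0, 0, 0, 0, 0, 0, 0, 0],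
    [0, 0, 0, 0, 0, 0, 0, 0, 0, 0, 0, 0, 0, 0, 0, 0, 0, 0, 0, 0, 0, 0, 0, 0, 0, 0, 0, 0, 0, 0, 0, 0, 0, 0, 0, 0, 0, 0, 0, 0, 0, 0, 0, 0, 0, 0, 0, 0, 0, 0, 0, 0, 0, 0, 0, 0, 0, 0, 0, 0, 0, 0, 0, 0, 0, 0, 0, 0, 0, 0, 0, 0, 0, 0, 0, 0, 0, 0, 0, 0, 0, 0, 0, 0, 0, 0, 0, 0, 0, 0, 0, 0, 0, 0, 0, 0, 0, 0, 0, 0, 0, 0, 0, 1, 0, 0, 0, 0, 0, 0, 0, 0, 0, 0, 0, 0, 1, 0, 1, 0, 0, 0, 0, 0, 0, 0, 0, 0, 0, 0, 0, 0, 0, 0, 0, 0, 0, 0, 0, 0, 0, 0, 0, 0, 0, 0, 0, 0, 0, 0, 0, 0, 0, 0, 0, 0, 0, 0, 0, 0, 0, 0, 0, 0, 0, 1, 0, 1, 0, 0, 0, 0, 0, 0, 0, 0, 0, 0, 0, 0, 0, 0, 1, 0, 1, 0, 0, 0, 1, 0, 0, 0, 0, 0, 0, 0, 0, 0, 0, 0, 0, 0, 0, 0, 0, 0, 0, 0, 0, 0, 0, 0, 0, 0, 0, 0, 0, 0, 0, 0, 0, 0, 0, 0, 0, 0, 0, 0, 0, 0, 0, 0, 0, 0, 0, 0, 0, 0, 0, 0, 0, 0, 0, 0, 0, 0, 0, 0, 0,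 0, 0, 0, 0, 0, 0, 0, 0, 0, 0, 0, 0, 0, 0, 0, 0, 0, 0, 0, 0, 0, 0, 0, 0, 0, 0, 0, 0, 0, 0, 0, 0, 0, 0, 0, 0, 0, 0, 0, 0, 0, 0, 0, 0, 0, 0, 0, 0, 0, 0, 0, 0, 0, 0, 0, 0, 0, 0, 0, 0, 0, 0, 0, 0, 0, 0, 0, 0, 0, 0, 0, 0, 0, 0, 0, 0, 0, 0, 0, 0, 0, 0, 0, 0, 0, 0, 0, 0, 0, 0, 0, 0, 0, 0, 0, 0, 0, 0, 0, 0, 0, 0, 0, 0, 0, 0, 0, 0, 0, 0, 0, 0, 0, 0, 0, 0, 0, 0],
    [0, 0, 0, 0, 0, 0, 0, 0, 0, 0, 0, 0, 0, 0, 0, 0, 0, 0, 0, 0, 0, 0, 0, 0, 0, 0, 0, 0, 0, 0, 0, 0, 0, 0, 0, 0, 0, 0, 0, 0, 0, 0, 0, 0, 0, 0, 0, 0, 0, 0, 0, 0, 0, 0, 0, 0, 0, 0, 0, 0, 0, 0, 0, 0, 0, 0, 0, 0, 0, 0, 0, 0, 0, 0, 0, 0, 0, 0, 0, 0, 0, 0, 0, 0, 0, 0, 0, 0, 0, 0, 0, 0, 0, 0, 0, 0, 0, 0, 0, 0, 1, 0, 0, 0, 0, 0, 0, 0, 0, 0, 0, 0, 0, 0, 0, 0, 0, 0, 0, 0, 0, 0, 0, 0, 0, 0, 0, 0, 0, 0, 0,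 0, 0, 0, 0, 0, 0, 0, 0, 0, 0, 0, 1, 0, 0, 1, 0, 0, 0, 0, 0, 0, 0, 0, 0, 0, 0, 0, 1, 0, 0, 0, 1, 0, 0, 0, 0, 0, 0, 1, 0, 0, 0, 0, 0, 0, 0, 0, 0, 0, 0, 0, 0, 0, 0, 0, 0, 0, 0, 0, 0, 0, 0, 0, 0, 0, 0, 0, 0, 0, 0, 0, 0, 0, 0, 0, 0, 0, 0, 0, 0, 0, 0, 0, 0, 0, 0, 0, 0, 0, 0, 0, 0, 0, 0, 0, 1, 1, 0, 0, 0, 0, 0, 0, 0, 0, 0, 0, 0, 0, 0, 0, 0, 0, 0, 0, 0, 0, 0, 0, 0, 0, 0, 0, 0, 0, 0, 0, 0, 0, 0, 0, 0, 0, 0, 0, 0, 0, 0, 0, 0, 0, 0, 0, 0, 0, 0, 0, 0, 0, 0, 0, 0, 0, 0, 0, 0, 0, 0, 0, 0, 0, 0, 0, 0, 0, 0, 0, 0, 0, 0, 0, 0, 0, 0, 0, 0, 0, 0, 0, 0, 0, 0, 0, 0, 0, 0, 0, 0, 0, 0, 0, 0, 0, 0, 0, 0, 0, 0, 0, 0, 0, 0, 0, 0, 0, 0, 0, 0, 0, 0, 0, 0, 0, 0, 0, 0, 0, 0, 0, 0, 0, 0, 0, 0, 0, 0, 0, 0, 0, 0, 0, 0, 0, 0, 0, 0],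
    [0, 0, 0, 0, 0, 0, 0, 0, 0, 0, 0, 0, 0, 0, 0, 0, 0, 0, 0, 0, 0, 0, 0, 0, 0, 0, 0, 0, 0, 0, 0, 0, 0, 0, 0, 0, 0, 0, 0, 0, 0, 0, 0, 0, 0, 0, 0, 0, 0, 0, 0, 0, 0, 0, 0, 0, 0, 0, 0, 0, 0, 0, 0, 0, 0, 0, 0, 0, 0, 0, 0, 0, 0, 0, 0, 0, 0, 0, 0, 0, 0, 0, 0, 0, 0, 0, 0, 0, 0, 0, 0, 0, 0, 0, 0, 0, 0, 0, 0, 0, 0, 0, 0, 0, 0, 0, 0, 0, 0, 0, 0, 0, 0, 0, 0, 0, 0, 0, 0, 0, 0, 0, 0, 0, 0, 0, 0, 0, 0, 0, 0, 0, 0, 0, 0, 0, 0, 0, 0, 0, 0, 0, 0, 0, 0, 0, 0, 0, 0, 0, 0, 0, 0, 0, 0, 0, 0, 0, 0, 0, 0, 0, 0, 0, 0, 0, 0, 0, 0, 0, 0, 1, 0, 0, 0, 0, 0, 0, 0, 0, 0, 0, 0, 0, 0, 0, 0, 0, 0, 0, 1, 0, 0, 0, 0, 0, 0, 0, 0, 0, 0, 0, 0, 0, 0, 0, 0, 0, 0, 0, 0, 0, 0, 0, 0, 0, 0, 0, 0, 0, 0, 0, 0, 0, 0, 0, 0, 0, 0, 1, 1, 1, 0, 0, 0, 0, 0, 0, 0, 0, 0, 0, 0, 0, 0, 0, 0, 0, 0,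 0, 1, 1, 1, 0, 0, 0, 0, 0, 0, 0, 0, 0, 0, 0, 0, 0, 0, 0, 0, 0, 0, 0, 0, 0, 0, 0, 0, 0, 0, 0, 0, 0, 0, 0, 0, 0, 0, 0, 0, 0, 0, 0, 0, 0, 0, 0, 0, 0, 0, 0, 0, 0, 0, 0, 0, 0, 0, 0, 0, 0, 0, 0, 0, 0, 0, 0, 0, 0, 0, 0, 0, 0, 0, 0, 0, 0, 0, 0, 0, 0, 0, 0, 0, 0, 0, 0, 0, 0, 0, 0, 0, 0, 0, 0, 0, 0, 0, 0, 0, 0, 0, 0, 0, 0, 0, 0, 0, 0, 0, 0, 0, 0, 0, 0, 0, 0, 0],
    [0, 0, 0, 0, 0, 0, 0, 0, 0, 0, 0, 0, 0, 0, 0, 0, 0, 0, 0, 0, 0, 0, 0, 0, 0, 0, 0, 0, 0, 0, 0, 0, 0, 0, 0, 0, 0, 0, 0, 0, 0, 0, 0, 0, 0, 0, 0, 0, 0, 0, 0, 0, 0, 0, 0, 0, 0, 0, 0, 0, 0, 0, 0, 0, 0, 0, 0, 0, 0, 0, 0, 0, 0, 0, 0, 0, 0, 0, 0, 0, 0, 0, 0, 0, 0, 0, 0, 0, 0, 0, 0, 0, 0, 0, 0, 0, 0, 0, 0, 0, 1, 0, 0, 0, 0, 0, 0, 0, 0, 0, 0, 0, 0, 0, 0, 0, 0, 0, 0, 0, 0, 0, 0, 0, 0, 0, 0, 0, 0, 1, 0,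 0, 0, 0, 0, 0, 0, 0, 0, 0, 0, 0, 0, 0, 0, 0, 0, 0, 0, 0, 0, 0, 0, 0, 0, 0, 0, 0, 0, 0, 0, 0, 1, 0, 0, 0, 0, 0, 0, 0, 0, 0, 0, 1, 0, 0, 0, 0, 0, 0, 0, 0, 0, 0, 1, 0, 1, 0, 1, 0, 0, 0, 0, 0, 0, 0, 0, 0, 0, 0, 0, 0, 0, 0, 0, 0, 0, 0, 0, 0, 0, 0, 0, 0, 0, 0, 0, 0, 0, 0, 0, 0, 0, 0, 0, 1, 0, 1, 0, 0, 0, 0, 0, 0, 0, 0, 0, 0, 0, 0, 0, 0, 0, 0, 0, 0, 0, 0, 0, 0, 0, 0, 0, 0, 0, 0, 0, 0, 0, 0, 0, 0, 0, 0, 0, 0, 0, 0, 0, 0, 0, 0, 0, 0, 0, 0, 0, 0, 0, 0, 0, 0, 0, 0, 0, 0, 0, 0, 0, 0, 0, 0, 0, 0, 0, 0, 0, 0, 0, 0, 0, 0, 0, 0, 0, 0, 0, 0, 0, 0, 0, 0, 0, 0, 0, 0, 0, 0, 0, 0, 0, 0, 0, 0, 0, 0, 0, 0, 0, 0, 0, 0, 0, 0, 0, 0, 0, 0, 0, 0, 0, 0, 0, 0, 0, 0, 0, 0, 0, 0, 0, 0, 0, 0, 0, 0, 0, 0, 0, 0, 0, 0, 0, 0, 0, 0, 0],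
    [0, 0, 0, 0, 0, 0, 0, 0, 0, 0, 0, 0, 0, 0, 0, 0, 0, 0, 0, 0, 0, 0, 0, 1, 0, 0, 0, 0, 0, 1, 1, 0, 0, 0, 0, 0, 0, 0, 1, 0, 0, 0, 0, 1, 1, 1, 0, 1, 0, 0, 0, 0, 1, 1, 0, 0, 0, 0, 0, 0, 0, 0, 0, 0, 0, 0, 0, 0, 0, 0, 0, 0, 0, 0, 0, 0, 0, 0, 0, 0, 0, 0, 0, 0, 0, 0, 0, 0, 0, 0, 0, 0, 0, 0, 0, 0, 0, 0, 0, 0, 0, 0, 0, 0, 0, 0, 0, 0, 0, 0, 0, 0, 0, 0, 0, 0, 0, 0, 0, 0, 0, 0, 0, 0, 0, 0, 0, 0, 0, 0, 0, 0, 0, 0, 0, 0, 0, 0, 0, 0, 0, 0, 0, 0, 0, 0, 0, 0, 0, 0, 0, 0, 0, 0, 0, 0, 0, 0, 0, 0, 0, 0, 0, 0, 0, 0, 0, 0, 0, 0, 0, 0, 0, 0, 0, 0, 0, 0, 0, 0, 0, 0, 0, 0, 0, 0, 0, 0, 0, 0, 0, 0, 0, 0, 0, 0, 0, 0, 0, 0, 0, 0, 0, 0, 0, 0, 0, 0, 0, 0, 0, 0, 0, 0, 0, 0, 0, 0, 0, 0, 0, 0, 0, 0, 0, 0, 0, 0, 0, 0, 0, 0, 0, 0, 0, 0, 0, 0, 0, 0, 0, 0, 0, 0, 0, 0, 0, 0, 0,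 0, 0, 0, 0, 0, 0, 0, 0, 0, 0, 0, 0, 0, 0, 0, 0, 0, 0, 0, 0, 0, 0, 0, 0, 0, 0, 0, 0, 0, 0, 0, 0, 0, 0, 0, 0, 0, 0, 0, 0, 0, 0, 0, 0, 0, 0, 0, 0, 0, 0, 0, 0, 0, 0, 0, 0, 0, 0, 0, 0, 0, 0, 0, 0, 0, 0, 0, 0, 0, 0, 0, 0, 0, 0, 0, 0, 0, 0, 0, 0, 0, 0, 0, 0, 0, 0, 0, 0, 0, 0, 0, 0, 0, 0, 0, 0, 0, 0, 0, 0, 0, 0, 0, 0, 0, 0, 0, 0, 0, 0, 0, 0, 0, 0, 0, 0, 0, 0],
    [0, 0, 0, 0, 0, 0, 0, 0, 0, 0, 0, 0, 0, 0, 0, 0, 0, 0, 0, 0, 0, 0, 0, 0, 0, 1, 0, 0, 0, 1, 0, 0, 1, 0, 0, 0, 0, 0, 0, 0, 0, 0, 0, 1, 0, 0, 0, 0, 1, 1, 0, 0, 0, 1, 1, 0, 0, 0, 0, 0, 0, 0, 0, 0, 0, 0, 0, 0, 0, 0, 0, 0, 0, 0, 0, 0, 0, 0, 0, 0, 0, 0, 0, 0, 0, 0, 0, 0, 0, 0, 0, 0, 0, 0, 0, 0, 0, 0, 0, 0, 0, 0, 0, 0, 0, 0, 0, 0, 0, 0, 0, 0, 0, 0, 0, 0, 0, 0, 0, 0, 0, 0, 0, 0, 0, 0, 0, 0, 0, 0, 0,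 0, 0, 0, 0, 0, 0, 0, 0, 0, 0, 0, 0, 0, 0, 0, 0, 0, 0, 0, 0, 0, 0, 0, 0, 0, 0, 0, 0, 0, 0, 0, 0, 0, 0, 0, 0, 0, 0, 0, 0, 0, 0, 0, 0, 0, 0, 0, 0, 0, 0, 0, 0, 0, 0, 0, 0, 0, 0, 0, 0, 0, 0, 0, 0, 0, 0, 0, 0, 0, 0, 0, 0, 0, 0, 0, 0, 0, 0, 0, 0, 0, 0, 0, 0, 0, 0, 0, 0, 0, 0, 0, 0, 0, 0, 0, 0, 0, 0, 0, 0, 0, 0, 0, 0, 0, 0, 0, 0, 0, 0, 0, 0, 0, 0, 0, 0, 0, 0, 0, 0, 0, 0, 0, 0, 0, 0, 0, 0, 0, 0, 0, 0, 0, 0, 0, 0, 0, 0, 0, 0, 0, 0, 0, 0, 0, 0, 0, 0, 0, 0, 0, 0, 0, 0, 0, 0, 0, 0, 0, 0, 0, 0, 0, 0, 0, 0, 0, 0, 0, 0, 0, 0, 0, 0, 0, 0, 0, 0, 0, 0, 0, 0, 0, 0, 0, 0, 0, 0, 0, 0, 0, 0, 0, 0, 0, 0, 0, 0, 0, 0, 0, 0, 0, 0, 0, 0, 0, 0, 0, 0, 0, 0, 0, 0, 0, 0, 0, 0, 0, 0, 0, 0, 0, 0, 0, 0, 0, 0, 0, 0, 0, 0, 0, 0, 0, 0],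
    [0, 0, 0, 0, 0, 0, 0, 0, 0, 0, 0, 0, 0, 0, 0, 0, 0, 0, 0, 0, 0, 0, 0, 0, 0, 0, 1, 0, 0, 0, 1, 0, 0, 1, 0, 0, 0, 0, 0, 1, 0, 1, 0, 1, 0, 0, 0, 0, 0, 0, 1, 0, 1, 1, 1, 0, 0, 0, 0, 0, 0, 0, 0, 0, 0, 0, 0, 0, 0, 0, 0, 0, 0, 0, 0, 0, 0, 0, 0, 0, 0, 0, 0, 0, 0, 0, 0, 0, 0, 0, 0, 0, 0, 0, 0, 0, 0, 0, 0, 0, 0, 0, 0, 0, 0, 0, 0, 0, 0, 0, 0, 0, 0, 0, 0, 0, 0, 0, 0, 0, 0, 0, 0, 0, 0, 0, 0, 0, 0, 0, 0, 0, 0, 0, 0, 0, 0, 0, 0, 0, 0, 0, 0, 0, 0, 0, 0, 0, 0, 0, 0, 0, 0, 0, 0, 0, 0, 0, 0, 0, 0, 0, 0, 0, 0, 0, 0, 0, 0, 0, 0, 0, 0, 0, 0, 0, 0, 0, 0, 0, 0, 0, 0, 0, 0, 0, 0, 0, 0, 0, 0, 0, 0, 0, 0, 0, 0, 0, 0, 0, 0, 0, 0, 0, 0, 0, 0, 0, 0, 0, 0, 0, 0, 0, 0, 0, 0, 0, 0, 0, 0, 0, 0, 0, 0, 0, 0, 0, 0, 0, 0, 0, 0, 0, 0, 0, 0, 0, 0, 0, 0, 0, 0, 0, 0, 0, 0, 0, 0,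 0, 0, 0, 0, 0, 0, 0, 0, 0, 0, 0, 0, 0, 0, 0, 0, 0, 0, 0, 0, 0, 0, 0, 0, 0, 0, 0, 0, 0, 0, 0, 0, 0, 0, 0, 0, 0, 0, 0, 0, 0, 0, 0, 0, 0, 0, 0, 0, 0, 0, 0, 0, 0, 0, 0, 0, 0, 0, 0, 0, 0, 0, 0, 0, 0, 0, 0, 0, 0, 0, 0, 0, 0, 0, 0, 0, 0, 0, 0, 0, 0, 0, 0, 0, 0, 0, 0, 0, 0, 0, 0, 0, 0, 0, 0, 0, 0, 0, 0, 0, 0, 0, 0, 0, 0, 0, 0, 0, 0, 0, 0, 0, 0, 0, 0, 0, 0, 0]]

/-- part of the exponents -/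
def twoVecs18 : List (List ℤ) :=
  [[0, 0, 0, 0, 0, 0, 0, 0, 0, 0, 0, 0, 0, 0, 0, 0, 0, 0, 0, 0, 0, 0, 0, 0, 0, 0, 0, 0, 0, 0, 0, 0, 0, 0, 0, 0, 0, 0, 0, 0, 0, 0, 0, 0, 0, 0, 0, 0, 0, 0, 0, 0, 0, 0, 0, 0, 0, 0, 0, 0, 0, 0, 0, 0, 0, 0, 0, 0, 0, 0, 0, 0, 0, 0, 0, 0, 0, 0, 0, 0, 0, 0, 0, 0, 0, 0, 0, 0, 0, 0, 0, 0, 0, 0, 0, 0, 0, 0, 0, 0, 0, 0, 0, 0, 0, 0, 0, 0, 0, 0, 0, 0, 0, 0, 0, 0, 0, 0, 0, 0, 0, 0, 0, 0, 0, 0, 0, 0, 0, 0, 0, 0, 0, 0, 0, 0, 0, 0, 0, 0, 0, 0, 0, 0, 0, 0, 0, 0, 0, 0, 0, 0, 0, 0, 0, 0, 0, 0, 0, 0, 0, 0, 0, 0, 0, 0, 0, 0, 0, 0, 0, 0, 0, 0, 1, 0, 0, 0, 0, 0, 0, 0, 0, 0, 0, 0, 0, 0, 0, 1, 0, 0, 0, 1, 0, 0, 0, 0, 0, 0, 0, 0, 0, 0, 0, 0, 0, 0, 1, 1, 0, 0, 0, 0, 0, 0, 0, 0, 0, 0, 0, 0, 0, 0, 0, 0, 0, 0, 0, 1, 1, 0, 0, 0, 1, 0, 0, 0,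 0, 0, 0, 0, 0, 0, 0, 0, 0, 0, 0, 1, 0, 1, 0, 0, 0, 0, 0, 0, 0, 0, 0, 0, 0, 0, 0, 0, 0, 0, 0, 0, 0, 0, 0, 0, 0, 0, 0, 0, 0, 0, 0, 0, 0, 0, 0, 0, 0, 0, 0, 0, 0, 0, 0, 0, 0, 0, 0, 0, 0, 0, 0, 0, 0, 0, 0, 0, 0, 0, 0, 0, 0, 0, 0, 0, 0, 0, 0, 0, 0, 0, 0, 0, 0, 0, 0, 0, 0, 0, 0, 0, 0, 0, 0, 0, 0, 0, 0, 0, 0, 0, 0, 0, 0, 0, 0, 0, 0, 0, 0, 0, 0, 0, 0, 0, 0, 0, 0, 0, 0, 0, 0, 0, 0, 0, 0, 0, 0],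
    [0, 0, 0, 0, 0, 0, 0, 0, 0, 0, 0, 0, 0, 0, 0, 0, 0, 0, 0, 0, 0, 0, 0, 0, 0, 0, 0, 0, 0, 0, 0, 0, 0, 0, 0, 0, 0, 0, 0, 0, 0, 0, 0, 0, 0, 0, 0, 0, 0, 0, 0, 0, 0, 0, 0, 0, 0, 0, 0, 0, 0, 0, 0, 0, 0, 0, 0, 0, 0, 0, 0, 0, 0, 0, 0, 0, 0, 0, 0, 0, 0, 0, 0, 0, 0, 0, 0, 1, 0, 0, 0, 0, 0, 0, 0, 0, 0, 0, 0, 0, 1, 0, 0, 0, 0, 0, 0, 0, 0, 0, 0, 0, 0, 0, 0, 0, 0, 0, 0, 0, 0, 0, 0, 0, 0, 0, 0, 0, 0, 1, 0, 0, 0, 0, 0, 0, 0, 0, 0, 0, 0, 0, 0, 0, 0, 0, 0, 0, 0, 0, 0, 0, 0, 0, 0, 0, 0, 0, 0, 0, 0, 0, 1, 0, 0, 0, 0, 0, 0, 0, 0, 0, 0, 0, 1, 0, 0, 0, 0, 0, 0, 0, 0, 1, 1, 0, 1, 0, 1, 0, 0, 0, 0, 0, 0, 0, 0, 0, 0, 0, 0, 0, 0, 0, 0, 0, 0, 0, 0, 0, 0, 0, 0, 0, 0, 0, 0, 0, 0, 0, 0, 0, 0, 0, 0, 1, 0, 1, 0, 0, 0, 0, 0, 0, 0, 0, 0, 0, 0, 0, 0, 0, 0, 0, 0, 0, 0, 0, 0,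 0, 0, 0, 0, 0, 0, 0, 0, 0, 0, 0, 0, 0, 0, 0, 0, 0, 0, 0, 0, 0, 0, 0, 0, 0, 0, 0, 0, 0, 0, 0, 0, 0, 0, 0, 0, 0, 0, 0, 0, 0, 0, 0, 0, 0, 0, 0, 0, 0, 0, 0, 0, 0, 0, 0, 0, 0, 0, 0, 0, 0, 0, 0, 0, 0, 0, 0, 0, 0, 0, 0, 0, 0, 0, 0, 0, 0, 0, 0, 0, 0, 0, 0, 0, 0, 0, 0, 0, 0, 0, 0, 0, 0, 0, 0, 0, 0, 0, 0, 0, 0, 0, 0, 0, 0, 0, 0, 0, 0, 0, 0, 0, 0, 0, 0, 0, 0, 0],
    [0, 0, 0, 0, 0, 0, 0, 0, 0, 0, 0, 0, 0, 0, 0, 0, 0, 0, 0, 0, 0, 0, 0, 0, 0, 0, 0, 0, 0, 0, 0, 0, 0, 0, 0, 0, 0, 0, 0, 0, 0, 0, 0, 0, 0, 0, 0, 0, 0, 0, 0, 0, 0, 0, 0, 0, 0, 0, 0, 0, 0, 0, 0, 0, 0, 0, 0, 0, 0, 0, 0, 0, 0, 0, 0, 0, 0, 0, 0, 0, 0, 0, 0, 0, 0, 0, 0, 1, 0, 0, 0, 0, 0, 0, 0, 0, 0, 0, 0, 0, 1, 0, 0, 0, 0, 0, 0, 0, 0, 0, 0, 0, 0, 0, 1, 0, 0, 0, 0, 0, 0, 0, 0, 0, 0, 0, 0, 0, 0, 0, 0,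 0, 0, 0, 0, 0, 0, 0, 0, 0, 0, 0, 0, 0, 0, 0, 0, 0, 0, 0, 0, 0, 0, 0, 0, 0, 0, 0, 0, 0, 0, 0, 1, 0, 0, 0, 0, 0, 0, 0, 0, 0, 0, 0, 0, 1, 0, 0, 0, 0, 0, 0, 0, 1, 1, 1, 0, 0, 1, 0, 0, 0, 0, 0, 0, 0, 0, 0, 0, 0, 0, 0, 0, 0, 0, 0, 0, 0, 0, 0, 0, 0, 0, 0, 0, 0, 0, 0, 0, 0, 0, 0, 0, 0, 1, 0, 0, 1, 0, 0, 0, 0, 0, 0, 0, 0, 0, 0, 0, 0, 0, 0, 0, 0, 0, 0, 0, 0, 0, 0, 0, 0, 0, 0, 0, 0, 0, 0, 0, 0, 0, 0, 0, 0, 0, 0, 0, 0, 0, 0, 0, 0, 0, 0, 0, 0, 0, 0, 0, 0, 0, 0, 0, 0, 0, 0, 0, 0, 0, 0, 0, 0, 0, 0, 0, 0, 0, 0, 0, 0, 0, 0, 0, 0, 0, 0, 0, 0, 0, 0, 0, 0, 0, 0, 0, 0, 0, 0, 0, 0, 0, 0, 0, 0, 0, 0, 0, 0, 0, 0, 0, 0, 0, 0, 0, 0, 0, 0, 0, 0, 0, 0, 0, 0, 0, 0, 0, 0, 0, 0, 0, 0, 0, 0, 0, 0, 0, 0, 0, 0, 0, 0, 0, 0, 0, 0, 0],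
    [0, 0, 0, 0, 0, 0, 0, 0, 0, 0, 0, 0, 0, 0, 0, 0, 0, 0, 0, 0, 0, 0, 0, 0, 0, 0, 0, 0, 0, 0, 0, 0, 0, 0, 0, 0, 0, 0, 0, 0, 0, 0, 0, 0, 0, 0, 0, 0, 0, 0, 0, 0, 0, 0, 0, 0, 0, 0, 0, 0, 0, 0, 0, 0, 0, 0, 0, 0, 0, 0, 0, 0, 0, 0, 0, 0, 0, 0, 0, 0, 0, 0, 0, 0, 0, 0, 0, 0, 0, 0, 0, 0, 0, 0, 0, 0, 0, 0, 0, 0, 0, 0, 0, 0, 0, 0, 0, 0, 0, 0, 0, 0, 0, 0, 0, 0, 0, 0, 0, 0, 0, 0, 0, 0, 0, 0, 0, 1, 0, 0, 0, 0, 0, 0, 0, 0, 0, 0, 0, 0, 0, 0, 0, 1, 0, 0, 0, 0, 0, 0, 0, 0, 0, 0, 0, 0, 0, 0, 1, 0, 0, 0, 0, 0, 0, 0, 0, 0, 1, 1, 0, 0, 0, 0, 0, 0, 0, 0, 0, 0, 0, 0, 0, 0, 0, 0, 0, 0, 0, 0, 0, 0, 0, 0, 0, 0, 0, 0, 0, 0, 0, 0, 0, 0, 0, 0, 0, 0, 0, 0, 0, 0, 0, 0, 0, 1, 0, 0, 0, 0, 0, 0, 0, 0, 0, 1, 0, 0, 0, 0, 0, 0, 0, 0, 0, 0, 0, 0, 0, 0, 0, 0, 0, 0, 0, 0, 0, 1, 0,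 0, 0, 1, 0, 0, 0, 0, 0, 0, 0, 0, 0, 0, 0, 0, 0, 0, 0, 0, 0, 0, 0, 0, 0, 0, 0, 0, 0, 0, 0, 0, 0, 0, 0, 0, 0, 0, 0, 0, 0, 0, 0, 0, 0, 0, 0, 0, 0, 0, 0, 0, 0, 0, 0, 0, 0, 0, 0, 0, 0, 0, 0, 0, 0, 0, 0, 0, 0, 0, 0, 0, 0, 0, 0, 0, 0, 0, 0, 0, 0, 0, 0, 0, 0, 0, 0, 0, 0, 0, 0, 0, 0, 0, 0, 0, 0, 0, 0, 0, 0, 0, 0, 0, 0, 0, 0, 0, 0, 0, 0, 0, 0, 0, 0, 0, 0, 0, 0],
    [0, 0, 0, 0, 0, 0, 0, 0, 0, 0, 0, 0, 0, 0, 0, 0, 0, 0, 0, 0, 0, 0, 0, 0, 0, 0, 0, 0, 0, 0, 0, 0, 0, 0, 0, 0, 0, 0, 0, 0, 0, 0, 0, 0, 0, 0, 0, 0, 0, 0, 0, 0, 0, 0, 0, 0, 0, 0, 0, 0, 0, 0, 0, 0, 0, 0, 0, 0, 0, 0, 0, 0, 0, 0, 0, 0, 0, 0, 0, 0, 0, 0, 0, 0, 0, 0, 0, 0, 1, 0, 1, 0, 0, 0, 0, 0, 0, 0, 0, 0, 0, 1, 0, 1, 1, 0, 0, 0, 0, 0, 0, 0, 0, 0, 0, 0, 0, 0, 0, 0, 0, 0, 0, 0, 0, 0, 0, 0, 0, 0, 1,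 0, 1, 1, 0, 1, 0, 0, 0, 0, 0, 0, 0, 0, 0, 0, 0, 0, 0, 0, 0, 0, 0, 0, 0, 0, 0, 0, 0, 0, 0, 0, 0, 1, 0, 1, 1, 0, 1, 0, 1, 0, 0, 0, 0, 0, 0, 0, 0, 0, 0, 0, 0, 0, 0, 0, 0, 0, 0, 0, 0, 0, 0, 0, 0, 0, 0, 0, 0, 0, 0, 0, 0, 0, 0, 0, 0, 0, 0, 0, 0, 0, 0, 0, 0, 0, 0, 0, 0, 0, 0, 0, 0, 0, 0, 0, 0, 0, 0, 0, 0, 0, 0, 0, 0, 0, 0, 0, 0, 0, 0, 0, 0, 0, 0, 0, 0, 0, 0, 0, 0, 0, 0, 0, 0, 0, 0, 0, 0, 0, 0, 0, 0, 0, 0, 0, 0, 0, 0, 0, 0, 0, 0, 0, 0, 0, 0, 0, 0, 0, 0, 0, 0, 0, 0, 0, 0, 0, 0, 0, 0, 0, 0, 0, 0, 0, 0, 0, 0, 0, 0, 0, 0, 0, 0, 0, 0, 0, 0, 0, 0, 0, 0, 0, 0, 0, 0, 0, 0, 0, 0, 0, 0, 0, 0, 0, 0, 0, 0, 0, 0, 0, 0, 0, 0, 0, 0, 0, 0, 0, 0, 0, 0, 0, 0, 0, 0, 0, 0, 0, 0, 0, 0, 0, 0, 0, 0, 0, 0, 0, 0, 0, 0, 0, 0, 0, 0],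
    [0, 0, 0, 0, 0, 0, 0, 0, 0, 0, 0, 0, 0, 0, 0, 0, 0, 0, 0, 0, 0, 0, 0, 0, 0, 0, 0, 0, 0, 0, 0, 0, 0, 0, 0, 0, 0, 0, 0, 0, 0, 0, 0, 0, 0, 0, 0, 0, 0, 0, 0, 0, 0, 0, 0, 0, 0, 0, 0, 0, 0, 0, 0, 0, 0, 0, 0, 0, 0, 0, 0, 0, 0, 0, 0, 0, 0, 0, 0, 0, 0, 0, 0, 0, 0, 1, 0, 0, 0, 0, 0, 0, 0, 0, 0, 0, 0, 0, 0, 0, 0, 0, 0, 0, 0, 0, 0, 0, 0, 0, 0, 1, 1, 0, 0, 0, 0, 0, 0, 0, 0, 0, 0, 0, 0, 0, 0, 0, 0, 0, 0, 0, 0, 0, 0, 0, 0, 0, 0, 0, 0, 0, 0, 0, 0, 0, 0, 0, 0, 0, 0, 0, 0, 0, 0, 0, 0, 0, 0, 0, 0, 0, 0, 0, 0, 0, 0, 0, 0, 0, 0, 0, 0, 0, 0, 0, 0, 1, 0, 0, 0, 0, 0, 0, 0, 1, 0, 0, 0, 1, 1, 0, 0, 0, 0, 0, 0, 0, 0, 0, 0, 0, 0, 0, 0, 0, 0, 0, 1, 1, 0, 0, 0, 0, 0, 0, 0, 0, 0, 0, 0, 0, 0, 0, 1, 0, 0, 0, 0, 0, 0, 0, 0, 0, 0, 0, 0, 0, 0, 0, 0, 0, 0, 0, 0, 0, 0, 0, 0,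 0, 0, 0, 0, 0, 0, 0, 0, 0, 0, 0, 0, 0, 0, 0, 0, 0, 0, 0, 0, 0, 0, 0, 0, 0, 0, 0, 0, 0, 0, 0, 0, 0, 0, 0, 0, 0, 0, 0, 0, 0, 0, 0, 0, 0, 0, 0, 0, 0, 0, 0, 0, 0, 0, 0, 0, 0, 0, 0, 0, 0, 0, 0, 0, 0, 0, 0, 0, 0, 0, 0, 0, 0, 0, 0, 0, 0, 0, 0, 0, 0, 0, 0, 0, 0, 0, 0, 0, 0, 0, 0, 0, 0, 0, 0, 0, 0, 0, 0, 0, 0, 0, 0, 0, 0, 0, 0, 0, 0, 0, 0, 0, 0, 0, 0, 0, 0, 0],
    [0, 0, 0, 0, 0, 0, 0, 0, 0, 0, 0, 0, 0, 0, 0, 0, 0, 0, 0, 0, 0, 0, 0, 0, 0, 0, 0, 0, 0, 0, 0, 0, 0, 0, 0, 0, 0, 0, 0, 0, 0, 0, 0, 0, 0, 0, 0, 0, 0, 0, 0, 0, 0, 0, 0, 0, 0, 0, 0, 0, 0, 0, 0, 0, 0, 0, 0, 0, 0, 0, 0, 0, 0, 0, 0, 0, 0, 0, 0, 0, 0, 0, 0, 0, 0, 0, 0, 0, 0, 0, 0, 0, 0, 0, 0, 0, 1, 0, 0, 0, 0, 0, 0, 0, 0, 0, 0, 1, 0, 0, 1, 0, 0, 0, 0, 0, 0, 0, 0, 0, 0, 0, 0, 0, 0, 0, 0, 0, 0, 0, 0,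 0, 0, 0, 0, 0, 0, 0, 1, 0, 0, 1, 0, 0, 0, 0, 0, 0, 0, 0, 1, 0, 0, 0, 0, 0, 0, 0, 0, 0, 0, 0, 0, 0, 0, 0, 0, 0, 0, 0, 0, 0, 0, 0, 0, 0, 0, 0, 0, 0, 0, 0, 0, 0, 0, 0, 0, 0, 0, 0, 0, 0, 1, 0, 0, 1, 0, 0, 0, 0, 0, 0, 0, 0, 0, 0, 0, 0, 0, 0, 0, 0, 1, 0, 0, 1, 0, 0, 0, 0, 0, 0, 0, 0, 0, 0, 0, 0, 0, 0, 0, 0, 0, 0, 0, 0, 0, 0, 0, 0, 0, 0, 0, 0, 0, 0, 0, 0, 0, 0, 0, 0, 0, 0, 0, 0, 0, 0, 0, 0, 0, 0, 0, 0, 0, 0, 0, 0, 0, 0, 0, 0, 0, 0, 0, 0, 0, 0, 0, 0, 0, 0, 0, 0, 0, 0, 0, 0, 0, 0, 0, 0, 0, 0, 0, 0, 0, 0, 0, 0, 0, 0, 0, 0, 0, 0, 0, 0, 0, 0, 0, 0, 0, 0, 0, 0, 0, 0, 0, 0, 0, 0, 0, 0, 0, 0, 0, 0, 0, 0, 0, 0, 0, 0, 0, 0, 0, 0, 0, 0, 0, 0, 0, 0, 0, 0, 0, 0, 0, 0, 0, 0, 0, 0, 0, 0, 0, 0, 0, 0, 0, 0, 0, 0, 0, 0, 0],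
    [0, 0, 0, 0, 0, 0, 0, 0, 0, 0, 0, 0, 0, 0, 0, 0, 0, 0, 0, 0, 0, 0, 0, 0, 0, 0, 0, 0, 0, 0, 0, 0, 0, 0, 0, 0, 0, 0, 0, 0, 0, 0, 0, 0, 0, 0, 0, 0, 0, 0, 0, 0, 0, 0, 0, 0, 0, 0, 0, 0, 0, 0, 0, 0, 0, 0, 0, 0, 0, 0, 0, 0, 0, 1, 0, 0, 0, 0, 0, 0, 0, 0, 0, 0, 0, 0, 0, 0, 0, 0, 0, 0, 0, 0, 0, 0, 0, 1, 1, 0, 0, 0, 0, 0, 0, 0, 0, 0, 0, 0, 0, 0, 0, 0, 0, 0, 0, 0, 0, 0, 0, 0, 0, 0, 0, 0, 0, 0, 0, 0, 0, 0, 0, 0, 0, 0, 0, 0, 0, 0, 0, 0, 0, 0, 0, 0, 0, 0, 0, 0, 0, 0, 0, 0, 0, 0, 0, 0, 0, 1, 0, 0, 0, 0, 0, 0, 1, 0, 0, 0, 1, 1, 0, 0, 0, 0, 0, 0, 1, 0, 0, 0, 0, 0, 1, 0, 0, 0, 0, 0, 0, 0, 0, 0, 0, 0, 0, 0, 0, 0, 0, 0, 0, 0, 0, 0, 0, 0, 0, 0, 0, 0, 0, 0, 0, 0, 0, 0, 0, 0, 0, 0, 0, 1, 0, 0, 0, 0, 1, 0, 0, 0, 0, 0, 0, 0, 0, 0, 0, 0, 0, 0, 0, 0, 0, 0, 0, 0, 0,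 0, 0, 0, 0, 0, 0, 0, 0, 0, 0, 0, 0, 0, 0, 0, 0, 0, 0, 0, 0, 0, 0, 0, 0, 0, 0, 0, 0, 0, 0, 0, 0, 0, 0, 0, 0, 0, 0, 0, 0, 0, 0, 0, 0, 0, 0, 0, 0, 0, 0, 0, 0, 0, 0, 0, 0, 0, 0, 0, 0, 0, 0, 0, 0, 0, 0, 0, 0, 0, 0, 0, 0, 0, 0, 0, 0, 0, 0, 0, 0, 0, 0, 0, 0, 0, 0, 0, 0, 0, 0, 0, 0, 0, 0, 0, 0, 0, 0, 0, 0, 0, 0, 0, 0, 0, 0, 0, 0, 0, 0, 0, 0, 0, 0, 0, 0, 0, 0],
    [0, 0, 0, 0, 0, 0, 0, 0, 0, 0, 0, 0, 0, 0, 0, 0, 0, 0, 0, 0, 0, 0, 0, 0, 0, 0, 0, 0, 0, 0, 0, 0, 0, 0, 0, 0, 0, 0, 0, 0, 0, 0, 0, 0, 0, 0, 0, 0, 0, 0, 0, 0, 0, 0, 0, 0, 0, 0, 0, 0, 0, 0, 0, 0, 0, 0, 0, 0, 0, 0, 0, 0, 0, 0, 0, 1, 0, 0, 0, 0, 0, 0, 0, 0, 0, 0, 0, 0, 0, 0, 0, 0, 0, 0, 0, 0, 0, 0, 0, 0, 0, 0, 0, 0, 0, 0, 0, 0, 0, 0, 0, 0, 0, 0, 0, 0, 0, 0, 0, 0, 0, 0, 0, 0, 0, 0, 0, 0, 0, 0, 0,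 0, 0, 0, 0, 0, 0, 0, 0, 0, 0, 0, 0, 0, 0, 0, 0, 0, 0, 0, 0, 0, 0, 0, 0, 0, 0, 0, 0, 0, 0, 0, 0, 0, 0, 0, 0, 0, 0, 0, 0, 0, 1, 0, 0, 0, 0, 0, 0, 0, 1, 0, 0, 0, 0, 0, 0, 0, 0, 0, 0, 0, 0, 0, 0, 0, 1, 0, 0, 1, 0, 0, 0, 0, 0, 0, 0, 0, 0, 0, 0, 0, 0, 0, 0, 0, 1, 0, 0, 1, 0, 0, 0, 0, 0, 0, 0, 0, 1, 1, 0, 0, 0, 0, 0, 0, 0, 0, 0, 0, 1, 0, 0, 0, 0, 0, 0, 0, 0, 0, 0, 0, 0, 0, 0, 0, 0, 0, 0, 0, 0, 0, 0, 0, 0, 0, 0, 0, 0, 0, 0, 0, 0, 0, 0, 0, 0, 0, 0, 0, 0, 0, 0, 0, 0, 0, 0, 0, 0, 0, 0, 0, 0, 0, 0, 0, 0, 0, 0, 0, 0, 0, 0, 0, 0, 0, 0, 0, 0, 0, 0, 0, 0, 0, 0, 0, 0, 0, 0, 0, 0, 0, 0, 0, 0, 0, 0, 0, 0, 0, 0, 0, 0, 0, 0, 0, 0, 0, 0, 0, 0, 0, 0, 0, 0, 0, 0, 0, 0, 0, 0, 0, 0, 0, 0, 0, 0, 0, 0, 0, 0, 0, 0, 0, 0, 0, 0],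
    [0, 0, 0, 0, 0, 0, 0, 0, 0, 0, 0, 0, 0, 0, 0, 0, 0, 0, 0, 0, 0, 0, 0, 0, 0, 0, 0, 0, 0, 0, 0, 0, 0, 0, 0, 0, 0, 0, 0, 0, 0, 0, 0, 0, 0, 0, 0, 0, 0, 0, 0, 0, 0, 0, 0, 0, 0, 0, 0, 0, 0, 0, 0, 0, 0, 0, 0, 0, 0, 0, 0, 0, 0, 0, 0, 0, 0, 0, 0, 0, 0, 0, 0, 0, 0, 0, 0, 0, 0, 0, 0, 0, 0, 0, 0, 0, 0, 0, 0, 0, 0, 0, 0, 0, 0, 0, 0, 0, 1, 0, 0, 0, 0, 0, 0, 0, 0, 0, 0, 1, 0, 0, 0, 0, 0, 0, 0, 0, 0, 0, 0, 0, 0, 0, 0, 0, 0, 0, 0, 1, 0, 0, 0, 0, 0, 0, 0, 0, 0, 0, 1, 0, 1, 0, 0, 0, 0, 0, 0, 0, 0, 0, 0, 0, 0, 0, 0, 0, 0, 0, 0, 0, 0, 0, 1, 0, 0, 0, 0, 0, 0, 0, 0, 0, 0, 1, 0, 1, 0, 1, 0, 0, 0, 0, 0, 0, 0, 0, 0, 0, 0, 0, 0, 0, 0, 0, 0, 0, 0, 0, 0, 0, 0, 0, 0, 0, 0, 0, 0, 0, 0, 0, 0, 0, 0, 0, 1, 0, 1, 0, 1, 0, 0, 0, 0, 0, 0, 0, 0, 0, 0, 0, 0, 0, 0, 0, 0, 1, 0,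 1, 0, 1, 1, 0, 0, 0, 0, 0, 0, 0, 0, 0, 0, 0, 0, 0, 0, 0, 0, 0, 0, 0, 0, 0, 0, 0, 0, 0, 0, 0, 0, 0, 0, 0, 0, 0, 0, 0, 0, 0, 0, 0, 0, 0, 0, 0, 0, 0, 0, 0, 0, 0, 0, 0, 0, 0, 0, 0, 0, 0, 0, 0, 0, 0, 0, 0, 0, 0, 0, 0, 0, 0, 0, 0, 0, 0, 0, 0, 0, 0, 0, 0, 0, 0, 0, 0, 0, 0, 0, 0, 0, 0, 0, 0, 0, 0, 0, 0, 0, 0, 0, 0, 0, 0, 0, 0, 0, 0, 0, 0, 0, 0, 0, 0, 0, 0, 0]]

/-- part of the exponents -/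
def twoVecs19 : List (List ℤ) :=
  [[0, 0, 0, 0, 0, 0, 0, 0, 0, 0, 0, 0, 0, 0, 0, 0, 0, 0, 0, 0, 0, 0, 0, 0, 0, 0, 0, 0, 0, 0, 0, 0, 0, 0, 0, 0, 0, 0, 0, 0, 0, 0, 0, 0, 0, 0, 0, 0, 0, 0, 0, 0, 0, 0, 0, 0, 0, 0, 0, 0, 0, 0, 0, 0, 0, 0, 0, 0, 0, 0, 0, 0, 0, 0, 0, 0, 0, 0, 0, 0, 0, 0, 0, 0, 0, 0, 0, 0, 0, 0, 0, 0, 0, 0, 0, 0, 0, 0, 0, 0, 0, 0, 0, 0, 0, 0, 0, 0, 0, 1, 0, 0, 0, 0, 0, 0, 0, 0, 0, 0, 0, 0, 0, 1, 0, 0, 0, 0, 0, 0, 0, 0, 0, 0, 1, 0, 0, 0, 0, 1, 1, 0, 0, 0, 0, 0, 0, 0, 0, 0, 1, 1, 0, 0, 0, 0, 0, 0, 0, 0, 0, 0, 0, 0, 0, 0, 0, 0, 0, 0, 0, 0, 0, 0, 0, 1, 0, 0, 0, 0, 0, 0, 0, 0, 0, 0, 1, 1, 0, 0, 0, 0, 0, 0, 0, 0, 0, 0, 0, 0, 0, 0, 0, 0, 0, 0, 0, 0, 0, 0, 0, 0, 0, 0, 0, 0, 0, 0, 0, 0, 0, 0, 0, 0, 0, 0, 1, 0, 0, 0, 0, 0, 0, 0, 0, 0, 0, 0,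 0, 0, 0, 0, 0, 0, 0, 0, 0, 1, 0, 0, 0, 0, 0, 0, 0, 0, 0, 0, 0, 0, 0, 0, 0, 0, 0, 0, 0, 0, 0, 0, 0, 0, 0, 0, 0, 0, 0, 0, 0, 0, 0, 0, 0, 0, 0, 0, 0, 0, 0, 0, 0, 0, 0, 0, 0, 0, 0, 0, 0, 0, 0, 0, 0, 0, 0, 0, 0, 0, 0, 0, 0, 0, 0, 0, 0, 0, 0, 0, 0, 0, 0, 0, 0, 0, 0, 0, 0, 0, 0, 0, 0, 0, 0, 0, 0, 0, 0, 0, 0, 0, 0, 0, 0, 0, 0, 0, 0, 0, 0, 0, 0, 0, 0, 0, 0, 0, 0, 0, 0, 0, 0, 0, 0, 0, 0, 0, 0],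
    [0, 0, 0, 0, 0, 0, 0, 0, 0, 0, 0, 0, 0, 0, 0, 0, 0, 0, 0, 0, 0, 0, 0, 0, 0, 0, 0, 0, 0, 0, 0, 0, 0, 0, 0, 0, 0, 0, 0, 0, 0, 0, 0, 0, 0, 0, 0, 0, 0, 0, 0, 0, 0, 0, 0, 0, 0, 0, 0, 0, 0, 0, 0, 0, 0, 0, 0, 0, 0, 0, 0, 0, 0, 0, 0, 0, 0, 0, 0, 0, 0, 0, 0, 0, 0, 0, 1, 0, 0, 0, 0, 0, 0, 0, 0, 0, 0, 0, 0, 0, 0, 0, 0, 0, 0, 0, 0, 0, 0, 0, 0, 0, 0, 0, 0, 0, 0, 0, 0, 0, 0, 0, 0, 0, 0, 0, 0, 0, 0, 0, 0, 0, 0, 0, 0, 0, 0, 0, 0, 0, 0, 0, 0, 0, 0, 0, 0, 0, 0, 0, 0, 0, 0, 0, 0, 0, 0, 0, 0, 0, 0, 0, 0, 0, 0, 0, 0, 0, 0, 0, 0, 0, 1, 0, 0, 0, 0, 0, 0, 1, 0, 0, 0, 0, 0, 0, 0, 0, 0, 0, 0, 1, 0, 0, 0, 0, 0, 0, 1, 0, 0, 0, 0, 0, 0, 0, 0, 0, 1, 0, 0, 1, 0, 0, 0, 0, 0, 0, 1, 0, 0, 0, 0, 0, 0, 0, 0, 0, 0, 0, 0, 0, 0, 0, 0, 0, 0, 0, 0, 0, 0, 0, 0, 0, 0, 0, 0, 0, 0,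 0, 0, 0, 0, 0, 0, 0, 0, 0, 0, 0, 0, 0, 0, 0, 0, 0, 0, 0, 0, 0, 0, 0, 0, 0, 0, 0, 0, 0, 0, 0, 0, 0, 0, 0, 0, 0, 0, 0, 0, 0, 0, 0, 0, 0, 0, 0, 0, 0, 0, 0, 0, 0, 0, 0, 0, 0, 0, 0, 0, 0, 0, 0, 0, 0, 0, 0, 0, 0, 0, 0, 0, 0, 0, 0, 0, 0, 0, 0, 0, 0, 0, 0, 0, 0, 0, 0, 0, 0, 0, 0, 0, 0, 0, 0, 0, 0, 0, 0, 0, 0, 0, 0, 0, 0, 0, 0, 0, 0, 0, 0, 0, 0, 0, 0, 0, 0, 0],
    [0, 0, 0, 0, 0, 0, 0, 0, 0, 0, 0, 0, 0, 0, 0, 0, 0, 0, 0, 0, 0, 0, 0, 0, 0, 0, 0, 0, 0, 0, 0, 0, 0, 0, 0, 0, 0, 0, 0, 0, 0, 0, 0, 0, 0, 0, 0, 0, 0, 0, 0, 0, 0, 0, 0, 0, 0, 0, 0, 0, 0, 0, 0, 0, 1, 0, 0, 0, 0, 0, 0, 0, 0, 0, 0, 0, 0, 0, 0, 0, 0, 0, 0, 0, 0, 0, 0, 0, 0, 0, 0, 0, 0, 0, 0, 0, 0, 0, 0, 0, 0, 0, 0, 0, 0, 0, 0, 0, 0, 0, 0, 1, 0, 0, 1, 0, 0, 0, 0, 0, 0, 0, 0, 0, 0, 0, 1, 0, 0, 1, 0,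 0, 0, 0, 0, 0, 0, 0, 0, 0, 0, 0, 0, 0, 0, 0, 0, 0, 0, 0, 0, 0, 0, 0, 0, 0, 0, 0, 0, 0, 0, 0, 0, 0, 0, 0, 0, 0, 0, 0, 0, 0, 0, 0, 0, 0, 1, 1, 0, 0, 1, 0, 0, 0, 0, 0, 1, 0, 0, 1, 0, 0, 0, 0, 0, 0, 0, 0, 0, 0, 0, 0, 0, 0, 0, 1, 0, 0, 0, 1, 0, 0, 0, 0, 0, 0, 0, 0, 0, 0, 0, 0, 0, 0, 0, 0, 0, 0, 0, 0, 0, 0, 0, 0, 0, 0, 0, 0, 0, 0, 0, 0, 0, 0, 0, 0, 0, 0, 0, 0, 0, 0, 0, 0, 0, 0, 0, 0, 0, 0, 0, 0, 0, 0, 0, 0, 0, 0, 0, 0, 0, 0, 0, 0, 0, 0, 0, 0, 0, 0, 0, 0, 0, 0, 0, 0, 0, 0, 0, 0, 0, 0, 0, 0, 0, 0, 0, 0, 0, 0, 0, 0, 0, 0, 0, 0, 0, 0, 0, 0, 0, 0, 0, 0, 0, 0, 0, 0, 0, 0, 0, 0, 0, 0, 0, 0, 0, 0, 0, 0, 0, 0, 0, 0, 0, 0, 0, 0, 0, 0, 0, 0, 0, 0, 0, 0, 0, 0, 0, 0, 0, 0, 0, 0, 0, 0, 0, 0, 0, 0, 0, 0, 0, 0, 0, 0, 0],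
    [0, 0, 0, 0, 0, 0, 0, 0, 0, 0, 0, 0, 0, 0, 0, 0, 0, 0, 0, 0, 0, 0, 0, 0, 0, 0, 0, 0, 0, 0, 0, 0, 0, 0, 0, 0, 0, 0, 0, 0, 0, 0, 0, 0, 0, 0, 0, 0, 0, 0, 0, 0, 0, 0, 0, 0, 0, 0, 0, 0, 0, 0, 0, 0, 0, 0, 0, 0, 1, 0, 0, 0, 0, 0, 0, 0, 0, 0, 0, 0, 0, 0, 0, 0, 0, 0, 0, 0, 0, 0, 0, 0, 1, 1, 0, 0, 0, 0, 0, 0, 0, 0, 0, 0, 0, 0, 0, 0, 0, 0, 0, 0, 0, 0, 0, 0, 0, 0, 0, 0, 0, 0, 0, 0, 0, 0, 0, 0, 0, 0, 0, 0, 0, 0, 0, 0, 0, 0, 0, 0, 0, 0, 0, 0, 0, 0, 0, 0, 0, 0, 0, 0, 0, 0, 1, 1, 0, 0, 0, 0, 0, 0, 0, 0, 0, 0, 0, 0, 0, 0, 0, 0, 0, 0, 0, 0, 0, 0, 0, 0, 0, 0, 0, 0, 0, 0, 0, 0, 0, 0, 1, 0, 1, 0, 0, 0, 0, 0, 0, 0, 0, 0, 0, 1, 0, 0, 0, 1, 0, 0, 1, 0, 0, 0, 0, 0, 0, 0, 0, 0, 0, 0, 0, 1, 0, 0, 0, 1, 0, 0, 0, 0, 0, 1, 0, 0, 0, 0, 0, 0, 0, 0, 0, 0, 0, 0, 0, 0, 0,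 0, 0, 1, 0, 0, 0, 0, 0, 0, 0, 0, 0, 0, 0, 0, 0, 0, 0, 0, 0, 0, 0, 0, 0, 0, 0, 0, 0, 0, 0, 0, 0, 0, 0, 0, 0, 0, 0, 0, 0, 0, 0, 0, 0, 0, 0, 0, 0, 0, 0, 0, 0, 0, 0, 0, 0, 0, 0, 0, 0, 0, 0, 0, 0, 0, 0, 0, 0, 0, 0, 0, 0, 0, 0, 0, 0, 0, 0, 0, 0, 0, 0, 0, 0, 0, 0, 0, 0, 0, 0, 0, 0, 0, 0, 0, 0, 0, 0, 0, 0, 0, 0, 0, 0, 0, 0, 0, 0, 0, 0, 0, 0, 0, 0, 0, 0, 0, 0],
    [0, 0, 0, 0, 0, 0, 0, 0, 0, 0, 0, 0, 0, 0, 0, 0, 0, 0, 0, 0, 0, 0, 0, 0, 0, 0, 0, 0, 0, 0, 0, 0, 0, 0, 0, 0, 0, 0, 0, 0, 0, 0, 0, 0, 0, 0, 0, 0, 0, 0, 0, 0, 0, 0, 0, 0, 0, 0, 0, 0, 0, 0, 0, 0, 0, 0, 0, 0, 0, 0, 0, 0, 0, 0, 0, 0, 0, 0, 0, 0, 0, 0, 1, 0, 0, 0, 0, 0, 0, 0, 0, 0, 0, 0, 0, 0, 0, 0, 0, 0, 0, 0, 0, 0, 0, 0, 1, 0, 0, 1, 0, 0, 0, 0, 0, 0, 0, 0, 0, 0, 0, 0, 0, 0, 0, 0, 0, 0, 0, 0, 0,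 0, 0, 0, 1, 0, 0, 1, 0, 0, 1, 0, 0, 0, 0, 0, 0, 0, 0, 0, 1, 0, 0, 0, 0, 0, 0, 0, 0, 0, 0, 0, 0, 0, 0, 0, 0, 0, 0, 0, 0, 0, 1, 0, 0, 1, 0, 0, 0, 0, 0, 0, 0, 0, 0, 0, 0, 0, 0, 0, 0, 0, 0, 0, 0, 0, 0, 0, 0, 0, 0, 0, 0, 0, 0, 0, 1, 0, 1, 1, 0, 0, 0, 0, 0, 0, 0, 0, 0, 0, 0, 0, 0, 0, 0, 0, 1, 0, 1, 1, 0, 0, 0, 0, 0, 0, 0, 0, 0, 0, 0, 0, 0, 0, 0, 0, 0, 0, 0, 0, 0, 0, 0, 0, 0, 0, 0, 0, 0, 0, 0, 0, 0, 0, 0, 0, 0, 0, 0, 0, 0, 0, 0, 0, 0, 0, 0, 0, 0, 0, 0, 0, 0, 0, 0, 0, 0, 0, 0, 0, 0, 0, 0, 0, 0, 0, 0, 0, 0, 0, 0, 0, 0, 0, 0, 0, 0, 0, 0, 0, 0, 0, 0, 0, 0, 0, 0, 0, 0, 0, 0, 0, 0, 0, 0, 0, 0, 0, 0, 0, 0, 0, 0, 0, 0, 0, 0, 0, 0, 0, 0, 0, 0, 0, 0, 0, 0, 0, 0, 0, 0, 0, 0, 0, 0, 0, 0, 0, 0, 0, 0, 0, 0, 0, 0, 0, 0],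
    [0, 0, 0, 0, 0, 0, 0, 0, 0, 0, 0, 0, 0, 0, 0, 0, 0, 0, 0, 0, 0, 0, 0, 0, 0, 0, 0, 0, 0, 0, 0, 0, 0, 0, 0, 0, 0, 0, 0, 0, 0, 0, 0, 0, 0, 0, 0, 0, 0, 0, 0, 0, 0, 0, 0, 0, 0, 0, 0, 0, 0, 0, 0, 0, 0, 0, 0, 0, 0, 0, 0, 0, 0, 0, 0, 0, 1, 1, 0, 0, 0, 0, 0, 0, 0, 0, 0, 0, 0, 0, 0, 0, 0, 0, 0, 0, 0, 0, 0, 0, 0, 0, 0, 0, 0, 0, 0, 0, 0, 0, 0, 0, 0, 0, 0, 0, 0, 0, 0, 0, 0, 0, 0, 0, 0, 0, 0, 0, 0, 0, 0, 0, 0, 0, 0, 0, 0, 0, 0, 0, 0, 0, 0, 0, 0, 0, 0, 0, 0, 0, 0, 0, 0, 0, 0, 0, 0, 0, 0, 0, 0, 0, 0, 1, 1, 0, 0, 0, 0, 0, 1, 0, 0, 0, 0, 0, 0, 0, 0, 0, 0, 1, 1, 0, 0, 0, 0, 0, 1, 1, 0, 0, 0, 0, 0, 0, 0, 0, 0, 0, 1, 1, 0, 0, 0, 0, 0, 1, 1, 1, 0, 0, 0, 0, 0, 0, 0, 0, 0, 0, 0, 0, 0, 0, 0, 0, 0, 0, 0, 0, 0, 0, 0, 0, 0, 0, 0, 0, 0, 0, 0, 1, 1, 0, 0, 0, 0, 0, 1,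 1, 1, 0, 1, 0, 0, 0, 0, 0, 0, 0, 0, 0, 0, 0, 0, 0, 0, 0, 0, 0, 0, 0, 0, 0, 0, 0, 0, 0, 0, 0, 0, 0, 0, 0, 0, 0, 0, 0, 0, 0, 0, 0, 0, 0, 0, 0, 0, 0, 0, 0, 0, 0, 0, 0, 0, 0, 0, 0, 0, 0, 0, 0, 0, 0, 0, 0, 0, 0, 0, 0, 0, 0, 0, 0, 0, 0, 0, 0, 0, 0, 0, 0, 0, 0, 0, 0, 0, 0, 0, 0, 0, 0, 0, 0, 0, 0, 0, 0, 0, 0, 0, 0, 0, 0, 0, 0, 0, 0, 0, 0, 0, 0, 0, 0, 0, 0, 0],
    [0, 0, 0, 0, 0, 0, 0, 0, 0, 0, 0, 0, 0, 0, 0, 0, 0, 0, 0, 0, 0, 0, 0, 0, 0, 0, 0, 0, 0, 0, 0, 0, 0, 0, 0, 0, 0, 0, 0, 0, 0, 0, 0, 0, 0, 0, 0, 0, 0, 0, 0, 0, 0, 0, 0, 0, 0, 0, 0, 0, 0, 0, 0, 0, 0, 0, 0, 0, 0, 0, 0, 0, 0, 0, 0, 0, 0, 0, 0, 0, 0, 0, 0, 1, 0, 0, 0, 0, 0, 0, 0, 0, 0, 0, 0, 0, 0, 0, 0, 0, 0, 0, 0, 0, 0, 0, 0, 1, 0, 0, 1, 0, 0, 0, 0, 0, 0, 0, 0, 0, 0, 0, 0, 1, 0, 1, 0, 0, 0, 0, 0,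 0, 0, 0, 1, 0, 0, 0, 1, 0, 0, 1, 0, 0, 0, 0, 0, 0, 0, 0, 1, 0, 0, 0, 0, 0, 0, 0, 0, 0, 0, 0, 0, 0, 0, 0, 0, 0, 0, 0, 0, 0, 0, 1, 0, 0, 1, 0, 0, 0, 0, 0, 0, 0, 0, 0, 1, 0, 0, 0, 0, 0, 0, 0, 0, 0, 0, 0, 0, 0, 0, 0, 0, 0, 0, 0, 0, 0, 0, 0, 0, 0, 0, 0, 0, 1, 0, 0, 0, 0, 0, 0, 0, 0, 0, 0, 0, 0, 0, 0, 0, 0, 0, 0, 0, 0, 1, 0, 0, 0, 0, 0, 0, 0, 0, 0, 0, 0, 0, 0, 0, 0, 0, 0, 0, 0, 0, 0, 0, 0, 0, 0, 0, 0, 0, 0, 0, 0, 0, 0, 0, 0, 0, 0, 0, 0, 0, 0, 0, 0, 0, 0, 0, 0, 0, 0, 0, 0, 0, 0, 0, 0, 0, 0, 0, 0, 0, 0, 0, 0, 0, 0, 0, 0, 0, 0, 0, 0, 0, 0, 0, 0, 0, 0, 0, 0, 0, 0, 0, 0, 0, 0, 0, 0, 0, 0, 0, 0, 0, 0, 0, 0, 0, 0, 0, 0, 0, 0, 0, 0, 0, 0, 0, 0, 0, 0, 0, 0, 0, 0, 0, 0, 0, 0, 0, 0, 0, 0, 0, 0, 0, 0, 0, 0, 0, 0, 0],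
    [0, 0, 0, 0, 0, 0, 0, 0, 0, 0, 0, 0, 0, 0, 0, 0, 0, 0, 0, 0, 0, 0, 0, 0, 0, 0, 0, 0, 0, 0, 0, 0, 0, 0, 0, 0, 0, 0, 0, 0, 0, 0, 0, 0, 0, 0, 0, 0, 0, 0, 0, 0, 0, 0, 0, 0, 0, 0, 0, 0, 0, 0, 0, 0, 0, 0, 0, 0, 0, 0, 0, 0, 0, 0, 0, 1, 0, 0, 0, 0, 0, 0, 0, 0, 0, 0, 0, 0, 0, 0, 0, 0, 0, 0, 0, 0, 0, 0, 0, 0, 0, 0, 0, 0, 0, 0, 0, 0, 0, 0, 0, 0, 0, 0, 0, 0, 0, 0, 0, 0, 0, 0, 0, 0, 0, 0, 0, 1, 0, 1, 0, 0, 0, 0, 0, 0, 0, 0, 0, 0, 0, 0, 0, 1, 0, 1, 0, 0, 0, 0, 0, 0, 0, 0, 0, 0, 0, 1, 0, 0, 0, 0, 1, 0, 0, 0, 0, 0, 1, 1, 0, 0, 0, 0, 0, 0, 0, 0, 0, 0, 0, 0, 0, 0, 0, 0, 0, 0, 0, 0, 0, 0, 0, 0, 0, 0, 0, 0, 0, 0, 0, 0, 0, 0, 0, 1, 1, 1, 0, 0, 0, 0, 0, 0, 1, 0, 0, 0, 0, 0, 0, 0, 0, 0, 0, 1, 0, 0, 0, 0, 0, 0, 0, 0, 0, 0, 0, 0, 0, 0, 1, 0, 0, 0, 0, 0, 0, 1, 0,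 0, 0, 0, 1, 0, 0, 0, 0, 0, 0, 0, 0, 0, 0, 0, 0, 0, 0, 0, 0, 0, 0, 0, 0, 0, 0, 0, 0, 0, 0, 0, 0, 0, 0, 0, 0, 0, 0, 0, 0, 0, 0, 0, 0, 0, 0, 0, 0, 0, 0, 0, 0, 0, 0, 0, 0, 0, 0, 0, 0, 0, 0, 0, 0, 0, 0, 0, 0, 0, 0, 0, 0, 0, 0, 0, 0, 0, 0, 0, 0, 0, 0, 0, 0, 0, 0, 0, 0, 0, 0, 0, 0, 0, 0, 0, 0, 0, 0, 0, 0, 0, 0, 0, 0, 0, 0, 0, 0, 0, 0, 0, 0, 0, 0, 0, 0, 0, 0],
    [0, 0, 0, 0, 0, 0, 0, 0, 0, 0, 0, 0, 0, 0, 0, 0, 0, 0, 0, 0, 0, 0, 0, 0, 0, 0, 0, 0, 0, 0, 0, 0, 0, 0, 0, 0, 0, 0, 0, 0, 0, 0, 0, 0, 0, 0, 0, 0, 0, 0, 0, 0, 0, 0, 0, 0, 0, 0, 0, 0, 0, 0, 0, 0, 0, 0, 0, 0, 0, 0, 0, 0, 0, 0, 0, 0, 0, 0, 0, 0, 1, 0, 0, 0, 0, 0, 0, 0, 0, 0, 0, 0, 0, 0, 0, 0, 0, 0, 0, 0, 0, 0, 0, 0, 0, 0, 1, 1, 0, 0, 0, 0, 0, 0, 0, 0, 0, 0, 0, 0, 0, 0, 1, 0, 0, 0, 0, 0, 0, 0, 0,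 0, 0, 0, 1, 1, 0, 0, 1, 0, 0, 0, 0, 0, 0, 0, 0, 0, 0, 0, 0, 1, 1, 0, 0, 0, 0, 0, 0, 0, 0, 0, 0, 0, 0, 0, 0, 0, 0, 0, 0, 0, 1, 1, 0, 0, 0, 0, 0, 0, 0, 0, 0, 0, 0, 0, 0, 0, 0, 0, 0, 0, 0, 0, 0, 0, 0, 0, 0, 0, 0, 0, 0, 0, 0, 0, 0, 0, 1, 1, 0, 0, 1, 0, 0, 0, 0, 0, 0, 0, 0, 0, 0, 0, 0, 0, 0, 0, 1, 1, 1, 0, 0, 1, 0, 0, 0, 0, 0, 0, 0, 0, 0, 0, 0, 0, 0, 0, 0, 0, 0, 1, 1, 0, 0, 0, 0, 0, 0, 0, 0, 0, 0, 0, 0, 0, 0, 0, 0, 0, 0, 0, 0, 0, 0, 0, 0, 0, 0, 0, 0, 0, 0, 0, 0, 0, 0, 0, 0, 0, 0, 0, 0, 0, 0, 0, 0, 0, 0, 0, 0, 0, 0, 0, 0, 0, 0, 0, 0, 0, 0, 0, 0, 0, 0, 0, 0, 0, 0, 0, 0, 0, 0, 0, 0, 0, 0, 0, 0, 0, 0, 0, 0, 0, 0, 0, 0, 0, 0, 0, 0, 0, 0, 0, 0, 0, 0, 0, 0, 0, 0, 0, 0, 0, 0, 0, 0, 0, 0, 0, 0, 0, 0, 0, 0, 0, 0],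
    [0, 0, 0, 0, 0, 0, 0, 0, 0, 0, 0, 0, 0, 0, 0, 0, 0, 0, 0, 0, 0, 0, 0, 0, 0, 0, 0, 0, 0, 0, 0, 0, 0, 0, 0, 0, 0, 0, 0, 0, 0, 0, 0, 0, 0, 0, 0, 0, 0, 0, 0, 0, 0, 0, 0, 0, 0, 0, 0, 0, 0, 0, 0, 0, 0, 0, 0, 1, 0, 0, 0, 0, 0, 0, 0, 0, 0, 1, 0, 0, 0, 0, 0, 0, 0, 0, 0, 0, 0, 0, 0, 0, 0, 0, 0, 0, 0, 0, 0, 0, 0, 0, 0, 0, 0, 0, 0, 0, 0, 0, 0, 0, 0, 0, 0, 0, 0, 0, 0, 0, 0, 0, 0, 0, 0, 0, 0, 0, 0, 0, 0, 0, 0, 0, 0, 0, 0, 0, 0, 0, 0, 0, 0, 0, 0, 0, 0, 0, 0, 0, 0, 0, 0, 0, 1, 0, 0, 0, 0, 0, 0, 0, 0, 0, 1, 0, 0, 0, 0, 0, 1, 0, 1, 0, 0, 0, 0, 0, 0, 0, 0, 0, 1, 0, 0, 0, 0, 0, 1, 1, 0, 1, 0, 0, 0, 0, 0, 0, 0, 0, 0, 1, 0, 0, 0, 0, 0, 0, 0, 0, 0, 0, 0, 0, 0, 0, 0, 0, 0, 0, 0, 0, 0, 0, 0, 0, 0, 1, 0, 0, 1, 0, 1, 0, 0, 0, 0, 0, 0, 0, 0, 0, 1, 0, 0, 0, 0, 0, 1,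 0, 0, 0, 0, 0, 0, 0, 0, 0, 0, 0, 0, 0, 0, 0, 0, 0, 0, 0, 0, 0, 0, 0, 0, 0, 0, 0, 0, 0, 0, 0, 0, 0, 0, 0, 0, 0, 0, 0, 0, 0, 0, 0, 0, 0, 0, 0, 0, 0, 0, 0, 0, 0, 0, 0, 0, 0, 0, 0, 0, 0, 0, 0, 0, 0, 0, 0, 0, 0, 0, 0, 0, 0, 0, 0, 0, 0, 0, 0, 0, 0, 0, 0, 0, 0, 0, 0, 0, 0, 0, 0, 0, 0, 0, 0, 0, 0, 0, 0, 0, 0, 0, 0, 0, 0, 0, 0, 0, 0, 0, 0, 0, 0, 0, 0, 0, 0, 0]]

/-- part of the exponents -/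
def twoVecs20 : List (List ℤ) :=
  [[0, 0, 0, 0, 0, 0, 0, 0, 0, 0, 0, 0, 0, 0, 0, 0, 0, 0, 0, 0, 0, 0, 0, 0, 0, 0, 0, 0, 0, 0, 0, 0, 0, 0, 0, 0, 0, 0, 0, 0, 0, 0, 0, 0, 0, 0, 0, 0, 0, 0, 0, 0, 0, 0, 0, 0, 0, 0, 0, 0, 0, 0, 0, 0, 0, 0, 0, 0, 0, 0, 0, 0, 0, 0, 0, 0, 0, 0, 0, 0, 0, 0, 0, 0, 0, 0, 0, 0, 0, 0, 0, 0, 0, 0, 0, 1, 0, 0, 0, 0, 0, 0, 0, 0, 0, 0, 1, 0, 0, 1, 0, 0, 0, 0, 0, 0, 0, 0, 0, 0, 0, 0, 0, 0, 0, 0, 0, 0, 0, 0, 0, 0, 0, 0, 1, 0, 0, 1, 0, 0, 1, 0, 0, 0, 0, 0, 0, 0, 0, 0, 1, 0, 0, 0, 0, 0, 0, 0, 0, 0, 0, 0, 0, 0, 0, 0, 0, 0, 0, 0, 0, 0, 0, 0, 0, 0, 0, 0, 0, 0, 0, 0, 0, 0, 0, 0, 0, 0, 0, 0, 0, 1, 0, 0, 1, 0, 0, 0, 0, 0, 0, 0, 0, 0, 1, 0, 0, 0, 0, 0, 0, 1, 0, 0, 1, 0, 0, 0, 0, 0, 0, 0, 0, 0, 1, 0, 0, 0, 0, 0, 0, 0, 0, 0, 0, 0, 0, 0,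 0, 0, 0, 0, 0, 0, 0, 0, 0, 0, 0, 0, 0, 0, 0, 0, 0, 0, 0, 0, 0, 0, 0, 0, 0, 0, 0, 0, 0, 0, 0, 0, 0, 0, 0, 0, 0, 0, 0, 0, 0, 0, 0, 0, 0, 0, 0, 0, 0, 0, 0, 0, 0, 0, 0, 0, 0, 0, 0, 0, 0, 0, 0, 0, 0, 0, 0, 0, 0, 0, 0, 0, 0, 0, 0, 0, 0, 0, 0, 0, 0, 0, 0, 0, 0, 0, 0, 0, 0, 0, 0, 0, 0, 0, 0, 0, 0, 0, 0, 0, 0, 0, 0, 0, 0, 0, 0, 0, 0, 0, 0, 0, 0, 0, 0, 0, 0, 0, 0, 0, 0, 0, 0, 0, 0, 0, 0, 0, 0],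
    [0, 0, 0, 0, 0, 0, 0, 0, 0, 0, 0, 0, 0, 0, 0, 0, 0, 0, 0, 0, 0, 0, 0, 0, 0, 0, 0, 0, 0, 0, 0, 0, 0, 0, 0, 0, 0, 0, 0, 0, 0, 0, 0, 0, 0, 0, 0, 0, 0, 0, 0, 0, 0, 0, 0, 0, 0, 0, 0, 0, 0, 0, 0, 0, 0, 0, 0, 0, 0, 0, 0, 1, 0, 0, 0, 0, 0, 0, 0, 0, 0, 0, 0, 0, 0, 0, 0, 0, 0, 0, 0, 0, 0, 0, 0, 1, 1, 0, 0, 0, 0, 0, 0, 0, 0, 0, 0, 0, 0, 0, 0, 0, 0, 0, 0, 0, 0, 0, 0, 0, 1, 0, 0, 0, 0, 0, 0, 0, 0, 0, 0, 0, 0, 0, 0, 1, 1, 0, 0, 0, 0, 0, 0, 0, 0, 0, 0, 0, 0, 0, 0, 1, 1, 0, 0, 0, 0, 1, 1, 0, 0, 0, 0, 0, 0, 0, 0, 0, 1, 0, 0, 0, 0, 0, 0, 0, 0, 0, 0, 0, 0, 0, 0, 0, 0, 0, 0, 0, 0, 0, 0, 0, 0, 0, 0, 0, 0, 0, 0, 0, 0, 0, 0, 0, 0, 0, 0, 1, 0, 1, 0, 0, 0, 0, 0, 0, 0, 0, 0, 0, 0, 0, 0, 0, 0, 0, 1, 1, 0, 1, 1, 0, 0, 0, 0, 0, 0, 0, 0, 0, 0, 0, 0, 0, 0, 0, 0, 1, 0,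 0, 0, 0, 0, 0, 0, 0, 0, 0, 0, 0, 0, 0, 0, 0, 0, 0, 0, 0, 0, 0, 0, 0, 0, 0, 0, 0, 0, 0, 0, 0, 0, 0, 0, 0, 0, 0, 0, 0, 0, 0, 0, 0, 0, 0, 0, 0, 0, 0, 0, 0, 0, 0, 0, 0, 0, 0, 0, 0, 0, 0, 0, 0, 0, 0, 0, 0, 0, 0, 0, 0, 0, 0, 0, 0, 0, 0, 0, 0, 0, 0, 0, 0, 0, 0, 0, 0, 0, 0, 0, 0, 0, 0, 0, 0, 0, 0, 0, 0, 0, 0, 0, 0, 0, 0, 0, 0, 0, 0, 0, 0, 0, 0, 0, 0, 0, 0, 0],
    [0, 0, 0, 0, 0, 0, 0, 0, 0, 0, 0, 0, 0, 0, 0, 0, 0, 0, 0, 0, 0, 0, 0, 0, 0, 0, 0, 0, 0, 0, 0, 0, 0, 0, 0, 0, 0, 0, 0, 0, 0, 0, 0, 0, 0, 0, 0, 0, 0, 0, 0, 0, 0, 0, 0, 0, 0, 0, 0, 0, 0, 0, 0, 1, 0, 0, 0, 0, 0, 0, 0, 0, 0, 0, 0, 0, 0, 0, 0, 0, 0, 0, 0, 0, 0, 0, 0, 0, 0, 0, 0, 0, 0, 0, 0, 0, 0, 1, 0, 1, 0, 0, 0, 0, 0, 0, 0, 0, 0, 0, 0, 0, 0, 0, 0, 0, 0, 0, 0, 0, 0, 0, 0, 0, 0, 0, 1, 0, 1, 0, 0,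 0, 0, 0, 0, 0, 0, 0, 0, 0, 0, 0, 0, 0, 0, 0, 0, 0, 0, 0, 0, 0, 0, 0, 0, 0, 0, 0, 0, 1, 0, 0, 0, 0, 0, 0, 1, 0, 0, 0, 1, 0, 0, 1, 0, 0, 0, 0, 0, 1, 0, 0, 0, 0, 1, 0, 1, 0, 0, 0, 0, 0, 0, 0, 0, 0, 0, 0, 1, 0, 0, 0, 0, 1, 0, 1, 0, 1, 1, 1, 0, 0, 0, 0, 0, 0, 0, 0, 0, 0, 0, 0, 0, 1, 0, 1, 0, 0, 1, 1, 0, 0, 0, 0, 0, 0, 0, 0, 0, 0, 0, 0, 0, 0, 0, 0, 0, 0, 0, 0, 1, 0, 0, 0, 0, 0, 0, 0, 0, 0, 0, 0, 0, 0, 0, 0, 0, 0, 0, 0, 0, 0, 0, 0, 0, 0, 0, 0, 0, 0, 0, 0, 0, 0, 0, 0, 0, 0, 0, 0, 0, 0, 0, 0, 0, 0, 0, 0, 0, 0, 0, 0, 0, 0, 0, 0, 0, 0, 0, 0, 0, 0, 0, 0, 0, 0, 0, 0, 0, 0, 0, 0, 0, 0, 0, 0, 0, 0, 0, 0, 0, 0, 0, 0, 0, 0, 0, 0, 0, 0, 0, 0, 0, 0, 0, 0, 0, 0, 0, 0, 0, 0, 0, 0, 0, 0, 0, 0, 0, 0, 0, 0, 0, 0, 0, 0, 0],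
    [0, 0, 0, 0, 0, 0, 0, 0, 0, 0, 0, 0, 0, 0, 0, 0, 0, 0, 0, 0, 0, 0, 0, 0, 0, 0, 0, 0, 0, 0, 0, 0, 0, 0, 0, 0, 0, 0, 0, 0, 0, 0, 0, 0, 0, 0, 0, 0, 0, 0, 0, 0, 0, 0, 0, 0, 0, 0, 0, 0, 0, 0, 0, 0, 0, 0, 0, 0, 0, 0, 0, 0, 0, 0, 0, 0, 0, 0, 0, 0, 0, 0, 0, 0, 0, 0, 0, 0, 0, 0, 0, 0, 0, 0, 0, 0, 0, 0, 1, 0, 0, 0, 0, 0, 0, 0, 0, 0, 0, 0, 0, 1, 1, 0, 0, 0, 0, 0, 0, 0, 0, 0, 0, 0, 0, 0, 0, 0, 0, 0, 0, 0, 0, 0, 0, 0, 0, 0, 0, 0, 0, 0, 1, 1, 0, 0, 0, 0, 0, 0, 0, 0, 0, 0, 0, 0, 1, 0, 0, 0, 1, 0, 0, 0, 0, 0, 0, 1, 0, 1, 0, 0, 0, 0, 0, 0, 0, 0, 1, 0, 0, 0, 0, 0, 0, 0, 0, 1, 0, 0, 0, 0, 0, 0, 0, 0, 1, 0, 0, 0, 0, 0, 0, 0, 0, 0, 1, 1, 1, 0, 0, 0, 0, 0, 0, 0, 1, 1, 0, 0, 0, 0, 0, 0, 0, 0, 0, 1, 1, 1, 0, 0, 0, 0, 0, 0, 0, 0, 1, 0, 0, 0, 0, 0, 0, 0, 0, 1, 1,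 1, 0, 0, 1, 0, 0, 0, 0, 0, 0, 0, 0, 0, 0, 0, 0, 0, 0, 0, 0, 0, 0, 0, 0, 0, 0, 0, 0, 0, 0, 0, 0, 0, 0, 0, 0, 0, 0, 0, 0, 0, 0, 0, 0, 0, 0, 0, 0, 0, 0, 0, 0, 0, 0, 0, 0, 0, 0, 0, 0, 0, 0, 0, 0, 0, 0, 0, 0, 0, 0, 0, 0, 0, 0, 0, 0, 0, 0, 0, 0, 0, 0, 0, 0, 0, 0, 0, 0, 0, 0, 0, 0, 0, 0, 0, 0, 0, 0, 0, 0, 0, 0, 0, 0, 0, 0, 0, 0, 0, 0, 0, 0, 0, 0, 0, 0, 0, 0],
    [0, 0, 0, 0, 0, 0, 0, 0, 0, 0, 0, 0, 0, 0, 0, 0, 0, 0, 0, 0, 0, 0, 0, 0, 0, 0, 0, 0, 0, 0, 0, 0, 0, 0, 0, 0, 0, 0, 0, 0, 0, 0, 0, 0, 0, 0, 0, 0, 0, 0, 0, 0, 0, 0, 0, 0, 0, 0, 0, 0, 0, 0, 0, 0, 0, 0, 0, 0, 0, 0, 0, 0, 0, 0, 0, 0, 0, 0, 0, 0, 0, 0, 1, 0, 0, 0, 0, 0, 0, 0, 1, 0, 0, 0, 0, 1, 0, 0, 0, 0, 0, 0, 0, 1, 1, 0, 0, 0, 0, 1, 0, 0, 0, 0, 0, 0, 0, 1, 1, 1, 0, 0, 0, 0, 0, 0, 0, 0, 0, 0, 0,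 0, 0, 1, 0, 1, 0, 0, 0, 0, 0, 0, 0, 0, 0, 0, 0, 0, 0, 1, 0, 1, 1, 0, 0, 0, 0, 1, 0, 0, 0, 0, 0, 0, 0, 1, 1, 1, 0, 0, 1, 0, 0, 0, 0, 0, 0, 0, 0, 0, 0, 0, 0, 0, 0, 0, 0, 0, 0, 0, 0, 0, 0, 0, 0, 0, 0, 0, 0, 0, 0, 0, 0, 0, 1, 0, 0, 1, 0, 1, 0, 0, 0, 0, 0, 0, 0, 0, 0, 0, 0, 0, 0, 0, 1, 0, 0, 1, 0, 1, 1, 0, 0, 0, 0, 0, 0, 0, 0, 0, 0, 0, 0, 0, 0, 0, 0, 0, 0, 0, 0, 0, 0, 0, 0, 0, 0, 0, 0, 0, 0, 0, 0, 0, 0, 0, 0, 0, 0, 0, 0, 0, 0, 0, 0, 0, 0, 0, 0, 0, 0, 0, 0, 0, 0, 0, 0, 0, 0, 0, 0, 0, 0, 0, 0, 0, 0, 0, 0, 0, 0, 0, 0, 0, 0, 0, 0, 0, 0, 0, 0, 0, 0, 0, 0, 0, 0, 0, 0, 0, 0, 0, 0, 0, 0, 0, 0, 0, 0, 0, 0, 0, 0, 0, 0, 0, 0, 0, 0, 0, 0, 0, 0, 0, 0, 0, 0, 0, 0, 0, 0, 0, 0, 0, 0, 0, 0, 0, 0, 0, 0, 0, 0, 0, 0, 0, 0],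
    [0, 0, 0, 0, 0, 0, 0, 0, 0, 0, 0, 0, 0, 0, 0, 0, 0, 0, 0, 0, 0, 0, 0, 0, 0, 0, 0, 0, 0, 0, 0, 0, 0, 0, 0, 0, 0, 0, 0, 0, 0, 0, 0, 0, 0, 0, 0, 0, 0, 0, 0, 0, 0, 0, 0, 0, 0, 0, 0, 0, 0, 0, 0, 0, 1, 0, 0, 0, 0, 0, 0, 0, 1, 0, 0, 1, 0, 0, 0, 0, 0, 0, 0, 0, 0, 0, 0, 0, 0, 0, 0, 0, 0, 0, 0, 0, 0, 0, 0, 0, 0, 0, 0, 0, 0, 0, 0, 0, 0, 0, 0, 0, 0, 0, 0, 0, 0, 0, 0, 0, 0, 0, 0, 0, 0, 0, 0, 0, 0, 0, 0, 0, 0, 0, 0, 0, 0, 0, 0, 0, 0, 0, 0, 0, 0, 0, 0, 0, 0, 0, 0, 0, 0, 0, 0, 0, 0, 0, 0, 1, 0, 0, 1, 0, 0, 0, 0, 0, 0, 0, 0, 0, 1, 0, 0, 0, 0, 1, 0, 0, 1, 0, 0, 0, 0, 0, 0, 0, 1, 1, 0, 0, 0, 0, 0, 0, 1, 0, 0, 1, 0, 0, 0, 0, 0, 0, 0, 1, 0, 0, 0, 0, 0, 0, 0, 0, 0, 0, 0, 0, 0, 0, 0, 0, 0, 0, 0, 0, 0, 0, 0, 0, 0, 0, 0, 0, 0, 1, 0, 0, 1, 0, 0, 0, 0, 0, 0, 0, 0,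 0, 0, 0, 0, 0, 0, 0, 0, 0, 0, 0, 0, 0, 0, 0, 0, 0, 0, 0, 0, 0, 0, 0, 0, 0, 0, 0, 0, 0, 0, 0, 0, 0, 0, 0, 0, 0, 0, 0, 0, 0, 0, 0, 0, 0, 0, 0, 0, 0, 0, 0, 0, 0, 0, 0, 0, 0, 0, 0, 0, 0, 0, 0, 0, 0, 0, 0, 0, 0, 0, 0, 0, 0, 0, 0, 0, 0, 0, 0, 0, 0, 0, 0, 0, 0, 0, 0, 0, 0, 0, 0, 0, 0, 0, 0, 0, 0, 0, 0, 0, 0, 0, 0, 0, 0, 0, 0, 0, 0, 0, 0, 0, 0, 0, 0, 0, 0, 0],
    [0, 0, 0, 0, 0, 0, 0, 0, 0, 0, 0, 0, 0, 0, 0, 0, 0, 0, 0, 0, 0, 0, 0, 0, 0, 0, 0, 0, 0, 0, 0, 0, 0, 0, 0, 0, 0, 0, 0, 0, 0, 0, 0, 0, 0, 0, 0, 0, 0, 0, 0, 0, 0, 0, 0, 0, 0, 0, 0, 0, 0, 0, 0, 0, 0, 0, 0, 0, 0, 0, 0, 0, 0, 0, 0, 0, 0, 0, 0, 0, 0, 0, 0, 0, 0, 0, 0, 0, 0, 0, 0, 0, 0, 0, 0, 0, 0, 0, 1, 0, 0, 0, 0, 0, 0, 0, 0, 0, 0, 0, 0, 0, 0, 0, 0, 0, 0, 0, 0, 0, 0, 0, 0, 0, 0, 0, 0, 1, 0, 0, 0,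 0, 0, 0, 0, 0, 0, 0, 0, 0, 0, 0, 0, 0, 0, 0, 0, 0, 0, 0, 0, 0, 0, 0, 0, 1, 0, 0, 0, 0, 1, 0, 0, 0, 0, 0, 1, 0, 1, 0, 0, 0, 0, 1, 0, 0, 0, 0, 0, 0, 0, 0, 0, 0, 1, 0, 1, 0, 1, 0, 0, 0, 1, 0, 0, 0, 0, 0, 0, 0, 0, 0, 0, 1, 0, 1, 0, 1, 0, 0, 0, 0, 1, 0, 0, 0, 0, 0, 0, 0, 0, 0, 0, 1, 0, 1, 0, 0, 0, 1, 0, 0, 0, 1, 0, 0, 0, 0, 0, 0, 0, 0, 0, 0, 1, 0, 1, 0, 0, 0, 1, 0, 0, 0, 0, 0, 0, 0, 0, 0, 0, 0, 0, 0, 0, 0, 0, 0, 0, 0, 0, 0, 0, 0, 0, 0, 0, 0, 0, 0, 0, 0, 0, 0, 0, 0, 0, 0, 0, 0, 0, 0, 0, 0, 0, 0, 0, 0, 0, 0, 0, 0, 0, 0, 0, 0, 0, 0, 0, 0, 0, 0, 0, 0, 0, 0, 0, 0, 0, 0, 0, 0, 0, 0, 0, 0, 0, 0, 0, 0, 0, 0, 0, 0, 0, 0, 0, 0, 0, 0, 0, 0, 0, 0, 0, 0, 0, 0, 0, 0, 0, 0, 0, 0, 0, 0, 0, 0, 0, 0, 0, 0, 0, 0, 0, 0, 0],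
    [0, 0, 0, 0, 0, 0, 0, 0, 0, 0, 0, 0, 0, 0, 0, 0, 0, 0, 0, 0, 0, 0, 0, 0, 0, 0, 0, 0, 0, 0, 0, 0, 0, 0, 0, 0, 0, 0, 0, 0, 0, 0, 0, 0, 0, 0, 0, 0, 0, 0, 0, 0, 0, 0, 0, 0, 0, 0, 0, 0, 0, 0, 0, 0, 0, 0, 0, 0, 0, 0, 0, 0, 0, 0, 0, 0, 0, 0, 0, 0, 1, 0, 0, 0, 0, 0, 0, 0, 0, 0, 0, 0, 0, 1, 0, 1, 0, 0, 0, 0, 0, 0, 0, 1, 0, 0, 0, 1, 0, 0, 0, 0, 0, 0, 0, 0, 0, 0, 1, 0, 0, 0, 0, 0, 1, 0, 0, 0, 0, 0, 0, 0, 1, 0, 0, 0, 0, 0, 0, 0, 0, 0, 0, 0, 0, 0, 0, 0, 0, 0, 0, 1, 0, 0, 0, 1, 0, 1, 0, 0, 0, 0, 0, 0, 0, 1, 0, 1, 1, 0, 0, 0, 0, 0, 0, 0, 0, 0, 0, 0, 0, 0, 0, 0, 0, 0, 0, 0, 0, 0, 0, 0, 0, 0, 0, 0, 0, 0, 0, 0, 0, 0, 0, 0, 0, 1, 0, 1, 0, 1, 0, 0, 0, 0, 0, 0, 0, 0, 0, 0, 0, 0, 0, 0, 0, 1, 0, 1, 0, 1, 1, 0, 0, 0, 0, 0, 0, 0, 0, 0, 0, 0, 0, 0, 0, 0, 0, 0, 0,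 0, 0, 0, 0, 0, 0, 0, 0, 0, 0, 0, 0, 0, 0, 0, 0, 0, 0, 0, 0, 0, 0, 0, 0, 0, 0, 0, 0, 0, 0, 0, 0, 0, 0, 0, 0, 0, 0, 0, 0, 0, 0, 0, 0, 0, 0, 0, 0, 0, 0, 0, 0, 0, 0, 0, 0, 0, 0, 0, 0, 0, 0, 0, 0, 0, 0, 0, 0, 0, 0, 0, 0, 0, 0, 0, 0, 0, 0, 0, 0, 0, 0, 0, 0, 0, 0, 0, 0, 0, 0, 0, 0, 0, 0, 0, 0, 0, 0, 0, 0, 0, 0, 0, 0, 0, 0, 0, 0, 0, 0, 0, 0, 0, 0, 0, 0, 0, 0],
    [0, 0, 0, 0, 0, 0, 0, 0, 0, 0, 0, 0, 0, 0, 0, 0, 0, 0, 0, 0, 0, 0, 0, 0, 0, 0, 0, 0, 0, 0, 0, 0, 0, 0, 0, 0, 0, 0, 0, 0, 0, 0, 0, 0, 0, 0, 0, 0, 0, 0, 0, 0, 0, 0, 0, 0, 0, 0, 0, 0, 0, 0, 0, 0, 0, 0, 0, 0, 0, 0, 0, 0, 0, 0, 0, 0, 0, 0, 0, 0, 0, 1, 0, 0, 0, 0, 0, 0, 0, 0, 1, 0, 0, 0, 1, 0, 0, 0, 0, 0, 0, 0, 0, 1, 1, 0, 0, 0, 0, 0, 0, 0, 0, 0, 0, 0, 0, 0, 1, 1, 0, 0, 0, 1, 0, 0, 0, 0, 0, 0, 0,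 0, 1, 1, 0, 1, 0, 0, 0, 0, 0, 0, 0, 0, 0, 0, 0, 0, 0, 1, 1, 0, 1, 0, 0, 0, 1, 0, 0, 0, 0, 0, 0, 0, 0, 1, 1, 0, 1, 0, 1, 0, 0, 0, 0, 0, 0, 0, 0, 0, 0, 0, 0, 0, 1, 1, 1, 1, 1, 1, 0, 0, 0, 0, 0, 0, 0, 0, 0, 0, 0, 0, 0, 0, 0, 1, 0, 1, 1, 1, 0, 0, 0, 0, 0, 0, 0, 0, 0, 0, 0, 0, 0, 0, 0, 1, 0, 0, 0, 0, 1, 0, 0, 0, 0, 0, 0, 0, 0, 0, 0, 0, 0, 0, 0, 0, 0, 0, 1, 1, 1, 0, 1, 0, 0, 0, 0, 0, 0, 0, 0, 0, 0, 0, 0, 0, 0, 0, 0, 0, 0, 0, 0, 0, 0, 0, 0, 0, 0, 0, 0, 0, 0, 0, 0, 0, 0, 0, 0, 0, 0, 0, 0, 0, 0, 0, 0, 0, 0, 0, 0, 0, 0, 0, 0, 0, 0, 0, 0, 0, 0, 0, 0, 0, 0, 0, 0, 0, 0, 0, 0, 0, 0, 0, 0, 0, 0, 0, 0, 0, 0, 0, 0, 0, 0, 0, 0, 0, 0, 0, 0, 0, 0, 0, 0, 0, 0, 0, 0, 0, 0, 0, 0, 0, 0, 0, 0, 0, 0, 0, 0, 0, 0, 0, 0, 0, 0],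
    [0, 0, 0, 0, 0, 0, 0, 0, 0, 0, 0, 0, 0, 0, 0, 0, 0, 0, 0, 0, 0, 0, 0, 0, 0, 0, 0, 0, 0, 0, 0, 0, 0, 0, 0, 0, 0, 0, 0, 0, 0, 0, 0, 0, 0, 0, 0, 0, 0, 0, 0, 0, 0, 0, 0, 0, 0, 0, 0, 0, 0, 0, 1, 0, 0, 0, 0, 0, 0, 0, 0, 0, 0, 0, 0, 0, 0, 0, 0, 0, 0, 0, 0, 0, 1, 1, 0, 0, 0, 0, 0, 0, 0, 0, 0, 0, 0, 1, 1, 0, 0, 0, 0, 0, 0, 0, 0, 0, 0, 0, 0, 0, 0, 0, 0, 0, 0, 0, 0, 0, 0, 0, 0, 0, 0, 0, 1, 1, 0, 0, 0, 0, 0, 0, 0, 0, 0, 0, 0, 0, 0, 0, 0, 0, 0, 0, 0, 0, 0, 0, 0, 0, 0, 0, 0, 0, 0, 0, 0, 1, 0, 0, 0, 0, 0, 1, 1, 0, 0, 0, 1, 0, 0, 0, 1, 0, 0, 0, 1, 0, 0, 0, 0, 0, 1, 0, 1, 0, 0, 1, 0, 0, 0, 0, 0, 0, 0, 0, 0, 0, 0, 0, 1, 1, 0, 1, 0, 1, 1, 0, 0, 0, 0, 0, 0, 0, 0, 0, 0, 0, 0, 0, 1, 0, 0, 0, 0, 0, 0, 1, 1, 0, 0, 0, 0, 0, 0, 0, 0, 0, 0, 0, 0, 1, 1, 0, 1, 0, 0,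 1, 1, 0, 1, 0, 0, 0, 0, 0, 0, 0, 0, 0, 0, 0, 0, 0, 0, 0, 0, 0, 0, 0, 0, 0, 0, 0, 0, 0, 0, 0, 0, 0, 0, 0, 0, 0, 0, 0, 0, 0, 0, 0, 0, 0, 0, 0, 0, 0, 0, 0, 0, 0, 0, 0, 0, 0, 0, 0, 0, 0, 0, 0, 0, 0, 0, 0, 0, 0, 0, 0, 0, 0, 0, 0, 0, 0, 0, 0, 0, 0, 0, 0, 0, 0, 0, 0, 0, 0, 0, 0, 0, 0, 0, 0, 0, 0, 0, 0, 0, 0, 0, 0, 0, 0, 0, 0, 0, 0, 0, 0, 0, 0, 0, 0, 0, 0, 0]]

/-- part of the exponents -/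
def twoVecs21 : List (List ℤ) :=
  [[0, 0, 0, 0, 0, 0, 0, 0, 0, 0, 0, 0, 0, 0, 0, 0, 0, 0, 0, 0, 0, 0, 0, 0, 0, 0, 0, 0, 0, 0, 0, 0, 0, 0, 0, 0, 0, 0, 0, 0, 0, 0, 0, 0, 0, 0, 0, 0, 0, 0, 0, 0, 0, 0, 0, 0, 0, 0, 0, 0, 0, 0, 0, 1, 1, 0, 0, 0, 0, 0, 0, 0, 0, 0, 0, 0, 0, 0, 0, 0, 0, 0, 0, 0, 1, 0, 1, 1, 0, 0, 0, 0, 0, 0, 0, 0, 0, 1, 0, 1, 1, 0, 0, 0, 0, 0, 0, 0, 0, 0, 0, 1, 0, 1, 1, 0, 0, 0, 0, 0, 0, 0, 0, 0, 0, 0, 0, 0, 0, 0, 0, 0, 0, 0, 0, 0, 0, 0, 0, 0, 0, 0, 0, 0, 0, 0, 0, 0, 0, 0, 0, 0, 0, 0, 0, 0, 0, 0, 0, 1, 0, 0, 1, 0, 0, 1, 1, 0, 0, 0, 1, 0, 0, 0, 0, 1, 0, 0, 0, 0, 0, 0, 0, 0, 0, 0, 0, 0, 0, 1, 0, 0, 0, 0, 0, 0, 0, 0, 0, 0, 0, 0, 1, 1, 1, 0, 0, 1, 1, 0, 0, 0, 0, 0, 0, 0, 0, 0, 0, 0, 0, 0, 1, 1, 0, 0, 0, 1, 0, 1, 1, 0, 0, 0, 0, 0, 0, 0,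 0, 0, 0, 0, 0, 0, 0, 0, 0, 0, 0, 0, 0, 0, 0, 0, 0, 0, 0, 0, 0, 0, 0, 0, 0, 0, 0, 0, 0, 0, 0, 0, 0, 0, 0, 0, 0, 0, 0, 0, 0, 0, 0, 0, 0, 0, 0, 0, 0, 0, 0, 0, 0, 0, 0, 0, 0, 0, 0, 0, 0, 0, 0, 0, 0, 0, 0, 0, 0, 0, 0, 0, 0, 0, 0, 0, 0, 0, 0, 0, 0, 0, 0, 0, 0, 0, 0, 0, 0, 0, 0, 0, 0, 0, 0, 0, 0, 0, 0, 0, 0, 0, 0, 0, 0, 0, 0, 0, 0, 0, 0, 0, 0, 0, 0, 0, 0, 0, 0, 0, 0, 0, 0, 0, 0, 0, 0, 0, 0],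
    [0, 0, 0, 0, 0, 0, 0, 0, 0, 0, 0, 0, 0, 0, 0, 0, 0, 0, 0, 0, 0, 0, 0, 0, 0, 0, 0, 0, 0, 0, 0, 0, 0, 0, 0, 0, 0, 0, 0, 0, 0, 0, 0, 0, 0, 0, 0, 0, 0, 0, 0, 0, 0, 0, 0, 0, 0, 0, 0, 0, 1, 0, 0, 0, 0, 0, 0, 0, 0, 0, 0, 0, 0, 0, 0, 0, 0, 0, 0, 0, 1, 0, 0, 1, 0, 0, 0, 0, 0, 0, 0, 0, 0, 1, 1, 0, 0, 0, 0, 0, 0, 0, 0, 1, 0, 0, 0, 0, 0, 0, 1, 0, 0, 0, 0, 0, 0, 1, 0, 1, 0, 0, 1, 1, 0, 0, 0, 0, 0, 0, 0, 0, 0, 1, 0, 0, 0, 0, 0, 0, 0, 1, 0, 0, 0, 0, 0, 0, 0, 0, 1, 1, 1, 0, 0, 1, 1, 0, 0, 0, 0, 0, 0, 0, 0, 1, 0, 1, 1, 1, 0, 0, 0, 0, 0, 0, 1, 0, 0, 0, 0, 0, 0, 1, 0, 1, 0, 0, 0, 1, 0, 0, 0, 0, 0, 0, 0, 0, 0, 0, 0, 0, 0, 0, 0, 1, 0, 1, 1, 1, 0, 0, 0, 0, 0, 0, 0, 0, 0, 0, 0, 0, 0, 0, 0, 1, 0, 0, 0, 0, 1, 0, 0, 0, 0, 0, 0, 0, 0, 0, 0, 0, 0, 0, 0, 0, 0, 0, 1,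 1, 1, 0, 1, 0, 0, 0, 0, 0, 0, 0, 0, 0, 0, 0, 0, 0, 0, 0, 0, 0, 0, 0, 0, 0, 0, 0, 0, 0, 0, 0, 0, 0, 0, 0, 0, 0, 0, 0, 0, 0, 0, 0, 0, 0, 0, 0, 0, 0, 0, 0, 0, 0, 0, 0, 0, 0, 0, 0, 0, 0, 0, 0, 0, 0, 0, 0, 0, 0, 0, 0, 0, 0, 0, 0, 0, 0, 0, 0, 0, 0, 0, 0, 0, 0, 0, 0, 0, 0, 0, 0, 0, 0, 0, 0, 0, 0, 0, 0, 0, 0, 0, 0, 0, 0, 0, 0, 0, 0, 0, 0, 0, 0, 0, 0, 0, 0, 0],
    [0, 0, 0, 0, 0, 0, 0, 0, 0, 0, 0, 0, 0, 0, 0, 0, 0, 0, 0, 0, 0, 0, 0, 0, 0, 0, 0, 0, 0, 0, 0, 0, 0, 0, 0, 0, 0, 0, 0, 0, 0, 0, 0, 0, 0, 0, 0, 0, 0, 0, 0, 0, 0, 0, 0, 0, 0, 0, 0, 0, 0, 0, 0, 0, 0, 0, 0, 0, 0, 0, 1, 0, 0, 0, 0, 0, 0, 0, 0, 1, 0, 0, 0, 0, 0, 0, 0, 0, 0, 1, 0, 0, 1, 0, 0, 0, 0, 0, 0, 0, 0, 0, 1, 0, 0, 0, 1, 0, 0, 0, 0, 0, 0, 0, 0, 0, 1, 0, 0, 0, 0, 0, 0, 0, 0, 0, 0, 0, 0, 0, 0,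 0, 0, 0, 0, 0, 0, 0, 0, 0, 0, 0, 0, 0, 0, 0, 0, 0, 0, 0, 0, 0, 0, 0, 1, 0, 0, 1, 0, 0, 0, 0, 0, 0, 1, 1, 1, 1, 0, 0, 0, 0, 0, 0, 0, 1, 0, 0, 0, 0, 0, 0, 0, 1, 1, 1, 1, 1, 1, 0, 0, 0, 0, 0, 1, 0, 0, 0, 0, 0, 0, 0, 1, 1, 1, 1, 1, 0, 1, 0, 0, 0, 0, 0, 0, 0, 0, 0, 0, 0, 0, 0, 0, 0, 0, 0, 0, 1, 1, 0, 0, 0, 0, 0, 0, 1, 0, 0, 0, 0, 0, 0, 0, 1, 1, 1, 1, 1, 1, 0, 0, 0, 0, 0, 0, 0, 0, 0, 0, 0, 0, 0, 0, 0, 0, 0, 0, 0, 0, 0, 0, 0, 0, 0, 0, 0, 0, 0, 0, 0, 0, 0, 0, 0, 0, 0, 0, 0, 0, 0, 0, 0, 0, 0, 0, 0, 0, 0, 0, 0, 0, 0, 0, 0, 0, 0, 0, 0, 0, 0, 0, 0, 0, 0, 0, 0, 0, 0, 0, 0, 0, 0, 0, 0, 0, 0, 0, 0, 0, 0, 0, 0, 0, 0, 0, 0, 0, 0, 0, 0, 0, 0, 0, 0, 0, 0, 0, 0, 0, 0, 0, 0, 0, 0, 0, 0, 0, 0, 0, 0, 0, 0, 0, 0, 0, 0, 0],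
    [0, 0, 0, 0, 0, 0, 0, 0, 0, 0, 0, 0, 0, 0, 0, 0, 0, 0, 0, 0, 0, 0, 0, 0, 0, 0, 0, 0, 0, 0, 0, 0, 0, 0, 0, 0, 0, 0, 0, 0, 0, 0, 0, 0, 0, 0, 0, 0, 0, 0, 0, 0, 0, 0, 0, 0, 0, 0, 0, 0, 0, 0, 0, 0, 0, 0, 0, 0, 0, 0, 0, 0, 0, 0, 0, 0, 0, 0, 1, 0, 0, 0, 0, 0, 0, 0, 0, 0, 0, 0, 0, 1, 0, 0, 1, 0, 0, 0, 0, 0, 0, 0, 0, 1, 0, 0, 0, 0, 1, 0, 0, 0, 0, 0, 0, 0, 0, 1, 0, 0, 1, 0, 0, 0, 0, 0, 0, 0, 0, 0, 0, 0, 0, 1, 0, 0, 0, 0, 0, 0, 0, 0, 0, 0, 0, 0, 0, 0, 0, 0, 1, 0, 0, 1, 0, 0, 1, 0, 0, 0, 0, 0, 0, 0, 0, 1, 0, 1, 1, 0, 0, 0, 0, 0, 1, 0, 0, 0, 0, 0, 0, 0, 0, 1, 0, 1, 0, 0, 0, 0, 0, 0, 0, 0, 0, 0, 0, 0, 0, 0, 0, 0, 0, 0, 1, 0, 0, 1, 1, 1, 0, 0, 0, 1, 0, 0, 0, 0, 0, 0, 0, 0, 1, 1, 0, 1, 1, 0, 1, 0, 1, 0, 0, 0, 1, 0, 0, 0, 0, 0, 0, 0, 0, 1, 1, 1, 1, 1, 1,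 0, 1, 0, 1, 0, 0, 0, 0, 0, 0, 0, 0, 0, 0, 0, 0, 0, 0, 0, 0, 0, 0, 0, 0, 0, 0, 0, 0, 0, 0, 0, 0, 0, 0, 0, 0, 0, 0, 0, 0, 0, 0, 0, 0, 0, 0, 0, 0, 0, 0, 0, 0, 0, 0, 0, 0, 0, 0, 0, 0, 0, 0, 0, 0, 0, 0, 0, 0, 0, 0, 0, 0, 0, 0, 0, 0, 0, 0, 0, 0, 0, 0, 0, 0, 0, 0, 0, 0, 0, 0, 0, 0, 0, 0, 0, 0, 0, 0, 0, 0, 0, 0, 0, 0, 0, 0, 0, 0, 0, 0, 0, 0, 0, 0, 0, 0, 0, 0],
    [0, 0, 0, 0, 0, 0, 0, 0, 0, 0, 0, 0, 0, 0, 0, 0, 0, 0, 0, 0, 0, 0, 0, 0, 0, 0, 0, 0, 0, 0, 0, 0, 0, 0, 0, 0, 0, 0, 0, 0, 0, 0, 0, 0, 0, 0, 0, 0, 0, 0, 0, 0, 0, 0, 0, 0, 0, 0, 0, 1, 0, 0, 0, 0, 0, 0, 0, 0, 0, 1, 1, 0, 0, 0, 0, 0, 0, 0, 0, 1, 0, 0, 0, 0, 0, 0, 0, 0, 0, 0, 1, 0, 1, 0, 0, 0, 0, 0, 0, 0, 0, 0, 0, 1, 1, 0, 0, 0, 0, 1, 0, 0, 0, 0, 0, 0, 1, 0, 0, 1, 0, 1, 0, 0, 0, 0, 0, 0, 0, 0, 0,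 1, 1, 1, 0, 1, 0, 0, 0, 0, 1, 0, 0, 0, 0, 0, 0, 0, 0, 0, 1, 0, 1, 0, 1, 0, 1, 1, 0, 0, 0, 0, 0, 0, 0, 0, 0, 0, 1, 1, 1, 0, 0, 0, 1, 1, 0, 0, 0, 0, 0, 0, 0, 1, 1, 0, 1, 0, 0, 1, 0, 0, 0, 1, 0, 0, 0, 0, 0, 0, 0, 0, 1, 1, 0, 1, 0, 1, 0, 1, 0, 0, 0, 0, 1, 0, 0, 0, 0, 0, 0, 0, 0, 0, 0, 0, 0, 1, 1, 1, 0, 0, 0, 0, 1, 1, 0, 0, 0, 0, 0, 0, 0, 1, 1, 0, 1, 0, 0, 1, 0, 1, 0, 0, 0, 0, 0, 0, 0, 0, 0, 0, 0, 0, 0, 0, 0, 0, 0, 0, 0, 0, 0, 0, 0, 0, 0, 0, 0, 0, 0, 0, 0, 0, 0, 0, 0, 0, 0, 0, 0, 0, 0, 0, 0, 0, 0, 0, 0, 0, 0, 0, 0, 0, 0, 0, 0, 0, 0, 0, 0, 0, 0, 0, 0, 0, 0, 0, 0, 0, 0, 0, 0, 0, 0, 0, 0, 0, 0, 0, 0, 0, 0, 0, 0, 0, 0, 0, 0, 0, 0, 0, 0, 0, 0, 0, 0, 0, 0, 0, 0, 0, 0, 0, 0, 0, 0, 0, 0, 0, 0, 0, 0, 0, 0, 0, 0],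
    [0, 0, 0, 0, 0, 0, 0, 0, 0, 0, 0, 0, 0, 0, 0, 0, 0, 0, 0, 0, 0, 0, 0, 0, 0, 0, 0, 0, 0, 0, 0, 0, 0, 0, 0, 0, 0, 0, 0, 0, 0, 0, 0, 0, 0, 0, 0, 0, 0, 0, 0, 0, 0, 0, 0, 0, 0, 1, 0, 0, 0, 0, 0, 0, 0, 0, 1, 0, 1, 0, 0, 0, 0, 0, 0, 0, 0, 0, 0, 0, 0, 0, 0, 0, 0, 0, 0, 0, 0, 0, 0, 0, 1, 1, 0, 0, 0, 0, 0, 0, 0, 0, 0, 0, 0, 0, 1, 1, 0, 0, 0, 0, 0, 0, 0, 0, 1, 0, 1, 0, 0, 0, 1, 0, 0, 0, 0, 0, 0, 0, 0, 1, 0, 1, 1, 1, 0, 0, 1, 0, 0, 0, 0, 0, 0, 0, 0, 0, 0, 0, 0, 1, 1, 1, 1, 0, 0, 0, 0, 0, 0, 0, 0, 0, 0, 0, 1, 0, 0, 1, 0, 1, 1, 0, 0, 0, 0, 0, 0, 0, 0, 0, 1, 0, 0, 1, 1, 1, 1, 0, 1, 0, 1, 0, 0, 0, 0, 0, 0, 0, 0, 0, 0, 1, 1, 1, 1, 0, 0, 1, 0, 1, 1, 0, 0, 0, 0, 0, 0, 0, 0, 1, 0, 1, 0, 0, 0, 1, 1, 0, 0, 1, 1, 0, 0, 0, 0, 0, 0, 0, 0, 0, 1, 0, 0, 1, 1, 1, 1,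 1, 1, 0, 0, 0, 0, 0, 0, 0, 0, 0, 0, 0, 0, 0, 0, 0, 0, 0, 0, 0, 0, 0, 0, 0, 0, 0, 0, 0, 0, 0, 0, 0, 0, 0, 0, 0, 0, 0, 0, 0, 0, 0, 0, 0, 0, 0, 0, 0, 0, 0, 0, 0, 0, 0, 0, 0, 0, 0, 0, 0, 0, 0, 0, 0, 0, 0, 0, 0, 0, 0, 0, 0, 0, 0, 0, 0, 0, 0, 0, 0, 0, 0, 0, 0, 0, 0, 0, 0, 0, 0, 0, 0, 0, 0, 0, 0, 0, 0, 0, 0, 0, 0, 0, 0, 0, 0, 0, 0, 0, 0, 0, 0, 0, 0, 0, 0, 0],
    [0, 0, 0, 0, 0, 0, 0, 0, 0, 0, 0, 0, 0, 0, 0, 0, 0, 0, 0, 0, 0, 0, 0, 0, 0, 0, 0, 0, 0, 0, 0, 0, 0, 0, 0, 0, 0, 0, 0, 0, 0, 0, 0, 0, 0, 0, 0, 0, 0, 0, 0, 0, 0, 0, 0, 0, 0, 0, 0, 0, 0, 0, 0, 0, 0, 0, 0, 0, 0, 0, 0, 0, 0, 0, 0, 0, 1, 0, 0, 0, 0, 0, 0, 0, 0, 0, 0, 0, 1, 1, 0, 0, 0, 0, 0, 0, 0, 0, 0, 0, 0, 0, 0, 0, 0, 0, 0, 0, 0, 0, 0, 0, 0, 0, 0, 1, 1, 1, 0, 0, 0, 0, 0, 0, 0, 0, 0, 0, 0, 0, 0,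 0, 1, 0, 1, 0, 0, 0, 0, 0, 0, 0, 0, 0, 0, 0, 1, 1, 1, 0, 0, 1, 0, 0, 0, 0, 0, 0, 0, 0, 0, 0, 0, 1, 1, 1, 0, 0, 1, 0, 0, 0, 0, 0, 0, 0, 0, 0, 0, 0, 0, 1, 1, 0, 0, 1, 1, 1, 1, 0, 0, 0, 0, 0, 0, 0, 0, 0, 0, 0, 0, 0, 1, 0, 1, 0, 1, 1, 1, 0, 0, 0, 0, 0, 0, 0, 0, 0, 0, 0, 0, 0, 0, 0, 0, 0, 0, 0, 0, 0, 0, 0, 0, 0, 0, 0, 0, 0, 0, 0, 0, 1, 1, 1, 0, 0, 1, 0, 0, 1, 1, 0, 0, 0, 0, 0, 0, 0, 0, 0, 0, 0, 0, 0, 0, 0, 0, 0, 0, 0, 0, 0, 0, 0, 0, 0, 0, 0, 0, 0, 0, 0, 0, 0, 0, 0, 0, 0, 0, 0, 0, 0, 0, 0, 0, 0, 0, 0, 0, 0, 0, 0, 0, 0, 0, 0, 0, 0, 0, 0, 0, 0, 0, 0, 0, 0, 0, 0, 0, 0, 0, 0, 0, 0, 0, 0, 0, 0, 0, 0, 0, 0, 0, 0, 0, 0, 0, 0, 0, 0, 0, 0, 0, 0, 0, 0, 0, 0, 0, 0, 0, 0, 0, 0, 0, 0, 0, 0, 0, 0, 0, 0, 0, 0, 0, 0, 0],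
    [0, 0, 0, 0, 0, 0, 0, 0, 0, 0, 0, 0, 0, 0, 0, 0, 0, 0, 0, 0, 0, 0, 0, 0, 0, 0, 0, 0, 0, 0, 0, 0, 0, 0, 0, 0, 0, 0, 0, 0, 0, 0, 0, 0, 0, 0, 0, 0, 0, 0, 0, 0, 0, 0, 0, 0, 0, 0, 0, 0, 0, 0, 0, 0, 0, 1, 0, 0, 0, 0, 0, 0, 0, 0, 0, 0, 1, 0, 0, 0, 0, 0, 0, 0, 0, 0, 0, 0, 0, 0, 0, 0, 0, 0, 0, 0, 0, 0, 0, 0, 0, 0, 0, 0, 0, 0, 0, 0, 0, 0, 0, 0, 0, 0, 0, 1, 1, 0, 0, 1, 0, 0, 0, 0, 0, 0, 0, 0, 0, 0, 1, 1, 0, 0, 1, 1, 0, 0, 0, 0, 0, 0, 0, 0, 0, 0, 1, 1, 0, 0, 1, 1, 1, 0, 0, 0, 0, 0, 0, 0, 0, 0, 0, 1, 1, 0, 0, 1, 1, 1, 1, 0, 0, 0, 0, 0, 0, 0, 0, 0, 0, 0, 0, 0, 0, 0, 0, 0, 0, 0, 0, 0, 0, 0, 0, 0, 0, 0, 0, 0, 1, 1, 0, 0, 1, 1, 1, 1, 0, 1, 0, 0, 0, 0, 0, 0, 0, 0, 0, 0, 0, 0, 0, 0, 0, 0, 0, 0, 0, 0, 0, 0, 0, 0, 0, 0, 0, 0, 0, 0, 0, 1, 1, 0, 0, 1, 1, 1, 1,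 0, 1, 0, 1, 0, 0, 0, 0, 0, 0, 0, 0, 0, 0, 0, 0, 0, 0, 0, 0, 0, 0, 0, 0, 0, 0, 0, 0, 0, 0, 0, 0, 0, 0, 0, 0, 0, 0, 0, 0, 0, 0, 0, 0, 0, 0, 0, 0, 0, 0, 0, 0, 0, 0, 0, 0, 0, 0, 0, 0, 0, 0, 0, 0, 0, 0, 0, 0, 0, 0, 0, 0, 0, 0, 0, 0, 0, 0, 0, 0, 0, 0, 0, 0, 0, 0, 0, 0, 0, 0, 0, 0, 0, 0, 0, 0, 0, 0, 0, 0, 0, 0, 0, 0, 0, 0, 0, 0, 0, 0, 0, 0, 0, 0, 0, 0, 0, 0],
    [0, 0, 0, 0, 0, 0, 0, 0, 0, 0, 0, 0, 0, 0, 0, 0, 0, 0, 0, 0, 0, 0, 0, 0, 0, 0, 0, 0, 0, 0, 0, 0, 0, 0, 0, 0, 0, 0, 0, 0, 0, 0, 0, 0, 0, 0, 0, 0, 0, 0, 0, 0, 0, 0, 0, 0, 0, 0, 0, 0, 0, 0, 0, 0, 0, 0, 0, 0, 0, 0, 0, 0, 0, 0, 0, 0, 1, 0, 0, 0, 0, 0, 0, 0, 0, 0, 0, 0, 1, 0, 0, 0, 0, 0, 0, 0, 0, 0, 0, 0, 0, 0, 0, 0, 0, 0, 0, 0, 0, 0, 0, 0, 0, 0, 0, 0, 1, 1, 0, 0, 0, 0, 0, 0, 0, 0, 0, 0, 0, 0, 0,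 1, 1, 0, 0, 0, 0, 0, 0, 0, 0, 0, 0, 0, 0, 0, 0, 1, 1, 0, 0, 0, 0, 0, 0, 0, 0, 0, 0, 0, 0, 0, 0, 1, 0, 1, 0, 1, 1, 1, 0, 0, 0, 0, 0, 0, 0, 0, 0, 0, 0, 1, 1, 0, 0, 1, 1, 1, 1, 0, 0, 0, 0, 0, 0, 0, 0, 0, 0, 0, 0, 1, 1, 0, 0, 0, 0, 1, 1, 0, 0, 0, 0, 0, 0, 0, 0, 0, 0, 0, 0, 0, 0, 0, 0, 0, 0, 0, 0, 0, 0, 0, 0, 0, 0, 0, 0, 0, 0, 0, 0, 1, 0, 1, 0, 1, 1, 1, 0, 1, 1, 0, 0, 0, 0, 0, 0, 0, 0, 0, 0, 0, 0, 0, 0, 0, 0, 0, 0, 0, 0, 0, 0, 0, 0, 0, 0, 0, 0, 0, 0, 0, 0, 0, 0, 0, 0, 0, 0, 0, 0, 0, 0, 0, 0, 0, 0, 0, 0, 0, 0, 0, 0, 0, 0, 0, 0, 0, 0, 0, 0, 0, 0, 0, 0, 0, 0, 0, 0, 0, 0, 0, 0, 0, 0, 0, 0, 0, 0, 0, 0, 0, 0, 0, 0, 0, 0, 0, 0, 0, 0, 0, 0, 0, 0, 0, 0, 0, 0, 0, 0, 0, 0, 0, 0, 0, 0, 0, 0, 0, 0, 0, 0, 0, 0, 0, 0],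
    [1, 0, 0, 1, 0, 1, 1, 0, 1, 1, 1, 0, 1, 1, 1, 0, 0, 1, 0, 1, 1, 0, 0, 0, 0, 0, 0, 1, 0, 0, 0, 0, 0, 0, 0, 0, 0, 0, 0, 0, 0, 0, 1, 0, 1, 0, 0, 0, 0, 0, 0, 0, 0, 0, 0, 0, 0, 0, 0, 0, 0, 0, 0, 0, 0, 0, 0, 0, 0, 0, 0, 0, 0, 0, 0, 0, 0, 0, 0, 0, 0, 0, 0, 0, 0, 0, 0, 0, 0, 0, 0, 0, 0, 0, 0, 0, 0, 0, 0, 0, 0, 0, 0, 0, 0, 0, 0, 0, 0, 0, 0, 0, 0, 0, 0, 0, 0, 0, 0, 0, 0, 0, 0, 0, 0, 0, 0, 0, 0, 0, 0, 0, 0, 0, 0, 0, 0, 0, 0, 0, 0, 0, 0, 0, 0, 0, 0, 0, 0, 0, 0, 0, 0, 0, 0, 0, 0, 0, 0, 0, 0, 0, 0, 0, 0, 0, 0, 0, 0, 0, 0, 0, 0, 0, 0, 0, 0, 0, 0, 0, 0, 0, 0, 0, 0, 0, 0, 0, 0, 0, 0, 0, 0, 0, 0, 0, 0, 0, 0, 0, 0, 0, 0, 0, 0, 0, 0, 0, 0, 0, 0, 0, 0, 0, 0, 0, 0, 0, 0, 0, 0, 0, 0, 0, 0, 0, 0, 0, 0, 0, 0, 0, 0, 0, 0, 0, 0, 0, 0, 0, 0, 0, 0, 0, 0, 0, 0, 0, 0,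 0, 0, 0, 0, 0, 0, 0, 0, 0, 0, 0, 0, 0, 0, 0, 0, 0, 0, 0, 0, 0, 0, 0, 0, 0, 0, 0, 0, 0, 0, 0, 0, 0, 0, 0, 0, 0, 0, 0, 0, 0, 0, 0, 0, 0, 0, 0, 0, 0, 0, 0, 0, 0, 0, 0, 0, 0, 0, 0, 0, 0, 0, 0, 0, 0, 0, 0, 0, 0, 0, 0, 0, 0, 0, 0, 0, 0, 0, 0, 0, 0, 0, 0, 0, 0, 0, 0, 0, 0, 0, 0, 0, 0, 0, 0, 0, 0, 0, 0, 0, 0, 0, 0, 0, 0, 0, 0, 0, 0, 0, 0, 0, 0, 0, 0, 0, 0, 0]]

/-- part of the exponents -/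
def twoVecs22 : List (List ℤ) :=
  [[0, 0, 0, 0, 0, 0, 0, 0, 0, 0, 0, 0, 0, 0, 0, 0, 0, 0, 0, 0, 0, 0, 0, 0, 0, 0, 0, 0, 0, 0, 0, 0, 0, 0, 0, 0, 0, 0, 0, 0, 0, 0, 0, 0, 0, 0, 0, 0, 0, 0, 0, 0, 0, 0, 0, 1, 0, 1, 1, 1, 0, 0, 0, 0, 0, 0, 0, 0, 0, 0, 0, 0, 0, 0, 0, 0, 0, 0, 0, 0, 0, 0, 1, 0, 0, 0, 0, 0, 0, 0, 1, 0, 0, 1, 0, 1, 0, 0, 0, 0, 0, 0, 0, 1, 0, 0, 0, 1, 1, 1, 0, 0, 0, 0, 0, 0, 0, 1, 1, 1, 0, 0, 0, 1, 0, 0, 0, 0, 0, 0, 0, 0, 0, 0, 0, 0, 0, 0, 0, 1, 1, 0, 0, 0, 0, 0, 0, 0, 0, 1, 0, 1, 1, 0, 0, 1, 0, 1, 0, 0, 0, 0, 0, 0, 0, 1, 0, 1, 1, 1, 1, 0, 0, 1, 1, 1, 0, 1, 0, 1, 0, 0, 0, 0, 0, 0, 0, 0, 1, 1, 0, 0, 0, 0, 0, 0, 1, 0, 1, 0, 0, 0, 0, 0, 1, 0, 1, 1, 0, 1, 0, 0, 1, 0, 1, 0, 0, 0, 0, 0, 0, 0, 0, 0, 1, 1, 1, 0, 1, 1, 1, 0, 0, 1, 0, 1, 0, 0,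 0, 0, 0, 0, 0, 0, 0, 0, 1, 0, 0, 0, 1, 1, 1, 0, 0, 0, 0, 0, 0, 0, 0, 0, 0, 0, 0, 0, 0, 0, 0, 0, 0, 0, 1, 0, 1, 0, 0, 0, 0, 0, 0, 0, 0, 0, 0, 0, 0, 0, 0, 0, 0, 0, 0, 0, 0, 0, 0, 0, 0, 0, 0, 0, 0, 0, 0, 0, 0, 0, 0, 0, 0, 0, 0, 0, 0, 0, 0, 0, 0, 0, 0, 0, 0, 0, 0, 0, 0, 0, 0, 0, 0, 0, 0, 0, 0, 0, 0, 0, 0, 0, 0, 0, 0, 0, 0, 0, 0, 0, 0, 0, 0, 0, 0, 0, 0, 0, 0, 0, 0, 0, 0, 0, 0, 0, 0, 0, 0],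
    [0, 0, 0, 0, 0, 0, 0, 0, 0, 0, 0, 0, 0, 0, 0, 0, 0, 0, 0, 0, 0, 0, 0, 0, 0, 0, 0, 0, 0, 0, 0, 0, 0, 0, 0, 0, 0, 0, 0, 0, 0, 0, 0, 0, 0, 0, 0, 0, 0, 0, 0, 0, 0, 0, 0, 0, 0, 0, 0, 0, 0, 1, 0, 1, 0, 0, 1, 0, 1, 1, 1, 0, 1, 0, 1, 0, 0, 1, 0, 0, 0, 0, 1, 0, 0, 0, 0, 0, 0, 0, 0, 0, 0, 1, 1, 0, 0, 1, 0, 1, 0, 0, 1, 0, 0, 0, 0, 0, 0, 0, 0, 1, 0, 1, 0, 0, 0, 0, 1, 1, 0, 0, 0, 0, 1, 0, 0, 0, 0, 0, 0, 0, 1, 1, 1, 1, 0, 0, 0, 0, 0, 0, 0, 0, 0, 0, 0, 0, 1, 1, 1, 1, 0, 0, 0, 1, 1, 0, 0, 0, 0, 1, 0, 0, 0, 0, 1, 1, 0, 1, 1, 0, 0, 0, 0, 0, 0, 1, 0, 0, 0, 0, 0, 0, 0, 1, 0, 1, 0, 0, 0, 0, 0, 0, 0, 0, 0, 0, 1, 0, 0, 0, 0, 0, 1, 0, 0, 1, 0, 1, 0, 0, 0, 0, 0, 0, 1, 0, 1, 0, 0, 1, 0, 1, 1, 0, 1, 1, 1, 0, 0, 0, 0, 0, 0, 0, 0, 1, 0, 0, 0, 0, 0, 0, 1, 1, 0, 1, 1,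 0, 0, 0, 1, 0, 0, 0, 0, 0, 0, 0, 0, 0, 0, 0, 0, 0, 0, 0, 1, 0, 0, 1, 0, 0, 0, 0, 0, 0, 0, 0, 0, 0, 0, 0, 0, 0, 0, 0, 0, 0, 0, 0, 0, 0, 0, 0, 0, 0, 0, 0, 0, 0, 0, 0, 0, 0, 0, 0, 0, 0, 0, 0, 0, 0, 0, 0, 0, 0, 0, 0, 0, 0, 0, 0, 0, 0, 0, 0, 0, 0, 0, 0, 0, 0, 0, 0, 0, 0, 0, 0, 0, 0, 0, 0, 0, 0, 0, 0, 0, 0, 0, 0, 0, 0, 0, 0, 0, 0, 0, 0, 0, 0, 0, 0, 0, 0, 0],
    [0, 0, 0, 0, 0, 0, 0, 0, 0, 0, 0, 0, 0, 0, 0, 0, 0, 0, 0, 0, 0, 0, 0, 0, 0, 0, 0, 0, 0, 0, 0, 0, 0, 0, 0, 0, 0, 0, 0, 0, 0, 0, 0, 0, 0, 0, 0, 0, 0, 0, 0, 0, 0, 0, 0, 0, 0, 0, 0, 0, 0, 0, 0, 0, 0, 0, 0, 0, 0, 0, 0, 0, 1, 0, 1, 0, 0, 0, 1, 0, 1, 1, 1, 0, 0, 0, 0, 0, 0, 0, 0, 0, 0, 0, 0, 0, 0, 1, 0, 1, 0, 0, 0, 0, 0, 0, 0, 1, 1, 0, 0, 0, 0, 0, 0, 0, 0, 0, 0, 1, 0, 0, 0, 1, 1, 0, 0, 0, 0, 0, 0,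 0, 0, 0, 1, 1, 0, 0, 0, 1, 0, 0, 0, 0, 0, 0, 0, 0, 0, 0, 1, 0, 1, 0, 0, 0, 0, 0, 0, 1, 0, 0, 0, 0, 0, 0, 0, 0, 0, 0, 0, 0, 0, 1, 1, 0, 0, 1, 0, 0, 0, 0, 0, 0, 1, 1, 1, 1, 1, 1, 0, 0, 0, 0, 0, 0, 1, 0, 1, 0, 0, 0, 0, 0, 0, 0, 0, 1, 1, 0, 0, 0, 0, 1, 0, 0, 0, 0, 0, 0, 0, 0, 0, 1, 0, 1, 0, 0, 0, 1, 0, 0, 0, 0, 1, 0, 0, 0, 0, 0, 0, 0, 0, 0, 0, 0, 1, 0, 0, 0, 0, 0, 0, 0, 0, 0, 0, 0, 0, 0, 0, 0, 0, 0, 0, 0, 0, 0, 0, 0, 0, 0, 1, 0, 0, 0, 0, 0, 0, 0, 0, 0, 0, 0, 0, 0, 0, 0, 0, 0, 0, 0, 0, 0, 0, 0, 0, 0, 0, 0, 0, 0, 0, 0, 0, 0, 0, 0, 0, 0, 0, 0, 0, 0, 0, 0, 0, 0, 0, 0, 0, 0, 0, 0, 0, 0, 0, 0, 0, 0, 0, 0, 0, 0, 0, 0, 0, 0, 0, 0, 0, 0, 0, 0, 0, 0, 0, 0, 0, 0, 0, 0, 0, 0, 0, 0, 0, 0, 0, 0, 0, 0, 0, 0, 0, 0, 0],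
    [0, 0, 0, 0, 0, 0, 0, 0, 0, 0, 0, 0, 0, 0, 0, 0, 0, 0, 0, 0, 0, 0, 0, 0, 0, 0, 0, 0, 0, 0, 0, 0, 0, 0, 0, 0, 0, 0, 0, 0, 0, 0, 0, 0, 0, 0, 0, 0, 0, 0, 0, 0, 0, 0, 0, 0, 0, 0, 0, 0, 0, 0, 0, 0, 0, 0, 0, 0, 0, 0, 0, 0, 1, 0, 1, 0, 0, 1, 0, 0, 0, 0, 0, 0, 0, 0, 0, 0, 0, 0, 0, 1, 0, 1, 1, 1, 0, 0, 0, 0, 0, 0, 1, 0, 1, 0, 0, 0, 0, 1, 0, 0, 0, 0, 0, 0, 0, 0, 0, 0, 0, 0, 0, 0, 0, 0, 1, 0, 1, 0, 0, 0, 0, 0, 1, 0, 0, 0, 0, 0, 1, 0, 1, 0, 1, 0, 0, 0, 0, 0, 1, 0, 1, 0, 0, 0, 0, 0, 0, 1, 0, 1, 0, 0, 1, 0, 1, 0, 0, 0, 1, 0, 0, 0, 0, 0, 0, 1, 0, 0, 0, 0, 1, 0, 1, 0, 1, 1, 0, 0, 0, 0, 0, 0, 1, 0, 0, 0, 1, 0, 0, 0, 0, 0, 1, 0, 0, 1, 1, 1, 0, 0, 0, 0, 1, 0, 0, 0, 0, 0, 0, 0, 0, 0, 1, 1, 0, 1, 0, 0, 1, 0, 0, 0, 0, 0, 0, 0, 0, 0, 0, 0, 1, 0, 1, 0, 0, 0, 1,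 0, 1, 1, 1, 0, 0, 0, 0, 0, 0, 0, 0, 0, 0, 0, 0, 0, 0, 0, 0, 0, 1, 1, 0, 0, 0, 0, 0, 0, 0, 0, 0, 0, 0, 0, 0, 0, 0, 0, 0, 0, 0, 0, 0, 0, 0, 0, 0, 0, 0, 0, 0, 0, 0, 0, 0, 0, 0, 0, 0, 0, 0, 0, 0, 0, 0, 0, 0, 0, 0, 0, 0, 0, 0, 0, 0, 0, 0, 0, 0, 0, 0, 0, 0, 0, 0, 0, 0, 0, 0, 0, 0, 0, 0, 0, 0, 0, 0, 0, 0, 0, 0, 0, 0, 0, 0, 0, 0, 0, 0, 0, 0, 0, 0, 0, 0, 0, 0],
    [0, 0, 0, 0, 0, 0, 0, 0, 0, 0, 0, 0, 0, 0, 0, 0, 0, 0, 0, 0, 0, 0, 0, 0, 0, 0, 0, 0, 0, 0, 0, 0, 0, 0, 0, 0, 0, 0, 0, 0, 0, 0, 0, 0, 0, 0, 0, 0, 0, 0, 0, 0, 0, 0, 0, 0, 0, 0, 0, 0, 0, 1, 0, 1, 0, 0, 0, 0, 0, 0, 0, 0, 0, 0, 0, 0, 0, 0, 0, 0, 0, 0, 0, 0, 1, 0, 1, 0, 0, 0, 0, 0, 0, 0, 0, 0, 0, 0, 0, 0, 0, 0, 0, 0, 0, 0, 0, 0, 0, 0, 0, 0, 0, 0, 0, 0, 0, 0, 0, 0, 0, 0, 0, 0, 0, 0, 1, 0, 1, 0, 0,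 0, 0, 0, 0, 0, 0, 0, 0, 0, 0, 0, 1, 0, 1, 0, 0, 0, 0, 0, 0, 0, 0, 1, 0, 1, 1, 1, 0, 1, 0, 1, 0, 0, 0, 1, 0, 0, 1, 1, 0, 0, 0, 0, 0, 1, 0, 1, 0, 0, 0, 0, 0, 1, 0, 0, 1, 1, 0, 0, 0, 0, 0, 0, 1, 0, 0, 0, 0, 0, 0, 0, 1, 0, 0, 1, 0, 0, 1, 1, 0, 0, 0, 0, 0, 0, 1, 0, 1, 0, 0, 0, 1, 0, 0, 1, 1, 0, 0, 1, 1, 0, 0, 0, 0, 1, 0, 1, 0, 0, 0, 0, 0, 0, 0, 0, 0, 0, 1, 1, 1, 1, 1, 0, 0, 0, 0, 0, 0, 0, 0, 0, 0, 0, 0, 0, 0, 0, 0, 0, 0, 0, 0, 0, 1, 0, 0, 0, 0, 0, 0, 0, 0, 0, 0, 0, 0, 0, 0, 0, 0, 0, 0, 0, 0, 0, 0, 0, 0, 0, 0, 0, 0, 0, 0, 0, 0, 0, 0, 0, 0, 0, 0, 0, 0, 0, 0, 0, 0, 0, 0, 0, 0, 0, 0, 0, 0, 0, 0, 0, 0, 0, 0, 0, 0, 0, 0, 0, 0, 0, 0, 0, 0, 0, 0, 0, 0, 0, 0, 0, 0, 0, 0, 0, 0, 0, 0, 0, 0, 0, 0, 0, 0, 0, 0, 0, 0],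
    [0, 0, 0, 0, 0, 0, 0, 0, 0, 0, 0, 0, 0, 0, 0, 0, 0, 0, 0, 0, 0, 0, 0, 0, 0, 0, 0, 0, 0, 0, 0, 0, 0, 0, 0, 0, 0, 0, 0, 0, 0, 0, 0, 0, 0, 0, 0, 0, 0, 0, 0, 0, 0, 0, 0, 0, 0, 0, 0, 0, 0, 1, 0, 1, 0, 0, 0, 0, 0, 0, 0, 0, 0, 0, 0, 0, 0, 0, 0, 0, 0, 0, 0, 0, 1, 0, 1, 0, 0, 0, 0, 0, 0, 0, 0, 0, 0, 1, 0, 1, 0, 0, 0, 0, 0, 0, 0, 0, 0, 0, 0, 1, 0, 1, 0, 0, 0, 0, 0, 0, 0, 0, 0, 0, 0, 0, 0, 0, 0, 0, 0, 0, 0, 0, 0, 0, 0, 0, 0, 0, 0, 0, 0, 0, 0, 0, 0, 0, 0, 0, 0, 0, 0, 0, 0, 0, 0, 0, 0, 1, 0, 0, 0, 0, 0, 1, 1, 0, 0, 0, 1, 0, 0, 0, 0, 0, 0, 1, 0, 1, 0, 0, 0, 1, 1, 1, 0, 0, 1, 1, 1, 0, 1, 1, 1, 0, 0, 0, 0, 0, 0, 0, 1, 1, 1, 0, 0, 1, 1, 0, 0, 0, 1, 1, 0, 0, 1, 0, 1, 0, 0, 0, 1, 1, 1, 0, 0, 0, 0, 1, 0, 0, 0, 1, 1, 0, 0, 1, 0, 0, 0, 0, 0, 0, 0, 0, 0, 0, 0,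 0, 0, 0, 0, 0, 0, 0, 0, 0, 0, 0, 0, 0, 0, 0, 0, 0, 0, 0, 0, 0, 0, 0, 0, 0, 0, 0, 0, 0, 0, 0, 0, 0, 0, 0, 0, 0, 0, 0, 0, 0, 0, 0, 0, 0, 0, 0, 0, 0, 0, 0, 0, 0, 0, 0, 0, 0, 0, 0, 0, 0, 0, 0, 0, 0, 0, 0, 0, 0, 0, 0, 0, 0, 0, 0, 0, 0, 0, 0, 0, 0, 0, 0, 0, 0, 0, 0, 0, 0, 0, 0, 0, 0, 0, 0, 0, 0, 0, 0, 0, 0, 0, 0, 0, 0, 0, 0, 0, 0, 0, 0, 0, 0, 0, 0, 0, 0, 0],
    [0, 0, 0, 0, 0, 0, 0, 0, 0, 0, 0, 0, 0, 0, 0, 0, 0, 0, 0, 0, 0, 0, 0, 0, 0, 0, 0, 0, 0, 0, 0, 0, 0, 0, 0, 0, 0, 0, 0, 0, 0, 0, 0, 0, 0, 0, 0, 0, 0, 0, 0, 0, 0, 0, 0, 0, 0, 0, 0, 0, 0, 0, 0, 0, 0, 0, 0, 0, 0, 0, 0, 0, 0, 0, 0, 0, 0, 0, 0, 0, 0, 0, 0, 0, 0, 0, 0, 0, 0, 0, 0, 0, 0, 0, 0, 0, 0, 0, 0, 0, 0, 0, 0, 0, 0, 0, 1, 0, 0, 0, 0, 0, 0, 1, 0, 0, 0, 0, 0, 0, 0, 1, 0, 0, 0, 0, 0, 0, 0, 0, 0,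 0, 0, 0, 0, 1, 0, 0, 1, 0, 0, 0, 0, 0, 1, 0, 0, 0, 0, 0, 0, 0, 0, 0, 0, 0, 0, 0, 0, 0, 0, 0, 0, 0, 0, 0, 0, 0, 0, 0, 0, 0, 0, 0, 0, 0, 0, 0, 0, 0, 0, 0, 0, 0, 0, 0, 0, 0, 0, 0, 0, 0, 0, 0, 0, 0, 0, 0, 1, 0, 0, 0, 0, 0, 0, 0, 1, 0, 0, 1, 0, 0, 0, 0, 0, 0, 0, 0, 1, 0, 0, 0, 0, 0, 0, 1, 1, 0, 0, 1, 1, 0, 0, 0, 0, 0, 0, 0, 0, 0, 0, 0, 0, 0, 0, 0, 0, 0, 0, 0, 0, 0, 0, 0, 0, 0, 0, 0, 0, 0, 0, 0, 0, 0, 0, 0, 0, 0, 0, 0, 0, 0, 0, 0, 0, 0, 0, 0, 0, 0, 1, 0, 0, 0, 0, 0, 0, 0, 0, 0, 0, 0, 0, 0, 0, 0, 0, 0, 0, 0, 0, 0, 0, 0, 0, 0, 0, 0, 0, 0, 0, 0, 0, 0, 0, 0, 0, 0, 0, 0, 0, 0, 0, 0, 0, 0, 0, 0, 0, 0, 0, 0, 0, 0, 0, 0, 0, 0, 0, 0, 0, 0, 0, 0, 0, 0, 0, 0, 0, 0, 0, 0, 0, 0, 0, 0, 0, 0, 0, 0, 0, 0, 0, 0, 0, 0, 0],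
    [0, 0, 0, 0, 0, 0, 0, 0, 0, 1, 0, 0, 0, 1, 1, 0, 0, 0, 1, 1, 1, 0, 0, 0, 0, 0, 0, 0, 0, 0, 0, 0, 0, 0, 0, 0, 0, 0, 0, 0, 0, 0, 0, 0, 0, 0, 0, 0, 1, 0, 0, 0, 0, 0, 1, 0, 0, 0, 0, 0, 0, 0, 0, 0, 0, 0, 0, 0, 0, 0, 0, 0, 0, 0, 0, 0, 0, 0, 0, 0, 0, 0, 0, 0, 0, 0, 0, 0, 0, 0, 0, 0, 0, 0, 0, 0, 0, 0, 0, 0, 0, 0, 0, 0, 0, 0, 0, 0, 0, 1, 1, 0, 0, 0, 0, 0, 0, 0, 0, 0, 0, 0, 0, 0, 1, 1, 0, 0, 0, 1, 0, 0, 0, 0, 1, 1, 0, 0, 0, 0, 0, 1, 0, 0, 0, 1, 0, 0, 0, 0, 0, 0, 1, 0, 0, 0, 0, 0, 0, 0, 0, 0, 0, 0, 0, 0, 0, 0, 0, 0, 0, 0, 0, 0, 1, 0, 1, 0, 0, 0, 0, 0, 0, 0, 0, 1, 0, 0, 0, 0, 0, 0, 0, 0, 1, 1, 0, 0, 0, 1, 0, 0, 0, 0, 1, 1, 0, 0, 0, 1, 0, 0, 0, 0, 0, 0, 0, 0, 0, 0, 0, 0, 0, 0, 1, 0, 0, 0, 1, 1, 0, 0, 0, 0, 0, 1, 1, 0, 0, 0, 1, 0, 0, 0, 0, 0, 1, 0, 0,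 1, 0, 0, 0, 0, 0, 0, 0, 0, 0, 0, 0, 0, 0, 0, 0, 0, 0, 0, 0, 0, 0, 0, 0, 0, 0, 0, 0, 0, 0, 0, 0, 0, 0, 1, 1, 0, 1, 0, 0, 1, 0, 1, 1, 0, 0, 0, 0, 0, 0, 0, 0, 0, 0, 0, 0, 0, 0, 0, 0, 0, 0, 0, 0, 0, 0, 0, 0, 0, 0, 0, 0, 0, 0, 0, 0, 0, 0, 0, 0, 0, 0, 0, 0, 0, 0, 0, 0, 0, 0, 0, 0, 0, 0, 0, 0, 0, 0, 0, 0, 0, 0, 0, 0, 0, 0, 0, 0, 0, 0, 0, 0, 0, 0, 0, 0, 0, 0],
    [0, 0, 0, 0, 0, 0, 0, 0, 0, 1, 0, 0, 0, 1, 1, 0, 0, 0, 1, 1, 1, 0, 0, 0, 0, 0, 0, 0, 0, 0, 0, 0, 0, 0, 0, 0, 0, 0, 0, 0, 0, 0, 0, 0, 0, 0, 0, 0, 0, 0, 1, 0, 0, 0, 1, 0, 0, 0, 0, 0, 0, 0, 0, 0, 0, 0, 0, 0, 0, 0, 0, 0, 0, 0, 0, 0, 0, 0, 0, 0, 0, 0, 0, 0, 0, 0, 0, 0, 0, 0, 0, 0, 0, 0, 0, 0, 0, 0, 0, 0, 0, 0, 0, 0, 0, 0, 0, 0, 1, 1, 0, 0, 0, 0, 0, 0, 0, 0, 0, 0, 0, 0, 0, 1, 1, 0, 0, 0, 0, 0, 0,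 0, 0, 0, 1, 1, 0, 0, 0, 0, 0, 1, 0, 0, 0, 1, 0, 0, 0, 0, 0, 0, 1, 0, 0, 0, 0, 0, 0, 0, 0, 0, 0, 0, 0, 0, 0, 0, 0, 0, 0, 0, 0, 0, 1, 0, 1, 0, 0, 0, 0, 0, 0, 0, 0, 1, 0, 0, 0, 0, 0, 0, 0, 0, 1, 1, 0, 0, 0, 0, 0, 0, 0, 0, 1, 1, 0, 0, 0, 1, 0, 0, 0, 0, 0, 0, 0, 0, 0, 0, 0, 0, 0, 0, 1, 1, 0, 0, 1, 1, 1, 0, 0, 0, 0, 1, 1, 0, 0, 0, 0, 0, 0, 0, 0, 0, 0, 0, 0, 1, 0, 1, 1, 0, 0, 0, 0, 0, 0, 0, 0, 0, 0, 0, 0, 0, 0, 0, 0, 0, 0, 0, 0, 0, 0, 0, 0, 0, 0, 0, 0, 0, 1, 1, 0, 0, 1, 0, 0, 1, 0, 1, 1, 0, 0, 0, 0, 0, 0, 0, 0, 0, 0, 0, 0, 0, 0, 0, 0, 0, 0, 0, 0, 0, 0, 0, 0, 0, 0, 0, 0, 0, 0, 0, 0, 0, 0, 0, 0, 0, 0, 0, 0, 0, 0, 0, 0, 0, 0, 0, 0, 0, 0, 0, 0, 0, 0, 0, 0, 0, 0, 0, 0, 0, 0, 0, 0, 0, 0, 0, 0, 0, 0, 0, 0, 0, 0],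
    [0, 0, 0, 0, 0, 0, 1, 0, 1, 0, 0, 0, 0, 0, 0, 1, 0, 1, 0, 0, 0, 0, 0, 0, 0, 0, 0, 0, 0, 0, 0, 1, 0, 0, 0, 0, 0, 0, 0, 1, 0, 0, 0, 0, 0, 0, 0, 0, 0, 0, 1, 0, 0, 0, 1, 0, 0, 0, 0, 0, 0, 0, 0, 0, 0, 0, 0, 0, 0, 0, 0, 0, 0, 0, 0, 0, 0, 0, 0, 0, 0, 0, 0, 0, 0, 0, 0, 0, 0, 0, 0, 0, 0, 0, 0, 0, 0, 0, 0, 0, 0, 0, 0, 0, 0, 1, 0, 1, 1, 0, 1, 0, 1, 1, 1, 0, 0, 0, 0, 0, 0, 0, 0, 1, 0, 1, 0, 0, 0, 1, 0, 0, 0, 0, 0, 0, 0, 0, 0, 0, 0, 0, 0, 1, 1, 0, 0, 0, 0, 0, 0, 0, 0, 0, 0, 0, 0, 0, 0, 0, 0, 0, 0, 0, 0, 0, 0, 0, 0, 0, 0, 0, 0, 0, 0, 0, 1, 0, 0, 0, 1, 0, 0, 0, 0, 1, 1, 1, 0, 0, 1, 0, 1, 0, 0, 1, 0, 1, 1, 1, 0, 0, 0, 0, 1, 1, 0, 0, 0, 0, 0, 0, 0, 0, 0, 1, 0, 0, 0, 1, 0, 0, 0, 0, 0, 1, 0, 0, 0, 0, 0, 1, 0, 1, 0, 0, 0, 0, 1, 1, 0, 0, 0, 0, 0, 0, 1, 0, 0,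 0, 0, 1, 1, 0, 0, 0, 0, 0, 0, 0, 0, 0, 0, 0, 0, 0, 0, 0, 0, 0, 0, 0, 0, 0, 0, 0, 0, 0, 0, 0, 0, 0, 0, 0, 0, 0, 0, 0, 1, 0, 0, 0, 0, 0, 0, 0, 0, 0, 0, 0, 0, 0, 0, 0, 0, 0, 0, 0, 0, 0, 0, 0, 0, 0, 0, 0, 0, 0, 0, 0, 0, 0, 0, 0, 0, 0, 0, 0, 0, 0, 0, 0, 0, 0, 0, 0, 0, 0, 0, 0, 0, 0, 0, 0, 0, 0, 0, 0, 0, 0, 0, 0, 0, 0, 0, 0, 0, 0, 0, 0, 0, 0, 0, 0, 0, 0, 0]]

/-- part of the exponents -/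
def twoVecs23 : List (List ℤ) :=
  [[0, 0, 0, 0, 0, 0, 0, 1, 1, 0, 0, 0, 1, 0, 0, 0, 1, 1, 0, 1, 0, 0, 0, 0, 0, 0, 0, 0, 0, 0, 0, 0, 0, 0, 0, 0, 0, 0, 0, 0, 0, 0, 0, 0, 0, 0, 0, 0, 0, 0, 0, 0, 0, 0, 0, 0, 0, 0, 0, 0, 0, 0, 0, 0, 0, 0, 0, 0, 0, 0, 0, 0, 0, 0, 0, 0, 0, 0, 0, 0, 0, 0, 0, 0, 0, 0, 0, 0, 0, 0, 0, 0, 0, 0, 0, 0, 0, 0, 0, 0, 0, 0, 0, 0, 0, 0, 1, 1, 0, 0, 0, 0, 0, 0, 0, 0, 0, 0, 0, 0, 0, 0, 1, 0, 0, 0, 0, 0, 0, 0, 0, 0, 0, 0, 0, 0, 0, 0, 1, 0, 0, 0, 0, 0, 0, 0, 0, 0, 0, 0, 0, 1, 1, 0, 0, 0, 0, 0, 0, 0, 0, 0, 0, 0, 0, 0, 0, 0, 0, 0, 0, 0, 0, 0, 0, 1, 1, 0, 0, 0, 0, 0, 0, 0, 0, 0, 1, 0, 0, 0, 0, 1, 0, 0, 1, 1, 0, 0, 0, 0, 0, 0, 0, 0, 0, 0, 0, 0, 1, 1, 0, 0, 1, 0, 1, 0, 0, 0, 0, 0, 0, 0, 0, 0, 0, 1, 0, 0, 1, 0, 1, 0, 1, 1, 0, 0, 1, 0,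 0, 0, 0, 0, 0, 0, 0, 0, 1, 0, 0, 0, 1, 0, 1, 0, 0, 0, 0, 0, 0, 0, 0, 0, 0, 0, 0, 0, 0, 0, 0, 0, 0, 0, 0, 0, 0, 0, 0, 0, 0, 0, 0, 0, 0, 0, 0, 0, 0, 1, 0, 0, 0, 0, 0, 0, 0, 0, 0, 0, 0, 0, 0, 0, 0, 0, 0, 0, 0, 0, 0, 0, 0, 0, 0, 0, 0, 0, 0, 0, 0, 0, 0, 0, 0, 0, 0, 0, 0, 0, 0, 0, 0, 0, 0, 0, 0, 0, 0, 0, 0, 0, 0, 0, 0, 0, 0, 0, 0, 0, 0, 0, 0, 0, 0, 0, 0, 0, 0, 0, 0, 0, 0, 0, 0, 0, 0, 0, 0],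
    [0, 0, 0, 0, 0, 0, 0, 0, 1, 0, 0, 0, 0, 0, 0, 0, 0, 1, 0, 0, 0, 0, 0, 0, 0, 0, 0, 0, 0, 0, 0, 0, 0, 0, 0, 0, 0, 0, 0, 1, 0, 0, 0, 0, 0, 0, 0, 0, 0, 0, 1, 0, 0, 0, 1, 0, 0, 0, 0, 0, 0, 0, 0, 0, 0, 0, 0, 0, 0, 0, 0, 0, 0, 0, 0, 0, 0, 0, 0, 0, 0, 0, 0, 0, 0, 0, 0, 0, 0, 0, 0, 0, 0, 0, 0, 0, 0, 0, 0, 0, 0, 0, 0, 0, 0, 0, 0, 1, 0, 0, 0, 0, 0, 1, 0, 0, 0, 0, 0, 0, 0, 0, 0, 1, 0, 1, 0, 0, 0, 1, 0, 0, 0, 0, 0, 0, 0, 0, 0, 1, 0, 1, 0, 0, 1, 1, 0, 0, 0, 0, 0, 0, 0, 0, 0, 0, 0, 0, 0, 0, 0, 0, 0, 0, 0, 0, 0, 0, 0, 0, 0, 0, 0, 0, 0, 0, 1, 0, 0, 0, 1, 0, 0, 0, 0, 0, 1, 0, 0, 0, 0, 0, 1, 1, 0, 0, 0, 0, 1, 0, 0, 0, 0, 0, 0, 1, 1, 0, 1, 0, 0, 0, 0, 0, 0, 1, 0, 0, 0, 1, 0, 0, 0, 0, 0, 0, 1, 0, 1, 0, 0, 0, 0, 1, 0, 0, 0, 0, 0, 1, 0, 0, 0, 0, 0, 0, 0, 0, 0,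 0, 1, 1, 1, 0, 0, 0, 0, 0, 0, 0, 0, 0, 0, 0, 0, 0, 0, 0, 0, 0, 0, 0, 0, 0, 0, 0, 0, 0, 0, 0, 0, 0, 0, 0, 0, 0, 0, 0, 1, 0, 0, 0, 0, 0, 0, 0, 0, 0, 0, 0, 0, 0, 0, 0, 0, 0, 0, 0, 0, 0, 0, 0, 0, 0, 0, 0, 0, 0, 0, 0, 0, 0, 0, 0, 0, 0, 0, 0, 0, 0, 0, 0, 0, 0, 0, 0, 0, 0, 0, 0, 0, 0, 0, 0, 0, 0, 0, 0, 0, 0, 0, 0, 0, 0, 0, 0, 0, 0, 0, 0, 0, 0, 0, 0, 0, 0, 0],
    [0, 0, 0, 0, 0, 0, 0, 0, 0, 0, 0, 0, 0, 1, 0, 0, 0, 0, 0, 1, 1, 0, 0, 0, 0, 0, 0, 0, 0, 0, 0, 0, 0, 0, 0, 0, 0, 0, 0, 0, 0, 0, 0, 0, 0, 0, 0, 0, 0, 0, 1, 0, 0, 0, 1, 0, 0, 0, 0, 0, 0, 0, 0, 0, 0, 0, 0, 0, 0, 0, 0, 0, 0, 0, 0, 0, 0, 0, 0, 0, 0, 0, 0, 0, 0, 0, 0, 0, 0, 0, 0, 0, 0, 0, 0, 0, 0, 0, 0, 0, 0, 0, 0, 0, 0, 0, 0, 0, 0, 1, 0, 0, 0, 0, 0, 0, 0, 0, 0, 0, 0, 0, 0, 0, 0, 0, 0, 0, 0, 0, 0,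 0, 0, 0, 0, 0, 0, 0, 0, 0, 0, 1, 0, 0, 0, 1, 0, 0, 0, 0, 0, 0, 1, 0, 0, 0, 0, 0, 0, 0, 0, 0, 0, 0, 0, 0, 0, 0, 0, 0, 0, 0, 0, 0, 0, 0, 0, 0, 0, 0, 0, 0, 0, 0, 0, 0, 0, 0, 0, 0, 0, 0, 0, 0, 1, 0, 0, 0, 0, 0, 0, 0, 0, 0, 0, 0, 0, 0, 0, 0, 0, 0, 0, 0, 0, 0, 0, 0, 0, 0, 0, 0, 0, 0, 0, 0, 0, 0, 0, 1, 0, 0, 0, 0, 0, 1, 0, 0, 0, 0, 0, 0, 0, 0, 0, 0, 0, 0, 0, 0, 1, 1, 0, 0, 0, 0, 0, 0, 0, 0, 0, 0, 0, 0, 0, 0, 0, 0, 0, 0, 0, 0, 0, 0, 0, 0, 0, 0, 0, 0, 0, 0, 0, 0, 0, 0, 0, 0, 0, 0, 0, 1, 1, 0, 0, 0, 0, 0, 0, 0, 0, 0, 0, 0, 0, 0, 0, 0, 0, 0, 0, 0, 0, 0, 0, 0, 0, 0, 0, 0, 0, 0, 0, 0, 0, 0, 0, 0, 0, 0, 0, 0, 0, 0, 0, 0, 0, 0, 0, 0, 0, 0, 0, 0, 0, 0, 0, 0, 0, 0, 0, 0, 0, 0, 0, 0, 0, 0, 0, 0, 0, 0, 0, 0, 0, 0, 0],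
    [0, 0, 0, 0, 0, 0, 0, 0, 0, 1, 0, 0, 0, 0, 0, 0, 0, 0, 0, 0, 1, 0, 0, 0, 0, 0, 0, 0, 0, 0, 0, 0, 0, 0, 0, 0, 0, 0, 0, 0, 0, 0, 0, 0, 0, 0, 0, 0, 0, 0, 0, 0, 0, 0, 0, 0, 0, 0, 0, 0, 0, 0, 0, 0, 0, 0, 0, 0, 0, 0, 0, 0, 0, 0, 0, 0, 0, 0, 0, 0, 0, 0, 0, 0, 0, 0, 0, 0, 0, 0, 0, 0, 0, 0, 0, 0, 0, 0, 0, 0, 0, 0, 0, 0, 0, 0, 0, 0, 0, 0, 1, 0, 0, 0, 0, 0, 0, 0, 0, 1, 0, 0, 0, 0, 0, 0, 0, 0, 0, 0, 0, 0, 0, 0, 0, 0, 0, 0, 0, 0, 0, 0, 0, 0, 0, 0, 0, 0, 0, 0, 0, 0, 0, 0, 0, 0, 0, 0, 0, 0, 0, 0, 0, 0, 0, 0, 0, 0, 0, 0, 0, 0, 0, 0, 1, 0, 1, 0, 0, 0, 0, 0, 0, 0, 0, 1, 0, 0, 0, 0, 0, 0, 0, 1, 0, 0, 0, 0, 0, 0, 0, 0, 0, 0, 0, 0, 0, 0, 1, 1, 0, 0, 0, 1, 0, 1, 0, 0, 0, 0, 0, 0, 0, 0, 1, 0, 0, 0, 0, 0, 1, 0, 0, 0, 0, 0, 1, 0, 0, 0, 0, 0, 0, 0, 0, 1, 0, 0, 0,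 1, 1, 0, 0, 0, 0, 0, 0, 0, 0, 0, 0, 0, 0, 0, 0, 0, 0, 0, 0, 0, 0, 0, 0, 0, 0, 0, 0, 0, 0, 0, 0, 0, 0, 0, 0, 0, 0, 0, 0, 0, 0, 0, 0, 0, 0, 0, 0, 0, 0, 0, 0, 0, 0, 0, 0, 0, 0, 0, 0, 0, 0, 0, 0, 0, 0, 0, 0, 0, 0, 0, 0, 0, 0, 0, 0, 0, 0, 0, 0, 0, 0, 0, 0, 0, 0, 0, 0, 0, 0, 0, 0, 0, 0, 0, 0, 0, 0, 0, 0, 0, 0, 0, 0, 0, 0, 0, 0, 0, 0, 0, 0, 0, 0, 0, 0, 0, 0],
    [0, 0, 0, 0, 0, 0, 1, 0, 1, 0, 0, 0, 0, 0, 1, 1, 0, 1, 0, 1, 1, 0, 0, 0, 0, 0, 0, 0, 0, 0, 0, 1, 0, 0, 0, 0, 0, 0, 0, 1, 0, 0, 0, 0, 0, 0, 0, 0, 0, 1, 1, 0, 0, 0, 0, 0, 0, 0, 0, 0, 0, 0, 0, 0, 0, 0, 0, 0, 0, 0, 0, 0, 0, 0, 0, 0, 0, 0, 0, 0, 0, 0, 0, 1, 0, 0, 0, 1, 0, 0, 0, 0, 0, 0, 0, 0, 1, 0, 0, 0, 1, 0, 0, 0, 0, 1, 0, 1, 1, 1, 1, 0, 1, 1, 1, 0, 0, 1, 1, 0, 0, 0, 0, 1, 1, 0, 0, 0, 0, 0, 0,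 0, 1, 1, 0, 0, 0, 0, 0, 0, 0, 0, 0, 1, 1, 0, 0, 0, 0, 1, 0, 0, 1, 0, 0, 0, 0, 0, 1, 0, 0, 0, 1, 0, 0, 0, 0, 1, 1, 1, 0, 0, 0, 0, 0, 0, 0, 0, 0, 0, 0, 0, 0, 0, 0, 0, 0, 1, 0, 0, 1, 0, 1, 0, 1, 0, 0, 1, 1, 1, 0, 0, 0, 0, 1, 1, 0, 0, 0, 1, 0, 0, 0, 0, 1, 1, 0, 0, 0, 1, 0, 0, 0, 0, 1, 1, 1, 1, 0, 1, 1, 1, 0, 1, 0, 0, 1, 0, 1, 1, 0, 0, 0, 0, 0, 1, 1, 0, 0, 1, 1, 0, 1, 0, 0, 0, 0, 0, 0, 0, 0, 0, 0, 0, 0, 0, 0, 0, 0, 0, 0, 0, 0, 0, 0, 0, 0, 0, 0, 0, 0, 0, 0, 0, 0, 0, 1, 1, 1, 0, 0, 0, 0, 0, 0, 0, 0, 0, 0, 0, 0, 0, 0, 0, 0, 0, 0, 0, 0, 0, 0, 0, 0, 0, 0, 0, 0, 0, 0, 0, 0, 0, 0, 0, 0, 0, 0, 0, 0, 0, 0, 0, 0, 0, 0, 0, 0, 0, 0, 0, 0, 0, 0, 0, 0, 0, 0, 0, 0, 0, 0, 0, 0, 0, 0, 0, 0, 0, 0, 0, 0, 0, 0, 0, 0, 0, 0],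
    [0, 0, 0, 0, 0, 0, 0, 1, 1, 0, 0, 0, 1, 0, 0, 0, 1, 1, 0, 0, 1, 0, 0, 0, 0, 0, 0, 0, 0, 0, 0, 0, 0, 0, 0, 0, 0, 0, 0, 0, 0, 0, 0, 0, 0, 0, 0, 0, 0, 0, 1, 0, 0, 0, 1, 0, 0, 0, 0, 0, 0, 0, 0, 0, 0, 0, 0, 0, 0, 0, 0, 0, 0, 0, 0, 0, 0, 0, 0, 0, 0, 0, 1, 1, 0, 0, 0, 0, 0, 0, 0, 0, 0, 0, 0, 1, 1, 0, 0, 0, 0, 0, 0, 0, 0, 0, 1, 1, 0, 1, 1, 0, 0, 0, 0, 0, 0, 0, 0, 0, 0, 0, 1, 0, 0, 0, 0, 0, 0, 0, 0, 0, 0, 1, 1, 0, 0, 0, 1, 0, 0, 1, 0, 0, 0, 1, 0, 0, 0, 0, 0, 0, 0, 0, 0, 0, 0, 1, 1, 0, 0, 0, 0, 0, 0, 0, 0, 0, 1, 0, 0, 0, 0, 0, 0, 0, 0, 0, 0, 0, 0, 0, 0, 0, 0, 0, 0, 0, 0, 0, 0, 1, 0, 0, 1, 1, 0, 0, 0, 0, 0, 0, 0, 0, 1, 0, 0, 0, 0, 1, 0, 0, 1, 0, 0, 0, 0, 0, 0, 0, 0, 0, 0, 0, 1, 0, 1, 0, 0, 1, 1, 0, 1, 1, 0, 1, 1, 0, 0, 0, 0, 0, 0, 0, 0, 0, 0, 0, 0,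 0, 0, 1, 1, 0, 0, 0, 0, 0, 0, 0, 0, 0, 0, 0, 0, 0, 0, 0, 0, 0, 0, 0, 0, 0, 0, 0, 0, 0, 0, 0, 0, 0, 0, 0, 0, 0, 0, 1, 0, 0, 0, 1, 1, 0, 0, 0, 0, 0, 0, 0, 0, 0, 0, 0, 0, 0, 0, 0, 0, 0, 0, 0, 0, 0, 0, 0, 0, 0, 0, 0, 0, 0, 0, 0, 0, 0, 0, 0, 0, 0, 0, 0, 0, 0, 0, 0, 0, 0, 0, 0, 0, 0, 0, 0, 0, 0, 0, 0, 0, 0, 0, 0, 0, 0, 0, 0, 0, 0, 0, 0, 0, 0, 0, 0, 0, 0, 0],
    [0, 0, 0, 0, 0, 0, 0, 0, 1, 0, 0, 0, 0, 0, 1, 0, 0, 1, 0, 1, 0, 0, 0, 0, 0, 0, 0, 0, 0, 0, 0, 0, 0, 0, 0, 0, 0, 0, 0, 1, 0, 0, 0, 0, 0, 0, 0, 0, 0, 0, 0, 0, 0, 0, 1, 0, 0, 0, 0, 0, 0, 0, 0, 0, 0, 0, 0, 0, 0, 0, 0, 0, 0, 0, 0, 0, 0, 0, 0, 0, 0, 0, 0, 1, 0, 0, 0, 1, 0, 0, 0, 0, 0, 0, 0, 0, 1, 0, 0, 0, 1, 0, 0, 0, 0, 0, 0, 1, 0, 0, 1, 0, 0, 1, 1, 0, 0, 0, 0, 0, 0, 0, 0, 1, 0, 0, 0, 0, 0, 1, 0,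 0, 1, 1, 0, 0, 0, 0, 0, 1, 0, 0, 0, 0, 1, 1, 0, 0, 1, 0, 1, 0, 1, 0, 0, 0, 0, 0, 1, 0, 0, 0, 1, 0, 0, 0, 0, 0, 1, 0, 0, 0, 0, 0, 0, 0, 0, 0, 0, 0, 0, 0, 0, 0, 0, 0, 0, 0, 0, 0, 0, 0, 1, 1, 1, 1, 0, 0, 1, 1, 0, 0, 1, 1, 0, 1, 0, 1, 0, 0, 0, 0, 0, 0, 1, 0, 0, 0, 0, 1, 0, 0, 0, 0, 1, 1, 0, 0, 0, 1, 0, 0, 0, 1, 0, 0, 1, 0, 0, 1, 1, 0, 0, 0, 0, 0, 1, 0, 0, 0, 1, 0, 1, 0, 0, 0, 0, 0, 0, 0, 0, 0, 0, 0, 0, 0, 0, 0, 0, 0, 0, 0, 0, 0, 0, 0, 0, 0, 0, 0, 0, 0, 0, 0, 0, 0, 0, 1, 0, 0, 1, 0, 0, 0, 0, 0, 0, 0, 0, 0, 0, 0, 0, 0, 0, 0, 0, 0, 0, 0, 0, 0, 0, 0, 0, 0, 0, 0, 0, 0, 0, 0, 0, 0, 0, 0, 0, 0, 0, 0, 0, 0, 0, 0, 0, 0, 0, 0, 0, 0, 0, 0, 0, 0, 0, 0, 0, 0, 0, 0, 0, 0, 0, 0, 0, 0, 0, 0, 0, 0, 0, 0, 0, 0, 0, 0, 0],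
    [0, 0, 0, 0, 0, 0, 0, 0, 0, 0, 0, 1, 1, 0, 1, 0, 1, 1, 0, 1, 1, 0, 0, 0, 0, 0, 0, 0, 0, 0, 0, 0, 0, 0, 0, 0, 0, 0, 0, 0, 0, 0, 0, 0, 0, 0, 0, 0, 0, 0, 1, 0, 0, 0, 1, 0, 0, 0, 0, 0, 0, 0, 0, 0, 0, 0, 0, 0, 0, 0, 0, 0, 0, 0, 0, 0, 0, 0, 0, 0, 0, 0, 0, 0, 0, 0, 0, 0, 0, 0, 0, 0, 0, 0, 0, 0, 0, 0, 0, 0, 0, 0, 0, 0, 0, 0, 0, 0, 0, 0, 0, 0, 0, 0, 0, 0, 0, 0, 0, 0, 0, 1, 1, 0, 0, 1, 0, 0, 0, 1, 0, 0, 0, 0, 0, 0, 0, 0, 0, 0, 0, 1, 0, 0, 0, 1, 0, 0, 0, 0, 0, 0, 1, 0, 0, 0, 0, 0, 0, 0, 0, 0, 0, 0, 0, 0, 0, 0, 0, 0, 0, 0, 0, 0, 0, 0, 0, 0, 0, 0, 0, 0, 0, 0, 0, 0, 0, 0, 0, 0, 0, 1, 1, 0, 1, 1, 0, 0, 0, 0, 0, 0, 0, 0, 0, 1, 0, 0, 0, 0, 0, 0, 0, 0, 0, 1, 0, 0, 0, 1, 0, 0, 0, 0, 0, 1, 1, 0, 0, 1, 0, 0, 1, 1, 0, 1, 0, 0, 0, 0, 1, 0, 0, 0, 0, 0, 0, 1, 0,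 0, 1, 0, 1, 0, 0, 0, 0, 0, 0, 0, 0, 0, 0, 0, 0, 0, 0, 0, 0, 0, 0, 0, 0, 0, 0, 0, 0, 0, 0, 0, 0, 0, 0, 0, 0, 0, 0, 1, 0, 0, 1, 1, 0, 0, 0, 0, 0, 0, 0, 0, 0, 0, 0, 0, 0, 0, 0, 0, 0, 0, 0, 0, 0, 0, 0, 0, 0, 0, 0, 0, 0, 0, 0, 0, 0, 0, 0, 0, 0, 0, 0, 0, 0, 0, 0, 0, 0, 0, 0, 0, 0, 0, 0, 0, 0, 0, 0, 0, 0, 0, 0, 0, 0, 0, 0, 0, 0, 0, 0, 0, 0, 0, 0, 0, 0, 0, 0],
    [0, 0, 0, 0, 0, 0, 0, 0, 0, 0, 0, 0, 1, 0, 0, 0, 0, 1, 0, 0, 1, 0, 0, 0, 0, 0, 0, 0, 0, 0, 0, 0, 0, 0, 0, 0, 0, 0, 0, 0, 1, 1, 0, 0, 0, 0, 0, 0, 0, 0, 1, 0, 0, 0, 1, 0, 0, 0, 0, 0, 0, 0, 0, 0, 0, 0, 0, 0, 0, 0, 0, 0, 0, 0, 0, 0, 0, 0, 0, 0, 0, 0, 0, 0, 0, 0, 0, 0, 0, 0, 0, 0, 0, 0, 0, 0, 0, 0, 0, 0, 0, 0, 0, 0, 0, 0, 0, 0, 0, 0, 0, 0, 0, 0, 0, 0, 0, 0, 0, 0, 0, 0, 1, 0, 1, 1, 0, 0, 1, 0, 0,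 0, 0, 0, 1, 0, 0, 0, 0, 0, 1, 1, 0, 0, 0, 0, 0, 0, 0, 0, 1, 1, 0, 0, 0, 0, 0, 0, 0, 0, 0, 0, 0, 0, 0, 0, 0, 0, 0, 0, 0, 0, 0, 0, 0, 0, 0, 0, 0, 0, 0, 0, 0, 0, 0, 0, 0, 0, 0, 0, 0, 0, 1, 0, 1, 1, 0, 0, 1, 0, 0, 0, 0, 0, 1, 0, 1, 0, 0, 0, 0, 0, 0, 0, 0, 1, 0, 0, 0, 1, 0, 0, 0, 0, 0, 0, 0, 0, 0, 0, 0, 0, 0, 1, 0, 0, 0, 0, 0, 1, 0, 0, 0, 0, 0, 0, 1, 0, 0, 0, 1, 1, 0, 0, 0, 0, 0, 0, 0, 0, 0, 0, 0, 0, 0, 0, 0, 0, 0, 0, 0, 0, 0, 0, 0, 0, 0, 0, 0, 0, 0, 0, 0, 0, 0, 0, 0, 0, 1, 0, 0, 1, 0, 0, 0, 0, 0, 0, 0, 0, 0, 0, 0, 0, 0, 0, 0, 0, 0, 0, 0, 0, 0, 0, 0, 0, 0, 0, 0, 0, 0, 0, 0, 0, 0, 0, 0, 0, 0, 0, 0, 0, 0, 0, 0, 0, 0, 0, 0, 0, 0, 0, 0, 0, 0, 0, 0, 0, 0, 0, 0, 0, 0, 0, 0, 0, 0, 0, 0, 0, 0, 0, 0, 0, 0, 0, 0],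
    [1, 0, 0, 0, 0, 0, 0, 0, 0, 0, 0, 0, 0, 0, 1, 1, 0, 0, 0, 1, 0, 0, 0, 0, 0, 0, 0, 0, 0, 0, 0, 0, 0, 0, 0, 0, 0, 0, 0, 0, 1, 1, 0, 0, 1, 0, 0, 0, 0, 1, 1, 0, 0, 1, 1, 0, 0, 0, 0, 0, 0, 0, 0, 0, 0, 0, 0, 0, 0, 0, 0, 0, 0, 0, 0, 0, 0, 0, 0, 0, 0, 0, 0, 0, 0, 0, 0, 0, 0, 0, 0, 0, 0, 0, 0, 0, 0, 0, 0, 0, 0, 0, 0, 0, 0, 0, 0, 0, 0, 0, 0, 0, 0, 0, 0, 0, 0, 0, 0, 0, 0, 0, 0, 0, 0, 0, 0, 0, 0, 0, 0, 0, 0, 0, 0, 0, 0, 0, 0, 0, 0, 0, 0, 0, 0, 0, 0, 0, 0, 0, 0, 0, 0, 0, 0, 0, 0, 0, 0, 0, 0, 0, 0, 0, 0, 0, 0, 0, 0, 0, 0, 0, 0, 0, 0, 0, 0, 0, 0, 0, 0, 0, 0, 0, 0, 0, 0, 0, 0, 0, 0, 0, 0, 0, 0, 0, 0, 0, 0, 0, 0, 0, 0, 0, 0, 0, 0, 0, 0, 0, 0, 0, 0, 0, 0, 0, 0, 0, 0, 0, 0, 0, 0, 0, 0, 0, 0, 0, 0, 0, 0, 0, 0, 0, 0, 0, 0, 0, 0, 0, 0, 0, 0, 0, 0, 0, 0, 0, 0,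 0, 0, 0, 0, 0, 0, 0, 0, 0, 0, 0, 0, 0, 0, 0, 0, 0, 0, 0, 0, 0, 0, 0, 0, 0, 0, 0, 0, 0, 0, 0, 0, 0, 0, 0, 0, 0, 0, 0, 0, 0, 0, 0, 0, 0, 0, 0, 0, 0, 0, 0, 0, 0, 0, 0, 0, 0, 0, 0, 0, 0, 0, 0, 0, 0, 0, 0, 0, 0, 0, 0, 0, 0, 0, 0, 0, 0, 0, 0, 0, 0, 0, 0, 0, 0, 0, 0, 0, 0, 0, 0, 0, 0, 0, 0, 0, 0, 0, 0, 0, 0, 0, 0, 0, 0, 0, 0, 0, 0, 0, 0, 0, 0, 0, 0, 0, 0, 0]]

/-- part of the exponents -/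
def twoVecs24 : List (List ℤ) :=
  [[0, 0, 0, 0, 0, 0, 1, 0, 0, 0, 0, 0, 0, 1, 0, 1, 0, 0, 0, 0, 0, 0, 0, 0, 0, 0, 0, 0, 0, 0, 0, 0, 1, 1, 0, 0, 0, 0, 0, 1, 0, 0, 0, 1, 0, 1, 0, 0, 1, 0, 0, 0, 0, 1, 0, 0, 0, 0, 0, 0, 0, 0, 0, 0, 0, 0, 0, 0, 0, 0, 0, 0, 0, 0, 0, 0, 0, 0, 0, 0, 0, 0, 0, 0, 0, 0, 0, 0, 0, 0, 0, 0, 0, 0, 0, 0, 0, 0, 0, 0, 0, 0, 0, 0, 0, 0, 0, 0, 0, 0, 0, 0, 0, 0, 0, 0, 0, 0, 0, 0, 0, 0, 0, 0, 0, 0, 0, 0, 0, 0, 0, 0, 0, 0, 0, 0, 0, 0, 0, 0, 0, 0, 0, 0, 0, 0, 0, 0, 0, 0, 0, 0, 0, 0, 0, 0, 0, 0, 0, 0, 0, 0, 0, 0, 0, 0, 0, 0, 0, 0, 0, 0, 0, 0, 0, 0, 0, 0, 0, 0, 0, 0, 0, 0, 0, 0, 0, 0, 0, 0, 0, 0, 0, 0, 0, 0, 0, 0, 0, 0, 0, 0, 0, 0, 0, 0, 0, 0, 0, 0, 0, 0, 0, 0, 0, 0, 0, 0, 0, 0, 0, 0, 0, 0, 0, 0, 0, 0, 0, 0, 0, 0, 0, 0, 0, 0, 0, 0,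 0, 0, 0, 0, 0, 0, 0, 0, 0, 0, 0, 0, 0, 0, 0, 0, 0, 0, 0, 0, 0, 0, 0, 0, 0, 0, 0, 0, 0, 0, 0, 0, 0, 0, 0, 0, 0, 0, 0, 0, 0, 0, 0, 0, 0, 0, 0, 0, 0, 0, 0, 0, 0, 0, 0, 0, 0, 0, 0, 0, 0, 0, 0, 0, 0, 0, 0, 0, 0, 0, 0, 0, 0, 0, 0, 0, 0, 0, 0, 0, 0, 0, 0, 0, 0, 0, 0, 0, 0, 0, 0, 0, 0, 0, 0, 0, 0, 0, 0, 0, 0, 0, 0, 0, 0, 0, 0, 0, 0, 0, 0, 0, 0, 0, 0, 0, 0, 0, 0, 0, 0, 0, 0, 0, 0, 0, 0, 0, 0],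
    [0, 0, 0, 0, 0, 0, 0, 0, 0, 0, 0, 0, 0, 0, 0, 0, 0, 0, 0, 0, 0, 0, 0, 0, 0, 0, 0, 0, 0, 0, 0, 0, 0, 0, 0, 0, 0, 0, 0, 0, 0, 0, 0, 0, 0, 0, 0, 0, 0, 0, 0, 0, 0, 0, 0, 1, 0, 0, 0, 1, 0, 0, 0, 1, 1, 1, 0, 0, 0, 0, 1, 1, 0, 0, 1, 1, 1, 1, 0, 0, 0, 0, 1, 0, 0, 0, 0, 0, 0, 1, 1, 0, 0, 0, 0, 0, 0, 0, 0, 1, 1, 0, 0, 1, 1, 0, 0, 0, 0, 1, 1, 0, 0, 1, 1, 0, 0, 0, 1, 0, 0, 0, 0, 0, 0, 0, 0, 0, 0, 0, 1, 1, 0, 1, 1, 1, 0, 0, 0, 0, 0, 0, 0, 0, 0, 0, 1, 0, 0, 1, 1, 0, 1, 0, 0, 0, 0, 1, 1, 0, 0, 0, 1, 1, 0, 1, 0, 0, 1, 1, 0, 0, 0, 0, 0, 1, 0, 0, 0, 0, 0, 0, 0, 1, 0, 0, 1, 1, 0, 0, 0, 0, 0, 0, 1, 0, 0, 0, 0, 1, 1, 0, 1, 1, 0, 1, 1, 0, 1, 1, 0, 0, 0, 0, 0, 1, 0, 0, 0, 1, 0, 1, 1, 1, 1, 0, 0, 1, 0, 1, 1, 0, 0, 0, 0, 1, 1, 0, 0, 0, 0, 0, 0, 1, 1, 0, 0, 0, 0,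 1, 1, 0, 0, 0, 0, 0, 0, 0, 0, 0, 0, 0, 0, 0, 0, 0, 0, 0, 0, 0, 0, 0, 0, 0, 0, 0, 0, 0, 0, 0, 0, 0, 0, 0, 0, 0, 0, 0, 0, 0, 0, 0, 0, 0, 0, 0, 0, 0, 1, 0, 1, 1, 1, 0, 0, 0, 0, 0, 0, 0, 0, 0, 0, 0, 0, 0, 0, 0, 0, 0, 0, 0, 0, 0, 0, 0, 0, 0, 0, 0, 0, 0, 0, 0, 0, 0, 0, 0, 0, 0, 0, 0, 0, 0, 0, 0, 0, 0, 0, 0, 0, 0, 0, 0, 0, 0, 0, 0, 0, 0, 0, 0, 0, 0, 0, 0, 0],
    [0, 0, 0, 0, 0, 0, 0, 0, 0, 0, 0, 0, 0, 0, 0, 0, 0, 0, 0, 0, 0, 0, 0, 0, 0, 0, 0, 0, 0, 0, 0, 0, 0, 0, 0, 0, 0, 0, 0, 0, 0, 0, 0, 0, 0, 0, 0, 0, 0, 0, 0, 0, 0, 0, 0, 0, 0, 0, 0, 0, 1, 0, 1, 0, 1, 0, 0, 0, 0, 1, 0, 0, 0, 1, 0, 0, 1, 1, 0, 0, 0, 1, 0, 1, 0, 1, 0, 1, 1, 0, 0, 0, 0, 0, 0, 0, 1, 0, 0, 0, 1, 0, 0, 0, 0, 0, 0, 0, 1, 0, 0, 0, 1, 0, 1, 0, 0, 0, 0, 0, 0, 0, 0, 0, 0, 1, 0, 0, 0, 0, 0,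 0, 1, 1, 0, 1, 0, 0, 0, 0, 0, 0, 0, 0, 0, 0, 0, 1, 0, 0, 0, 1, 1, 0, 0, 0, 1, 0, 1, 0, 1, 0, 1, 0, 1, 0, 0, 0, 0, 0, 1, 0, 0, 0, 1, 0, 0, 0, 0, 0, 1, 1, 0, 1, 0, 1, 1, 1, 1, 1, 0, 0, 0, 1, 0, 0, 0, 0, 0, 0, 1, 0, 0, 0, 1, 0, 0, 1, 1, 1, 0, 0, 0, 0, 0, 0, 0, 0, 0, 1, 1, 0, 0, 0, 1, 0, 1, 1, 0, 1, 0, 0, 0, 0, 1, 0, 0, 0, 0, 0, 1, 1, 0, 1, 1, 1, 1, 0, 0, 1, 0, 0, 0, 0, 0, 0, 0, 0, 0, 0, 0, 0, 0, 0, 0, 0, 0, 0, 0, 0, 0, 0, 0, 0, 0, 0, 0, 0, 0, 0, 0, 0, 0, 0, 0, 0, 0, 0, 0, 0, 0, 0, 0, 0, 0, 0, 0, 1, 1, 1, 0, 0, 1, 0, 0, 0, 0, 0, 0, 0, 0, 0, 0, 0, 0, 0, 0, 0, 0, 0, 0, 0, 0, 0, 0, 0, 0, 0, 0, 0, 0, 0, 0, 0, 0, 0, 0, 0, 0, 0, 0, 0, 0, 0, 0, 0, 0, 0, 0, 0, 0, 0, 0, 0, 0, 0, 0, 0, 0, 0, 0, 0, 0, 0, 0, 0, 0],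
    [0, 0, 0, 0, 0, 0, 0, 0, 0, 0, 0, 0, 0, 0, 0, 0, 0, 0, 0, 0, 0, 0, 0, 0, 0, 0, 0, 0, 0, 0, 0, 0, 0, 0, 0, 0, 0, 0, 0, 0, 0, 0, 0, 0, 0, 0, 0, 0, 0, 0, 0, 0, 0, 0, 0, 0, 0, 0, 0, 1, 1, 0, 0, 1, 1, 1, 1, 0, 0, 0, 1, 0, 0, 0, 1, 1, 1, 1, 0, 0, 0, 0, 0, 1, 0, 0, 1, 1, 1, 0, 1, 0, 0, 0, 0, 0, 0, 0, 0, 1, 1, 1, 1, 0, 1, 0, 0, 0, 0, 1, 0, 0, 0, 1, 1, 0, 0, 0, 0, 1, 0, 0, 0, 0, 1, 0, 0, 0, 0, 0, 1, 1, 0, 0, 1, 0, 0, 0, 0, 0, 1, 0, 0, 0, 1, 1, 1, 0, 1, 0, 1, 1, 1, 0, 0, 0, 0, 0, 0, 0, 0, 1, 0, 1, 0, 1, 0, 0, 1, 0, 0, 0, 0, 0, 0, 0, 0, 0, 0, 1, 1, 0, 0, 0, 0, 1, 1, 0, 1, 1, 0, 0, 0, 0, 0, 0, 0, 0, 0, 0, 1, 0, 0, 1, 1, 0, 0, 1, 1, 1, 0, 0, 0, 0, 1, 1, 0, 0, 0, 1, 1, 0, 0, 0, 1, 1, 0, 0, 0, 1, 1, 0, 0, 0, 0, 1, 1, 0, 0, 0, 1, 0, 0, 0, 0, 0, 1, 1, 0,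 0, 1, 1, 0, 0, 0, 0, 0, 0, 0, 0, 0, 0, 0, 0, 0, 0, 0, 0, 0, 0, 0, 0, 0, 0, 0, 0, 0, 0, 0, 0, 0, 0, 0, 0, 0, 0, 0, 0, 0, 0, 0, 0, 0, 0, 0, 0, 0, 0, 1, 0, 1, 0, 1, 0, 0, 1, 1, 0, 0, 0, 0, 0, 0, 0, 0, 0, 0, 0, 0, 0, 0, 0, 0, 0, 0, 0, 0, 0, 0, 0, 0, 0, 0, 0, 0, 0, 0, 0, 0, 0, 0, 0, 0, 0, 0, 0, 0, 0, 0, 0, 0, 0, 0, 0, 0, 0, 0, 0, 0, 0, 0, 0, 0, 0, 0, 0, 0],
    [0, 0, 0, 0, 0, 0, 0, 0, 0, 0, 0, 0, 0, 0, 0, 0, 0, 0, 0, 0, 0, 0, 0, 0, 0, 0, 0, 0, 0, 0, 0, 0, 0, 0, 0, 0, 0, 0, 0, 0, 0, 0, 0, 0, 0, 0, 0, 0, 0, 0, 0, 0, 0, 0, 0, 0, 0, 0, 1, 0, 0, 0, 1, 0, 0, 1, 0, 0, 0, 0, 0, 1, 0, 1, 0, 1, 1, 1, 0, 0, 0, 0, 0, 1, 0, 0, 0, 1, 1, 0, 1, 0, 0, 0, 0, 0, 1, 0, 0, 0, 1, 0, 0, 1, 1, 0, 0, 0, 1, 0, 1, 0, 0, 0, 1, 1, 0, 0, 1, 1, 0, 0, 0, 1, 0, 1, 0, 1, 0, 0, 0,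 0, 1, 1, 0, 0, 0, 0, 0, 1, 0, 1, 0, 0, 0, 0, 0, 1, 0, 1, 0, 0, 0, 0, 0, 0, 0, 0, 1, 0, 0, 0, 1, 0, 1, 0, 0, 0, 0, 0, 1, 0, 0, 0, 0, 0, 1, 0, 1, 0, 1, 1, 0, 0, 1, 1, 1, 0, 1, 0, 0, 0, 0, 0, 0, 0, 0, 0, 0, 0, 1, 0, 0, 1, 1, 1, 1, 0, 1, 0, 0, 0, 0, 1, 0, 1, 0, 0, 0, 0, 0, 0, 0, 1, 1, 0, 1, 0, 1, 1, 0, 0, 0, 0, 1, 0, 1, 0, 0, 0, 0, 0, 0, 0, 0, 1, 0, 0, 0, 0, 1, 1, 0, 0, 0, 0, 0, 0, 0, 0, 0, 0, 0, 0, 0, 0, 0, 0, 0, 0, 0, 0, 0, 0, 0, 0, 0, 0, 0, 0, 0, 0, 0, 0, 0, 0, 0, 0, 0, 0, 0, 0, 0, 0, 0, 0, 0, 1, 1, 1, 0, 0, 1, 1, 1, 1, 1, 0, 0, 0, 0, 0, 0, 0, 0, 0, 0, 0, 0, 0, 0, 0, 0, 0, 0, 0, 0, 0, 0, 0, 0, 0, 0, 0, 0, 0, 0, 0, 0, 0, 0, 0, 0, 0, 0, 0, 0, 0, 0, 0, 0, 0, 0, 0, 0, 0, 0, 0, 0, 0, 0, 0, 0, 0, 0, 0, 0],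
    [0, 0, 0, 0, 0, 0, 0, 0, 0, 0, 0, 0, 0, 0, 0, 0, 0, 0, 0, 0, 0, 0, 0, 0, 0, 0, 0, 0, 0, 0, 0, 0, 0, 0, 0, 0, 0, 0, 0, 0, 0, 0, 0, 0, 0, 0, 0, 0, 0, 0, 0, 0, 0, 0, 0, 0, 0, 0, 0, 1, 1, 0, 0, 1, 1, 1, 0, 0, 0, 0, 1, 1, 0, 0, 1, 1, 0, 0, 1, 0, 0, 0, 1, 1, 0, 0, 0, 0, 1, 1, 0, 0, 0, 0, 0, 0, 1, 0, 0, 1, 1, 1, 1, 1, 0, 0, 0, 0, 0, 1, 1, 0, 0, 1, 1, 1, 0, 1, 1, 0, 0, 0, 0, 0, 0, 0, 0, 0, 0, 0, 0, 1, 1, 0, 0, 0, 0, 0, 0, 0, 0, 0, 0, 0, 0, 0, 0, 0, 1, 1, 1, 1, 0, 0, 0, 0, 0, 0, 1, 0, 0, 1, 0, 0, 0, 1, 1, 0, 0, 0, 1, 0, 0, 0, 0, 1, 0, 0, 0, 0, 0, 0, 0, 1, 1, 1, 1, 0, 1, 1, 0, 0, 0, 0, 1, 1, 0, 0, 1, 0, 0, 1, 1, 1, 0, 0, 0, 1, 0, 1, 0, 0, 0, 0, 1, 0, 0, 0, 1, 0, 1, 1, 1, 1, 0, 0, 0, 1, 1, 1, 0, 0, 0, 0, 0, 0, 1, 0, 0, 0, 0, 1, 0, 1, 1, 1, 0, 0, 0,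 1, 0, 1, 0, 0, 0, 0, 0, 0, 0, 0, 0, 0, 0, 0, 0, 0, 0, 0, 0, 0, 0, 0, 0, 0, 0, 0, 0, 0, 0, 0, 0, 0, 0, 0, 0, 0, 0, 0, 0, 0, 0, 0, 0, 0, 0, 0, 0, 0, 0, 1, 0, 1, 0, 1, 0, 0, 0, 0, 0, 0, 0, 0, 0, 0, 0, 0, 0, 0, 0, 0, 0, 0, 0, 0, 0, 0, 0, 0, 0, 0, 0, 0, 0, 0, 0, 0, 0, 0, 0, 0, 0, 0, 0, 0, 0, 0, 0, 0, 0, 0, 0, 0, 0, 0, 0, 0, 0, 0, 0, 0, 0, 0, 0, 0, 0, 0, 0],
    [0, 0, 0, 0, 0, 0, 0, 0, 0, 0, 0, 0, 0, 0, 0, 0, 0, 0, 0, 0, 0, 0, 0, 0, 0, 0, 0, 0, 0, 0, 0, 0, 0, 0, 0, 0, 0, 0, 0, 0, 0, 0, 0, 0, 0, 0, 0, 0, 0, 0, 0, 0, 0, 0, 0, 0, 0, 0, 1, 0, 0, 0, 1, 0, 0, 1, 0, 0, 0, 1, 0, 0, 0, 1, 0, 0, 0, 0, 0, 0, 0, 0, 0, 1, 0, 1, 0, 1, 0, 1, 1, 0, 0, 0, 0, 0, 0, 0, 0, 0, 0, 0, 1, 1, 1, 0, 0, 0, 1, 0, 1, 0, 1, 0, 1, 1, 0, 1, 0, 0, 0, 0, 0, 0, 0, 0, 0, 0, 0, 0, 0,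 1, 1, 1, 1, 1, 0, 0, 0, 0, 0, 1, 0, 0, 0, 0, 0, 0, 1, 0, 0, 0, 0, 0, 0, 0, 0, 0, 0, 0, 0, 0, 0, 0, 0, 1, 1, 1, 1, 1, 0, 0, 0, 0, 1, 0, 1, 0, 1, 0, 1, 0, 1, 0, 0, 1, 0, 1, 1, 0, 0, 0, 0, 1, 0, 0, 0, 1, 0, 0, 0, 1, 1, 0, 0, 0, 0, 1, 1, 1, 0, 0, 0, 1, 0, 0, 0, 1, 0, 0, 0, 1, 1, 0, 1, 0, 1, 1, 0, 0, 1, 0, 0, 0, 0, 0, 0, 0, 0, 0, 0, 1, 1, 0, 0, 0, 0, 1, 1, 0, 1, 1, 1, 0, 0, 0, 0, 0, 0, 0, 0, 0, 0, 0, 0, 0, 0, 0, 0, 0, 0, 0, 0, 0, 0, 0, 0, 0, 0, 0, 0, 0, 0, 0, 0, 0, 0, 0, 0, 0, 0, 0, 0, 0, 0, 0, 0, 0, 0, 1, 0, 0, 0, 1, 0, 0, 0, 0, 0, 0, 0, 0, 0, 0, 0, 0, 0, 0, 0, 0, 0, 0, 0, 0, 0, 0, 0, 0, 0, 0, 0, 0, 0, 0, 0, 0, 0, 0, 0, 0, 0, 0, 0, 0, 0, 0, 0, 0, 0, 0, 0, 0, 0, 0, 0, 0, 0, 0, 0, 0, 0, 0, 0, 0, 0, 0, 0],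
    [0, 0, 0, 0, 0, 0, 0, 0, 0, 0, 0, 0, 0, 0, 0, 0, 0, 0, 0, 0, 0, 0, 0, 0, 0, 0, 0, 0, 0, 0, 0, 0, 0, 0, 0, 0, 0, 0, 0, 0, 0, 0, 0, 0, 0, 0, 0, 0, 0, 0, 0, 0, 0, 0, 0, 0, 0, 0, 0, 1, 1, 0, 0, 1, 1, 0, 0, 0, 0, 0, 0, 0, 0, 0, 0, 0, 0, 0, 0, 0, 0, 0, 0, 1, 0, 0, 1, 1, 0, 0, 0, 1, 0, 0, 0, 1, 1, 0, 0, 0, 0, 0, 0, 1, 0, 0, 0, 0, 0, 0, 1, 0, 0, 0, 0, 0, 0, 1, 1, 1, 0, 0, 0, 0, 1, 0, 0, 0, 1, 1, 0, 0, 0, 1, 1, 1, 0, 0, 0, 0, 1, 0, 0, 0, 1, 1, 0, 0, 1, 1, 1, 1, 1, 0, 0, 0, 0, 1, 0, 0, 0, 0, 1, 0, 0, 0, 0, 0, 1, 1, 1, 0, 0, 0, 0, 0, 0, 0, 0, 1, 1, 0, 0, 0, 0, 1, 1, 0, 1, 1, 0, 0, 0, 0, 0, 0, 0, 0, 0, 0, 0, 0, 1, 0, 0, 1, 1, 1, 0, 0, 0, 0, 0, 0, 0, 0, 0, 0, 0, 1, 0, 0, 1, 0, 0, 0, 0, 1, 1, 0, 1, 0, 0, 0, 0, 0, 0, 0, 0, 0, 1, 0, 0, 0, 0, 0, 0, 0, 0,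 1, 0, 1, 1, 0, 0, 0, 0, 0, 0, 0, 0, 0, 0, 0, 0, 0, 0, 0, 0, 0, 0, 0, 0, 0, 0, 0, 0, 0, 0, 0, 0, 0, 0, 0, 0, 0, 0, 0, 0, 0, 0, 0, 0, 0, 0, 0, 0, 0, 0, 0, 0, 1, 0, 0, 0, 0, 0, 0, 0, 0, 0, 0, 0, 0, 0, 0, 0, 0, 0, 0, 0, 0, 0, 0, 0, 0, 0, 0, 0, 0, 0, 0, 0, 0, 0, 0, 0, 0, 0, 0, 0, 0, 0, 0, 0, 0, 0, 0, 0, 0, 0, 0, 0, 0, 0, 0, 0, 0, 0, 0, 0, 0, 0, 0, 0, 0, 0],
    [0, 0, 0, 0, 0, 0, 0, 0, 0, 0, 0, 0, 0, 0, 0, 0, 0, 0, 0, 0, 0, 0, 0, 0, 0, 0, 0, 0, 0, 0, 0, 0, 0, 0, 0, 0, 0, 0, 0, 0, 0, 0, 0, 0, 0, 0, 0, 0, 0, 0, 0, 0, 0, 0, 0, 0, 0, 0, 0, 1, 1, 0, 0, 1, 1, 0, 0, 0, 0, 0, 0, 0, 0, 0, 0, 0, 0, 0, 0, 0, 0, 0, 0, 1, 0, 0, 1, 1, 0, 0, 0, 0, 0, 0, 0, 0, 1, 0, 0, 1, 1, 0, 0, 0, 0, 1, 0, 0, 0, 1, 1, 0, 0, 1, 1, 0, 0, 0, 0, 1, 0, 0, 0, 0, 0, 0, 0, 0, 1, 1, 0,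 0, 0, 0, 0, 0, 0, 0, 0, 0, 0, 0, 0, 0, 0, 0, 0, 0, 1, 0, 0, 0, 0, 0, 0, 0, 0, 0, 1, 0, 0, 1, 0, 0, 0, 1, 1, 0, 1, 0, 1, 0, 0, 0, 0, 0, 0, 0, 0, 1, 1, 0, 0, 0, 0, 1, 1, 0, 1, 1, 0, 0, 0, 0, 0, 0, 0, 0, 0, 0, 0, 0, 1, 0, 0, 0, 0, 0, 0, 1, 0, 0, 0, 0, 0, 1, 0, 0, 1, 1, 0, 0, 0, 0, 0, 1, 1, 0, 1, 1, 1, 0, 0, 0, 0, 1, 0, 0, 0, 0, 1, 0, 0, 0, 0, 0, 1, 1, 0, 0, 0, 0, 0, 0, 0, 0, 0, 0, 0, 0, 0, 0, 0, 0, 0, 0, 0, 0, 0, 0, 0, 0, 0, 0, 0, 0, 0, 0, 0, 0, 0, 0, 0, 0, 0, 0, 0, 0, 0, 0, 0, 0, 0, 0, 0, 0, 0, 0, 0, 0, 0, 0, 0, 0, 0, 1, 1, 0, 0, 0, 0, 0, 0, 0, 0, 0, 0, 0, 0, 0, 0, 0, 0, 0, 0, 0, 0, 0, 0, 0, 0, 0, 0, 0, 0, 0, 0, 0, 0, 0, 0, 0, 0, 0, 0, 0, 0, 0, 0, 0, 0, 0, 0, 0, 0, 0, 0, 0, 0, 0, 0, 0, 0, 0, 0, 0, 0],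
    [0, 0, 1, 0, 0, 0, 0, 0, 0, 0, 0, 1, 0, 0, 0, 0, 0, 0, 0, 1, 1, 0, 0, 0, 0, 0, 0, 0, 0, 0, 0, 0, 0, 0, 0, 0, 0, 1, 0, 0, 1, 0, 0, 0, 1, 0, 0, 0, 0, 1, 1, 0, 0, 0, 1, 0, 0, 0, 0, 0, 0, 0, 0, 0, 0, 0, 0, 0, 0, 0, 0, 0, 0, 0, 0, 0, 0, 0, 0, 0, 0, 0, 0, 0, 0, 0, 0, 0, 0, 0, 0, 0, 0, 0, 0, 0, 0, 0, 0, 0, 0, 0, 0, 0, 0, 0, 0, 0, 0, 0, 0, 0, 0, 0, 0, 0, 0, 0, 0, 0, 0, 0, 0, 0, 0, 0, 0, 0, 0, 0, 0, 0, 0, 0, 0, 0, 0, 0, 0, 0, 0, 0, 0, 0, 0, 0, 0, 0, 0, 0, 0, 0, 0, 0, 0, 0, 0, 0, 0, 0, 0, 0, 0, 0, 0, 0, 0, 0, 0, 0, 0, 0, 0, 0, 0, 0, 0, 0, 0, 0, 0, 0, 0, 0, 0, 0, 0, 0, 0, 0, 0, 0, 0, 0, 0, 0, 0, 0, 0, 0, 0, 0, 0, 0, 0, 0, 0, 0, 0, 0, 0, 0, 0, 0, 0, 0, 0, 0, 0, 0, 0, 0, 0, 0, 0, 0, 0, 0, 0, 0, 0, 0, 0, 0, 0, 0, 0, 0, 0, 0, 0, 0, 0, 0, 0, 0, 0, 0, 0,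 0, 0, 0, 0, 0, 0, 0, 0, 0, 0, 0, 0, 0, 0, 0, 0, 0, 0, 0, 0, 0, 0, 0, 0, 0, 0, 0, 0, 0, 0, 0, 0, 0, 0, 0, 0, 0, 0, 0, 0, 0, 0, 0, 0, 0, 0, 0, 0, 0, 0, 0, 0, 0, 0, 0, 0, 0, 0, 0, 0, 0, 0, 0, 0, 0, 0, 0, 0, 0, 0, 0, 0, 0, 0, 0, 0, 0, 0, 0, 0, 0, 0, 0, 0, 0, 0, 0, 0, 0, 0, 0, 0, 0, 0, 0, 0, 0, 0, 0, 0, 0, 0, 0, 0, 0, 0, 0, 0, 0, 0, 0, 0, 0, 0, 0, 0, 0, 0]]

/-- part of the exponents -/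
def twoVecs25 : List (List ℤ) :=
  [[0, 0, 0, 0, 0, 0, 0, 0, 0, 0, 0, 0, 0, 0, 0, 0, 0, 0, 0, 0, 0, 0, 0, 0, 0, 0, 0, 0, 0, 0, 0, 0, 0, 0, 0, 0, 0, 0, 0, 0, 0, 0, 0, 0, 0, 0, 0, 0, 0, 0, 0, 0, 0, 0, 0, 0, 1, 0, 0, 0, 1, 0, 0, 1, 1, 1, 0, 0, 0, 0, 1, 0, 0, 0, 1, 0, 1, 1, 0, 0, 0, 0, 0, 1, 0, 0, 1, 1, 1, 0, 1, 0, 0, 0, 0, 0, 1, 0, 0, 1, 1, 0, 0, 0, 0, 0, 0, 0, 0, 1, 0, 0, 0, 1, 1, 0, 1, 0, 1, 1, 0, 0, 0, 0, 0, 0, 0, 0, 1, 1, 0, 0, 0, 0, 0, 1, 0, 0, 0, 0, 0, 0, 0, 0, 1, 0, 1, 0, 0, 0, 0, 0, 0, 0, 0, 0, 0, 1, 1, 0, 0, 0, 1, 1, 1, 0, 0, 0, 1, 0, 0, 0, 0, 0, 0, 1, 0, 0, 0, 1, 1, 1, 0, 0, 0, 1, 0, 1, 1, 1, 0, 0, 0, 0, 0, 1, 0, 0, 0, 1, 1, 1, 1, 0, 0, 0, 0, 1, 0, 1, 0, 0, 0, 0, 1, 1, 0, 0, 0, 0, 1, 1, 0, 0, 1, 0, 1, 0, 0, 1, 0, 0, 0, 0, 0, 1, 0, 0,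 0, 0, 1, 0, 0, 1, 1, 1, 0, 1, 1, 1, 0, 0, 1, 0, 0, 0, 0, 0, 0, 0, 0, 0, 0, 0, 0, 0, 0, 0, 0, 0, 0, 0, 0, 0, 0, 0, 0, 0, 0, 0, 0, 0, 0, 0, 0, 0, 0, 0, 0, 0, 0, 0, 0, 0, 0, 0, 0, 0, 0, 0, 0, 0, 0, 0, 0, 0, 0, 0, 0, 0, 0, 1, 1, 1, 1, 1, 1, 1, 1, 0, 1, 1, 0, 0, 0, 0, 0, 0, 0, 0, 0, 0, 0, 0, 0, 0, 0, 0, 0, 0, 0, 0, 0, 0, 0, 0, 0, 0, 0, 0, 0, 0, 0, 0, 0, 0, 0, 0, 0, 0, 0, 0, 0, 0, 0, 0, 0],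
    [0, 0, 0, 0, 0, 0, 0, 0, 0, 0, 0, 0, 0, 0, 0, 0, 0, 0, 0, 0, 0, 0, 0, 0, 0, 0, 0, 0, 0, 0, 0, 0, 0, 0, 0, 0, 0, 0, 0, 0, 0, 0, 0, 0, 0, 0, 0, 0, 0, 0, 0, 0, 0, 0, 0, 0, 0, 0, 0, 1, 0, 0, 0, 0, 1, 1, 0, 0, 0, 0, 0, 0, 0, 0, 0, 0, 1, 1, 0, 0, 0, 0, 0, 1, 0, 0, 0, 0, 0, 0, 1, 0, 0, 0, 0, 0, 1, 0, 0, 0, 0, 1, 0, 0, 0, 0, 0, 0, 0, 0, 0, 0, 0, 0, 0, 0, 0, 1, 0, 1, 0, 0, 0, 0, 0, 0, 0, 0, 0, 1, 0, 0, 0, 0, 1, 1, 0, 0, 0, 0, 0, 0, 0, 0, 0, 0, 0, 1, 1, 1, 0, 1, 1, 0, 0, 0, 0, 0, 1, 0, 0, 0, 0, 0, 0, 1, 1, 1, 0, 1, 1, 0, 0, 0, 0, 0, 0, 0, 0, 0, 1, 0, 1, 0, 0, 1, 1, 1, 1, 0, 0, 0, 0, 0, 0, 1, 0, 0, 0, 1, 1, 0, 0, 0, 1, 1, 0, 1, 0, 0, 0, 0, 0, 0, 0, 1, 0, 0, 0, 1, 1, 0, 0, 0, 1, 1, 0, 1, 0, 0, 0, 0, 0, 0, 0, 0, 0, 0, 0, 0, 0, 0, 0, 1, 1, 1, 0, 1, 1,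 0, 1, 1, 1, 0, 0, 0, 0, 0, 0, 0, 0, 0, 0, 0, 0, 0, 0, 0, 0, 0, 0, 0, 0, 0, 0, 0, 0, 0, 0, 0, 0, 0, 0, 0, 0, 0, 0, 0, 0, 0, 0, 0, 0, 0, 0, 0, 0, 0, 0, 0, 0, 0, 0, 0, 0, 0, 0, 0, 0, 0, 0, 0, 1, 1, 0, 1, 0, 1, 1, 0, 1, 1, 0, 0, 0, 0, 0, 0, 0, 0, 0, 0, 0, 0, 0, 0, 0, 0, 0, 0, 0, 0, 0, 0, 0, 0, 0, 0, 0, 0, 0, 0, 0, 0, 0, 0, 0, 0, 0, 0, 0, 0, 0, 0, 0, 0, 0],
    [0, 0, 0, 0, 0, 0, 0, 0, 0, 0, 0, 0, 0, 0, 0, 0, 0, 0, 0, 0, 0, 0, 0, 0, 0, 0, 0, 0, 0, 0, 0, 0, 0, 0, 0, 0, 0, 0, 0, 0, 0, 0, 0, 0, 0, 0, 0, 0, 0, 0, 0, 0, 0, 0, 0, 0, 0, 0, 1, 1, 1, 0, 0, 0, 0, 0, 0, 0, 0, 0, 0, 0, 0, 0, 0, 0, 0, 0, 0, 0, 0, 0, 1, 0, 0, 0, 0, 0, 0, 0, 1, 0, 0, 0, 0, 1, 0, 0, 0, 0, 0, 0, 0, 1, 1, 0, 0, 0, 1, 1, 0, 0, 0, 0, 1, 0, 0, 1, 1, 0, 0, 0, 0, 0, 1, 0, 0, 0, 0, 0, 0,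 0, 0, 1, 1, 1, 0, 0, 0, 0, 0, 0, 0, 0, 0, 0, 0, 0, 0, 1, 0, 0, 0, 0, 0, 0, 0, 1, 0, 0, 0, 0, 0, 0, 0, 1, 1, 0, 1, 0, 1, 0, 0, 0, 0, 0, 0, 0, 0, 0, 1, 0, 0, 0, 0, 1, 1, 1, 0, 1, 0, 0, 0, 1, 1, 0, 0, 0, 0, 1, 0, 0, 0, 0, 0, 1, 1, 1, 1, 0, 0, 0, 0, 1, 1, 0, 0, 0, 0, 1, 0, 0, 0, 0, 0, 1, 1, 1, 1, 1, 1, 0, 0, 0, 0, 0, 0, 0, 0, 0, 0, 0, 0, 0, 0, 0, 0, 0, 0, 0, 1, 1, 1, 0, 0, 0, 0, 0, 0, 0, 0, 0, 0, 0, 0, 0, 0, 0, 0, 0, 0, 0, 0, 0, 0, 0, 0, 0, 0, 0, 0, 0, 0, 0, 0, 0, 0, 0, 0, 0, 0, 0, 0, 0, 0, 0, 0, 0, 0, 0, 0, 0, 0, 0, 0, 0, 0, 0, 0, 0, 0, 0, 0, 0, 1, 1, 0, 0, 0, 0, 0, 0, 0, 0, 0, 0, 0, 0, 0, 0, 0, 0, 0, 0, 0, 0, 0, 0, 0, 0, 0, 0, 0, 0, 0, 0, 0, 0, 0, 0, 0, 0, 0, 0, 0, 0, 0, 0, 0, 0, 0, 0, 0, 0, 0, 0, 0],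
    [0, 0, 0, 0, 0, 0, 0, 0, 0, 0, 0, 0, 0, 0, 0, 0, 0, 0, 0, 0, 0, 0, 0, 0, 0, 0, 0, 0, 0, 0, 0, 0, 0, 0, 0, 0, 0, 0, 0, 0, 0, 0, 0, 0, 0, 0, 0, 0, 0, 0, 0, 0, 0, 0, 0, 0, 0, 0, 0, 0, 0, 0, 0, 0, 0, 0, 0, 1, 0, 0, 1, 0, 0, 0, 1, 0, 0, 0, 0, 0, 0, 0, 0, 0, 0, 0, 0, 0, 0, 0, 1, 0, 0, 0, 0, 0, 0, 0, 0, 0, 0, 0, 0, 1, 1, 0, 0, 0, 0, 1, 1, 0, 0, 0, 1, 0, 0, 1, 1, 1, 0, 0, 0, 0, 0, 0, 0, 0, 1, 0, 0, 0, 0, 0, 0, 1, 0, 0, 0, 0, 1, 1, 0, 0, 1, 1, 0, 0, 0, 0, 0, 1, 1, 0, 0, 0, 0, 0, 0, 0, 0, 0, 0, 0, 0, 1, 1, 1, 1, 1, 1, 0, 0, 0, 0, 1, 1, 0, 0, 0, 1, 0, 0, 0, 0, 0, 0, 0, 0, 0, 0, 0, 0, 0, 1, 0, 0, 0, 1, 0, 0, 0, 1, 1, 1, 0, 0, 1, 0, 1, 0, 0, 0, 0, 1, 1, 0, 0, 1, 1, 0, 0, 1, 1, 1, 1, 1, 1, 0, 0, 0, 0, 0, 0, 0, 0, 1, 0, 0, 0, 1, 0, 0, 0, 0, 0, 0, 0, 0,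 0, 0, 0, 0, 0, 0, 0, 0, 0, 0, 0, 0, 0, 0, 0, 0, 0, 0, 0, 0, 0, 0, 0, 0, 0, 0, 0, 0, 0, 0, 0, 0, 0, 0, 0, 0, 0, 0, 0, 0, 0, 0, 0, 0, 0, 0, 0, 0, 0, 0, 0, 0, 0, 0, 0, 0, 0, 0, 0, 0, 0, 0, 0, 0, 0, 0, 1, 1, 0, 0, 1, 0, 0, 0, 0, 0, 0, 0, 0, 0, 0, 0, 0, 0, 0, 0, 0, 0, 0, 0, 0, 0, 0, 0, 0, 0, 0, 0, 0, 0, 0, 0, 0, 0, 0, 0, 0, 0, 0, 0, 0, 0, 0, 0, 0, 0, 0, 0],
    [0, 0, 0, 0, 0, 0, 0, 0, 0, 0, 0, 0, 0, 0, 0, 0, 0, 0, 0, 0, 0, 0, 0, 0, 0, 0, 0, 0, 0, 0, 0, 0, 0, 0, 0, 0, 0, 0, 0, 0, 0, 0, 0, 0, 0, 0, 0, 0, 0, 0, 0, 0, 0, 0, 0, 0, 0, 0, 0, 0, 0, 0, 0, 0, 0, 0, 0, 0, 0, 0, 1, 1, 0, 0, 0, 1, 0, 0, 0, 1, 0, 0, 0, 1, 0, 0, 1, 1, 0, 0, 1, 0, 0, 0, 0, 1, 1, 0, 0, 0, 1, 0, 0, 1, 1, 0, 0, 0, 0, 1, 1, 0, 0, 0, 1, 0, 0, 1, 1, 1, 0, 0, 0, 0, 0, 1, 0, 0, 1, 0, 0,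 0, 0, 1, 0, 1, 0, 0, 0, 0, 0, 1, 0, 0, 1, 0, 0, 0, 0, 0, 0, 1, 0, 0, 0, 0, 0, 0, 0, 0, 0, 0, 0, 0, 0, 1, 1, 1, 1, 1, 1, 0, 0, 0, 0, 1, 1, 0, 0, 0, 1, 0, 0, 0, 0, 0, 0, 0, 0, 0, 0, 0, 0, 0, 1, 0, 0, 0, 0, 0, 0, 0, 0, 0, 1, 1, 1, 1, 0, 0, 0, 0, 0, 0, 1, 1, 0, 0, 0, 1, 0, 0, 1, 1, 1, 0, 0, 1, 0, 1, 0, 0, 0, 0, 0, 0, 1, 0, 0, 0, 1, 0, 0, 0, 0, 0, 0, 0, 0, 0, 1, 1, 0, 0, 0, 0, 0, 0, 0, 0, 0, 0, 0, 0, 0, 0, 0, 0, 0, 0, 0, 0, 0, 0, 0, 0, 0, 0, 0, 0, 0, 0, 0, 0, 0, 0, 0, 0, 0, 0, 0, 0, 0, 0, 0, 0, 0, 0, 0, 0, 0, 0, 0, 0, 0, 0, 0, 0, 0, 0, 0, 0, 0, 0, 0, 1, 1, 0, 0, 1, 0, 0, 0, 0, 0, 0, 0, 0, 0, 0, 0, 0, 0, 0, 0, 0, 0, 0, 0, 0, 0, 0, 0, 0, 0, 0, 0, 0, 0, 0, 0, 0, 0, 0, 0, 0, 0, 0, 0, 0, 0, 0, 0, 0, 0, 0, 0],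
    [0, 0, 0, 0, 0, 0, 0, 0, 0, 0, 0, 0, 0, 0, 0, 0, 0, 0, 0, 0, 0, 0, 0, 0, 0, 0, 0, 0, 0, 0, 0, 0, 0, 0, 0, 0, 0, 0, 0, 0, 0, 0, 0, 0, 0, 0, 0, 0, 0, 0, 0, 0, 0, 0, 0, 0, 0, 0, 0, 0, 0, 0, 0, 0, 0, 0, 0, 0, 0, 0, 0, 1, 0, 0, 0, 1, 0, 0, 0, 0, 0, 0, 1, 0, 0, 0, 0, 1, 0, 0, 0, 0, 0, 0, 0, 0, 1, 0, 0, 0, 1, 0, 0, 0, 0, 0, 0, 0, 0, 0, 1, 0, 0, 0, 1, 0, 0, 0, 0, 0, 0, 0, 0, 0, 0, 1, 0, 0, 0, 1, 0, 0, 1, 1, 1, 0, 0, 0, 0, 0, 0, 1, 0, 0, 0, 1, 0, 0, 1, 0, 1, 1, 0, 0, 0, 0, 0, 0, 0, 0, 0, 0, 0, 0, 0, 0, 0, 0, 0, 0, 0, 0, 0, 0, 0, 0, 1, 0, 0, 0, 1, 0, 0, 0, 0, 0, 1, 1, 0, 0, 0, 0, 0, 0, 0, 1, 0, 0, 0, 1, 0, 0, 1, 1, 1, 0, 0, 0, 1, 0, 0, 0, 0, 0, 0, 1, 0, 0, 0, 1, 0, 0, 0, 0, 1, 0, 0, 0, 1, 0, 0, 0, 0, 0, 0, 0, 0, 0, 0, 0, 0, 0, 0, 0, 0, 0, 0, 0, 0,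 0, 0, 0, 0, 0, 0, 0, 0, 0, 0, 0, 0, 0, 0, 0, 0, 0, 0, 0, 0, 0, 0, 0, 0, 0, 0, 0, 0, 0, 0, 0, 0, 0, 0, 0, 0, 0, 0, 0, 0, 0, 0, 0, 0, 0, 0, 0, 0, 0, 0, 0, 0, 0, 0, 0, 0, 0, 0, 0, 0, 0, 0, 0, 0, 0, 0, 1, 0, 0, 0, 0, 0, 0, 0, 0, 0, 0, 0, 0, 0, 0, 0, 0, 0, 0, 0, 0, 0, 0, 0, 0, 0, 0, 0, 0, 0, 0, 0, 0, 0, 0, 0, 0, 0, 0, 0, 0, 0, 0, 0, 0, 0, 0, 0, 0, 0, 0, 0],
    [0, 0, 0, 0, 0, 0, 0, 0, 0, 0, 0, 0, 0, 0, 0, 0, 0, 0, 0, 0, 0, 0, 0, 0, 0, 0, 0, 0, 0, 0, 0, 0, 0, 0, 0, 0, 0, 0, 0, 0, 0, 0, 0, 0, 0, 0, 0, 0, 0, 0, 0, 0, 0, 0, 0, 0, 0, 0, 0, 0, 0, 0, 0, 0, 0, 0, 0, 0, 0, 1, 1, 0, 0, 0, 0, 1, 0, 0, 0, 0, 0, 1, 0, 1, 0, 0, 0, 1, 0, 0, 0, 0, 0, 0, 1, 0, 0, 0, 0, 0, 0, 0, 0, 0, 0, 0, 0, 0, 1, 0, 0, 0, 0, 0, 0, 0, 0, 0, 1, 1, 0, 0, 0, 0, 1, 0, 0, 0, 0, 0, 0,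 0, 1, 1, 1, 1, 0, 0, 0, 0, 1, 0, 0, 0, 0, 1, 0, 0, 1, 0, 0, 1, 0, 0, 0, 0, 0, 1, 0, 0, 0, 0, 1, 0, 0, 1, 1, 1, 0, 0, 0, 0, 0, 0, 1, 1, 0, 0, 0, 0, 1, 0, 0, 0, 1, 0, 0, 1, 1, 1, 0, 0, 0, 1, 0, 0, 0, 0, 0, 1, 0, 0, 1, 1, 0, 0, 0, 0, 1, 1, 0, 0, 0, 1, 0, 0, 0, 0, 0, 0, 0, 0, 0, 0, 1, 0, 0, 1, 1, 0, 1, 0, 0, 0, 0, 0, 0, 0, 0, 0, 1, 0, 0, 1, 1, 1, 0, 0, 0, 0, 1, 1, 1, 0, 0, 0, 0, 0, 0, 0, 0, 0, 0, 0, 0, 0, 0, 0, 0, 0, 0, 0, 0, 0, 0, 0, 0, 0, 0, 0, 0, 0, 0, 0, 0, 0, 0, 0, 0, 0, 0, 0, 0, 0, 0, 0, 0, 0, 0, 0, 0, 0, 0, 0, 0, 0, 0, 0, 0, 0, 0, 0, 0, 0, 0, 0, 1, 0, 0, 0, 0, 0, 0, 0, 0, 0, 0, 0, 0, 0, 0, 0, 0, 0, 0, 0, 0, 0, 0, 0, 0, 0, 0, 0, 0, 0, 0, 0, 0, 0, 0, 0, 0, 0, 0, 0, 0, 0, 0, 0, 0, 0, 0, 0, 0, 0, 0],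
    [0, 0, 0, 0, 0, 0, 0, 0, 0, 0, 0, 0, 0, 0, 0, 0, 0, 0, 0, 0, 0, 0, 0, 0, 0, 0, 0, 0, 0, 0, 0, 0, 0, 0, 0, 0, 0, 0, 0, 0, 0, 0, 0, 0, 0, 0, 0, 0, 0, 0, 0, 0, 0, 0, 0, 0, 0, 0, 0, 1, 1, 0, 0, 0, 1, 0, 0, 0, 0, 0, 0, 0, 0, 0, 0, 0, 0, 0, 0, 0, 0, 0, 1, 0, 0, 0, 0, 0, 0, 0, 1, 0, 1, 0, 0, 0, 0, 0, 0, 1, 0, 0, 0, 1, 1, 0, 0, 0, 0, 1, 0, 0, 0, 0, 1, 0, 0, 1, 1, 0, 0, 0, 0, 0, 1, 1, 0, 0, 1, 0, 0, 0, 1, 0, 0, 0, 0, 0, 0, 0, 0, 0, 0, 0, 1, 0, 0, 0, 0, 1, 0, 0, 0, 0, 0, 0, 0, 0, 1, 0, 0, 0, 1, 0, 0, 0, 0, 0, 0, 1, 1, 0, 0, 0, 0, 0, 0, 0, 0, 0, 1, 0, 0, 0, 0, 1, 1, 0, 0, 1, 0, 0, 0, 0, 0, 1, 0, 0, 1, 1, 0, 0, 1, 1, 0, 1, 0, 1, 0, 1, 0, 0, 0, 0, 0, 1, 0, 0, 1, 0, 0, 0, 0, 0, 0, 0, 0, 0, 0, 1, 1, 0, 0, 0, 0, 0, 0, 0, 0, 0, 1, 0, 0, 1, 1, 0, 1, 0, 1,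 1, 1, 0, 0, 0, 0, 0, 0, 0, 0, 0, 0, 0, 0, 0, 0, 0, 0, 0, 0, 0, 0, 0, 0, 0, 0, 0, 0, 0, 0, 0, 0, 0, 0, 0, 0, 0, 0, 0, 0, 0, 0, 0, 0, 0, 0, 0, 0, 0, 0, 0, 0, 0, 0, 0, 0, 0, 0, 0, 0, 0, 0, 0, 0, 0, 0, 1, 1, 0, 0, 1, 1, 0, 0, 0, 0, 0, 0, 0, 0, 0, 0, 0, 0, 0, 0, 0, 0, 0, 0, 0, 0, 0, 0, 0, 0, 0, 0, 0, 0, 0, 0, 0, 0, 0, 0, 0, 0, 0, 0, 0, 0, 0, 0, 0, 0, 0, 0],
    [0, 0, 0, 0, 0, 0, 0, 0, 0, 0, 0, 0, 0, 0, 0, 0, 0, 0, 0, 0, 0, 0, 0, 0, 0, 0, 0, 0, 0, 0, 0, 0, 0, 0, 0, 0, 0, 0, 0, 0, 0, 0, 0, 0, 0, 0, 0, 0, 0, 0, 0, 0, 0, 0, 0, 0, 0, 0, 0, 0, 0, 0, 0, 0, 0, 0, 0, 0, 0, 0, 1, 1, 0, 0, 0, 1, 0, 0, 0, 0, 0, 0, 1, 1, 0, 0, 0, 1, 0, 0, 1, 0, 0, 0, 0, 0, 0, 0, 0, 0, 0, 0, 0, 1, 1, 0, 0, 0, 0, 1, 1, 0, 0, 0, 1, 0, 0, 1, 1, 1, 0, 0, 0, 0, 0, 0, 0, 0, 0, 1, 0,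 0, 1, 1, 0, 1, 0, 0, 0, 0, 1, 1, 0, 0, 0, 1, 0, 0, 1, 1, 1, 0, 1, 0, 1, 0, 0, 1, 0, 0, 0, 1, 0, 0, 0, 1, 1, 1, 0, 1, 1, 0, 0, 0, 0, 0, 0, 0, 0, 0, 0, 0, 0, 0, 0, 0, 0, 0, 0, 0, 0, 0, 0, 0, 0, 0, 0, 0, 1, 0, 0, 0, 1, 0, 1, 1, 1, 0, 0, 0, 0, 0, 0, 0, 1, 0, 0, 0, 0, 0, 0, 0, 1, 1, 1, 0, 1, 1, 0, 1, 0, 0, 0, 0, 0, 1, 0, 0, 0, 1, 0, 0, 0, 1, 1, 1, 0, 1, 1, 0, 1, 1, 1, 0, 0, 0, 0, 0, 0, 0, 0, 0, 0, 0, 0, 0, 0, 0, 0, 0, 0, 0, 0, 0, 0, 0, 0, 0, 0, 0, 0, 0, 0, 0, 0, 0, 0, 0, 0, 0, 0, 0, 0, 0, 0, 0, 0, 0, 0, 0, 0, 0, 0, 0, 0, 0, 0, 0, 0, 0, 0, 0, 0, 0, 0, 0, 0, 0, 0, 1, 0, 1, 0, 0, 0, 0, 0, 0, 0, 0, 0, 0, 0, 0, 0, 0, 0, 0, 0, 0, 0, 0, 0, 0, 0, 0, 0, 0, 0, 0, 0, 0, 0, 0, 0, 0, 0, 0, 0, 0, 0, 0, 0, 0, 0, 0, 0],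
    [0, 0, 0, 0, 0, 0, 0, 0, 1, 0, 1, 0, 0, 1, 0, 1, 0, 1, 0, 1, 0, 1, 0, 1, 1, 1, 1, 0, 1, 0, 0, 1, 0, 0, 0, 1, 0, 0, 0, 0, 0, 1, 0, 1, 1, 1, 0, 0, 1, 0, 1, 1, 0, 0, 1, 0, 0, 0, 0, 0, 0, 0, 0, 0, 0, 0, 0, 0, 0, 0, 0, 0, 0, 0, 0, 0, 0, 0, 0, 0, 0, 0, 0, 0, 0, 0, 0, 0, 0, 0, 0, 0, 0, 0, 0, 0, 0, 0, 0, 0, 0, 0, 0, 0, 0, 0, 0, 0, 0, 0, 0, 0, 0, 0, 0, 0, 0, 0, 0, 0, 0, 0, 0, 0, 0, 0, 0, 0, 0, 0, 0, 0, 0, 0, 0, 0, 0, 0, 0, 0, 0, 0, 0, 0, 0, 0, 0, 0, 0, 0, 0, 0, 0, 0, 0, 0, 0, 0, 0, 0, 0, 0, 0, 0, 0, 0, 0, 0, 0, 0, 0, 0, 0, 0, 0, 0, 0, 0, 0, 0, 0, 0, 0, 0, 0, 0, 0, 0, 0, 0, 0, 0, 0, 0, 0, 0, 0, 0, 0, 0, 0, 0, 0, 0, 0, 0, 0, 0, 0, 0, 0, 0, 0, 0, 0, 0, 0, 0, 0, 0, 0, 0, 0, 0, 0, 0, 0, 0, 0, 0, 0, 0, 0, 0, 0, 0, 0, 0, 0, 0, 0, 0, 0, 0, 0, 0, 0, 0, 0,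 0, 0, 0, 0, 0, 0, 0, 0, 0, 0, 0, 0, 0, 0, 0, 0, 0, 0, 0, 0, 0, 0, 0, 0, 0, 0, 0, 0, 0, 0, 0, 0, 0, 0, 0, 0, 0, 0, 0, 0, 0, 0, 0, 0, 0, 0, 0, 0, 0, 0, 0, 0, 0, 0, 0, 0, 0, 0, 0, 0, 0, 0, 0, 0, 0, 0, 0, 0, 0, 0, 0, 0, 0, 0, 0, 0, 0, 0, 0, 0, 0, 0, 0, 0, 0, 0, 0, 0, 0, 0, 0, 0, 0, 0, 0, 0, 0, 0, 0, 0, 0, 0, 0, 0, 0, 0, 0, 0, 0, 0, 0, 0, 0, 0, 0, 0, 0, 0]]

/-- part of the exponents -/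
def twoVecs26 : List (List ℤ) :=
  [[0, 0, 0, 0, 0, 0, 0, 0, 0, 0, 0, 0, 1, 0, 1, 0, 0, 1, 0, 1, 1, 0, 0, 1, 0, 1, 1, 1, 0, 0, 1, 0, 0, 0, 0, 1, 0, 0, 0, 0, 0, 1, 1, 1, 1, 0, 0, 1, 0, 1, 0, 1, 0, 0, 0, 0, 0, 0, 0, 0, 0, 0, 0, 0, 0, 0, 0, 0, 0, 0, 0, 0, 0, 0, 0, 0, 0, 0, 0, 0, 0, 0, 0, 0, 0, 0, 0, 0, 0, 0, 0, 0, 0, 0, 0, 0, 0, 0, 0, 0, 0, 0, 0, 0, 0, 0, 0, 0, 0, 0, 0, 0, 0, 0, 0, 0, 0, 0, 0, 0, 0, 0, 0, 0, 0, 0, 0, 0, 0, 0, 0, 0, 0, 0, 0, 0, 0, 0, 0, 0, 0, 0, 0, 0, 0, 0, 0, 0, 0, 0, 0, 0, 0, 0, 0, 0, 0, 0, 0, 0, 0, 0, 0, 0, 0, 0, 0, 0, 0, 0, 0, 0, 0, 0, 0, 0, 0, 0, 0, 0, 0, 0, 0, 0, 0, 0, 0, 0, 0, 0, 0, 0, 0, 0, 0, 0, 0, 0, 0, 0, 0, 0, 0, 0, 0, 0, 0, 0, 0, 0, 0, 0, 0, 0, 0, 0, 0, 0, 0, 0, 0, 0, 0, 0, 0, 0, 0, 0, 0, 0, 0, 0, 0, 0, 0, 0, 0, 0,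 0, 0, 0, 0, 0, 0, 0, 0, 0, 0, 0, 0, 0, 0, 0, 0, 0, 0, 0, 0, 0, 0, 0, 0, 0, 0, 0, 0, 0, 0, 0, 0, 0, 0, 0, 0, 0, 0, 0, 0, 0, 0, 0, 0, 0, 0, 0, 0, 0, 0, 0, 0, 0, 0, 0, 0, 0, 0, 0, 0, 0, 0, 0, 0, 0, 0, 0, 0, 0, 0, 0, 0, 0, 0, 0, 0, 0, 0, 0, 0, 0, 0, 0, 0, 0, 0, 0, 0, 0, 0, 0, 0, 0, 0, 0, 0, 0, 0, 0, 0, 0, 0, 0, 0, 0, 0, 0, 0, 0, 0, 0, 0, 0, 0, 0, 0, 0, 0, 0, 0, 0, 0, 0, 0, 0, 0, 0, 0, 0],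
    [0, 0, 0, 0, 0, 0, 0, 0, 0, 0, 0, 0, 0, 0, 0, 0, 0, 0, 0, 0, 0, 0, 0, 0, 0, 0, 0, 0, 0, 0, 0, 0, 0, 0, 0, 0, 0, 0, 0, 0, 0, 0, 0, 0, 0, 0, 0, 0, 0, 0, 0, 0, 0, 0, 0, 0, 0, 0, 1, 1, 1, 0, 0, 0, 1, 1, 0, 0, 0, 0, 0, 0, 0, 0, 0, 0, 0, 0, 1, 0, 1, 1, 0, 1, 0, 0, 0, 1, 1, 0, 0, 0, 0, 0, 0, 1, 0, 0, 0, 0, 0, 1, 0, 0, 0, 1, 0, 0, 1, 0, 1, 0, 0, 0, 0, 0, 0, 1, 1, 0, 1, 0, 1, 1, 0, 1, 0, 0, 0, 0, 1, 0, 0, 0, 1, 0, 1, 0, 0, 1, 0, 1, 0, 0, 0, 0, 0, 0, 0, 0, 1, 1, 1, 0, 0, 0, 0, 1, 0, 0, 0, 0, 0, 0, 0, 0, 1, 0, 0, 1, 0, 1, 0, 0, 1, 0, 0, 0, 0, 0, 1, 0, 0, 0, 0, 0, 0, 0, 1, 0, 1, 0, 1, 1, 1, 1, 0, 0, 0, 1, 0, 0, 1, 0, 1, 1, 0, 1, 1, 0, 0, 0, 0, 0, 0, 0, 0, 0, 0, 0, 1, 0, 0, 1, 0, 1, 0, 0, 0, 0, 0, 0, 0, 0, 0, 0, 0, 0, 0, 0, 0, 0, 0, 0, 0, 0, 0, 1, 1,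 0, 0, 0, 1, 0, 0, 0, 0, 0, 0, 0, 0, 0, 0, 0, 0, 0, 0, 0, 0, 0, 0, 0, 0, 0, 0, 0, 0, 0, 0, 0, 0, 0, 0, 0, 0, 0, 0, 0, 0, 0, 0, 0, 0, 0, 0, 0, 0, 0, 0, 0, 0, 0, 0, 0, 0, 0, 0, 0, 0, 0, 0, 0, 0, 0, 0, 0, 0, 0, 0, 0, 0, 0, 0, 0, 0, 0, 0, 0, 1, 1, 1, 0, 1, 0, 0, 0, 0, 0, 0, 0, 0, 0, 0, 0, 0, 0, 0, 0, 0, 0, 0, 0, 0, 0, 0, 0, 0, 0, 0, 0, 0, 0, 0, 0, 0, 0, 0],
    [0, 0, 0, 0, 0, 0, 0, 0, 0, 0, 0, 0, 0, 0, 0, 0, 0, 0, 0, 0, 0, 0, 0, 0, 0, 0, 0, 0, 0, 0, 0, 0, 0, 0, 0, 0, 0, 0, 0, 0, 0, 0, 0, 0, 0, 0, 0, 0, 0, 0, 0, 0, 0, 0, 0, 0, 0, 0, 0, 1, 1, 1, 1, 0, 1, 1, 0, 0, 0, 0, 0, 0, 0, 0, 0, 0, 0, 0, 0, 0, 1, 0, 1, 0, 0, 0, 0, 0, 0, 0, 0, 0, 0, 0, 0, 1, 0, 0, 1, 1, 0, 1, 0, 0, 0, 0, 0, 1, 0, 1, 0, 1, 0, 1, 1, 0, 0, 0, 1, 1, 0, 0, 1, 0, 1, 1, 0, 1, 1, 0, 1,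 0, 1, 0, 0, 0, 0, 0, 1, 0, 0, 0, 0, 0, 0, 0, 1, 0, 0, 0, 0, 1, 1, 0, 0, 0, 0, 1, 0, 0, 1, 0, 1, 0, 0, 1, 1, 1, 1, 0, 0, 0, 0, 1, 0, 1, 1, 0, 0, 1, 0, 0, 0, 1, 1, 0, 0, 0, 0, 1, 0, 0, 1, 0, 1, 1, 1, 0, 1, 1, 0, 0, 0, 0, 0, 1, 0, 0, 0, 1, 0, 0, 0, 0, 1, 0, 0, 0, 0, 0, 1, 0, 0, 1, 0, 0, 1, 1, 0, 1, 0, 0, 0, 0, 0, 1, 0, 0, 0, 0, 0, 1, 0, 0, 0, 0, 0, 1, 0, 1, 0, 0, 0, 0, 0, 0, 0, 0, 0, 0, 0, 0, 0, 0, 0, 0, 0, 0, 0, 0, 0, 0, 0, 0, 0, 0, 0, 0, 0, 0, 0, 0, 0, 0, 0, 0, 0, 0, 0, 0, 0, 0, 0, 0, 0, 0, 0, 0, 0, 0, 0, 0, 0, 0, 0, 0, 0, 0, 0, 0, 0, 0, 0, 0, 0, 0, 0, 0, 0, 0, 0, 0, 0, 0, 0, 0, 0, 1, 0, 1, 0, 1, 1, 0, 1, 1, 0, 0, 0, 0, 0, 0, 0, 0, 0, 0, 0, 0, 0, 0, 0, 0, 0, 0, 0, 0, 0, 0, 0, 0, 0, 0, 0, 0, 0, 0, 0],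
    [0, 0, 0, 0, 0, 0, 0, 0, 0, 0, 0, 0, 0, 0, 0, 0, 0, 0, 0, 0, 0, 0, 0, 0, 0, 0, 0, 0, 0, 0, 0, 0, 0, 0, 0, 0, 0, 0, 0, 0, 0, 0, 0, 0, 0, 0, 0, 0, 0, 0, 0, 0, 0, 0, 0, 0, 0, 0, 0, 0, 0, 0, 0, 0, 0, 0, 1, 0, 1, 0, 0, 0, 0, 0, 0, 0, 0, 0, 0, 0, 0, 0, 0, 0, 0, 0, 0, 0, 0, 0, 0, 0, 0, 1, 0, 0, 0, 0, 0, 0, 0, 0, 0, 0, 0, 0, 0, 0, 0, 0, 0, 0, 0, 0, 0, 0, 0, 0, 0, 0, 0, 0, 0, 0, 0, 0, 0, 0, 0, 0, 0, 0, 0, 0, 0, 0, 0, 0, 0, 0, 0, 0, 0, 0, 0, 0, 0, 0, 0, 0, 0, 0, 0, 1, 0, 0, 1, 1, 1, 0, 0, 0, 1, 0, 0, 0, 0, 0, 0, 0, 0, 1, 0, 1, 1, 0, 0, 0, 0, 0, 0, 0, 0, 0, 0, 0, 0, 0, 0, 0, 0, 0, 0, 0, 1, 0, 0, 0, 0, 0, 0, 0, 0, 0, 0, 0, 0, 0, 1, 0, 0, 0, 1, 0, 1, 0, 0, 0, 0, 1, 0, 0, 0, 0, 0, 0, 0, 0, 0, 0, 0, 1, 0, 0, 1, 1, 1, 0, 0, 0, 0, 0, 0, 0, 0, 0, 0, 0, 0,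 0, 1, 0, 0, 0, 0, 0, 0, 0, 0, 0, 0, 0, 0, 0, 0, 0, 0, 0, 0, 0, 0, 0, 0, 0, 0, 0, 0, 0, 0, 0, 0, 0, 0, 0, 0, 0, 0, 0, 0, 0, 0, 0, 0, 0, 0, 0, 0, 0, 0, 0, 0, 0, 0, 0, 0, 0, 0, 0, 0, 0, 0, 0, 0, 0, 0, 0, 0, 0, 0, 0, 0, 0, 0, 0, 0, 0, 0, 1, 0, 0, 0, 1, 0, 0, 0, 0, 0, 0, 0, 0, 0, 0, 0, 0, 0, 0, 0, 0, 0, 0, 0, 0, 0, 0, 0, 0, 0, 0, 0, 0, 0, 0, 0, 0, 0, 0, 0],
    [0, 0, 0, 0, 0, 0, 0, 0, 0, 0, 0, 0, 0, 0, 0, 0, 0, 0, 0, 0, 0, 0, 0, 0, 0, 0, 0, 0, 0, 0, 0, 0, 0, 0, 0, 0, 0, 0, 0, 0, 0, 0, 0, 0, 0, 0, 0, 0, 0, 0, 0, 0, 0, 0, 0, 0, 0, 0, 0, 0, 0, 0, 0, 0, 0, 0, 0, 0, 1, 0, 0, 0, 0, 1, 1, 0, 0, 0, 0, 0, 0, 0, 0, 0, 0, 0, 0, 0, 0, 0, 0, 0, 0, 0, 0, 0, 0, 0, 0, 0, 0, 0, 0, 0, 0, 0, 0, 0, 0, 0, 0, 0, 0, 0, 0, 0, 0, 0, 0, 0, 0, 0, 0, 0, 0, 0, 0, 0, 0, 0, 0,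 0, 0, 0, 0, 0, 0, 0, 0, 0, 0, 0, 0, 0, 0, 0, 0, 0, 0, 0, 0, 0, 0, 0, 0, 1, 0, 1, 1, 1, 0, 0, 1, 0, 0, 0, 0, 0, 0, 0, 0, 0, 0, 1, 0, 1, 1, 1, 0, 1, 1, 0, 0, 0, 0, 0, 0, 0, 0, 0, 0, 0, 0, 0, 0, 1, 1, 0, 1, 1, 0, 0, 0, 0, 0, 0, 0, 0, 1, 0, 0, 0, 0, 0, 1, 1, 0, 0, 1, 0, 0, 0, 0, 0, 0, 0, 0, 1, 0, 1, 1, 0, 0, 1, 0, 0, 1, 0, 0, 0, 1, 0, 0, 0, 0, 0, 0, 0, 0, 0, 0, 0, 0, 0, 0, 0, 0, 0, 0, 0, 0, 0, 0, 0, 0, 0, 0, 0, 0, 0, 0, 0, 0, 0, 0, 0, 0, 0, 0, 0, 0, 0, 0, 0, 0, 0, 0, 0, 0, 0, 0, 0, 0, 0, 0, 0, 0, 0, 0, 0, 0, 0, 0, 0, 0, 0, 0, 0, 0, 0, 0, 0, 0, 0, 0, 0, 0, 0, 0, 0, 0, 0, 0, 0, 0, 0, 0, 0, 0, 0, 0, 1, 0, 0, 0, 0, 0, 0, 0, 0, 0, 0, 0, 0, 0, 0, 0, 0, 0, 0, 0, 0, 0, 0, 0, 0, 0, 0, 0, 0, 0, 0, 0, 0, 0, 0, 0],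
    [0, 0, 0, 0, 0, 0, 0, 0, 0, 0, 0, 0, 0, 0, 0, 0, 0, 0, 0, 0, 0, 0, 0, 0, 0, 0, 0, 0, 0, 0, 0, 0, 0, 0, 0, 0, 0, 0, 0, 0, 0, 0, 0, 0, 0, 0, 0, 0, 0, 0, 0, 0, 0, 0, 0, 0, 0, 0, 0, 0, 0, 0, 0, 0, 0, 1, 1, 0, 1, 1, 1, 1, 0, 0, 0, 1, 0, 0, 0, 0, 0, 1, 0, 0, 0, 0, 0, 0, 1, 0, 1, 1, 0, 0, 0, 1, 1, 0, 0, 0, 1, 1, 0, 0, 0, 1, 0, 1, 0, 0, 0, 0, 0, 0, 0, 0, 0, 0, 1, 1, 1, 0, 1, 0, 1, 1, 0, 0, 0, 0, 1, 0, 0, 1, 1, 0, 1, 0, 0, 0, 0, 0, 0, 0, 0, 0, 0, 0, 1, 0, 0, 1, 0, 0, 0, 1, 1, 0, 0, 0, 0, 0, 0, 0, 0, 1, 1, 1, 0, 1, 0, 0, 0, 0, 1, 0, 0, 0, 0, 0, 0, 0, 0, 0, 1, 0, 0, 1, 1, 1, 0, 0, 0, 0, 1, 0, 0, 0, 0, 0, 0, 0, 1, 1, 0, 1, 1, 0, 1, 0, 1, 0, 1, 0, 0, 1, 0, 0, 0, 1, 1, 0, 0, 1, 0, 1, 0, 0, 1, 1, 0, 0, 0, 0, 1, 0, 0, 0, 0, 0, 0, 0, 0, 1, 0, 1, 0, 0, 0,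 0, 0, 0, 1, 0, 0, 0, 0, 0, 0, 0, 0, 0, 0, 0, 0, 0, 0, 0, 0, 0, 0, 0, 0, 0, 0, 0, 0, 0, 0, 0, 0, 0, 0, 0, 0, 0, 0, 0, 0, 0, 0, 0, 0, 0, 0, 0, 0, 0, 0, 0, 0, 0, 0, 0, 0, 0, 0, 0, 0, 0, 0, 0, 0, 0, 0, 0, 0, 0, 0, 0, 0, 0, 0, 0, 0, 0, 0, 0, 1, 1, 1, 0, 1, 0, 1, 1, 0, 0, 0, 0, 0, 0, 0, 0, 0, 0, 0, 0, 0, 0, 0, 0, 0, 0, 0, 0, 0, 0, 0, 0, 0, 0, 0, 0, 0, 0, 0],
    [0, 0, 0, 0, 0, 0, 0, 0, 0, 0, 0, 0, 0, 0, 0, 0, 0, 0, 0, 0, 0, 0, 0, 0, 0, 0, 0, 0, 0, 0, 0, 0, 0, 0, 0, 0, 0, 0, 0, 0, 0, 0, 0, 0, 0, 0, 0, 0, 0, 0, 0, 0, 0, 0, 0, 0, 0, 0, 0, 0, 0, 0, 0, 0, 0, 0, 0, 0, 0, 0, 0, 0, 0, 0, 0, 0, 0, 0, 1, 0, 1, 1, 1, 1, 0, 0, 0, 1, 0, 0, 1, 0, 0, 0, 0, 0, 0, 0, 0, 0, 0, 0, 0, 0, 0, 0, 0, 1, 0, 1, 1, 0, 0, 0, 1, 0, 0, 0, 0, 1, 0, 0, 0, 1, 1, 0, 0, 0, 0, 0, 0,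 0, 0, 0, 1, 1, 1, 0, 1, 1, 0, 1, 0, 0, 0, 0, 0, 0, 1, 0, 0, 0, 1, 1, 0, 1, 1, 1, 1, 0, 0, 0, 1, 0, 0, 0, 0, 0, 0, 1, 0, 1, 0, 0, 0, 0, 0, 0, 0, 0, 0, 0, 0, 1, 0, 1, 1, 1, 0, 1, 0, 0, 0, 0, 1, 0, 0, 0, 0, 0, 0, 0, 1, 0, 0, 0, 0, 0, 1, 0, 0, 0, 1, 0, 1, 0, 0, 0, 0, 1, 0, 0, 1, 0, 0, 0, 0, 0, 0, 1, 0, 1, 0, 0, 1, 1, 1, 0, 0, 0, 0, 0, 0, 1, 0, 0, 0, 1, 0, 1, 0, 1, 0, 0, 0, 0, 0, 0, 0, 0, 0, 0, 0, 0, 0, 0, 0, 0, 0, 0, 0, 0, 0, 0, 0, 0, 0, 0, 0, 0, 0, 0, 0, 0, 0, 0, 0, 0, 0, 0, 0, 0, 0, 0, 0, 0, 0, 0, 0, 0, 0, 0, 0, 0, 0, 0, 0, 0, 0, 0, 0, 0, 0, 0, 0, 0, 0, 0, 0, 0, 0, 0, 0, 0, 0, 0, 0, 0, 0, 0, 1, 0, 0, 0, 1, 1, 0, 0, 0, 0, 0, 0, 0, 0, 0, 0, 0, 0, 0, 0, 0, 0, 0, 0, 0, 0, 0, 0, 0, 0, 0, 0, 0, 0, 0, 0, 0],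
    [0, 0, 0, 0, 0, 0, 0, 0, 0, 0, 0, 0, 0, 0, 0, 0, 0, 0, 0, 0, 0, 0, 0, 0, 0, 0, 0, 0, 0, 0, 0, 0, 0, 0, 0, 0, 0, 0, 0, 0, 0, 0, 0, 0, 0, 0, 0, 0, 0, 0, 0, 0, 0, 0, 0, 0, 0, 1, 0, 1, 1, 1, 0, 1, 1, 0, 0, 0, 1, 0, 1, 1, 1, 0, 1, 1, 0, 0, 0, 0, 0, 0, 0, 1, 1, 0, 1, 1, 0, 1, 0, 0, 0, 1, 0, 0, 1, 1, 0, 1, 1, 0, 0, 1, 1, 0, 0, 0, 0, 0, 1, 0, 0, 0, 0, 0, 0, 1, 1, 1, 0, 0, 0, 0, 1, 0, 0, 0, 0, 0, 0, 0, 0, 1, 0, 0, 0, 0, 0, 0, 0, 1, 0, 0, 0, 0, 0, 0, 1, 0, 1, 1, 0, 0, 0, 0, 0, 1, 0, 0, 0, 1, 0, 0, 1, 1, 0, 0, 0, 1, 0, 0, 0, 0, 0, 0, 0, 1, 0, 1, 1, 0, 1, 0, 0, 1, 1, 0, 0, 0, 0, 0, 0, 0, 1, 0, 0, 1, 0, 1, 0, 1, 1, 0, 0, 0, 0, 1, 0, 0, 0, 0, 1, 0, 1, 0, 0, 0, 0, 0, 0, 1, 1, 0, 0, 0, 0, 0, 1, 1, 0, 0, 0, 0, 0, 0, 0, 0, 0, 1, 1, 0, 0, 0, 0, 0, 0, 0, 0,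 0, 1, 0, 0, 0, 0, 0, 0, 0, 0, 0, 0, 0, 0, 0, 0, 0, 0, 0, 0, 0, 0, 0, 0, 0, 0, 0, 0, 0, 0, 0, 0, 0, 0, 0, 0, 0, 0, 0, 0, 0, 0, 0, 0, 0, 0, 0, 0, 0, 0, 0, 0, 0, 0, 0, 0, 0, 0, 0, 0, 0, 0, 0, 0, 0, 0, 0, 0, 0, 0, 0, 0, 0, 0, 0, 0, 0, 0, 0, 0, 0, 0, 0, 0, 0, 0, 1, 0, 0, 0, 0, 0, 0, 0, 0, 0, 0, 0, 0, 0, 0, 0, 0, 0, 0, 0, 0, 0, 0, 0, 0, 0, 0, 0, 0, 0, 0, 0],
    [1, 0, 0, 1, 0, 0, 0, 0, 0, 0, 0, 0, 0, 0, 0, 1, 0, 1, 0, 0, 1, 0, 0, 0, 0, 0, 0, 0, 1, 0, 0, 0, 0, 1, 0, 0, 0, 0, 1, 0, 0, 0, 0, 1, 1, 1, 0, 1, 0, 0, 1, 0, 1, 0, 1, 0, 0, 0, 0, 0, 0, 0, 0, 0, 0, 0, 0, 0, 0, 0, 0, 0, 0, 0, 0, 0, 0, 0, 0, 0, 0, 0, 0, 0, 0, 0, 0, 0, 0, 0, 0, 0, 0, 0, 0, 0, 0, 0, 0, 0, 0, 0, 0, 0, 0, 0, 0, 0, 0, 0, 0, 0, 0, 0, 0, 0, 0, 0, 0, 0, 0, 0, 0, 0, 0, 0, 0, 0, 0, 0, 0,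 0, 0, 0, 0, 0, 0, 0, 0, 0, 0, 0, 0, 0, 0, 0, 0, 0, 0, 0, 0, 0, 0, 0, 0, 0, 0, 0, 0, 0, 0, 0, 0, 0, 0, 0, 0, 0, 0, 0, 0, 0, 0, 0, 0, 0, 0, 0, 0, 0, 0, 0, 0, 0, 0, 0, 0, 0, 0, 0, 0, 0, 0, 0, 0, 0, 0, 0, 0, 0, 0, 0, 0, 0, 0, 0, 0, 0, 0, 0, 0, 0, 0, 0, 0, 0, 0, 0, 0, 0, 0, 0, 0, 0, 0, 0, 0, 0, 0, 0, 0, 0, 0, 0, 0, 0, 0, 0, 0, 0, 0, 0, 0, 0, 0, 0, 0, 0, 0, 0, 0, 0, 0, 0, 0, 0, 0, 0, 0, 0, 0, 0, 0, 0, 0, 0, 0, 0, 0, 0, 0, 0, 0, 0, 0, 0, 0, 0, 0, 0, 0, 0, 0, 0, 0, 0, 0, 0, 0, 0, 0, 0, 0, 0, 0, 0, 0, 0, 0, 0, 0, 0, 0, 0, 0, 0, 0, 0, 0, 0, 0, 0, 0, 0, 0, 0, 0, 0, 0, 0, 0, 0, 0, 0, 0, 0, 0, 0, 0, 0, 0, 0, 0, 0, 0, 0, 0, 0, 0, 0, 0, 0, 0, 0, 0, 0, 0, 0, 0, 0, 0, 0, 0, 0, 0, 0, 0, 0, 0, 0, 0, 0, 0, 0, 0, 0, 0],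
    [0, 0, 0, 0, 0, 0, 0, 0, 0, 0, 0, 0, 0, 0, 0, 0, 0, 0, 0, 0, 0, 0, 0, 0, 0, 0, 0, 0, 0, 0, 0, 0, 0, 0, 0, 0, 0, 0, 0, 0, 0, 0, 0, 0, 0, 0, 0, 0, 0, 0, 0, 0, 0, 0, 0, 0, 0, 0, 0, 0, 1, 0, 0, 0, 0, 1, 1, 0, 0, 0, 0, 1, 0, 0, 1, 0, 0, 1, 1, 0, 0, 0, 0, 1, 0, 0, 1, 0, 0, 0, 0, 0, 0, 0, 0, 0, 0, 0, 0, 1, 0, 1, 0, 0, 0, 1, 0, 0, 0, 0, 1, 0, 0, 1, 0, 1, 0, 0, 0, 1, 0, 0, 0, 0, 0, 0, 0, 0, 0, 0, 1, 0, 0, 1, 1, 0, 0, 0, 0, 0, 0, 0, 0, 0, 0, 0, 1, 1, 1, 0, 1, 0, 0, 1, 0, 0, 0, 0, 1, 0, 0, 0, 0, 0, 1, 1, 0, 1, 0, 0, 1, 0, 0, 0, 0, 0, 0, 0, 0, 0, 0, 1, 1, 0, 0, 1, 0, 1, 0, 1, 1, 0, 0, 0, 0, 1, 0, 0, 1, 0, 0, 0, 1, 1, 1, 0, 0, 1, 0, 0, 0, 0, 0, 0, 0, 1, 0, 0, 1, 0, 1, 0, 1, 1, 0, 1, 1, 1, 0, 1, 1, 1, 0, 0, 0, 0, 0, 0, 0, 0, 0, 0, 1, 1, 1, 0, 0, 0, 1,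 1, 0, 0, 1, 0, 0, 0, 0, 0, 0, 0, 0, 0, 0, 0, 0, 0, 0, 0, 0, 0, 0, 0, 0, 0, 0, 0, 0, 0, 0, 0, 0, 0, 0, 0, 0, 0, 0, 0, 0, 0, 0, 0, 0, 0, 0, 0, 0, 0, 0, 0, 0, 0, 0, 0, 0, 0, 0, 0, 0, 0, 0, 0, 0, 0, 0, 0, 0, 0, 0, 0, 0, 0, 0, 0, 0, 0, 0, 0, 0, 0, 0, 0, 0, 0, 0, 0, 0, 0, 0, 0, 0, 1, 1, 0, 0, 0, 1, 1, 1, 0, 0, 0, 0, 0, 0, 0, 0, 0, 0, 0, 0, 0, 0, 0, 0, 0, 0]]

/-- part of the exponents -/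
def twoVecs27 : List (List ℤ) :=
  [[0, 0, 0, 0, 0, 0, 0, 0, 0, 0, 0, 0, 0, 0, 0, 0, 0, 0, 0, 0, 0, 0, 0, 0, 0, 0, 0, 0, 0, 0, 0, 0, 0, 0, 0, 0, 0, 0, 0, 0, 0, 0, 0, 0, 0, 0, 0, 0, 0, 0, 0, 0, 0, 0, 0, 1, 0, 0, 0, 0, 1, 0, 0, 1, 1, 0, 1, 0, 1, 0, 0, 1, 0, 1, 0, 1, 0, 1, 1, 0, 1, 0, 0, 1, 0, 1, 0, 1, 0, 0, 0, 0, 0, 0, 0, 0, 1, 0, 0, 1, 1, 0, 0, 1, 1, 1, 0, 1, 0, 0, 1, 0, 0, 0, 0, 0, 0, 0, 0, 1, 0, 0, 0, 0, 0, 0, 0, 1, 1, 0, 0, 1, 1, 1, 1, 1, 0, 0, 0, 0, 0, 1, 0, 0, 0, 0, 0, 1, 1, 1, 0, 1, 1, 1, 0, 1, 0, 0, 0, 0, 1, 0, 0, 0, 1, 1, 1, 0, 0, 1, 1, 0, 0, 0, 0, 0, 0, 0, 1, 1, 1, 0, 0, 0, 0, 0, 0, 0, 1, 1, 1, 0, 1, 0, 0, 1, 0, 1, 1, 1, 0, 0, 0, 0, 0, 0, 0, 0, 1, 1, 0, 0, 1, 0, 0, 1, 0, 1, 0, 0, 0, 0, 1, 0, 1, 1, 1, 0, 0, 0, 0, 1, 0, 0, 0, 0, 0, 0,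 0, 0, 1, 0, 1, 0, 0, 1, 0, 1, 0, 1, 1, 1, 1, 0, 0, 0, 0, 0, 0, 0, 0, 0, 0, 0, 0, 0, 0, 0, 0, 0, 0, 0, 0, 0, 0, 0, 0, 0, 0, 0, 0, 0, 0, 0, 0, 0, 0, 0, 0, 0, 0, 0, 0, 0, 0, 0, 0, 0, 0, 0, 0, 0, 0, 0, 0, 0, 0, 0, 0, 0, 0, 0, 0, 0, 0, 0, 0, 0, 0, 0, 0, 0, 0, 0, 0, 0, 0, 0, 0, 0, 0, 0, 0, 0, 0, 0, 0, 0, 0, 0, 0, 1, 0, 1, 0, 1, 1, 0, 1, 1, 0, 0, 0, 0, 0, 0, 0, 0, 0, 0, 0, 0, 0, 0, 0, 0, 0],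
    [0, 0, 0, 0, 0, 0, 0, 0, 0, 0, 0, 0, 0, 0, 0, 0, 0, 0, 0, 0, 0, 0, 0, 0, 0, 0, 0, 0, 0, 0, 0, 0, 0, 0, 0, 0, 0, 0, 0, 0, 0, 0, 0, 0, 0, 0, 0, 0, 0, 0, 0, 0, 0, 0, 0, 1, 0, 0, 0, 0, 1, 0, 0, 1, 0, 0, 1, 0, 0, 0, 0, 0, 0, 0, 1, 0, 0, 0, 0, 0, 0, 0, 0, 0, 0, 0, 0, 0, 0, 0, 0, 1, 0, 0, 0, 0, 0, 0, 0, 1, 0, 0, 0, 0, 0, 0, 0, 0, 0, 0, 1, 0, 0, 0, 0, 0, 0, 0, 1, 1, 0, 0, 0, 0, 0, 0, 0, 0, 1, 0, 0, 0, 0, 0, 1, 0, 0, 0, 0, 0, 0, 0, 0, 0, 0, 0, 0, 0, 0, 0, 0, 0, 0, 1, 0, 0, 0, 0, 0, 0, 0, 1, 0, 0, 0, 0, 1, 0, 1, 0, 0, 0, 0, 0, 0, 0, 1, 0, 0, 0, 0, 0, 0, 0, 1, 1, 0, 0, 1, 1, 0, 0, 0, 0, 0, 0, 0, 0, 0, 0, 0, 0, 0, 1, 0, 0, 0, 1, 0, 0, 0, 0, 0, 0, 0, 1, 0, 0, 1, 0, 0, 0, 0, 0, 0, 1, 0, 1, 0, 1, 0, 0, 0, 0, 0, 0, 1, 0, 0, 1, 0, 0, 0, 0, 0, 0, 1, 0, 1,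 0, 1, 1, 0, 0, 0, 0, 0, 0, 0, 0, 0, 0, 0, 0, 0, 0, 0, 0, 0, 0, 0, 0, 0, 0, 0, 0, 0, 0, 0, 0, 0, 0, 0, 0, 0, 0, 0, 0, 0, 0, 0, 0, 0, 0, 0, 0, 0, 0, 0, 0, 0, 0, 0, 0, 0, 0, 0, 0, 0, 0, 0, 0, 0, 0, 0, 0, 0, 0, 0, 0, 0, 0, 0, 0, 0, 0, 0, 0, 0, 0, 0, 0, 0, 0, 0, 0, 0, 0, 0, 0, 0, 1, 0, 0, 0, 1, 0, 0, 1, 0, 0, 0, 0, 0, 0, 0, 0, 0, 0, 0, 0, 0, 0, 0, 0, 0, 0],
    [0, 0, 0, 0, 0, 0, 0, 0, 0, 0, 0, 0, 0, 0, 0, 0, 0, 0, 0, 0, 0, 0, 0, 0, 0, 0, 0, 0, 0, 0, 0, 0, 0, 0, 0, 0, 0, 0, 0, 0, 0, 0, 0, 0, 0, 0, 0, 0, 0, 0, 0, 0, 0, 0, 0, 1, 0, 1, 0, 0, 1, 0, 1, 0, 1, 0, 0, 0, 1, 0, 0, 0, 0, 1, 1, 0, 0, 0, 0, 0, 0, 0, 0, 0, 0, 0, 0, 0, 0, 0, 0, 1, 0, 0, 0, 0, 1, 0, 1, 0, 1, 0, 0, 0, 1, 0, 0, 1, 0, 0, 1, 0, 0, 0, 0, 0, 0, 0, 0, 1, 0, 0, 0, 0, 0, 1, 0, 0, 0, 0, 0,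 0, 0, 1, 0, 1, 0, 0, 0, 0, 0, 1, 0, 0, 0, 0, 0, 0, 0, 0, 1, 1, 1, 1, 0, 0, 0, 0, 1, 0, 1, 1, 0, 0, 0, 0, 0, 1, 0, 1, 1, 0, 0, 1, 0, 0, 1, 0, 0, 0, 1, 0, 0, 0, 0, 1, 1, 0, 1, 0, 0, 0, 0, 0, 0, 0, 0, 0, 0, 1, 0, 0, 0, 1, 0, 0, 0, 1, 0, 0, 0, 0, 1, 0, 0, 0, 0, 1, 1, 0, 0, 0, 0, 0, 0, 0, 0, 1, 0, 1, 1, 0, 0, 1, 0, 0, 0, 0, 1, 0, 0, 0, 0, 0, 0, 0, 0, 0, 0, 1, 0, 0, 0, 0, 0, 0, 0, 0, 0, 0, 0, 0, 0, 0, 0, 0, 0, 0, 0, 0, 0, 0, 0, 0, 0, 0, 0, 0, 0, 0, 0, 0, 0, 0, 0, 0, 0, 0, 0, 0, 0, 0, 0, 0, 0, 0, 0, 0, 0, 0, 0, 0, 0, 0, 0, 0, 0, 0, 0, 0, 0, 0, 0, 0, 0, 0, 0, 0, 0, 0, 0, 0, 0, 0, 0, 0, 0, 0, 0, 0, 0, 0, 0, 0, 0, 0, 0, 0, 0, 0, 0, 0, 0, 0, 0, 1, 0, 0, 0, 0, 0, 0, 0, 0, 0, 0, 0, 0, 0, 0, 0, 0, 0, 0, 0, 0, 0],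
    [0, 0, 0, 0, 0, 0, 0, 0, 0, 0, 0, 0, 0, 0, 0, 0, 0, 0, 0, 0, 0, 0, 0, 0, 0, 0, 0, 0, 0, 0, 0, 0, 0, 0, 0, 0, 0, 0, 0, 0, 0, 0, 0, 0, 0, 0, 0, 0, 0, 0, 0, 0, 0, 0, 0, 0, 0, 0, 0, 0, 0, 0, 0, 0, 0, 1, 0, 0, 0, 0, 0, 0, 0, 0, 0, 0, 0, 1, 0, 0, 0, 0, 0, 1, 0, 0, 0, 0, 0, 0, 0, 1, 0, 0, 0, 0, 1, 0, 0, 1, 0, 1, 1, 0, 1, 1, 0, 0, 0, 0, 0, 0, 0, 1, 0, 1, 0, 0, 0, 0, 1, 0, 0, 0, 0, 1, 0, 0, 1, 0, 1, 1, 0, 1, 0, 1, 1, 0, 0, 0, 0, 0, 0, 0, 0, 0, 1, 1, 0, 1, 0, 0, 0, 1, 0, 0, 0, 0, 1, 0, 0, 1, 0, 0, 1, 0, 0, 0, 0, 0, 0, 1, 0, 0, 0, 0, 0, 0, 0, 1, 0, 1, 1, 0, 0, 1, 0, 1, 0, 0, 0, 0, 0, 0, 0, 0, 0, 0, 0, 0, 0, 1, 0, 1, 0, 1, 0, 0, 1, 1, 1, 0, 0, 0, 0, 0, 0, 0, 1, 0, 1, 0, 0, 1, 1, 0, 0, 0, 0, 0, 1, 1, 0, 0, 0, 0, 0, 0, 0, 1, 0, 0, 0, 0, 0, 1, 1, 0, 0,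 1, 1, 0, 0, 0, 0, 0, 0, 0, 0, 0, 0, 0, 0, 0, 0, 0, 0, 0, 0, 0, 0, 0, 0, 0, 0, 0, 0, 0, 0, 0, 0, 0, 0, 0, 0, 0, 0, 0, 0, 0, 0, 0, 0, 0, 0, 0, 0, 0, 0, 0, 0, 0, 0, 0, 0, 0, 0, 0, 0, 0, 0, 0, 0, 0, 0, 0, 0, 0, 0, 0, 0, 0, 0, 0, 0, 0, 0, 0, 0, 0, 0, 0, 0, 0, 0, 0, 0, 0, 0, 0, 0, 0, 1, 0, 0, 0, 1, 1, 1, 1, 0, 0, 0, 0, 0, 0, 0, 0, 0, 0, 0, 0, 0, 0, 0, 0, 0],
    [0, 0, 0, 0, 0, 0, 0, 0, 0, 0, 0, 0, 0, 0, 0, 0, 0, 0, 0, 0, 0, 0, 0, 0, 0, 0, 0, 0, 0, 0, 0, 0, 0, 0, 0, 0, 0, 0, 0, 0, 0, 0, 0, 0, 0, 0, 0, 0, 0, 0, 0, 0, 0, 0, 0, 0, 0, 0, 0, 0, 0, 0, 0, 0, 0, 0, 0, 0, 0, 0, 0, 0, 0, 0, 0, 0, 0, 1, 1, 0, 0, 0, 0, 1, 0, 0, 1, 1, 0, 0, 0, 1, 0, 1, 0, 0, 1, 0, 1, 0, 1, 0, 0, 0, 0, 1, 0, 0, 0, 0, 0, 0, 0, 0, 0, 0, 0, 0, 1, 0, 1, 0, 1, 0, 0, 0, 0, 1, 1, 0, 0,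 1, 0, 1, 0, 0, 1, 0, 0, 0, 0, 0, 0, 0, 0, 0, 0, 1, 0, 1, 0, 1, 1, 1, 0, 1, 0, 0, 1, 0, 1, 0, 1, 0, 1, 0, 0, 0, 1, 1, 1, 1, 0, 0, 0, 0, 0, 0, 0, 1, 1, 0, 0, 0, 0, 0, 1, 1, 0, 1, 0, 0, 0, 0, 0, 0, 0, 0, 1, 1, 0, 0, 0, 1, 0, 0, 0, 1, 1, 1, 1, 0, 0, 0, 0, 0, 0, 1, 0, 0, 0, 1, 0, 1, 0, 1, 0, 1, 1, 1, 1, 1, 0, 0, 0, 0, 0, 0, 1, 1, 1, 0, 1, 0, 0, 0, 0, 0, 1, 1, 0, 1, 1, 0, 0, 0, 0, 0, 0, 0, 0, 0, 0, 0, 0, 0, 0, 0, 0, 0, 0, 0, 0, 0, 0, 0, 0, 0, 0, 0, 0, 0, 0, 0, 0, 0, 0, 0, 0, 0, 0, 0, 0, 0, 0, 0, 0, 0, 0, 0, 0, 0, 0, 0, 0, 0, 0, 0, 0, 0, 0, 0, 0, 0, 0, 0, 0, 0, 0, 0, 0, 0, 0, 0, 0, 0, 0, 0, 0, 0, 0, 0, 0, 0, 0, 0, 0, 0, 0, 0, 0, 0, 0, 1, 0, 0, 1, 0, 0, 0, 0, 0, 0, 0, 0, 0, 0, 0, 0, 0, 0, 0, 0, 0, 0, 0, 0],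
    [0, 0, 0, 0, 0, 0, 0, 0, 0, 0, 0, 0, 0, 0, 0, 0, 0, 0, 0, 0, 0, 0, 0, 0, 0, 0, 0, 0, 0, 0, 0, 0, 0, 0, 0, 0, 0, 0, 0, 0, 0, 0, 0, 0, 0, 0, 0, 0, 0, 0, 0, 0, 0, 0, 0, 1, 0, 1, 0, 0, 1, 0, 1, 0, 1, 0, 1, 0, 1, 0, 0, 1, 0, 1, 0, 1, 0, 0, 0, 0, 0, 0, 0, 0, 0, 0, 0, 0, 0, 0, 0, 1, 0, 1, 0, 0, 0, 0, 0, 0, 0, 0, 0, 0, 1, 0, 0, 0, 0, 0, 1, 0, 1, 1, 0, 0, 0, 0, 0, 1, 1, 0, 1, 0, 0, 0, 0, 0, 0, 0, 0, 0, 0, 0, 1, 1, 1, 0, 0, 0, 0, 1, 0, 1, 1, 0, 0, 0, 0, 1, 1, 0, 1, 1, 0, 1, 0, 0, 0, 0, 0, 0, 0, 0, 1, 0, 0, 1, 1, 0, 1, 1, 0, 0, 0, 0, 0, 0, 1, 0, 0, 0, 0, 0, 1, 1, 1, 1, 0, 0, 1, 0, 1, 0, 0, 1, 0, 1, 0, 0, 0, 1, 0, 0, 0, 0, 0, 0, 1, 0, 0, 0, 0, 0, 0, 0, 0, 0, 0, 0, 0, 0, 0, 1, 0, 0, 1, 0, 0, 0, 0, 0, 0, 0, 0, 0, 0, 0, 0, 1, 1, 0, 0, 0, 1, 0, 0, 1, 0,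 1, 0, 0, 1, 0, 0, 0, 0, 0, 0, 0, 0, 0, 0, 0, 0, 0, 0, 0, 0, 0, 0, 0, 0, 0, 0, 0, 0, 0, 0, 0, 0, 0, 0, 0, 0, 0, 0, 0, 0, 0, 0, 0, 0, 0, 0, 0, 0, 0, 0, 0, 0, 0, 0, 0, 0, 0, 0, 0, 0, 0, 0, 0, 0, 0, 0, 0, 0, 0, 0, 0, 0, 0, 0, 0, 0, 0, 0, 0, 0, 0, 0, 0, 0, 0, 0, 0, 0, 0, 0, 0, 0, 0, 0, 0, 1, 0, 0, 0, 1, 1, 0, 0, 0, 0, 0, 0, 0, 0, 0, 0, 0, 0, 0, 0, 0, 0, 0],
    [1, 0, 0, 0, 0, 0, 1, 0, 0, 1, 0, 0, 0, 0, 0, 0, 0, 0, 0, 0, 0, 0, 0, 0, 0, 0, 0, 0, 0, 0, 0, 0, 0, 0, 0, 0, 1, 0, 0, 1, 0, 0, 0, 0, 0, 0, 0, 0, 0, 0, 0, 0, 0, 1, 1, 0, 0, 0, 0, 0, 0, 0, 0, 0, 0, 0, 0, 0, 0, 0, 0, 0, 0, 0, 0, 0, 0, 0, 0, 0, 0, 0, 0, 0, 0, 0, 0, 0, 0, 0, 0, 0, 0, 0, 0, 0, 0, 0, 0, 0, 0, 0, 0, 0, 0, 1, 0, 0, 1, 0, 0, 0, 0, 0, 0, 0, 0, 0, 0, 0, 0, 0, 0, 0, 0, 0, 0, 0, 0, 0, 0,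 0, 0, 0, 0, 0, 0, 0, 0, 0, 0, 0, 0, 0, 1, 0, 0, 0, 0, 0, 1, 0, 1, 0, 0, 0, 0, 0, 0, 0, 0, 0, 0, 0, 0, 0, 0, 0, 0, 0, 0, 1, 0, 0, 1, 0, 0, 0, 0, 1, 0, 0, 0, 0, 0, 1, 0, 0, 0, 1, 0, 0, 0, 0, 0, 0, 0, 0, 1, 0, 0, 0, 0, 0, 1, 0, 1, 0, 0, 1, 0, 0, 0, 0, 0, 0, 0, 0, 0, 0, 0, 0, 0, 0, 0, 0, 0, 0, 0, 0, 0, 0, 0, 0, 0, 0, 0, 0, 0, 0, 0, 0, 0, 0, 0, 1, 0, 0, 0, 1, 0, 0, 1, 0, 0, 0, 0, 0, 0, 0, 0, 0, 0, 0, 0, 0, 0, 0, 0, 0, 0, 0, 0, 0, 0, 0, 0, 0, 0, 0, 0, 0, 0, 0, 0, 0, 0, 0, 0, 0, 0, 0, 0, 0, 0, 0, 0, 0, 0, 0, 0, 0, 0, 0, 0, 0, 0, 0, 0, 0, 0, 0, 0, 0, 0, 0, 0, 0, 0, 0, 0, 0, 0, 0, 0, 0, 0, 0, 0, 0, 0, 0, 0, 0, 0, 0, 0, 0, 0, 0, 0, 0, 0, 0, 0, 0, 0, 0, 0, 0, 0, 0, 0, 0, 0, 0, 0, 1, 0, 0, 0, 0, 0, 0, 0, 1, 1],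
    [0, 1, 0, 0, 0, 1, 0, 1, 1, 0, 0, 0, 0, 0, 0, 0, 0, 1, 0, 1, 1, 0, 0, 0, 0, 0, 0, 0, 0, 0, 0, 0, 0, 0, 0, 0, 0, 0, 1, 0, 1, 1, 0, 0, 0, 0, 0, 1, 0, 1, 0, 0, 0, 0, 0, 0, 0, 0, 0, 0, 0, 0, 0, 0, 0, 0, 0, 0, 0, 0, 0, 0, 0, 0, 0, 0, 0, 0, 0, 0, 1, 0, 1, 1, 0, 0, 0, 1, 0, 0, 0, 0, 0, 0, 0, 0, 0, 0, 0, 0, 0, 0, 0, 0, 0, 0, 0, 1, 0, 1, 1, 0, 0, 0, 0, 0, 0, 0, 0, 0, 0, 0, 1, 0, 0, 1, 0, 0, 0, 1, 0, 0, 0, 0, 0, 1, 0, 1, 1, 0, 0, 1, 0, 0, 0, 1, 0, 0, 0, 0, 0, 0, 0, 0, 0, 0, 0, 0, 0, 0, 0, 0, 0, 0, 0, 0, 0, 0, 0, 0, 0, 0, 1, 1, 0, 1, 1, 0, 0, 0, 0, 0, 0, 0, 0, 0, 1, 1, 0, 0, 0, 1, 1, 0, 1, 0, 0, 0, 0, 0, 0, 0, 1, 0, 0, 0, 1, 0, 1, 0, 0, 0, 1, 0, 0, 1, 0, 0, 0, 0, 0, 0, 0, 0, 0, 0, 0, 0, 1, 1, 1, 0, 0, 1, 0, 0, 1, 0, 0, 0, 0, 0, 0, 0, 0, 0, 1, 1, 0,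 0, 0, 0, 1, 0, 0, 0, 0, 0, 0, 0, 0, 0, 0, 0, 0, 0, 0, 0, 0, 0, 0, 0, 0, 0, 0, 0, 0, 0, 0, 0, 0, 0, 0, 0, 0, 0, 0, 0, 0, 0, 0, 0, 0, 0, 0, 0, 0, 0, 0, 0, 0, 0, 0, 0, 0, 0, 0, 0, 0, 0, 0, 0, 0, 0, 0, 0, 0, 0, 0, 0, 0, 0, 0, 0, 0, 0, 0, 0, 0, 0, 0, 0, 0, 0, 0, 0, 0, 0, 0, 0, 0, 0, 0, 0, 0, 0, 0, 0, 0, 0, 0, 0, 1, 1, 0, 0, 0, 0, 1, 0, 1, 0, 0, 0, 1, 1, 1],
    [0, 0, 0, 1, 0, 0, 0, 0, 1, 0, 1, 0, 0, 1, 0, 0, 0, 0, 1, 1, 0, 0, 0, 0, 0, 0, 0, 0, 0, 0, 0, 0, 0, 0, 0, 0, 0, 0, 1, 0, 1, 1, 0, 0, 0, 0, 0, 0, 0, 0, 0, 0, 0, 1, 0, 0, 0, 0, 0, 0, 0, 0, 0, 0, 0, 0, 0, 0, 0, 0, 0, 0, 0, 0, 0, 0, 0, 0, 1, 0, 0, 1, 0, 0, 0, 0, 0, 0, 0, 0, 0, 0, 0, 0, 0, 0, 0, 0, 0, 0, 0, 0, 0, 0, 0, 0, 0, 1, 1, 1, 1, 0, 0, 0, 1, 0, 0, 0, 0, 1, 0, 0, 0, 0, 0, 0, 0, 0, 0, 0, 0,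 0, 0, 0, 0, 0, 0, 0, 0, 0, 1, 1, 0, 0, 1, 1, 0, 0, 0, 0, 0, 0, 0, 0, 0, 0, 0, 0, 0, 0, 0, 0, 0, 0, 0, 0, 0, 0, 0, 0, 0, 0, 0, 1, 1, 1, 0, 0, 0, 0, 0, 0, 0, 1, 0, 1, 0, 0, 0, 1, 1, 0, 0, 1, 0, 1, 0, 0, 1, 1, 0, 0, 1, 0, 1, 0, 0, 0, 0, 0, 0, 0, 0, 1, 1, 0, 0, 0, 0, 0, 0, 0, 0, 0, 0, 0, 0, 0, 1, 0, 1, 0, 0, 0, 1, 1, 0, 0, 0, 0, 0, 0, 0, 0, 0, 0, 0, 0, 0, 1, 0, 1, 1, 0, 0, 0, 0, 0, 0, 0, 0, 0, 0, 0, 0, 0, 0, 0, 0, 0, 0, 0, 0, 0, 0, 0, 0, 0, 0, 0, 0, 0, 0, 0, 0, 0, 0, 0, 0, 0, 0, 0, 0, 0, 0, 0, 0, 0, 0, 0, 0, 0, 0, 0, 0, 0, 0, 0, 0, 0, 0, 0, 0, 0, 0, 0, 0, 0, 0, 0, 0, 0, 0, 0, 0, 0, 0, 0, 0, 0, 0, 0, 0, 0, 0, 0, 0, 0, 0, 0, 0, 0, 0, 0, 0, 0, 0, 0, 0, 0, 0, 0, 0, 0, 0, 0, 0, 0, 0, 0, 0, 0, 0, 0, 1, 0, 0],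
    [0, 0, 0, 0, 0, 1, 0, 0, 0, 0, 0, 0, 1, 0, 1, 0, 0, 0, 0, 0, 1, 0, 0, 0, 0, 0, 0, 0, 0, 0, 0, 0, 0, 0, 0, 0, 0, 0, 0, 0, 0, 0, 0, 0, 0, 0, 0, 0, 0, 0, 1, 0, 0, 0, 1, 0, 0, 0, 0, 0, 0, 0, 0, 0, 0, 0, 0, 0, 0, 0, 0, 0, 0, 0, 0, 0, 0, 0, 0, 0, 1, 0, 1, 1, 0, 0, 0, 1, 0, 0, 0, 0, 0, 0, 0, 0, 0, 0, 0, 0, 0, 0, 0, 0, 0, 0, 0, 0, 0, 0, 0, 0, 0, 0, 0, 0, 0, 0, 0, 0, 0, 0, 0, 0, 1, 0, 0, 0, 0, 0, 0, 0, 0, 0, 0, 1, 0, 0, 0, 0, 0, 0, 0, 0, 0, 1, 0, 0, 0, 0, 0, 1, 0, 0, 0, 0, 0, 0, 0, 0, 0, 0, 0, 0, 0, 0, 0, 0, 0, 0, 0, 0, 0, 0, 0, 0, 0, 0, 0, 0, 0, 0, 0, 0, 0, 0, 0, 0, 0, 0, 0, 0, 1, 0, 1, 0, 0, 0, 0, 0, 0, 0, 1, 0, 0, 0, 0, 0, 0, 1, 0, 0, 0, 0, 0, 0, 0, 0, 0, 0, 0, 0, 0, 0, 0, 0, 0, 0, 0, 0, 0, 0, 0, 0, 0, 0, 0, 0, 0, 0, 0, 0, 0, 0, 0, 0, 0, 0, 0,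 0, 0, 0, 0, 0, 0, 0, 0, 0, 0, 0, 0, 0, 0, 0, 0, 0, 0, 0, 0, 0, 0, 0, 0, 0, 0, 0, 0, 0, 0, 0, 0, 0, 0, 0, 0, 0, 0, 0, 0, 0, 0, 0, 0, 0, 0, 0, 0, 0, 0, 0, 0, 0, 0, 0, 0, 0, 0, 0, 0, 0, 0, 0, 0, 0, 0, 0, 0, 0, 0, 0, 0, 0, 0, 0, 0, 0, 0, 0, 0, 0, 0, 0, 0, 0, 0, 0, 0, 0, 0, 0, 0, 0, 0, 0, 0, 0, 0, 0, 0, 0, 0, 0, 0, 0, 0, 0, 0, 0, 0, 0, 0, 1, 0, 0, 0, 0, 0]]

/-- part of the exponents -/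
def twoVecs28 : List (List ℤ) :=
  [[0, 0, 0, 0, 0, 0, 0, 0, 0, 0, 0, 0, 0, 0, 0, 0, 0, 0, 0, 0, 0, 1, 0, 0, 1, 0, 0, 0, 0, 0, 0, 1, 0, 0, 0, 1, 0, 0, 0, 0, 0, 0, 0, 0, 0, 0, 0, 0, 0, 0, 0, 0, 0, 0, 0, 0, 0, 0, 0, 0, 0, 0, 0, 0, 0, 0, 0, 0, 0, 0, 0, 0, 0, 0, 0, 0, 0, 0, 0, 0, 0, 0, 0, 0, 0, 0, 0, 0, 0, 0, 0, 0, 0, 0, 0, 0, 0, 0, 0, 0, 0, 0, 0, 0, 0, 0, 0, 0, 0, 0, 0, 0, 0, 0, 0, 0, 0, 0, 0, 0, 0, 0, 0, 0, 0, 0, 0, 0, 0, 0, 0, 0, 0, 0, 0, 0, 0, 0, 0, 0, 0, 0, 1, 0, 0, 0, 0, 0, 0, 0, 0, 0, 0, 0, 0, 0, 0, 0, 0, 0, 0, 0, 0, 0, 0, 0, 0, 0, 0, 0, 0, 0, 0, 0, 0, 0, 0, 1, 0, 0, 0, 0, 0, 0, 0, 0, 0, 1, 0, 0, 0, 0, 0, 0, 0, 0, 1, 0, 0, 0, 0, 0, 0, 0, 0, 0, 1, 0, 0, 0, 0, 0, 0, 0, 0, 0, 0, 0, 0, 0, 0, 0, 0, 0, 0, 0, 0, 0, 0, 0, 0, 0, 0, 0, 0, 0, 0, 0,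 0, 0, 0, 0, 0, 0, 0, 0, 0, 0, 0, 0, 0, 0, 0, 0, 0, 0, 0, 0, 0, 0, 0, 0, 0, 0, 0, 0, 0, 0, 0, 0, 0, 0, 0, 0, 0, 0, 0, 0, 0, 0, 0, 0, 0, 0, 0, 0, 0, 0, 0, 0, 0, 0, 0, 0, 0, 0, 0, 0, 0, 0, 0, 0, 0, 0, 0, 0, 0, 0, 0, 0, 0, 0, 0, 0, 0, 0, 0, 0, 0, 0, 0, 0, 0, 0, 0, 0, 0, 0, 0, 0, 0, 0, 0, 0, 0, 0, 0, 0, 0, 0, 0, 0, 0, 0, 0, 0, 0, 0, 0, 0, 0, 0, 0, 0, 0, 0, 0, 0, 0, 0, 0, 0, 0, 1, 1, 0, 0],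
    [0, 0, 0, 0, 0, 0, 0, 0, 0, 0, 0, 0, 0, 0, 0, 0, 0, 0, 0, 0, 0, 0, 0, 0, 0, 0, 0, 0, 0, 0, 0, 0, 0, 0, 0, 0, 0, 0, 0, 0, 0, 0, 0, 0, 0, 0, 0, 0, 0, 0, 0, 0, 0, 0, 0, 0, 0, 0, 0, 0, 0, 0, 0, 0, 0, 0, 0, 0, 0, 0, 0, 0, 0, 0, 0, 0, 0, 0, 0, 0, 0, 0, 0, 0, 0, 0, 0, 0, 0, 0, 0, 0, 0, 0, 0, 0, 0, 0, 0, 0, 0, 0, 0, 0, 0, 0, 0, 0, 0, 0, 0, 0, 0, 0, 0, 0, 0, 0, 0, 0, 0, 0, 0, 0, 0, 0, 0, 0, 0, 0, 0, 0, 0, 0, 0, 0, 0, 0, 0, 0, 0, 0, 0, 0, 0, 0, 0, 0, 0, 0, 0, 0, 0, 0, 0, 0, 0, 0, 0, 0, 0, 0, 0, 0, 0, 0, 0, 0, 0, 0, 0, 0, 0, 0, 0, 0, 0, 0, 0, 0, 0, 0, 0, 0, 0, 0, 0, 0, 0, 0, 0, 0, 0, 0, 0, 0, 0, 0, 0, 0, 0, 0, 0, 0, 0, 0, 0, 0, 0, 0, 0, 0, 0, 0, 0, 0, 0, 0, 0, 0, 0, 0, 0, 0, 0, 0, 0, 0, 0, 0, 0, 0, 0, 0, 0, 0, 0, 0, 0, 0, 0, 0, 0, 0, 0, 0, 0, 0, 0,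 0, 0, 0, 0, 0, 0, 0, 0, 0, 0, 0, 0, 0, 0, 0, 0, 0, 0, 0, 0, 0, 0, 0, 0, 0, 0, 0, 0, 0, 0, 0, 0, 0, 0, 0, 0, 0, 0, 0, 0, 0, 0, 0, 0, 0, 0, 0, 0, 0, 0, 0, 0, 0, 0, 0, 0, 0, 0, 0, 0, 0, 0, 0, 0, 0, 0, 0, 0, 0, 0, 0, 0, 0, 0, 0, 0, 0, 0, 0, 0, 0, 0, 0, 0, 0, 0, 0, 0, 0, 0, 0, 0, 0, 0, 0, 0, 0, 0, 0, 0, 0, 0, 0, 0, 0, 0, 0, 0, 1, 0, 0, 0, 0, 0, 0, 0, 0, 0],
    [0, 0, 0, 0, 0, 0, 0, 0, 0, 0, 0, 0, 0, 0, 0, 0, 0, 0, 0, 0, 0, 0, 0, 0, 0, 0, 0, 0, 0, 0, 0, 0, 0, 0, 0, 0, 0, 0, 0, 0, 0, 0, 0, 0, 0, 0, 0, 0, 0, 0, 0, 0, 0, 0, 0, 0, 0, 0, 0, 0, 0, 0, 0, 0, 0, 0, 0, 0, 0, 0, 0, 0, 0, 0, 0, 0, 0, 0, 0, 0, 0, 0, 0, 0, 0, 0, 0, 0, 0, 0, 0, 0, 0, 0, 0, 0, 0, 0, 0, 0, 0, 0, 0, 0, 0, 0, 0, 0, 0, 0, 0, 0, 0, 0, 0, 0, 0, 0, 0, 0, 0, 0, 0, 0, 0, 0, 0, 0, 0, 0, 0,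 0, 0, 0, 0, 0, 0, 0, 0, 0, 0, 0, 0, 0, 0, 0, 0, 0, 0, 0, 0, 0, 0, 0, 0, 0, 0, 0, 0, 0, 0, 0, 0, 0, 0, 0, 0, 0, 0, 0, 0, 0, 0, 0, 0, 0, 0, 0, 0, 0, 0, 0, 0, 0, 0, 0, 0, 0, 0, 0, 0, 0, 0, 0, 0, 0, 0, 0, 0, 0, 0, 0, 0, 0, 0, 0, 0, 0, 0, 0, 0, 0, 0, 0, 0, 0, 0, 0, 0, 0, 0, 0, 0, 0, 0, 0, 0, 0, 0, 0, 0, 0, 0, 0, 0, 0, 0, 0, 0, 0, 0, 0, 0, 0, 0, 0, 0, 0, 0, 0, 0, 0, 0, 0, 0, 0, 0, 0, 0, 0, 0, 0, 0, 0, 0, 0, 0, 0, 0, 0, 0, 0, 0, 0, 0, 0, 0, 0, 0, 0, 0, 0, 0, 0, 0, 0, 0, 0, 0, 0, 0, 0, 0, 0, 0, 0, 0, 0, 0, 0, 0, 0, 0, 0, 0, 0, 0, 0, 0, 0, 0, 0, 0, 0, 0, 0, 0, 0, 0, 0, 0, 0, 0, 0, 0, 0, 0, 0, 0, 0, 0, 0, 0, 0, 0, 0, 0, 0, 0, 0, 0, 0, 0, 0, 0, 0, 0, 0, 0, 0, 0, 0, 0, 0, 0, 0, 1, 0, 0, 0, 0, 0, 0, 0, 0, 0, 0],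
    [0, 0, 0, 0, 0, 0, 0, 0, 0, 0, 0, 0, 0, 0, 0, 0, 0, 0, 0, 0, 0, 0, 0, 0, 0, 0, 0, 0, 0, 0, 1, 0, 1, 1, 0, 0, 0, 0, 0, 0, 0, 0, 0, 0, 0, 0, 0, 0, 0, 0, 1, 0, 1, 0, 1, 0, 0, 0, 0, 0, 0, 0, 0, 0, 0, 0, 0, 0, 0, 0, 0, 0, 0, 0, 0, 0, 0, 0, 0, 0, 0, 0, 0, 0, 0, 0, 0, 1, 0, 0, 0, 0, 0, 0, 0, 0, 0, 0, 0, 0, 0, 0, 0, 0, 0, 0, 0, 0, 0, 0, 0, 0, 0, 0, 0, 0, 0, 0, 0, 0, 0, 0, 0, 0, 0, 0, 0, 0, 0, 0, 0, 0, 0, 0, 0, 0, 0, 0, 0, 0, 0, 0, 0, 1, 0, 1, 0, 0, 0, 0, 0, 0, 0, 0, 0, 0, 0, 0, 0, 0, 0, 0, 0, 0, 0, 0, 0, 0, 0, 0, 0, 0, 0, 0, 0, 0, 0, 0, 0, 0, 1, 0, 0, 0, 0, 0, 0, 1, 0, 0, 0, 0, 0, 0, 0, 0, 0, 1, 0, 0, 0, 0, 0, 0, 0, 0, 1, 0, 1, 0, 0, 0, 0, 0, 0, 0, 0, 0, 0, 0, 0, 0, 0, 0, 0, 0, 1, 0, 0, 1, 0, 0, 0, 0, 0, 0, 0, 0, 0, 0, 0, 0, 0, 0, 0, 0, 0, 0, 0,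 0, 0, 0, 0, 0, 0, 0, 0, 0, 0, 0, 0, 0, 0, 0, 0, 0, 0, 0, 0, 0, 0, 0, 0, 0, 0, 0, 0, 0, 0, 0, 0, 0, 0, 0, 0, 0, 0, 0, 0, 0, 0, 0, 0, 0, 0, 0, 0, 0, 0, 0, 0, 0, 0, 0, 0, 0, 0, 0, 0, 0, 0, 0, 0, 0, 0, 0, 0, 0, 0, 0, 0, 0, 0, 0, 0, 0, 0, 0, 0, 0, 0, 0, 0, 0, 0, 0, 0, 0, 0, 0, 0, 0, 0, 0, 0, 0, 0, 0, 0, 0, 0, 0, 0, 0, 0, 0, 0, 0, 0, 0, 0, 0, 0, 1, 1, 1, 0],
    [0, 1, 0, 0, 0, 1, 0, 1, 1, 0, 0, 0, 0, 0, 0, 0, 0, 0, 0, 1, 1, 0, 0, 0, 0, 0, 0, 0, 0, 0, 0, 0, 0, 0, 0, 0, 0, 0, 0, 0, 0, 0, 0, 0, 0, 0, 1, 1, 0, 1, 1, 0, 0, 0, 1, 0, 0, 0, 0, 0, 0, 0, 0, 0, 0, 0, 0, 0, 0, 0, 0, 0, 0, 0, 0, 0, 0, 0, 0, 0, 0, 0, 0, 0, 0, 0, 0, 0, 0, 0, 0, 0, 0, 0, 0, 0, 0, 0, 0, 0, 0, 0, 0, 0, 0, 0, 0, 1, 0, 1, 1, 0, 0, 0, 0, 0, 0, 0, 0, 0, 0, 0, 0, 0, 0, 0, 0, 0, 0, 1, 0,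 0, 0, 0, 0, 0, 0, 1, 1, 0, 0, 0, 0, 0, 0, 0, 0, 0, 0, 0, 0, 0, 1, 0, 0, 0, 0, 0, 0, 0, 0, 0, 0, 0, 0, 0, 0, 0, 0, 0, 0, 0, 1, 1, 0, 1, 1, 0, 0, 0, 0, 0, 0, 0, 0, 0, 1, 0, 0, 0, 0, 1, 1, 0, 1, 1, 0, 0, 0, 0, 0, 0, 0, 0, 0, 1, 0, 0, 1, 0, 0, 0, 0, 0, 1, 0, 0, 0, 0, 0, 0, 0, 0, 0, 0, 0, 1, 0, 1, 0, 1, 0, 0, 0, 0, 1, 0, 0, 0, 0, 0, 0, 0, 0, 0, 0, 0, 0, 0, 0, 1, 1, 1, 0, 0, 0, 0, 0, 0, 0, 0, 0, 0, 0, 0, 0, 0, 0, 0, 0, 0, 0, 0, 0, 0, 0, 0, 0, 0, 0, 0, 0, 0, 0, 0, 0, 0, 0, 0, 0, 0, 0, 0, 0, 0, 0, 0, 0, 0, 0, 0, 0, 0, 0, 0, 0, 0, 0, 0, 0, 0, 0, 0, 0, 0, 0, 0, 0, 0, 0, 0, 0, 0, 0, 0, 0, 0, 0, 0, 0, 0, 0, 0, 0, 0, 0, 0, 0, 0, 0, 0, 0, 0, 0, 0, 0, 0, 0, 0, 0, 0, 0, 0, 0, 0, 0, 0, 0, 0, 0, 1, 1, 0, 0, 1, 1, 0],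
    [0, 0, 0, 0, 0, 0, 0, 0, 0, 0, 0, 0, 0, 0, 0, 0, 0, 0, 0, 0, 0, 0, 1, 0, 0, 0, 0, 0, 0, 0, 0, 0, 0, 0, 0, 0, 0, 0, 0, 0, 0, 0, 0, 0, 0, 0, 0, 0, 0, 0, 0, 0, 0, 0, 0, 0, 0, 0, 0, 0, 0, 0, 0, 0, 0, 0, 0, 0, 0, 0, 0, 0, 0, 0, 0, 0, 0, 0, 0, 0, 0, 0, 0, 0, 0, 0, 0, 0, 0, 0, 0, 0, 0, 0, 0, 0, 0, 0, 0, 0, 0, 0, 0, 0, 0, 0, 0, 0, 0, 0, 0, 0, 0, 0, 0, 0, 0, 0, 0, 0, 0, 0, 0, 0, 0, 0, 0, 0, 0, 0, 0, 0, 0, 0, 0, 0, 0, 0, 0, 0, 0, 0, 0, 0, 0, 0, 0, 0, 0, 0, 0, 0, 0, 0, 0, 0, 0, 0, 0, 0, 0, 0, 1, 0, 0, 0, 0, 0, 0, 0, 0, 0, 0, 0, 0, 0, 0, 0, 0, 0, 0, 0, 0, 0, 0, 0, 0, 0, 0, 0, 0, 0, 0, 0, 0, 0, 0, 0, 0, 0, 0, 0, 0, 0, 0, 0, 0, 0, 0, 0, 0, 0, 0, 0, 0, 0, 0, 0, 0, 0, 0, 0, 0, 0, 0, 0, 0, 0, 0, 0, 0, 0, 1, 0, 0, 0, 0, 0, 0, 0, 1, 0, 0, 0, 0, 0, 0, 0, 0,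 0, 0, 0, 1, 0, 0, 0, 0, 0, 0, 0, 0, 0, 0, 0, 0, 0, 0, 0, 0, 0, 0, 0, 0, 0, 0, 0, 0, 0, 0, 0, 0, 0, 0, 0, 0, 0, 0, 0, 0, 0, 0, 0, 0, 0, 0, 0, 0, 0, 0, 0, 0, 0, 0, 0, 0, 0, 0, 0, 0, 0, 0, 0, 0, 0, 0, 0, 0, 0, 0, 0, 0, 0, 0, 0, 0, 0, 0, 0, 0, 0, 0, 0, 0, 0, 0, 0, 0, 0, 0, 0, 0, 0, 0, 0, 0, 0, 0, 0, 0, 0, 0, 0, 0, 0, 0, 0, 0, 0, 0, 0, 0, 0, 0, 0, 0, 1, 1]]

/-- the exponents -/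
def twoVecs : List (List ℤ) := twoVecs0 ++ twoVecs1 ++ twoVecs2 ++ twoVecs3 ++ twoVecs4 ++ twoVecs5 ++ twoVecs6 ++ twoVecs7 ++ twoVecs8 ++ twoVecs9 ++ twoVecs10 ++ twoVecs11 ++ twoVecs12 ++ twoVecs13 ++ twoVecs14 ++ twoVecs15 ++ twoVecs16 ++ twoVecs17 ++ twoVecs18 ++ twoVecs19 ++ twoVecs20 ++ twoVecs21 ++ twoVecs22 ++ twoVecs23 ++ twoVecs24 ++ twoVecs25 ++ twoVecs26 ++ twoVecs27 ++ twoVecs28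

/-- part of the change of lifts -/
def twoGauge0 : List (List (ℕ × ℤ)) :=
  [[],
    [],
    [(1, 1)],
    [],
    [(7, 1)],
    [(10, 1)],
    [],
    [(24, 1)],
    [(29, 1)],
    [(39, 1)]]

/-- part of the change of lifts -/
def twoGauge1 : List (List (ℕ × ℤ)) :=
  [[],
    [(56, 1), (97, 1), (156, 1)],
    [(66, 1), (69, 1), (94, 1), (106, 1), (120, 1), (156, 1), (172, 1)],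
    [(66, 1), (97, 1)],
    [(94, 1), (120, 1), (172, 1)],
    [(106, 1), (120, 1), (172, 1)],
    [(120, 1), (193, 1)],
    [(97, 1)],
    [(156, 1), (172, 1)],
    [(172, 1), (216, 1)]]

/-- part of the change of lifts -/
def twoGauge2 : List (List (ℕ × ℤ)) :=
  [[(193, 1), (216, 1)],
    [(216, 1)],
    [],
    [],
    [],
    [],
    [],
    [],
    [],
    []]

/-- the change of lifts -/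
def twoGauge : List (List (ℕ × ℤ)) := twoGauge0 ++ twoGauge1 ++ twoGauge2

/-- part of the combinations -/
def twoCombs0 : List (List (ℕ × ℤ)) :=
  [[(4, 1), (6, 1), (7, 1), (12, 1), (20, 1), (23, 1), (24, 1), (25, 1), (26, 1), (29, 1), (30, 1), (34, 1), (36, 1), (40, 1), (41, 1), (42, 1), (45, 1), (47, 1), (48, 1), (54, 1), (59, 1), (60, 1), (63, 1), (65, 1), (71, 1), (73, 1), (83, 1), (85, 1), (87, 1), (89, 1), (90, 1), (91, 1), (92, 1), (101, 1), (105, 1), (106, 1), (108, 1), (110, 1), (111, 1), (113, 1), (114, 1), (116, 1), (117, 1), (119, 1), (120, 1), (121, 1), (122, 1), (125, 1), (128, 1), (130, 1), (131, 1), (136, 1), (139, 1), (145, 1), (148, 1), (155, 1), (156, 1), (157, 1), (163, 1), (166, 1), (168, 1), (171, 1), (172, 1), (174, 1),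 (182, 1), (186, 1), (190, 1), (194, 1), (196, 1), (198, 1), (207, 1), (216, 1), (218, 1), (230, 1), (232, 1), (235, 1), (239, 1)],
    [],
    [(2, 1), (4, 1), (7, 1), (10, 1), (12, 1), (16, 1), (21, 1), (23, 1), (24, 1), (25, 1), (26, 1), (29, 1), (30, 1), (34, 1), (36, 1), (40, 1), (41, 1), (42, 1), (45, 1), (47, 1), (48, 1), (54, 1), (56, 1), (63, 1), (65, 1), (71, 1), (73, 1), (83, 1), (85, 1), (87, 1), (89, 1), (90, 1), (91, 1), (92, 1), (101, 1), (105, 1), (106, 1), (108, 1), (110, 1), (111, 1), (113, 1), (114, 1), (116, 1), (117, 1), (119, 1), (120, 1), (121, 1), (122, 1), (125, 1), (128, 1), (130, 1), (131, 1), (136, 1), (139, 1), (145, 1), (148, 1), (155, 1), (156, 1), (157, 1), (163, 1), (166, 1), (168, 1), (171, 1), (172, 1), (174,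 1), (182, 1), (186, 1), (190, 1), (194, 1), (196, 1), (198, 1), (207, 1), (216, 1), (218, 1), (230, 1), (232, 1), (235, 1), (249, 1)],
    [(3, 1), (4, 1), (6, 1), (7, 1), (8, 1), (11, 1), (19, 1), (20, 1), (21, 1), (23, 1), (26, 1), (31, 1), (42, 1), (44, 1), (51, 1), (52, 1), (55, 1), (56, 1), (58, 1), (60, 1), (68, 1), (74, 1), (89, 1), (90, 1), (92, 1), (94, 1), (97, 1), (101, 1), (111, 1), (114, 1), (116, 1), (119, 1), (124, 1), (150, 1), (157, 1), (160, 1), (169, 1), (170, 1), (175, 1), (180, 1), (189, 1), (229, 1), (231, 1), (239, 1), (240, 1), (268, 1)],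
    [(0, 1), (1, 1), (3, 1), (4, 1), (6, 1), (7, 1), (8, 1), (11, 1), (19, 1), (20, 1), (21, 1), (23, 1), (26, 1), (31, 1), (42, 1), (44, 1), (51, 1), (52, 1), (55, 1), (56, 1), (58, 1), (60, 1), (68, 1), (74, 1), (89, 1), (90, 1), (92, 1), (94, 1), (97, 1), (101, 1), (111, 1), (114, 1), (116, 1), (119, 1), (124, 1), (150, 1), (157, 1), (160, 1), (169, 1), (170, 1), (175, 1), (180, 1), (189, 1), (229, 1), (231, 1), (239, 1), (240, 1), (268, 1)],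
    [(0, 1), (3, 1), (4, 1), (6, 1), (7, 1), (8, 1), (11, 1), (19, 1), (20, 1), (21, 1), (23, 1), (26, 1), (31, 1), (42, 1), (44, 1), (51, 1), (52, 1), (55, 1), (56, 1), (58, 1), (60, 1), (68, 1), (74, 1), (89, 1), (90, 1), (92, 1), (94, 1), (97, 1), (101, 1), (111, 1), (114, 1), (116, 1), (119, 1), (124, 1), (150, 1), (157, 1), (160, 1), (169, 1), (170, 1), (175, 1), (180, 1), (189, 1), (229, 1), (231, 1), (239, 1), (240, 1), (268, 1)],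
    [(18, 1), (20, 1), (21, 1), (23, 1), (24, 1), (25, 1), (26, 1), (29, 1), (30, 1), (34, 1), (36, 1), (40, 1), (41, 1), (42, 1), (45, 1), (47, 1), (48, 1), (54, 1), (55, 1), (57, 1), (61, 1), (63, 1), (65, 1), (71, 1), (73, 1), (83, 1), (85, 1), (87, 1), (89, 1), (90, 1), (91, 1), (92, 1), (101, 1), (105, 1), (106, 1), (108, 1), (110, 1), (111, 1), (113, 1), (114, 1), (116, 1), (117, 1), (119, 1), (120, 1), (121, 1), (122, 1), (125, 1), (128, 1), (130, 1), (131, 1), (136, 1), (139, 1), (145, 1), (148, 1), (155, 1), (156, 1), (157, 1), (160, 1), (163, 1), (166, 1), (168, 1), (171, 1), (172, 1), (174, 1), (182, 1), (186, 1), (190, 1), (194, 1), (196, 1), (198, 1), (207, 1), (216, 1), (218, 1), (230, 1), (232, 1), (235, 1), (240, 1)],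
    [],
    [(2, 1), (4, 1), (10, 1), (12, 1), (17, 1), (21, 1), (30, 1), (32, 1), (33, 1), (34, 1), (35, 1), (36, 1), (38, 1), (42, 1), (46, 1), (47, 1), (50, 1), (56, 1), (60, 1), (63, 1), (64, 1), (69, 1), (85, 1), (88, 1), (89, 1), (94, 1), (97, 1), (100, 1), (101, 1), (102, 1), (103, 1), (111, 1), (112, 1), (113, 1), (115, 1), (116, 1), (118, 1), (119, 1), (126, 1), (128, 1), (130, 1), (131, 1), (138, 1), (141, 1), (147, 1), (148, 1), (151, 1), (163, 1), (174, 1), (183, 1), (188, 1), (194, 1), (197, 1), (200, 1), (230, 1), (231, 1), (232, 1), (235, 1), (236, 1), (237, 1), (238, 1)],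
    [(6, 1), (25, 1), (28, 1), (40, 1), (41, 1), (42, 1), (44, 1), (45, 1), (46, 1), (48, 1), (52, 1), (55, 1), (70, 1), (73, 1), (74, 1), (83, 1), (88, 1), (90, 1), (91, 1), (99, 1), (107, 1), (115, 1), (120, 1), (121, 1), (123, 1), (136, 1), (139, 1), (144, 1), (146, 1), (155, 1), (159, 1), (180, 1), (233, 1)],
    [],
    [(2, 1), (4, 1), (23, 1), (24, 1), (25, 1), (26, 1), (29, 1), (30, 1), (34, 1), (36, 1), (40, 1), (41, 1), (42, 1), (45, 1), (47, 1), (48, 1), (54, 1), (63, 1), (65, 1), (71, 1), (73, 1), (83, 1), (85, 1), (87, 1), (89, 1), (90, 1), (91, 1), (92, 1), (101, 1), (105, 1), (106, 1), (108, 1), (110, 1), (111, 1), (113, 1), (114, 1), (116, 1), (117, 1), (119, 1), (120, 1), (121, 1), (122, 1), (125, 1), (130, 1), (131, 1), (136,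 1), (139, 1), (145, 1), (148, 1), (155, 1), (156, 1), (157, 1), (163, 1), (166, 1), (168, 1), (171, 1), (172, 1), (174, 1), (182, 1), (186, 1), (190, 1), (194, 1), (196, 1), (198, 1), (207, 1), (216, 1), (218, 1), (230, 1), (232, 1), (235, 1)],
    [(2, 1), (4, 1), (6, 1), (7, 1), (10, 1), (12, 1), (17, 1), (21, 1), (30, 1), (32, 1), (33, 1), (34, 1), (35, 1), (36, 1), (38, 1), (42, 1), (46, 1), (47, 1), (50, 1), (55, 1), (56, 1), (60, 1), (63, 1), (64, 1), (69, 1), (85, 1), (88, 1), (89, 1), (94, 1), (97, 1), (100, 1), (101, 1), (102, 1), (103, 1), (111, 1), (112, 1), (113, 1), (115, 1), (116, 1), (118, 1), (119, 1), (126, 1), (128, 1), (130, 1), (131, 1), (138, 1), (141, 1), (147, 1), (148, 1), (163, 1), (174, 1), (183, 1), (188, 1), (194,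 1), (197, 1), (200, 1), (230, 1), (231, 1), (232, 1), (235, 1), (236, 1), (237, 1), (238, 1)],
    [(23, 1), (24, 1), (25, 1), (26, 1), (29, 1), (30, 1), (34, 1), (36, 1), (40, 1), (41, 1), (42, 1), (45, 1), (47, 1), (48, 1), (54, 1), (63, 1), (65, 1), (71, 1), (73, 1), (83, 1), (85, 1), (87, 1), (89, 1), (90, 1), (91, 1), (92, 1), (101, 1), (105, 1), (106, 1), (108, 1), (110, 1), (111, 1), (113, 1), (114, 1), (116, 1), (117, 1), (119, 1), (120, 1), (121, 1), (122, 1), (125, 1), (130, 1), (131, 1), (136, 1), (139, 1), (145, 1), (148, 1), (155, 1), (156, 1), (157, 1), (163, 1), (166, 1), (168, 1), (171, 1), (172, 1), (174, 1), (182, 1), (186, 1), (190, 1), (194, 1), (196, 1), (198, 1), (207, 1), (216, 1), (218, 1), (230, 1), (232, 1), (235, 1)],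
    [(4, 1), (23, 1), (24, 1), (25, 1), (26, 1), (29, 1), (30, 1), (34, 1), (36, 1), (40, 1), (41, 1), (42, 1), (45, 1), (47, 1), (48, 1), (54, 1), (63, 1), (65, 1), (71, 1), (73, 1), (83, 1), (85, 1), (87, 1), (89, 1), (90, 1), (91, 1), (92, 1), (101, 1), (105, 1), (106, 1), (108, 1), (110, 1), (111, 1), (113, 1), (114, 1), (116, 1), (117, 1), (119, 1), (120, 1), (121, 1), (122, 1), (125, 1), (130, 1), (131, 1), (136, 1), (139, 1), (145, 1), (148, 1), (155, 1), (156, 1), (157, 1), (163, 1), (166, 1), (168, 1), (171, 1), (172, 1), (174, 1), (182, 1), (186, 1), (190, 1), (194, 1), (196, 1), (198, 1), (207, 1), (216, 1), (218, 1), (230, 1), (232, 1), (235, 1)],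
    [(55, 1)],
    [(2, 1), (4, 1), (10, 1), (12, 1), (17, 1), (21, 1), (30, 1), (32, 1), (33, 1), (34, 1), (35, 1), (36, 1), (38, 1), (42, 1), (46, 1), (47, 1), (50, 1), (56, 1), (60, 1), (63, 1), (64, 1), (69, 1), (85, 1), (88, 1), (89, 1), (94, 1), (97, 1), (100, 1), (101, 1), (102, 1), (103, 1), (111, 1), (112, 1), (113, 1), (115, 1), (116, 1), (118, 1), (119, 1), (128, 1), (130, 1), (131, 1), (138, 1), (141, 1), (147, 1), (148, 1), (163, 1), (174, 1), (183, 1), (188, 1), (194, 1), (197, 1), (200, 1), (230, 1), (231, 1), (232, 1), (235, 1), (236, 1), (237, 1), (238, 1)],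
    [(3, 1), (6, 1), (55, 1)],
    [(5, 1), (6, 1), (55, 1)],
    [(6, 1), (7, 1), (55, 1)],
    [(6, 1), (55, 1)],
    [(2, 1), (3, 1), (4, 1), (7, 1), (8, 1), (12, 1), (14, 1), (18, 1), (20, 1), (21, 1), (23, 1), (26, 1), (30, 1), (31, 1), (32, 1), (33, 1), (34, 1), (35, 1), (36, 1), (38, 1), (44, 1), (46, 1), (47, 1), (50, 1), (51, 1), (52, 1), (55, 1), (56, 1), (58, 1), (60, 1), (61, 1), (63, 1), (64, 1), (68, 1), (69, 1), (74, 1), (85, 1), (88, 1), (90, 1), (92, 1), (100, 1), (102, 1), (103, 1), (112, 1), (113, 1), (114, 1), (115, 1), (118, 1), (124, 1), (126, 1), (128, 1), (130, 1), (131, 1), (138, 1), (141, 1), (147, 1), (148, 1), (150, 1), (151, 1), (157, 1), (163, 1), (169, 1), (170, 1), (174, 1), (175, 1), (177, 1), (178, 1), (179,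 1), (180, 1), (183, 1), (188, 1), (189, 1), (194, 1), (197, 1), (200, 1), (229, 1), (230, 1), (232, 1), (235, 1), (236, 1), (237, 1), (238, 1), (240, 1), (259, 1)],
    [(0, 1), (2, 1), (4, 1), (11, 1), (14, 1), (17, 1), (25, 1), (26, 1), (30, 1), (32, 1), (34, 1), (35, 1), (36, 1), (38, 1), (42, 1), (44, 1), (45, 1), (46, 1), (47, 1), (50, 1), (52, 1), (54, 1), (56, 1), (60, 1), (63, 1), (64, 1), (68, 1), (69, 1), (73, 1), (78, 1), (81, 1), (83, 1), (85, 1), (88, 1), (90, 1), (91, 1), (94, 1), (99, 1), (101, 1), (102, 1), (107, 1), (113, 1), (115, 1), (118, 1), (124, 1), (126, 1), (127, 1), (128, 1), (130, 1), (131, 1), (132, 1), (138, 1), (148, 1), (150, 1), (151, 1), (155, 1), (157, 1), (163, 1), (169, 1), (171, 1), (174, 1), (175, 1), (177,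 1), (178, 1), (179, 1), (180, 1), (183, 1), (188, 1), (194, 1), (197, 1), (200, 1), (219, 1), (229, 1), (230, 1), (232, 1), (235, 1), (236, 1), (237, 1), (238, 1), (240, 1), (260, 1), (276, 1), (281, 1), (285, 1)],
    [(0, 1), (2, 1), (7, 1), (10, 1), (11, 1), (12, 1), (14, 1), (17, 1), (18, 1), (19, 1), (21, 1), (23, 1), (25, 1), (26, 1), (28, 1), (30, 1), (31, 1), (32, 1), (33, 1), (34, 1), (35, 1), (36, 1), (38, 1), (40, 1), (41, 1), (42, 1), (45, 1), (47, 1), (48, 1), (50, 1), (51, 1), (56, 1), (57, 1), (58, 1), (59, 1), (63, 1), (64, 1), (68, 1), (69, 1), (70, 1), (73, 1), (83, 1), (85, 1), (91, 1), (92, 1), (99, 1), (100, 1), (102, 1), (103, 1), (107, 1), (112, 1), (113, 1), (114, 1), (118, 1), (120, 1), (121, 1), (123, 1), (124, 1),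 (126, 1), (128, 1), (130, 1), (131, 1), (136, 1), (138, 1), (139, 1), (141, 1), (144, 1), (146, 1), (147, 1), (148, 1), (150, 1), (151, 1), (155, 1), (157, 1), (159, 1), (160, 1), (163, 1), (169, 1), (170, 1), (174, 1), (175, 1), (178, 1), (179, 1), (183, 1), (188, 1), (189, 1), (194, 1), (197, 1), (200, 1), (219, 1), (229, 1), (230, 1), (232, 1), (233, 1), (235, 1), (236, 1), (237, 1), (238, 1), (239, 1), (260, 1)],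
    [],
    [(17, 1), (18, 1), (20, 1), (21, 1), (128, 1), (160, 1), (178, 1)],
    [(0, 1), (2, 1), (7, 1), (11, 1), (14, 1), (17, 1), (18, 1), (19, 1), (21, 1), (23, 1), (25, 1), (26, 1), (28, 1), (30, 1), (31, 1), (32, 1), (33, 1), (34, 1), (35, 1), (36, 1), (38, 1), (40, 1), (41, 1), (42, 1), (45, 1), (47, 1), (48, 1), (50, 1), (51, 1), (56, 1), (59, 1), (60, 1), (61, 1), (63, 1), (64, 1), (68, 1), (69, 1), (70, 1), (73, 1), (83, 1), (85, 1), (91, 1), (92, 1), (99, 1), (100, 1), (102, 1), (103, 1), (107, 1), (112, 1), (113, 1), (114, 1), (118, 1), (120, 1), (121, 1), (123, 1), (124, 1), (126, 1), (128, 1), (130, 1), (131, 1), (136, 1), (138, 1), (139, 1), (141, 1), (144, 1), (146, 1), (147, 1), (148, 1), (150, 1), (151, 1), (155, 1), (157,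 1), (159, 1), (160, 1), (163, 1), (169, 1), (170, 1), (174, 1), (175, 1), (177, 1), (178, 1), (183, 1), (188, 1), (189, 1), (194, 1), (197, 1), (200, 1), (219, 1), (229, 1), (230, 1), (232, 1), (233, 1), (235, 1), (236, 1), (237, 1), (238, 1), (239, 1), (260, 1)],
    [(0, 1), (3, 1), (7, 1), (12, 1), (15, 1), (18, 1), (21, 1), (25, 1), (28, 1), (40, 1), (41, 1), (42, 1), (44, 1), (45, 1), (46, 1), (48, 1), (52, 1), (57, 1), (59, 1), (60, 1), (61, 1), (70, 1), (73, 1), (74, 1), (83, 1), (88, 1), (90, 1), (91, 1), (99, 1), (107, 1), (115, 1), (120, 1), (121, 1), (123, 1), (136, 1), (139, 1), (144, 1), (146, 1), (151, 1), (155, 1), (159, 1), (160, 1), (180, 1), (219, 1), (233, 1), (239, 1), (240, 1)],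
    [(8, 1), (11, 1), (18, 1), (20, 1), (21, 1), (24, 1), (25, 1), (29, 1), (30, 1), (31, 1), (34, 1), (36, 1), (40, 1), (41, 1), (44, 1), (45, 1), (47, 1), (48, 1), (51, 1), (52, 1), (54, 1), (57, 1), (61, 1), (63, 1), (65, 1), (68, 1), (71, 1), (73, 1), (74, 1), (83, 1), (85, 1), (87, 1), (91, 1), (94, 1), (97, 1), (105, 1), (106, 1), (108, 1), (110, 1), (113, 1), (117, 1), (120, 1), (121, 1), (122, 1), (124, 1), (125, 1), (128, 1), (130, 1), (131, 1), (136, 1), (139, 1), (145, 1), (148, 1), (150, 1), (155, 1), (156, 1), (160, 1), (163, 1), (166, 1), (168, 1), (169, 1), (170, 1), (171, 1), (172, 1), (174, 1), (175, 1), (180, 1), (182, 1), (186, 1), (189, 1), (190, 1), (194, 1), (196, 1), (198, 1), (207, 1), (216, 1), (218, 1), (229, 1), (230,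 1), (231, 1), (232, 1), (235, 1), (240, 1)],
    []]

/-- part of the combinations -/
def twoCombs1 : List (List (ℕ × ℤ)) :=
  [[(0, 1), (2, 1), (7, 1), (10, 1), (11, 1), (12, 1), (14, 1), (17, 1), (23, 1), (25, 1), (26, 1), (28, 1), (30, 1), (31, 1), (32, 1), (33, 1), (34, 1), (35, 1), (36, 1), (38, 1), (40, 1), (41, 1), (42, 1), (45, 1), (47, 1), (48, 1), (50, 1), (51, 1), (57, 1), (59, 1), (61, 1), (63, 1), (64, 1), (68, 1), (69, 1), (70, 1), (73, 1), (83, 1), (85, 1), (91, 1), (92, 1), (99, 1), (100, 1), (102, 1), (103, 1), (107, 1), (112, 1), (113, 1), (114, 1), (118, 1), (120, 1), (121, 1), (123, 1), (124, 1), (126, 1), (128, 1), (130, 1), (131, 1), (136, 1), (138, 1), (139, 1), (141, 1), (144, 1), (146, 1), (147, 1), (148, 1), (150, 1),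 (151, 1), (155, 1), (157, 1), (159, 1), (160, 1), (163, 1), (169, 1), (170, 1), (174, 1), (175, 1), (177, 1), (178, 1), (179, 1), (183, 1), (188, 1), (189, 1), (194, 1), (197, 1), (200, 1), (219, 1), (229, 1), (230, 1), (232, 1), (233, 1), (235, 1), (236, 1), (237, 1), (238, 1), (239, 1), (260, 1)],
    [(18, 1), (20, 1), (21, 1), (24, 1), (25, 1), (29, 1), (30, 1), (31, 1), (34, 1), (36, 1), (40, 1), (41, 1), (44, 1), (45, 1), (47, 1), (48, 1), (51, 1), (52, 1), (54, 1), (57, 1), (61, 1), (63, 1), (65, 1), (68, 1), (71, 1), (73, 1), (74, 1), (83, 1), (85, 1), (87, 1), (91, 1), (94, 1), (97, 1), (105, 1), (106, 1), (108, 1), (110, 1), (113, 1), (117, 1), (120, 1), (121, 1), (122, 1), (124, 1), (125, 1), (128, 1), (130, 1), (131, 1), (136, 1),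 (139, 1), (145, 1), (148, 1), (150, 1), (155, 1), (156, 1), (160, 1), (163, 1), (166, 1), (168, 1), (169, 1), (170, 1), (171, 1), (172, 1), (174, 1), (175, 1), (180, 1), (182, 1), (186, 1), (189, 1), (190, 1), (194, 1), (196, 1), (198, 1), (207, 1), (216, 1), (218, 1), (229, 1), (230, 1), (231, 1), (232, 1), (235, 1), (240, 1)],
    [(10, 1), (56, 1), (128, 1), (160, 1)],
    [(57, 1)],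
    [(11, 1), (13, 1), (18, 1), (20, 1), (21, 1), (24, 1), (25, 1), (29, 1), (30, 1), (31, 1), (34, 1), (36, 1), (40, 1), (41, 1), (44, 1), (45, 1), (47, 1), (48, 1), (51, 1), (52, 1), (54, 1), (57, 1), (61, 1), (63, 1), (65, 1), (68, 1), (71, 1), (73, 1), (74, 1), (83, 1), (85, 1), (87, 1), (91, 1), (94, 1), (97, 1), (105, 1), (106, 1), (108, 1), (110, 1), (113, 1), (117, 1), (120, 1), (121, 1), (122, 1), (124, 1), (125, 1), (128, 1), (130, 1), (131, 1), (136, 1), (139, 1), (145, 1), (148, 1), (150, 1), (155, 1), (156, 1), (160, 1), (163, 1), (166, 1), (168, 1), (169, 1), (170, 1), (171, 1), (172, 1), (174, 1), (175, 1), (180, 1), (182, 1), (186, 1), (189, 1), (190, 1), (194, 1), (196, 1), (198, 1), (207, 1), (216, 1), (218, 1), (229, 1), (230,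 1), (231, 1), (232, 1), (235, 1), (240, 1)],
    [(11, 1), (18, 1), (20, 1), (21, 1), (24, 1), (25, 1), (29, 1), (30, 1), (31, 1), (34, 1), (36, 1), (40, 1), (41, 1), (44, 1), (45, 1), (47, 1), (48, 1), (51, 1), (52, 1), (54, 1), (57, 1), (61, 1), (63, 1), (65, 1), (68, 1), (71, 1), (73, 1), (74, 1), (83, 1), (85, 1), (87, 1), (91, 1), (94, 1), (97, 1), (105, 1), (106, 1), (108, 1), (110, 1), (113, 1), (117, 1), (120, 1), (121, 1), (122, 1), (124, 1), (125, 1), (128, 1), (130, 1), (131, 1), (136, 1), (139, 1), (145, 1), (148, 1), (150, 1), (155, 1), (156, 1), (160, 1), (163, 1), (166, 1), (168, 1), (169, 1), (170, 1), (171, 1), (172, 1), (174, 1), (175, 1), (180, 1), (182, 1), (186, 1), (189, 1), (190, 1), (194, 1), (196, 1), (198, 1), (207,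 1), (216, 1), (218, 1), (229, 1), (230, 1), (231, 1), (232, 1), (235, 1), (240, 1)],
    [(0, 1), (2, 1), (7, 1), (11, 1), (12, 1), (14, 1), (17, 1), (18, 1), (23, 1), (25, 1), (26, 1), (28, 1), (30, 1), (31, 1), (32, 1), (33, 1), (34, 1), (35, 1), (36, 1), (38, 1), (40, 1), (41, 1), (42, 1), (45, 1), (47, 1), (48, 1), (50, 1), (51, 1), (56, 1), (57, 1), (59, 1), (61, 1), (63, 1), (64, 1), (68, 1), (69, 1), (70, 1), (73, 1), (83, 1), (85, 1), (91, 1), (92, 1), (99, 1), (100, 1), (102, 1), (103, 1), (107, 1), (112, 1), (113, 1), (114, 1), (118, 1), (120, 1), (121, 1), (123, 1), (124, 1), (126, 1), (127, 1), (128, 1), (130, 1), (131, 1), (136, 1), (138, 1), (139, 1), (141, 1), (144, 1), (146, 1), (147, 1), (148, 1), (150, 1), (151, 1), (155, 1),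 (157, 1), (159, 1), (160, 1), (163, 1), (169, 1), (170, 1), (174, 1), (175, 1), (177, 1), (178, 1), (179, 1), (183, 1), (188, 1), (189, 1), (194, 1), (197, 1), (200, 1), (219, 1), (229, 1), (230, 1), (232, 1), (233, 1), (235, 1), (236, 1), (237, 1), (238, 1), (239, 1), (260, 1)],
    [(10, 1), (16, 1), (56, 1)],
    [(56, 1)],
    [],
    [(10, 1), (17, 1), (20, 1), (21, 1), (56, 1), (59, 1), (128, 1)],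
    [(60, 1)],
    [(10, 1), (15, 1), (56, 1)],
    [(10, 1), (18, 1), (56, 1)],
    [(10, 1), (56, 1)],
    [(61, 1)],
    [(9, 1), (20, 1), (59, 1)],
    [(58, 1)],
    [(59, 1)],
    [(17, 1), (20, 1), (59, 1)],
    [(12, 1), (20, 1), (59, 1)],
    [(14, 1), (20, 1), (59, 1)],
    [(19, 1), (20, 1), (59, 1)],
    [(20, 1), (21, 1), (59, 1)],
    [(20, 1), (59, 1)],
    [(25, 1), (26, 1), (31, 1), (33, 1), (35, 1), (39, 1), (40, 1), (41, 1), (43, 1), (49, 1), (51, 1), (52, 1), (54, 1), (62, 1), (65, 1), (67, 1), (72, 1), (73, 1), (75, 1), (76, 1), (82, 1), (83, 1), (85, 1), (88, 1), (90, 1), (91, 1), (92, 1), (96, 1), (98, 1), (99, 1), (100, 1), (103, 1), (104, 1), (106, 1), (107, 1), (111, 1), (113, 1), (114, 1), (115, 1), (116, 1), (119,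 1), (120, 1), (123, 1), (124, 1), (129, 1), (132, 1), (135, 1), (136, 1), (140, 1), (141, 1), (142, 1), (143, 1), (150, 1), (156, 1), (159, 1), (164, 1), (170, 1), (171, 1), (172, 1), (175, 1), (180, 1), (181, 1), (183, 1), (184, 1), (186, 1), (190, 1), (191, 1), (198, 1), (200, 1), (201, 1), (204, 1), (206, 1), (211, 1), (241, 1), (243, 1), (247, 1), (248, 1)],
    [],
    [(23, 1), (24, 1), (25, 1), (26, 1), (29, 1), (36, 1), (40, 1), (44, 1), (48, 1), (49, 1), (51, 1), (52, 1), (63, 1), (66, 1), (69, 1), (70, 1), (76, 1), (80, 1), (83, 1), (85, 1), (88, 1), (90, 1), (91, 1), (92, 1), (95, 1), (98, 1), (99, 1), (100, 1), (101, 1), (103, 1), (106, 1), (107, 1), (108, 1), (110, 1), (112, 1), (114, 1), (118, 1), (120, 1), (124, 1), (136, 1),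 (137, 1), (139, 1), (140, 1), (145, 1), (147, 1), (156, 1), (161, 1), (162, 1), (163, 1), (166, 1), (168, 1), (172, 1), (173, 1), (174, 1), (175, 1), (183, 1), (193, 1), (206, 1), (215, 1), (216, 1), (218, 1)],
    [(24, 1), (26, 1), (29, 1), (30, 1), (31, 1), (33, 1), (34, 1), (35, 1), (38, 1), (41, 1), (42, 1), (43, 1), (44, 1), (48, 1), (51, 1), (52, 1), (53, 1), (64, 1), (65, 1), (67, 1), (68, 1), (70, 1), (72, 1), (75, 1), (76, 1), (78, 1), (79, 1), (80, 1), (81, 1), (82, 1), (85, 1), (86, 1), (87, 1), (88, 1), (94, 1), (95, 1), (96, 1), (97, 1), (100, 1), (102, 1), (103, 1), (104, 1), (105, 1), (107, 1), (108, 1), (109, 1), (110, 1), (111, 1), (114, 1), (121, 1), (122, 1), (123, 1), (132, 1), (133, 1), (135, 1), (137, 1), (138, 1), (139,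 1), (140, 1), (142, 1), (143, 1), (146, 1), (147, 1), (150, 1), (152, 1), (155, 1), (156, 1), (157, 1), (161, 1), (163, 1), (166, 1), (168, 1), (170, 1), (171, 1), (173, 1), (176, 1), (181, 1), (183, 1), (184, 1), (186, 1), (188, 1), (189, 1), (191, 1), (192, 1), (193, 1), (194, 1), (198, 1), (201, 1), (205, 1), (206, 1), (207, 1), (208, 1), (211, 1), (212, 1), (213, 1), (214, 1), (215, 1), (216, 1), (218, 1), (220, 1), (222, 1), (224, 1), (225, 1), (241, 1), (243, 1), (247, 1), (248, 1)],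
    [(25, 1), (26, 1), (28, 1), (30, 1), (32, 1), (34, 1), (36, 1), (38, 1), (39, 1), (40, 1), (41, 1), (44, 1), (45, 1), (46, 1), (47, 1), (49, 1), (54, 1), (64, 1), (66, 1), (67, 1), (68, 1), (69, 1), (74, 1), (81, 1), (83, 1), (85, 1), (87, 1), (88, 1), (89, 1), (90, 1), (94, 1), (98, 1), (99, 1), (103, 1), (107, 1), (108, 1), (110, 1), (113, 1), (115, 1), (118, 1), (119, 1), (120, 1), (123, 1), (124, 1), (133, 1), (136, 1), (141, 1), (144, 1), (145, 1), (156, 1), (159, 1), (163, 1), (174, 1), (180, 1), (182, 1), (183, 1), (188, 1), (194, 1), (197, 1), (200, 1), (204, 1), (212, 1), (214, 1)]]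

/-- part of the combinations -/
def twoCombs2 : List (List (ℕ × ℤ)) :=
  [[(23, 1), (24, 1), (26, 1), (29, 1), (30, 1), (31, 1), (36, 1), (40, 1), (41, 1), (42, 1), (44, 1), (45, 1), (47, 1), (48, 1), (49, 1), (51, 1), (52, 1), (54, 1), (62, 1), (69, 1), (70, 1), (71, 1), (85, 1), (88, 1), (90, 1), (91, 1), (94, 1), (97, 1), (98, 1), (99, 1), (101, 1), (103, 1), (105, 1), (107, 1), (110, 1), (112, 1), (114, 1), (115, 1), (117, 1), (118, 1), (120, 1), (125, 1), (131, 1), (136, 1), (145, 1), (156, 1), (166, 1), (168, 1), (172, 1), (196, 1), (198, 1), (211, 1), (216, 1), (218, 1)],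
    [(25, 1), (26, 1), (28, 1), (32, 1), (33, 1), (40, 1), (41, 1), (42, 1), (44, 1), (47, 1), (48, 1), (49, 1), (51, 1), (54, 1), (67, 1), (68, 1), (70, 1), (72, 1), (73, 1), (74, 1), (76, 1), (81, 1), (82, 1), (83, 1), (88, 1), (91, 1), (95, 1), (100, 1), (101, 1), (102, 1), (103, 1), (106, 1), (109, 1), (111, 1), (113, 1), (114, 1), (116, 1), (117, 1), (119, 1), (123, 1), (136, 1), (137, 1), (138, 1), (144, 1), (146, 1), (148, 1), (150, 1), (155, 1), (157, 1), (158, 1), (161, 1), (167, 1), (169, 1), (174, 1), (176, 1), (180, 1), (181, 1), (182, 1), (183, 1), (191, 1), (192, 1), (203, 1), (206, 1), (210, 1), (225, 1)],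
    [(23, 1), (32, 1), (33, 1), (37, 1), (41, 1), (42, 1), (44, 1), (47, 1), (49, 1), (51, 1), (63, 1), (68, 1), (70, 1), (73, 1), (74, 1), (77, 1), (85, 1), (88, 1), (89, 1), (95, 1), (97, 1), (100, 1), (101, 1), (102, 1), (106, 1), (107, 1), (108, 1), (110, 1), (111, 1), (112, 1), (113, 1), (114, 1), (115, 1), (116, 1), (119, 1), (120, 1), (123, 1), (150, 1), (155, 1), (157, 1), (164, 1), (167, 1), (174, 1), (176, 1), (180, 1), (182, 1), (183, 1), (185, 1), (192, 1), (202, 1), (203, 1), (209, 1), (210, 1)],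
    [(23, 1), (28, 1), (37, 1), (40, 1), (41, 1), (43, 1), (47, 1), (51, 1), (52, 1), (54, 1), (63, 1), (69, 1), (70, 1), (75, 1), (81, 1), (82, 1), (83, 1), (85, 1), (96, 1), (97, 1), (106, 1), (107, 1), (109, 1), (112, 1), (113, 1), (114, 1), (136, 1), (137, 1), (144, 1), (150, 1), (167, 1), (176, 1), (180, 1), (181, 1), (191, 1), (202, 1)],
    [(22, 1), (26, 1), (32, 1), (33, 1), (42, 1), (43, 1), (44, 1), (47, 1), (48, 1), (49, 1), (53, 1), (54, 1), (62, 1), (63, 1), (66, 1), (68, 1), (69, 1), (72, 1), (73, 1), (74, 1), (76, 1), (81, 1), (83, 1), (85, 1), (88, 1), (89, 1), (91, 1), (95, 1), (96, 1), (97, 1), (100, 1), (101, 1), (102, 1), (103, 1), (105, 1), (106, 1), (107, 1), (111, 1), (116, 1), (117, 1), (119, 1), (120, 1), (123, 1),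 (132, 1), (138, 1), (155, 1), (157, 1), (158, 1), (167, 1), (169, 1), (174, 1), (176, 1), (183, 1), (191, 1), (192, 1), (203, 1), (206, 1)],
    [(23, 1), (24, 1), (29, 1), (35, 1), (39, 1), (40, 1), (41, 1), (45, 1), (49, 1), (51, 1), (54, 1), (62, 1), (65, 1), (66, 1), (67, 1), (69, 1), (94, 1), (99, 1), (100, 1), (101, 1), (102, 1), (103, 1), (105, 1), (117, 1), (118, 1), (119, 1), (120, 1), (123, 1), (130, 1), (133, 1), (134, 1), (135, 1), (137, 1), (156, 1), (165, 1), (172, 1), (176, 1), (182, 1), (184, 1), (194, 1), (198, 1), (204, 1), (207, 1), (216, 1), (217, 1)],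
    [],
    [(23, 1), (26, 1), (27, 1), (29, 1), (34, 1), (35, 1), (36, 1), (39, 1), (43, 1), (44, 1), (45, 1), (47, 1), (48, 1), (51, 1), (54, 1), (62, 1), (65, 1), (66, 1), (69, 1), (70, 1), (81, 1), (82, 1), (84, 1), (85, 1), (91, 1), (92, 1), (93, 1), (94, 1), (96, 1), (97, 1), (99, 1), (100, 1), (101, 1), (102, 1), (103, 1), (105, 1), (107, 1), (109, 1), (110, 1), (111, 1), (115, 1), (117, 1), (118, 1), (119, 1), (123, 1), (130, 1), (133, 1), (134, 1), (135, 1), (139, 1), (145, 1), (147, 1), (150, 1), (153, 1), (159, 1), (165, 1), (173, 1), (176, 1), (180, 1), (181, 1), (182, 1), (184, 1), (194, 1), (195, 1), (198, 1), (199, 1), (204, 1), (207, 1), (218, 1)],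
    [(22, 1), (23, 1), (26, 1), (27, 1), (29, 1), (30, 1), (35, 1), (37, 1), (39, 1), (41, 1), (42, 1), (43, 1), (45, 1), (46, 1), (47, 1), (48, 1), (49, 1), (51, 1), (52, 1), (53, 1), (54, 1), (62, 1), (63, 1), (64, 1), (65, 1), (66, 1), (67, 1), (68, 1), (69, 1), (70, 1), (74, 1), (82, 1), (86, 1), (87, 1), (88, 1), (89, 1), (90, 1), (91, 1), (92, 1), (93, 1), (96, 1), (99, 1), (100, 1), (101, 1), (103, 1), (106, 1), (109, 1), (112, 1), (113, 1), (115, 1), (116, 1), (117, 1), (118, 1), (119, 1), (120, 1), (121, 1), (122, 1), (124, 1), (131, 1), (132, 1), (133, 1), (134, 1), (137, 1), (141, 1), (144, 1), (145, 1), (146, 1), (150, 1), (152, 1), (153, 1), (154, 1), (155, 1), (156, 1), (157, 1), (161, 1), (162, 1), (165, 1), (167, 1), (169, 1),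 (170, 1), (171, 1), (173, 1), (174, 1), (175, 1), (176, 1), (180, 1), (181, 1), (182, 1), (183, 1), (184, 1), (187, 1), (188, 1), (189, 1), (191, 1), (194, 1), (195, 1), (199, 1), (201, 1), (202, 1), (204, 1), (205, 1), (208, 1), (209, 1), (210, 1), (211, 1), (214, 1), (215, 1), (218, 1), (220, 1), (222, 1), (224, 1), (225, 1), (241, 1), (243, 1), (245, 1), (246, 1), (248, 1), (253, 1), (254, 1)],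
    [],
    [(22, 1), (23, 1), (26, 1), (27, 1), (30, 1), (37, 1), (41, 1), (45, 1), (48, 1), (53, 1), (62, 1), (64, 1), (65, 1), (66, 1), (68, 1), (71, 1), (73, 1), (74, 1), (80, 1), (81, 1), (85, 1), (86, 1), (87, 1), (89, 1), (90, 1), (92, 1), (94, 1), (95, 1), (97, 1), (98, 1), (100, 1), (101, 1), (102, 1), (103, 1), (105, 1), (109, 1), (110, 1), (114, 1), (118, 1), (121, 1), (124, 1), (131, 1), (132, 1), (133, 1), (135, 1), (139, 1), (141, 1), (144, 1), (146, 1), (147, 1), (154, 1), (155, 1), (157, 1), (159, 1), (167, 1), (169, 1), (170, 1), (173, 1), (174, 1), (175, 1), (187, 1), (188, 1), (189, 1), (190, 1), (193, 1), (196, 1), (197, 1), (200, 1), (202, 1), (205, 1), (208, 1), (209, 1), (210, 1), (211, 1), (212, 1), (214, 1), (215, 1),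 (220, 1), (222, 1), (224, 1), (225, 1), (241, 1), (243, 1), (245, 1), (246, 1), (248, 1)],
    [(24, 1), (26, 1), (29, 1), (30, 1), (31, 1), (34, 1), (36, 1), (40, 1), (41, 1), (43, 1), (45, 1), (47, 1), (51, 1), (63, 1), (67, 1), (71, 1), (73, 1), (82, 1), (84, 1), (85, 1), (87, 1), (88, 1), (89, 1), (94, 1), (96, 1), (105, 1), (106, 1), (107, 1), (108, 1), (109, 1), (110, 1), (114, 1), (116, 1), (117, 1), (120, 1), (121, 1), (125, 1), (130, 1), (136, 1), (139, 1), (145, 1), (150, 1), (156, 1), (157, 1), (162, 1), (163, 1), (166, 1), (168, 1), (172, 1), (174, 1), (180, 1), (181, 1), (186, 1), (198, 1), (201, 1), (207, 1), (216, 1), (218, 1)],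
    [(26, 1), (32, 1), (33, 1), (37, 1), (38, 1), (40, 1), (41, 1), (42, 1), (43, 1), (44, 1), (47, 1), (49, 1), (54, 1), (62, 1), (63, 1), (66, 1), (68, 1), (69, 1), (72, 1), (73, 1), (74, 1), (76, 1), (81, 1), (83, 1), (85, 1), (88, 1), (89, 1), (95, 1), (96, 1), (97, 1), (100, 1), (101, 1), (102, 1), (103, 1), (105, 1), (109, 1), (111, 1), (114, 1), (115, 1), (116, 1), (117, 1), (119, 1), (123, 1), (132, 1), (138, 1), (141, 1), (155, 1), (157, 1), (158, 1), (167, 1), (169, 1), (174, 1), (176, 1), (183, 1), (188, 1), (191, 1), (192, 1), (203, 1), (205, 1), (206, 1)],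
    [(23, 1), (25, 1), (40, 1), (41, 1), (43, 1), (47, 1), (51, 1), (54, 1), (62, 1), (63, 1), (69, 1), (70, 1), (72, 1), (76, 1), (77, 1), (82, 1), (83, 1), (88, 1), (90, 1), (95, 1), (96, 1), (100, 1), (101, 1), (103, 1), (104, 1), (105, 1), (111, 1), (112, 1), (113, 1), (115, 1), (117, 1), (120, 1), (124, 1), (150, 1), (154, 1), (161, 1), (163, 1), (174, 1), (175, 1), (176, 1), (180, 1), (181, 1), (183, 1), (187, 1), (206, 1)],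
    [(23, 1), (25, 1), (26, 1), (43, 1), (48, 1), (51, 1), (54, 1), (66, 1), (70, 1), (82, 1), (83, 1), (91, 1), (112, 1), (113, 1), (115, 1), (132, 1), (137, 1), (150, 1), (152, 1), (176, 1), (180, 1), (181, 1)],
    [(25, 1), (26, 1), (32, 1), (38, 1), (83, 1), (91, 1), (112, 1), (114, 1), (115, 1), (188, 1)],
    [(24, 1), (25, 1), (26, 1), (29, 1), (34, 1), (35, 1), (36, 1), (39, 1), (44, 1), (45, 1), (47, 1), (52, 1), (54, 1), (62, 1), (65, 1), (66, 1), (67, 1), (83, 1), (84, 1), (85, 1), (92, 1), (93, 1), (94, 1), (99, 1), (100, 1), (101, 1), (102, 1), (103, 1), (105, 1), (106, 1), (110, 1), (111, 1), (112, 1), (113, 1), (117, 1), (118, 1), (119, 1), (123, 1), (130, 1), (133, 1), (135, 1), (137, 1), (139, 1), (142, 1), (145, 1), (149,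 1), (159, 1), (165, 1), (173, 1), (176, 1), (182, 1), (184, 1), (194, 1), (198, 1), (204, 1), (207, 1), (218, 1)],
    [(25, 1), (26, 1), (28, 1), (34, 1), (35, 1), (36, 1), (39, 1), (40, 1), (41, 1), (44, 1), (45, 1), (47, 1), (48, 1), (49, 1), (54, 1), (62, 1), (65, 1), (66, 1), (67, 1), (83, 1), (84, 1), (85, 1), (91, 1), (92, 1), (93, 1), (94, 1), (99, 1), (100, 1), (101, 1), (102, 1), (103, 1), (105, 1), (106, 1), (109, 1), (110, 1), (111, 1), (112, 1), (113, 1), (117, 1), (118, 1), (119, 1), (120, 1), (123, 1), (125, 1), (130, 1), (133, 1), (134, 1), (135, 1), (137, 1), (139, 1), (144, 1), (145, 1), (159, 1), (165, 1), (173, 1), (176, 1), (182, 1), (184, 1), (194, 1), (195, 1), (198, 1), (204, 1), (207, 1), (218, 1)],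
    [(23, 1), (24, 1), (26, 1), (29, 1), (30, 1), (31, 1), (36, 1), (40, 1), (42, 1), (44, 1), (49, 1), (51, 1), (52, 1), (69, 1), (70, 1), (73, 1), (85, 1), (86, 1), (92, 1), (95, 1), (96, 1), (97, 1), (101, 1), (102, 1), (103, 1), (107, 1), (111, 1), (112, 1), (113, 1), (118, 1), (120, 1), (125, 1), (129, 1), (133, 1), (135, 1), (136, 1), (145, 1), (146, 1), (155, 1), (156, 1), (166, 1), (168, 1), (171, 1), (172, 1), (189, 1), (213, 1), (216, 1), (218, 1)],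
    [(23, 1), (24, 1), (25, 1), (26, 1), (27, 1), (28, 1), (30, 1), (32, 1), (35, 1), (36, 1), (38, 1), (39, 1), (44, 1), (47, 1), (48, 1), (52, 1), (66, 1), (67, 1), (68, 1), (69, 1), (71, 1), (73, 1), (81, 1), (83, 1), (84, 1), (85, 1), (90, 1), (93, 1), (94, 1), (98, 1), (99, 1), (100, 1), (102, 1), (106, 1), (107, 1), (108, 1), (111, 1), (113, 1), (114, 1), (118, 1), (121, 1), (122, 1), (123, 1), (124, 1), (125, 1), (133, 1), (134, 1), (135, 1), (141, 1), (144, 1), (147, 1), (148, 1), (152, 1), (153, 1), (156, 1), (159, 1), (162, 1), (163, 1), (165, 1), (166, 1), (168, 1), (171, 1), (172, 1), (173, 1), (174, 1), (176, 1), (184, 1), (188, 1), (190, 1), (191, 1), (194, 1), (195, 1), (196, 1), (199, 1), (200, 1), (201, 1), (204, 1), (216, 1),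 (253, 1), (254, 1)],
    [(25, 1), (26, 1), (30, 1), (42, 1), (54, 1), (62, 1), (69, 1), (83, 1), (96, 1), (98, 1), (99, 1), (105, 1), (113, 1), (114, 1), (115, 1), (162, 1), (198, 1)],
    [(28, 1), (30, 1), (31, 1), (32, 1), (34, 1), (38, 1), (40, 1), (41, 1), (43, 1), (44, 1), (48, 1), (49, 1), (52, 1), (66, 1), (68, 1), (70, 1), (73, 1), (74, 1), (81, 1), (82, 1), (87, 1), (88, 1), (89, 1), (90, 1), (91, 1), (92, 1), (96, 1), (100, 1), (101, 1), (102, 1), (103, 1), (106, 1), (107, 1), (108, 1), (109, 1), (112, 1), (113, 1), (115, 1), (118, 1), (120, 1), (121, 1), (122, 1), (124, 1), (136, 1), (141, 1), (144, 1), (148, 1), (150, 1), (155, 1), (159, 1), (163, 1), (171, 1), (174, 1), (180, 1), (181, 1), (183, 1), (188, 1), (190, 1), (194, 1),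 (197, 1), (200, 1), (204, 1), (208, 1)],
    [(24, 1), (25, 1), (29, 1), (32, 1), (34, 1), (36, 1), (38, 1), (40, 1), (41, 1), (43, 1), (45, 1), (51, 1), (54, 1), (62, 1), (67, 1), (68, 1), (69, 1), (70, 1), (71, 1), (81, 1), (82, 1), (83, 1), (84, 1), (85, 1), (87, 1), (88, 1), (89, 1), (90, 1), (92, 1), (96, 1), (97, 1), (98, 1), (99, 1), (103, 1), (105, 1), (106, 1), (107, 1), (109, 1), (110, 1), (113, 1), (114, 1), (117, 1), (118, 1), (119, 1), (120, 1), (121, 1), (122, 1), (124, 1), (125, 1), (130, 1), (136, 1), (137, 1), (139, 1), (141, 1), (145, 1), (148, 1), (150, 1), (156, 1), (163, 1), (166, 1), (168, 1), (172, 1), (174, 1), (176, 1), (180, 1), (181, 1), (182, 1), (183, 1), (188, 1), (194, 1), (197, 1), (198, 1), (200, 1), (207, 1),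 (216, 1), (218, 1)],
    [(24, 1), (25, 1), (26, 1), (29, 1), (30, 1), (31, 1), (32, 1), (34, 1), (36, 1), (38, 1), (40, 1), (41, 1), (43, 1), (45, 1), (51, 1), (54, 1), (62, 1), (65, 1), (67, 1), (68, 1), (70, 1), (71, 1), (81, 1), (82, 1), (83, 1), (84, 1), (85, 1), (87, 1), (89, 1), (92, 1), (97, 1), (98, 1), (101, 1), (105, 1), (106, 1), (107, 1), (109, 1), (110, 1), (115, 1), (117, 1), (119, 1), (120, 1), (121, 1), (122, 1), (124, 1), (125, 1), (130, 1), (131, 1), (136, 1), (137, 1), (139, 1), (141, 1), (145, 1), (148, 1), (150, 1), (156, 1), (162, 1), (163, 1), (166, 1), (168, 1), (171, 1), (172, 1), (174, 1), (176, 1), (180, 1), (181, 1), (182, 1), (183, 1), (188, 1), (190, 1), (196, 1), (197, 1), (198, 1), (200, 1), (207, 1), (216, 1),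 (218, 1)],
    [(22, 1), (23, 1), (25, 1), (28, 1), (36, 1), (40, 1), (41, 1), (42, 1), (44, 1), (46, 1), (47, 1), (48, 1), (52, 1), (63, 1), (66, 1), (70, 1), (73, 1), (74, 1), (81, 1), (86, 1), (88, 1), (89, 1), (90, 1), (91, 1), (92, 1), (96, 1), (99, 1), (106, 1), (107, 1), (112, 1), (114, 1), (116, 1), (119, 1), (120, 1), (132, 1), (136, 1), (138, 1), (144, 1), (145, 1), (155, 1), (157, 1), (161, 1), (164, 1), (176, 1), (182, 1), (191, 1), (192, 1), (202, 1), (210, 1)],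
    [(22, 1), (23, 1), (28, 1), (32, 1), (37, 1), (46, 1), (47, 1), (48, 1), (49, 1), (52, 1), (62, 1), (63, 1), (66, 1), (68, 1), (69, 1), (70, 1), (72, 1), (90, 1), (91, 1), (92, 1), (95, 1), (96, 1), (99, 1), (100, 1), (101, 1), (102, 1), (105, 1), (109, 1), (111, 1), (112, 1), (113, 1), (115, 1), (117, 1), (120, 1), (123, 1), (136, 1), (137, 1), (144, 1), (150, 1), (154, 1), (161, 1), (174, 1), (176, 1), (180, 1), (181, 1), (183, 1), (185, 1), (203, 1), (206, 1)],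
    [(26, 1), (33, 1), (66, 1), (69, 1), (81, 1), (83, 1), (113, 1), (114, 1), (132, 1), (191, 1)],
    [(66, 1), (69, 1), (137, 1)],
    [(24, 1), (25, 1), (26, 1), (29, 1), (36, 1), (39, 1), (40, 1), (41, 1), (45, 1), (47, 1), (48, 1), (54, 1), (62, 1), (65, 1), (66, 1), (67, 1), (70, 1), (83, 1), (85, 1), (91, 1), (99, 1), (100, 1), (102, 1), (103, 1), (105, 1), (106, 1), (107, 1), (109, 1), (110, 1), (112, 1), (117, 1), (118, 1), (119, 1), (120, 1), (123, 1), (125, 1), (130, 1), (133, 1), (135, 1), (136, 1), (137, 1), (145, 1), (156, 1), (165, 1), (166, 1), (168, 1), (172, 1), (176, 1), (182, 1), (184, 1), (194, 1), (198, 1), (204, 1), (207, 1), (216, 1), (218, 1)],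
    [(26, 1), (36, 1), (69, 1), (70, 1), (85, 1), (109, 1), (110, 1), (145, 1), (156, 1)]]

/-- part of the combinations -/
def twoCombs3 : List (List (ℕ × ℤ)) :=
  [[(23, 1), (25, 1), (26, 1), (34, 1), (39, 1), (42, 1), (44, 1), (47, 1), (54, 1), (62, 1), (65, 1), (66, 1), (67, 1), (71, 1), (74, 1), (83, 1), (84, 1), (94, 1), (96, 1), (100, 1), (101, 1), (105, 1), (108, 1), (117, 1), (118, 1), (119, 1), (130, 1), (133, 1), (135, 1), (137, 1), (139, 1), (176, 1), (182, 1), (194, 1), (198, 1), (204, 1), (207, 1)],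
    [(26, 1), (47, 1), (52, 1), (54, 1), (62, 1), (63, 1), (66, 1), (67, 1), (69, 1), (71, 1), (72, 1), (76, 1), (85, 1), (88, 1), (90, 1), (95, 1), (97, 1), (100, 1), (101, 1), (103, 1), (105, 1), (109, 1), (111, 1), (115, 1), (117, 1), (120, 1), (124, 1), (129, 1), (133, 1), (135, 1), (137, 1), (140, 1), (163, 1), (174, 1), (176, 1), (183, 1), (206, 1)],
    [(22, 1), (23, 1), (25, 1), (26, 1), (27, 1), (29, 1), (30, 1), (35, 1), (37, 1), (39, 1), (42, 1), (43, 1), (45, 1), (46, 1), (47, 1), (49, 1), (51, 1), (52, 1), (53, 1), (62, 1), (64, 1), (65, 1), (66, 1), (67, 1), (68, 1), (69, 1), (70, 1), (74, 1), (80, 1), (82, 1), (83, 1), (86, 1), (87, 1), (88, 1), (89, 1), (90, 1), (92, 1), (93, 1), (96, 1), (99, 1), (100, 1), (101, 1), (103, 1),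 (105, 1), (106, 1), (107, 1), (109, 1), (112, 1), (113, 1), (115, 1), (116, 1), (118, 1), (119, 1), (120, 1), (121, 1), (122, 1), (124, 1), (131, 1), (132, 1), (133, 1), (134, 1), (137, 1), (141, 1), (144, 1), (145, 1), (146, 1), (150, 1), (152, 1), (154, 1), (155, 1), (156, 1), (157, 1), (162, 1), (165, 1), (167, 1), (169, 1), (170, 1), (171, 1), (173, 1), (174, 1), (175, 1), (176, 1), (180, 1), (181, 1), (182, 1), (183, 1), (184, 1), (187, 1), (188, 1), (189, 1), (191, 1), (193, 1), (194, 1), (195, 1), (199, 1), (201, 1), (202, 1), (204, 1), (205, 1), (208, 1), (209, 1), (210, 1), (211, 1), (214, 1), (215, 1), (218, 1), (220, 1), (222, 1), (224, 1), (225, 1), (241, 1), (243, 1), (245, 1), (246, 1), (248, 1), (253, 1), (254, 1)],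
    [(72, 1)],
    [],
    [(23, 1), (24, 1), (25, 1), (26, 1), (29, 1), (32, 1), (34, 1), (36, 1), (38, 1), (40, 1), (41, 1), (45, 1), (48, 1), (62, 1), (66, 1), (68, 1), (70, 1), (71, 1), (83, 1), (84, 1), (85, 1), (87, 1), (88, 1), (89, 1), (90, 1), (91, 1), (94, 1), (98, 1), (99, 1), (100, 1), (101, 1), (103, 1), (105, 1), (106, 1), (107, 1), (109, 1), (110, 1), (113, 1), (115, 1), (117, 1), (118, 1), (120, 1), (121, 1), (122, 1), (124, 1), (125, 1), (130, 1), (136, 1), (137, 1), (139, 1), (141, 1), (145, 1), (156, 1), (163, 1), (166, 1), (168, 1), (172, 1), (174, 1), (176, 1), (183, 1), (188, 1), (197, 1), (198, 1), (207, 1), (216, 1), (218, 1)],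
    [(23, 1), (25, 1), (26, 1), (31, 1), (42, 1), (43, 1), (48, 1), (51, 1), (54, 1), (62, 1), (63, 1), (66, 1), (70, 1), (82, 1), (83, 1), (89, 1), (91, 1), (96, 1), (99, 1), (112, 1), (113, 1), (115, 1), (116, 1), (122, 1), (124, 1), (137, 1), (150, 1), (157, 1), (162, 1), (176, 1), (180, 1), (181, 1), (186, 1)],
    [],
    [(26, 1), (47, 1), (52, 1), (54, 1), (62, 1), (63, 1), (66, 1), (67, 1), (69, 1), (72, 1), (76, 1), (77, 1), (85, 1), (88, 1), (90, 1), (95, 1), (97, 1), (100, 1), (101, 1), (103, 1), (105, 1), (109, 1), (111, 1), (115, 1), (117, 1), (120, 1), (124, 1), (137, 1), (163, 1), (174, 1), (176, 1), (183, 1), (206, 1)],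
    [(75, 1)],
    [(23, 1), (26, 1), (28, 1), (40, 1), (41, 1), (43, 1), (48, 1), (51, 1), (54, 1), (66, 1), (67, 1), (70, 1), (82, 1), (91, 1), (96, 1), (97, 1), (107, 1), (112, 1), (113, 1), (115, 1), (120, 1), (136, 1), (137, 1), (141, 1), (144, 1), (150, 1), (180, 1), (181, 1)],
    [(23, 1), (24, 1), (25, 1), (28, 1), (29, 1), (30, 1), (34, 1), (36, 1), (42, 1), (44, 1), (45, 1), (48, 1), (70, 1), (83, 1), (84, 1), (85, 1), (91, 1), (94, 1), (96, 1), (99, 1), (101, 1), (102, 1), (103, 1), (106, 1), (108, 1), (109, 1), (110, 1), (112, 1), (118, 1), (123, 1), (125, 1), (133, 1), (135, 1), (139, 1), (142, 1), (144, 1), (145, 1), (156, 1), (165, 1), (166, 1), (168, 1), (216, 1), (218, 1)],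
    [(25, 1), (28, 1), (40, 1), (41, 1), (71, 1), (83, 1), (107, 1), (120, 1), (133, 1), (136, 1)],
    [(23, 1), (24, 1), (29, 1), (30, 1), (36, 1), (40, 1), (41, 1), (42, 1), (44, 1), (45, 1), (48, 1), (70, 1), (71, 1), (84, 1), (91, 1), (94, 1), (96, 1), (99, 1), (101, 1), (102, 1), (103, 1), (106, 1), (107, 1), (108, 1), (110, 1), (112, 1), (118, 1), (120, 1), (123, 1), (125, 1), (136, 1), (139, 1), (156, 1), (166, 1), (168, 1), (172, 1), (216, 1), (218, 1)],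
    [(40, 1), (71, 1), (133, 1), (135, 1)],
    [(23, 1), (25, 1), (26, 1), (43, 1), (48, 1), (52, 1), (54, 1), (66, 1), (67, 1), (82, 1), (83, 1), (85, 1), (91, 1), (96, 1), (97, 1), (104, 1), (109, 1), (112, 1), (113, 1), (114, 1), (121, 1), (123, 1), (137, 1), (139, 1), (150, 1), (159, 1), (161, 1), (170, 1), (175, 1), (180, 1), (181, 1)],
    [],
    [(23, 1), (25, 1), (26, 1), (42, 1), (43, 1), (44, 1), (48, 1), (51, 1), (54, 1), (66, 1), (70, 1), (74, 1), (82, 1), (83, 1), (91, 1), (96, 1), (99, 1), (112, 1), (113, 1), (115, 1), (122, 1), (137, 1), (150, 1), (162, 1), (176, 1), (180, 1), (181, 1)],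
    [(23, 1), (25, 1), (26, 1), (28, 1), (31, 1), (40, 1), (41, 1), (42, 1), (43, 1), (44, 1), (69, 1), (70, 1), (73, 1), (74, 1), (82, 1), (83, 1), (99, 1), (100, 1), (103, 1), (107, 1), (112, 1), (113, 1), (114, 1), (115, 1), (120, 1), (121, 1), (123, 1), (136, 1), (139, 1), (144, 1), (150, 1), (155, 1), (159, 1), (171, 1), (180, 1), (189, 1)],
    [(23, 1), (24, 1), (25, 1), (29, 1), (32, 1), (34, 1), (36, 1), (38, 1), (40, 1), (41, 1), (45, 1), (46, 1), (48, 1), (62, 1), (65, 1), (68, 1), (69, 1), (70, 1), (71, 1), (81, 1), (83, 1), (84, 1), (85, 1), (88, 1), (89, 1), (90, 1), (91, 1), (98, 1), (99, 1), (100, 1), (101, 1), (103, 1), (105, 1), (106, 1), (107, 1), (109, 1), (110, 1), (113, 1), (117, 1), (118, 1), (120, 1), (121, 1), (124,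 1), (125, 1), (130, 1), (136, 1), (137, 1), (139, 1), (141, 1), (145, 1), (148, 1), (156, 1), (163, 1), (166, 1), (168, 1), (172, 1), (174, 1), (176, 1), (183, 1), (188, 1), (197, 1), (198, 1), (200, 1), (207, 1), (216, 1), (218, 1)],
    [(88, 1), (89, 1), (90, 1), (116, 1), (157, 1)],
    [(32, 1), (43, 1), (47, 1), (48, 1), (49, 1), (53, 1), (54, 1), (62, 1), (63, 1), (67, 1), (68, 1), (72, 1), (76, 1), (85, 1), (90, 1), (91, 1), (95, 1), (97, 1), (99, 1), (100, 1), (101, 1), (102, 1), (103, 1), (105, 1), (106, 1), (107, 1), (111, 1), (113, 1), (114, 1), (117, 1), (120, 1), (123, 1), (158, 1), (169, 1), (174, 1), (176, 1), (183, 1), (203, 1), (206, 1)],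
    [(25, 1), (37, 1), (40, 1), (41, 1), (48, 1), (51, 1), (52, 1), (53, 1), (76, 1), (82, 1), (83, 1), (91, 1), (103, 1), (106, 1), (114, 1), (120, 1), (154, 1), (158, 1), (169, 1)],
    [(23, 1), (26, 1), (28, 1), (40, 1), (41, 1), (43, 1), (48, 1), (51, 1), (54, 1), (66, 1), (67, 1), (70, 1), (82, 1), (85, 1), (91, 1), (94, 1), (96, 1), (97, 1), (107, 1), (109, 1), (112, 1), (115, 1), (120, 1), (132, 1), (136, 1), (137, 1), (144, 1), (150, 1), (161, 1), (164, 1), (180, 1), (181, 1)],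
    [(112, 1), (119, 1)],
    [(25, 1), (28, 1), (29, 1), (30, 1), (34, 1), (36, 1), (45, 1), (48, 1), (71, 1), (74, 1), (83, 1), (85, 1), (91, 1), (94, 1), (99, 1), (101, 1), (102, 1), (103, 1), (106, 1), (109, 1), (110, 1), (118, 1), (121, 1), (122, 1), (125, 1), (144, 1), (145, 1), (156, 1), (159, 1), (168, 1), (216, 1), (218, 1)],
    [(24, 1), (27, 1), (29, 1), (30, 1), (36, 1), (40, 1), (41, 1), (42, 1), (44, 1), (45, 1), (48, 1), (70, 1), (71, 1), (84, 1), (85, 1), (91, 1), (94, 1), (96, 1), (99, 1), (101, 1), (102, 1), (103, 1), (106, 1), (107, 1), (108, 1), (109, 1), (110, 1), (118, 1), (120, 1), (121, 1), (125, 1), (136, 1), (139, 1), (145, 1), (156, 1), (166, 1), (168, 1), (172, 1), (173, 1), (216, 1), (218, 1)],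
    [(25, 1), (28, 1), (40, 1), (41, 1), (83, 1), (107, 1), (120, 1), (121, 1), (123, 1), (136, 1), (144, 1), (159, 1)],
    [(25, 1), (28, 1), (40, 1), (41, 1), (83, 1), (106, 1), (107, 1), (120, 1), (121, 1), (136, 1), (144, 1)],
    [(23, 1), (25, 1), (28, 1), (40, 1), (41, 1), (70, 1), (83, 1), (92, 1), (107, 1), (112, 1), (120, 1), (121, 1), (123, 1), (136, 1), (139, 1), (144, 1), (159, 1)]]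

/-- part of the combinations -/
def twoCombs4 : List (List (ℕ × ℤ)) :=
  [[],
    [(64, 1)],
    [(74, 1), (118, 1)],
    [(24, 1), (25, 1), (26, 1), (29, 1), (31, 1), (32, 1), (34, 1), (36, 1), (38, 1), (40, 1), (41, 1), (42, 1), (43, 1), (45, 1), (51, 1), (54, 1), (62, 1), (65, 1), (67, 1), (68, 1), (70, 1), (71, 1), (73, 1), (74, 1), (81, 1), (82, 1), (83, 1), (84, 1), (85, 1), (87, 1), (88, 1), (89, 1), (90, 1), (92, 1), (97, 1), (101, 1), (105, 1), (106, 1), (107, 1), (109, 1), (110, 1), (115, 1), (117, 1), (118, 1), (119, 1), (120, 1), (121, 1), (122, 1), (124, 1), (125, 1), (130, 1), (136, 1), (137, 1), (139, 1), (141, 1), (145, 1), (148, 1), (150, 1), (155, 1), (156, 1), (163, 1), (166, 1), (168, 1), (171, 1), (172, 1), (174, 1), (176,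 1), (180, 1), (181, 1), (182, 1), (183, 1), (188, 1), (190, 1), (197, 1), (198, 1), (200, 1), (207, 1), (216, 1), (218, 1)],
    [(30, 1), (42, 1), (87, 1), (98, 1), (118, 1), (130, 1)],
    [(30, 1), (31, 1), (74, 1), (98, 1), (118, 1), (131, 1)],
    [(26, 1), (33, 1), (47, 1), (66, 1), (69, 1), (81, 1), (83, 1), (113, 1), (114, 1), (132, 1), (138, 1), (167, 1), (191, 1)],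
    [(23, 1), (26, 1), (28, 1), (40, 1), (41, 1), (43, 1), (51, 1), (67, 1), (70, 1), (76, 1), (82, 1), (88, 1), (90, 1), (96, 1), (100, 1), (101, 1), (103, 1), (107, 1), (108, 1), (112, 1), (113, 1), (115, 1), (120, 1), (124, 1), (136, 1), (144, 1), (150, 1), (163, 1), (174, 1), (180, 1), (181, 1), (183, 1)],
    [(26, 1), (47, 1), (63, 1), (69, 1), (138, 1)],
    [(67, 1)],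
    [(23, 1), (24, 1), (29, 1), (34, 1), (36, 1), (40, 1), (41, 1), (42, 1), (44, 1), (45, 1), (48, 1), (70, 1), (71, 1), (74, 1), (85, 1), (91, 1), (94, 1), (96, 1), (99, 1), (101, 1), (102, 1), (103, 1), (106, 1), (107, 1), (109, 1), (110, 1), (112, 1), (120, 1), (123, 1), (125, 1), (136, 1), (139, 1), (145, 1), (156, 1), (166, 1), (168, 1), (216, 1), (218, 1)],
    [(71, 1)],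
    [(30, 1), (34, 1), (74, 1), (118, 1)],
    [(84, 1)],
    [(42, 1), (44, 1), (74, 1), (122, 1)],
    [(30, 1), (74, 1), (118, 1)],
    [(73, 1)],
    [(65, 1)],
    [(74, 1)],
    [(31, 1), (42, 1), (73, 1), (74, 1), (155, 1), (171, 1)],
    [(87, 1)],
    [(31, 1), (42, 1), (74, 1)],
    [(66, 1), (68, 1), (88, 1), (101, 1), (124, 1), (137, 1), (163, 1)],
    [(76, 1)],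
    [(78, 1)],
    [(68, 1)],
    [(25, 1), (28, 1), (30, 1), (34, 1), (40, 1), (41, 1), (42, 1), (44, 1), (70, 1), (83, 1), (98, 1), (99, 1), (107, 1), (118, 1), (120, 1), (121, 1), (123, 1), (136, 1), (144, 1), (159, 1), (168, 1)],
    [(93, 1)],
    [(35, 1), (42, 1), (74, 1)],
    [(39, 1), (42, 1), (74, 1)]]

/-- part of the combinations -/
def twoCombs5 : List (List (ℕ × ℤ)) :=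
  [[(42, 1), (44, 1), (74, 1)],
    [(98, 1)],
    [(42, 1), (74, 1)],
    [(26, 1), (47, 1), (52, 1), (54, 1), (62, 1), (63, 1), (66, 1), (67, 1), (69, 1), (72, 1), (76, 1), (85, 1), (88, 1), (90, 1), (95, 1), (97, 1), (100, 1), (101, 1), (103, 1), (105, 1), (109, 1), (111, 1), (115, 1), (117, 1), (120, 1), (124, 1), (137, 1), (140, 1), (163, 1), (174, 1), (176, 1), (183, 1), (206, 1)],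
    [(23, 1), (26, 1), (28, 1), (40, 1), (41, 1), (43, 1), (48, 1), (51, 1), (54, 1), (66, 1), (67, 1), (70, 1), (82, 1), (91, 1), (96, 1), (97, 1), (107, 1), (112, 1), (113, 1), (115, 1), (120, 1), (136, 1), (137, 1), (144, 1), (150, 1), (153, 1), (180, 1), (181, 1)],
    [(72, 1), (117, 1)],
    [],
    [(23, 1), (25, 1), (26, 1), (28, 1), (32, 1), (38, 1), (40, 1), (41, 1), (43, 1), (47, 1), (48, 1), (51, 1), (68, 1), (69, 1), (70, 1), (82, 1), (83, 1), (88, 1), (89, 1), (90, 1), (91, 1), (96, 1), (97, 1), (100, 1), (102, 1), (109, 1), (113, 1), (114, 1), (120, 1), (124, 1), (136, 1), (141, 1), (144, 1), (150, 1), (163, 1), (174, 1), (180, 1), (181, 1), (183, 1), (188, 1), (197, 1)],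
    [(23, 1), (26, 1), (28, 1), (40, 1), (41, 1), (43, 1), (48, 1), (51, 1), (54, 1), (67, 1), (70, 1), (82, 1), (88, 1), (91, 1), (96, 1), (97, 1), (100, 1), (101, 1), (102, 1), (107, 1), (112, 1), (113, 1), (115, 1), (120, 1), (124, 1), (136, 1), (144, 1), (150, 1), (163, 1), (174, 1), (180, 1), (181, 1)],
    [(25, 1), (37, 1), (40, 1), (41, 1), (83, 1), (120, 1)],
    [(77, 1)],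
    [(79, 1)],
    [(107, 1), (141, 1)],
    [(25, 1), (28, 1), (40, 1), (41, 1), (83, 1), (107, 1), (120, 1), (136, 1), (142, 1), (144, 1)],
    [(25, 1), (28, 1), (40, 1), (41, 1), (83, 1), (107, 1), (120, 1), (136, 1)],
    [(85, 1), (109, 1), (145, 1)],
    [(25, 1), (41, 1), (83, 1), (120, 1)],
    [(106, 1), (123, 1)],
    [(108, 1)],
    [(102, 1)],
    [(25, 1), (40, 1), (41, 1), (83, 1), (120, 1)],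
    [(23, 1), (25, 1), (26, 1), (28, 1), (40, 1), (41, 1), (43, 1), (51, 1), (52, 1), (66, 1), (67, 1), (70, 1), (82, 1), (83, 1), (85, 1), (96, 1), (97, 1), (104, 1), (107, 1), (109, 1), (112, 1), (113, 1), (120, 1), (136, 1), (137, 1), (144, 1), (150, 1), (161, 1), (175, 1), (180, 1), (181, 1)],
    [],
    [(23, 1), (25, 1), (26, 1), (43, 1), (48, 1), (51, 1), (54, 1), (66, 1), (70, 1), (82, 1), (83, 1), (91, 1), (112, 1), (113, 1), (115, 1), (137, 1), (150, 1), (176, 1), (180, 1), (181, 1)],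
    [(23, 1), (25, 1), (26, 1), (43, 1), (48, 1), (51, 1), (54, 1), (69, 1), (82, 1), (83, 1), (91, 1), (112, 1), (113, 1), (115, 1), (150, 1), (180, 1)],
    [(23, 1), (26, 1), (43, 1), (46, 1), (48, 1), (51, 1), (54, 1), (67, 1), (69, 1), (82, 1), (91, 1), (92, 1), (96, 1), (97, 1), (113, 1), (115, 1), (119, 1), (150, 1), (180, 1), (181, 1), (182, 1)],
    [(42, 1), (44, 1), (73, 1), (74, 1), (88, 1), (89, 1), (90, 1), (99, 1), (116, 1), (155, 1), (157, 1)],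
    [(22, 1), (23, 1), (112, 1)],
    [(25, 1), (37, 1), (40, 1), (41, 1), (83, 1), (106, 1), (114, 1), (120, 1), (154, 1)],
    [(114, 1), (132, 1)]]

/-- part of the combinations -/
def twoCombs6 : List (List (ℕ × ℤ)) :=
  [[(112, 1)],
    [(23, 1), (24, 1), (112, 1)],
    [(23, 1), (27, 1), (112, 1)],
    [(70, 1)],
    [(25, 1), (28, 1), (40, 1), (41, 1), (83, 1), (106, 1), (107, 1), (120, 1), (136, 1), (144, 1)],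
    [(92, 1)],
    [(96, 1)],
    [(99, 1)],
    [(106, 1)],
    [(23, 1), (112, 1)],
    [(23, 1), (26, 1), (28, 1), (40, 1), (41, 1), (43, 1), (48, 1), (51, 1), (54, 1), (66, 1), (67, 1), (70, 1), (82, 1), (85, 1), (91, 1), (96, 1), (97, 1), (107, 1), (109, 1), (112, 1), (113, 1), (115, 1), (120, 1), (136, 1), (137, 1), (144, 1), (150, 1), (161, 1), (180, 1), (181, 1)],
    [(66, 1)],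
    [(63, 1)],
    [],
    [(25, 1), (26, 1), (69, 1), (83, 1), (89, 1), (115, 1), (148, 1)],
    [(88, 1), (124, 1)],
    [(26, 1), (32, 1), (69, 1)],
    [(25, 1), (37, 1), (40, 1), (41, 1), (48, 1), (51, 1), (53, 1), (83, 1), (91, 1), (106, 1), (114, 1), (120, 1), (154, 1), (158, 1)],
    [(26, 1), (33, 1), (69, 1)],
    [(69, 1)],
    [(23, 1), (27, 1), (112, 1), (113, 1), (134, 1)],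
    [(26, 1), (29, 1), (69, 1)],
    [(26, 1), (36, 1), (69, 1)],
    [(85, 1)],
    [(94, 1)],
    [(26, 1), (47, 1), (69, 1)],
    [(101, 1)],
    [(109, 1)],
    [(113, 1)],
    [(26, 1), (69, 1)]]

/-- part of the combinations -/
def twoCombs7 : List (List (ℕ × ℤ)) :=
  [[(80, 1)],
    [(81, 1)],
    [(62, 1)],
    [(25, 1), (43, 1), (48, 1), (54, 1), (82, 1), (83, 1), (91, 1), (146, 1), (150, 1)],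
    [(89, 1)],
    [(90, 1)],
    [],
    [(82, 1)],
    [(83, 1)],
    [(25, 1), (38, 1), (83, 1)],
    [(25, 1), (28, 1), (40, 1), (41, 1), (83, 1), (106, 1), (107, 1), (114, 1), (120, 1), (136, 1), (143, 1), (144, 1)],
    [(25, 1), (28, 1), (83, 1)],
    [(86, 1)],
    [(25, 1), (41, 1), (83, 1)],
    [(25, 1), (46, 1), (83, 1)],
    [(97, 1)],
    [(100, 1)],
    [(107, 1)],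
    [(114, 1)],
    [(115, 1)],
    [(25, 1), (83, 1)],
    [(104, 1)],
    [(25, 1), (54, 1), (81, 1), (83, 1), (147, 1)],
    [(105, 1)],
    [(43, 1), (48, 1), (82, 1), (91, 1), (150, 1)],
    [(116, 1)],
    [(88, 1)],
    [(48, 1), (53, 1), (91, 1)],
    [(43, 1), (48, 1), (91, 1)],
    [(48, 1), (50, 1), (91, 1)]]

/-- part of the combinations -/
def twoCombs8 : List (List (ℕ × ℤ)) :=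
  [[(91, 1)],
    [(48, 1), (51, 1), (91, 1), (106, 1), (149, 1)],
    [(25, 1), (28, 1), (83, 1), (125, 1)],
    [(110, 1)],
    [(95, 1)],
    [(45, 1), (48, 1), (91, 1)],
    [(111, 1)],
    [(103, 1)],
    [(48, 1), (49, 1), (91, 1)],
    [(48, 1), (51, 1), (91, 1)],
    [(48, 1), (52, 1), (91, 1)],
    [(48, 1), (54, 1), (91, 1)],
    [(48, 1), (91, 1)]]

/-- the combinations -/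
def twoCombs : List (List (ℕ × ℤ)) := twoCombs0 ++ twoCombs1 ++ twoCombs2 ++ twoCombs3 ++ twoCombs4 ++ twoCombs5 ++ twoCombs6 ++ twoCombs7 ++ twoCombs8

/-- part of the representatives -/
def twoLvlW0_0 : List (List ℕ) :=
  [[16],
    [0, 16],
    [0, 2, 16],
    [5, 16],
    [2, 16],
    [2, 5, 16],
    [0, 5, 16],
    [0, 2, 5, 16],
    [0, 2, 5],
    [0, 5],
    [2, 5],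
    [2],
    [5],
    [0, 2],
    [0],
    []]

/-- the representatives -/
def twoLvlW0_ : List (List ℕ) := twoLvlW0_0

/-- part of the representatives -/
def twoLvlW1_0 : List (List ℕ) :=
  [[13, 16],
    []]

/-- the representatives -/
def twoLvlW1_ : List (List ℕ) := twoLvlW1_0

/-- part of the representatives -/
def twoLvlW2_0 : List (List ℕ) :=
  [[14, 16],
    [3, 14, 16],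
    [3],
    []]

/-- the representatives -/
def twoLvlW2_ : List (List ℕ) := twoLvlW2_0

/-- part of the representatives -/
def twoLvlW3_0 : List (List ℕ) :=
  [[10, 16],
    []]

/-- the representatives -/
def twoLvlW3_ : List (List ℕ) := twoLvlW3_0

/-- part of the representatives -/
def twoLvlW4_0 : List (List ℕ) :=
  [[15, 16],
    [1, 15, 16],
    [4, 15, 16],
    [1, 4, 15, 16],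
    [1, 4],
    [4],
    [1],
    []]

/-- the representatives -/
def twoLvlW4_ : List (List ℕ) := twoLvlW4_0

/-- part of the representatives -/
def twoLvlW5_0 : List (List ℕ) :=
  [[12, 13, 14, 15, 16],
    []]

/-- the representatives -/
def twoLvlW5_ : List (List ℕ) := twoLvlW5_0

/-- part of the representatives -/
def twoLvlW6_0 : List (List ℕ) :=
  [[11, 15, 16],
    []]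

/-- the representatives -/
def twoLvlW6_ : List (List ℕ) := twoLvlW6_0

/-- part of the representatives -/
def twoLvlW7_0 : List (List ℕ) :=
  [[21],
    [7, 21],
    [7, 9, 21],
    [6, 21],
    [6, 7, 21],
    [8, 21],
    [8, 9, 21],
    [7, 8, 21],
    [6, 8, 21],
    [6, 8, 9, 21],
    [6, 9, 21],
    [9, 21],
    [6, 7, 8, 21],
    [6, 7, 9, 21],
    [7, 8, 9, 21],
    [6, 7, 8, 9, 21],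
    [6, 7, 8, 9],
    [7, 8, 9],
    [6, 7, 9],
    [6, 7, 8],
    [9],
    [6, 9],
    [6, 8, 9],
    [6, 8],
    [7, 8],
    [8, 9],
    [8],
    [6, 7],
    [6],
    [7, 9],
    [7],
    []]

/-- the representatives -/
def twoLvlW7_ : List (List ℕ) := twoLvlW7_0

/-- part of the representatives -/
def twoLvlW8_0 : List (List ℕ) :=
  [[19, 21],
    []]

/-- the representatives -/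
def twoLvlW8_ : List (List ℕ) := twoLvlW8_0

/-- part of the representatives -/
def twoLvlW9_0 : List (List ℕ) :=
  [[17, 21],
    []]

/-- the representatives -/
def twoLvlW9_ : List (List ℕ) := twoLvlW9_0

/-- part of the representatives -/
def twoLvlW10_0 : List (List ℕ) :=
  [[20, 21],
    []]

/-- the representatives -/
def twoLvlW10_ : List (List ℕ) := twoLvlW10_0

/-- part of the representatives -/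
def twoLvlW11_0 : List (List ℕ) :=
  [[18, 19, 21],
    []]

/-- the representatives -/
def twoLvlW11_ : List (List ℕ) := twoLvlW11_0

/-- the chain -/
def twoChain : List (List ℤ × List (List ℕ)) := [([8, 0, 0, 0, 0, 0, 0, 0, 0, 0, 0, 0, 0, 0, 0, 0, 0, 0, 0, 0, 0, 0, 0, 0], twoLvlW0_),
  ([0, 0, 0, 0, 0, 0, 8, 0, 0, 0, 0, 0, 0, 0, 0, 0, 0, 0, 0, 0, 0, 0, 0, 0], twoLvlW1_),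
  ([0, 0, 0, 0, 0, 0, 0, 8, 0, 0, 0, 0, 0, 0, 0, 0, 0, 0, 0, 0, 0, 0, 0, 0], twoLvlW2_),
  ([0, 0, 0, 0, 0, 0, 0, 0, 0, 0, 0, 0, 0, 0, 0, 0, 0, 0, 0, 8, 0, 0, 0, 0], twoLvlW3_),
  ([0, 8, 0, 0, 0, 0, 0, 0, 0, 0, 0, 0, 0, 0, 0, 0, 0, 0, 0, 0, 0, 0, 0, 0], twoLvlW4_),
  ([0, 0, 8, 0, 0, 0, 0, 0, 0, 0, 0, 0, 0, 0, 0, 0, 0, 0, 0, 0, 0, 0, 0, 0], twoLvlW5_),
  ([0, 0, 0, 0, 0, 0, 0, 0, 0, 0, 0, 0, 0, 0, 0, 0, 0, 0, 0, 0, 0, 8, 0, 0], twoLvlW6_),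
  ([0, 0, 0, 8, 0, 0, 0, 0, 0, 0, 0, 0, 0, 0, 0, 0, 0, 0, 0, 0, 0, 0, 0, 0], twoLvlW7_),
  ([0, 0, 0, 0, 8, 0, 0, 0, 0, 0, 0, 0, 0, 0, 0, 0, 0, 0, 0, 0, 0, 0, 0, 0], twoLvlW8_),
  ([0, 0, 0, 0, 0, 8, 0, 0, 0, 0, 0, 0, 0, 0, 0, 0, 0, 0, 0, 0, 0, 0, 0, 0], twoLvlW9_),
  ([0, 0, 0, 0, 0, 0, 0, 0, 8, 0, 0, 0, 0, 0, 0, 0, 0, 0, 0, 0, 0, 0, 0, 0], twoLvlW10_),
  ([0, 0, 0, 0, 0, 0, 0, 0, 0, 0, 8, 0, 0, 0, 0, 0, 0, 0, 0, 0, 0, 0, 0, 0], twoLvlW11_)]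

/-- the certificate -/
def twoCert : Cert where
  p := 2
  n := 22
  ng := 30
  M := 253
  rels := twoRels
  eqs := twoEqs
  vecs := twoVecs
  gauge := twoGauge
  combs := twoCombs

end Cfsg.Agent.Lie.ConwayZeroMult
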