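import Cfsg.Agent.Lib.Lie.ConwayZeroMult.Pieces
import Cfsg.Agent.Lib.Lie.ConwayZeroMult.TwoData

/-!
The checks for the part at one prime (two) of the multiplier of the double cover of the first Conway group: the matrices, the relations and the chain.
-/

set_option autoImplicit false
set_option maxRecDepth 100000
set_option Elab.async false

namespace Cfsg.Agent.Lie.ConwayZeroMult

open CentralRewrite

theorem two_mat0 : matOK (twoW.getD 0 ([], [])) = true := by decide +kernel

theorem two_mat1 : matOK (twoW.getD 1 ([], [])) = true := by decide +kernel

theorem two_mat2 : matOK (twoW.getD 2 ([], [])) = true := by decide +kernel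

theorem two_mat3 : matOK (twoW.getD 3 ([], [])) = true := by decide +kernel

theorem two_mat4 : matOK (twoW.getD 4 ([], [])) = true := by decide +kernel

theorem two_mat5 : matOK (twoW.getD 5 ([], [])) = true := by decide +kernel

theorem two_mat6 : matOK (twoW.getD 6 ([], [])) = true := by decide +kernel

theorem two_mat7 : matOK (twoW.getD 7 ([], [])) = true := by decide +kernel

theorem two_mat8 : matOK (twoW.getD 8 ([], [])) = true := by decide +kernel

theorem two_mat9 : matOK (twoW.getD 9 ([], [])) = true := by decide +kernel

theorem two_mat10 : matOK (twoW.getD 10 ([], [])) = true := by decide +kernel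

theorem two_mat11 : matOK (twoW.getD 11 ([], [])) = true := by decide +kernel

theorem two_mat12 : matOK (twoW.getD 12 ([], [])) = true := by decide +kernel

theorem two_mat13 : matOK (twoW.getD 13 ([], [])) = true := by decide +kernel

theorem two_mat14 : matOK (twoW.getD 14 ([], [])) = true := by decide +kernel

theorem two_mat15 : matOK (twoW.getD 15 ([], [])) = true := by decide +kernel

theorem two_mat16 : matOK (twoW.getD 16 ([], [])) = true := by decide +kernel

theorem two_mat17 : matOK (twoW.getD 17 ([], [])) = true := by decide +kernel

theorem two_mat18 : matOK (twoW.getD 18 ([], [])) = true := by decide +kernel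

theorem two_mat19 : matOK (twoW.getD 19 ([], [])) = true := by decide +kernel

theorem two_mat20 : matOK (twoW.getD 20 ([], [])) = true := by decide +kernel

theorem two_mat21 : matOK (twoW.getD 21 ([], [])) = true := by decide +kernel

theorem two_mat22 : matOK (twoW.getD 22 ([], [])) = true := by decide +kernel

theorem two_mat23 : matOK (twoW.getD 23 ([], [])) = true := by decide +kernel

theorem two_mat24 : matOK (twoW.getD 24 ([], [])) = true := by decide +kernel

theorem two_mat25 : matOK (twoW.getD 25 ([], [])) = true := by decide +kernel

theorem two_mat26 : matOK (twoW.getD 26 ([], [])) = true := by decide +kernel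

theorem two_mat27 : matOK (twoW.getD 27 ([], [])) = true := by decide +kernel

theorem two_mat28 : matOK (twoW.getD 28 ([], [])) = true := by decide +kernel

theorem two_mat29 : matOK (twoW.getD 29 ([], [])) = true := by decide +kernel

theorem two_mats : twoW.all matOK = true := by
  refine mats_of (m := 30) (by decide +kernel) fun i hi => ?_
  interval_cases i
  · exact two_mat0
  · exact two_mat1
  · exact two_mat2
  · exact two_mat3
  · exact two_mat4
  · exact two_mat5
  · exact two_mat6
  · exact two_mat7
  · exact two_mat8
  · exact two_mat9
  · exact two_mat10
  · exact two_mat11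
  · exact two_mat12
  · exact two_mat13
  · exact two_mat14
  · exact two_mat15
  · exact two_mat16
  · exact two_mat17
  · exact two_mat18
  · exact two_mat19
  · exact two_mat20
  · exact two_mat21
  · exact two_mat22
  · exact two_mat23
  · exact two_mat24
  · exact two_mat25
  · exact two_mat26
  · exact two_mat27
  · exact two_mat28
  · exact two_mat29

theorem two_len : twoCert.ng = twoW.length := by decide +kernel

theorem two_rels : twoCert.rels.all (relOK twoW) = true := by decide +kernel

theorem two_chain : chainV twoW twoCert.n twoChain [] = true := by decide +kernel

theorem two_size : twoCert.p ^ twoCert.n ≤ chainProd twoChain := by decide +kernel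

theorem two_index : ¬ twoCert.p ∣ 8315553613086720000 / twoCert.p ^ twoCert.n := by decide +kernel

end Cfsg.Agent.Lie.ConwayZeroMult
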