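import Cfsg.Agent.Lib.Lie.ConwayZeroMult.TwoCheck
import Cfsg.Agent.Lib.Lie.ConwayZeroMult.TwoMats
import Cfsg.Agent.Lib.Lie.ConwayZeroMult.ThreeCheck
import Cfsg.Agent.Lib.Lie.ConwayZeroMult.ThreeMats
import Cfsg.Agent.Lib.Lie.ConwayZeroMult.FiveCheck
import Cfsg.Agent.Lib.Lie.ConwayZeroMult.FiveMats
import Cfsg.Agent.Lib.Lie.ConwayZeroMult.SevenCheck
import Cfsg.Agent.Lib.Lie.ConwayZeroMult.SevenMats
import Cfsg.Agent.Lib.Lie.CentralLocal
import Cfsg.Agent.Lib.Lie.CentralStage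
import Cfsg.Agent.Lib.Lie.CoverUniversal
import Cfsg.Prelude.Def_Spor_Conway

/-!
The double cover of the first Conway group has trivial multiplier, so that of the group itself has order two.
-/

set_option autoImplicit false
set_option maxRecDepth 100000

namespace Cfsg.Agent.Lie.ConwayZeroMult

open Cfsg Cfsg.Agent.Spor CentralRewrite
open scoped commutatorElement

theorem stem_trivial {Γ : Type} [Group Γ] [Finite Γ] {σ : Γ →* ↥Co0} (hσ : Cfsg.IsStemExtension σ) :
    σ.ker = ⊥ := by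
  haveI := co0_finite
  have hno : ∀ q, q.Prime → ∀ z : σ.ker, z ^ q = 1 → z = 1 := by
    intro q hq z hz
    by_cases hsm : q = 2 ∨ q = 3 ∨ q = 5 ∨ q = 7
    · by_contra hne
      obtain ⟨Δ, _, _, τ, hτ, hcard⟩ := CentralLocal.exists_stem_of_prime hσ hq hz hne
      rcases hsm with rfl | rfl | rfl | rfl
      · exact no_kernel two_valid hq two_mats two_len two_rels two_chain two_size two_index hτ hcard
      · exact no_kernel three_valid hq three_mats three_len three_rels three_chain three_size three_index hτ hcard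
      · exact no_kernel five_valid hq five_mats five_len five_rels five_chain five_size five_index hτ hcard
      · exact no_kernel seven_valid hq seven_mats seven_len seven_rels seven_chain seven_size seven_index hτ hcard
    refine CentralTable.ker_no_torsion hσ hq (fun h => ?_) z hz
    rw [card_co0, show (8315553613086720000 : ℕ) = 2 ^ 22 * 3 ^ 9 * 5 ^ 4 * 7 ^ 2 * 11 * 13 * 23 by norm_num] at h
    have hdvd : q ∣ 2 ^ 22 * 3 ^ 9 * 5 ^ 4 * 7 ^ 2 * 11 * 13 * 23 := (dvd_pow_self q two_ne_zero).trans h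
    simp only [hq.dvd_mul] at hdvd
    have key : ∀ p : ℕ, p.Prime → q ∣ p → q = p := fun p hp e => (Nat.prime_dvd_prime_iff_eq hq hp).1 e
    rcases hdvd with (((((e | e) | e) | e) | e) | e) | e
    · exact hsm (Or.inl (key 2 Nat.prime_two (hq.dvd_of_dvd_pow e)))
    · exact hsm (Or.inr (Or.inl (key 3 Nat.prime_three (hq.dvd_of_dvd_pow e))))
    · exact hsm (Or.inr (Or.inr (Or.inl (key 5 Nat.prime_five (hq.dvd_of_dvd_pow e)))))
    · exact hsm (Or.inr (Or.inr (Or.inr (key 7 (by norm_num) (hq.dvd_of_dvd_pow e)))))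
    all_goals
      obtain rfl := key _ (by norm_num) e
      norm_num at h
  rw [Subgroup.eq_bot_iff_forall]
  intro k hk
  by_contra hne
  have hne' : (⟨k, hk⟩ : σ.ker) ≠ 1 := fun e => hne (congrArg Subtype.val e)
  have hpos : orderOf (⟨k, hk⟩ : σ.ker) ≠ 1 := fun e => hne' (orderOf_eq_one_iff.1 e)
  obtain ⟨q, hq, hd⟩ := Nat.exists_prime_and_dvd hpos
  have hord : orderOf ((⟨k, hk⟩ : σ.ker) ^ (orderOf (⟨k, hk⟩ : σ.ker) / q)) = q :=
    orderOf_pow_orderOf_div (orderOf_pos _).ne' hd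
  have h1 := hno q hq _ (hord ▸ pow_orderOf_eq_one _)
  rw [h1, orderOf_one] at hord
  exact hq.one_lt.ne hord

theorem commutator_co0 : commutator ↥Co0 = ⊤ := by
  refine eq_top_of_normal _ fun hle => ?_
  haveI := simple_co1
  letI : CommGroup (↥Co0 ⧸ Subgroup.center ↥Co0) :=
    { (inferInstance : Group (↥Co0 ⧸ Subgroup.center ↥Co0)) with
      mul_comm := fun x y => by
        obtain ⟨a, rfl⟩ := QuotientGroup.mk'_surjective _ x
        obtain ⟨b, rfl⟩ := QuotientGroup.mk'_surjective _ y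
        rw [← map_mul, ← map_mul]
        refine (QuotientGroup.mk'_eq_mk' _).2 ⟨⁅b⁻¹, a⁻¹⁆, hle (Subgroup.commutator_mem_commutator
          (Subgroup.mem_top _) (Subgroup.mem_top _)), ?_⟩
        rw [commutatorElement_def]; group }
  haveI := Nat.finite_of_card_ne_zero (α := ↥Co0 ⧸ Subgroup.center ↥Co0) (by rw [card_co1]; norm_num)
  have hp := IsSimpleGroup.prime_card (α := ↥Co0 ⧸ Subgroup.center ↥Co0)
  rw [card_co1] at hp
  exact absurd (hp.eq_one_or_self_of_dvd 2 (by norm_num)) (by norm_num)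

theorem commutator_co1 : commutator (↥Co0 ⧸ Subgroup.center ↥Co0) = ⊤ := by
  rw [commutator_def, ← Subgroup.map_top_of_surjective (QuotientGroup.mk' (Subgroup.center ↥Co0))
    (QuotientGroup.mk'_surjective _), ← Subgroup.map_commutator, ← commutator_def, commutator_co0]

/-- The statement on the group of the definitions. -/
theorem multiplier : Cfsg.HasCyclicSchurMultiplier Cfsg.Spor.Co1 2 := by
  haveI := co0_finite
  haveI : Finite (↥Co0 ⧸ Subgroup.center ↥Co0) :=
    Nat.finite_of_card_ne_zero (by rw [card_co1]; norm_num)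
  set π := QuotientGroup.mk' (Subgroup.center ↥Co0)
  have hker : π.ker = Subgroup.center ↥Co0 := QuotientGroup.ker_mk' _
  have hπ : Cfsg.IsStemExtension π :=
    ⟨QuotientGroup.mk'_surjective _, hker.le, by rw [commutator_co0]; exact le_top⟩
  have h2 : Nat.card π.ker = 2 := by rw [hker]; exact card_center
  haveI : Fact (Nat.Prime 2) := ⟨Nat.prime_two⟩
  refine CoverUniversal.hasSchur_of (G := ↥Co0 ⧸ Subgroup.center ↥Co0) commutator_co1
    ⟨↥Co0, inferInstance, inferInstance, π, hπ, ⟨mulEquivOfPrimeCardEq h2 (by simp)⟩⟩ ?_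
  intro Γ _ _ σ hσ
  obtain ⟨D, _, _, ψ, φ, hD, hψ, hcomm, hc⟩ := Solv.exists_common_cover (Group.isPerfect_def.2 commutator_co1)
    (Group.isPerfect_def.2 commutator_co0) π hπ.1 hπ.2.1 σ hσ.1 hσ.2.1
  have hψs : Cfsg.IsStemExtension ψ := ⟨hψ, fun x hx => hc (by
    rw [MonoidHom.mem_ker] at hx
    rw [MonoidHom.mem_ker, MonoidHom.comp_apply, hx, map_one]), by
    rw [Group.IsPerfect.commutator_eq_top]; exact le_top⟩
  have hDle : Nat.card D ≤ Nat.card ↥Co0 :=
    Nat.card_le_card_of_injective ψ ((MonoidHom.ker_eq_bot_iff ψ).1 (stem_trivial hψs))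
  have hφ : Function.Surjective φ := by
    rw [← MonoidHom.range_eq_top, ← top_le_iff, ← CoverUniversal.perfect_of_stem commutator_co1 hσ, commutator_def,
      Subgroup.commutator_le]
    intro a _ b _
    obtain ⟨x, hx⟩ := (hπ.1.comp hψ) (σ a)
    obtain ⟨y, hy⟩ := (hπ.1.comp hψ) (σ b)
    have e : ∀ d, σ (φ d) = π (ψ d) := fun d => (DFunLike.congr_fun hcomm d).symm
    obtain ⟨z, hz, rfl⟩ := CentralTable.exists_central hσ.2.1 (x := a) (y := φ x) (by rw [e]; exact hx.symm)
    obtain ⟨w, hw, rfl⟩ := CentralTable.exists_central hσ.2.1 (x := b) (y := φ y) (by rw [e]; exact hy.symm)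
    refine ⟨⁅x, y⁆, ?_⟩
    rw [map_commutatorElement, commutatorElement_def, commutatorElement_def, mul_inv_rev, mul_inv_rev]
    symm
    calc φ x * z * (φ y * w) * (z⁻¹ * (φ x)⁻¹) * (w⁻¹ * (φ y)⁻¹)
        = φ x * (z * (φ y * w) * z⁻¹) * (φ x)⁻¹ * (w⁻¹ * (φ y)⁻¹) := by group
      _ = φ x * (φ y * w) * (φ x)⁻¹ * (w⁻¹ * (φ y)⁻¹) := by rw [hz, mul_inv_cancel_right]
      _ = φ x * φ y * (w * (φ x)⁻¹ * w⁻¹) * (φ y)⁻¹ := by group
      _ = φ x * φ y * (φ x)⁻¹ * (φ y)⁻¹ := by rw [hw, mul_inv_cancel_right]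
  have hΓ := (Nat.card_le_card_of_surjective φ hφ).trans hDle
  rw [← Subgroup.card_mul_index σ.ker, Subgroup.index_ker, MonoidHom.range_eq_top.2 hσ.1, Subgroup.card_top,
    card_co1, card_co0] at hΓ
  rw [show Nat.card (Multiplicative (ZMod 2)) = 2 by simp]
  omega

end Cfsg.Agent.Lie.ConwayZeroMult
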