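import Cfsg.Agent.Lib.Lie.CentralRewrite.Main
import Cfsg.Agent.Lib.Lie.ConwayZeroMult.TwoData

/-!
The checks for the part at one prime (two) of the multiplier of the double cover of the first Conway group: a share of the combinations.
-/

set_option autoImplicit false
set_option maxRecDepth 100000
set_option Elab.async false

namespace Cfsg.Agent.Lie.ConwayZeroMult

open CentralRewrite

theorem two_kill0 : ((List.range' 0 23).all fun b =>
    killOK twoCert.p twoCert.rels.length twoCert.ng twoCert.rels twoCert.gauge twoCert.vecs twoCert.combs b) = true := by
  decide +kernel

theorem two_kill1 : ((List.range' 23 23).all fun b =>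
    killOK twoCert.p twoCert.rels.length twoCert.ng twoCert.rels twoCert.gauge twoCert.vecs twoCert.combs b) = true := by
  decide +kernel

theorem two_kill2 : ((List.range' 46 23).all fun b =>
    killOK twoCert.p twoCert.rels.length twoCert.ng twoCert.rels twoCert.gauge twoCert.vecs twoCert.combs b) = true := by
  decide +kernel

end Cfsg.Agent.Lie.ConwayZeroMult
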