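import Cfsg.Agent.Lib.Lie.CentralRewrite.Main
import Cfsg.Agent.Lib.Lie.ConwayZeroMult.TwoData

/-!
The checks for the part at one prime (two) of the multiplier of the double cover of the first Conway group: a share of the derivations.
-/

set_option autoImplicit false
set_option maxRecDepth 100000
set_option Elab.async false

namespace Cfsg.Agent.Lie.ConwayZeroMult

open CentralRewrite

theorem two_pairs0 : ((List.range' 0 108).all fun i =>
    pairOK twoCert.rels (twoCert.eqs.getD i ([], [], []))) = true := by
  decide +kernel

theorem two_pairs1 : ((List.range' 108 72).all fun i =>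
    pairOK twoCert.rels (twoCert.eqs.getD i ([], [], []))) = true := by
  decide +kernel

theorem two_pairs2 : ((List.range' 180 36).all fun i =>
    pairOK twoCert.rels (twoCert.eqs.getD i ([], [], []))) = true := by
  decide +kernel

theorem two_pairs3 : ((List.range' 216 10).all fun i =>
    pairOK twoCert.rels (twoCert.eqs.getD i ([], [], []))) = true := by
  decide +kernel

theorem two_pairs4 : ((List.range' 226 10).all fun i =>
    pairOK twoCert.rels (twoCert.eqs.getD i ([], [], []))) = true := by
  decide +kernel

theorem two_pairs5 : ((List.range' 236 10).all fun i =>
    pairOK twoCert.rels (twoCert.eqs.getD i ([], [], []))) = true := by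
  decide +kernel

theorem two_pairs6 : ((List.range' 246 10).all fun i =>
    pairOK twoCert.rels (twoCert.eqs.getD i ([], [], []))) = true := by
  decide +kernel

theorem two_pairs7 : ((List.range' 256 10).all fun i =>
    pairOK twoCert.rels (twoCert.eqs.getD i ([], [], []))) = true := by
  decide +kernel

theorem two_pairs8 : ((List.range' 266 10).all fun i =>
    pairOK twoCert.rels (twoCert.eqs.getD i ([], [], []))) = true := by
  decide +kernel

theorem two_pairs9 : ((List.range' 276 10).all fun i =>
    pairOK twoCert.rels (twoCert.eqs.getD i ([], [], []))) = true := by
  decide +kernel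

end Cfsg.Agent.Lie.ConwayZeroMult
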