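import Cfsg.Agent.Lib.Lie.CentralRewrite.Main
import Cfsg.Agent.Lib.Lie.ConwayZeroMult.TwoData

/-!
The checks for the part at one prime (two) of the multiplier of the double cover of the first Conway group: a share of the tabulated exponents.
-/

set_option autoImplicit false
set_option maxRecDepth 100000
set_option Elab.async false

namespace Cfsg.Agent.Lie.ConwayZeroMult

open CentralRewrite

theorem two_vec3 : ((List.range' 72 24).all fun i =>
    ((List.range twoCert.rels.length).zip ((twoCert.vecs.getD i []).zip
      (pairVec twoCert.rels.length (twoCert.eqs.getD i ([], [], []))))).all (fun z =>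
        (z.2.1 - z.2.2) % (twoCert.p : ℤ) == 0) && Nat.beq (twoCert.vecs.getD i []).length twoCert.rels.length) = true := by
  decide +kernel

theorem two_vec4 : ((List.range' 96 24).all fun i =>
    ((List.range twoCert.rels.length).zip ((twoCert.vecs.getD i []).zip
      (pairVec twoCert.rels.length (twoCert.eqs.getD i ([], [], []))))).all (fun z =>
        (z.2.1 - z.2.2) % (twoCert.p : ℤ) == 0) && Nat.beq (twoCert.vecs.getD i []).length twoCert.rels.length) = true := by
  decide +kernel

theorem two_vec5 : ((List.range' 120 24).all fun i =>
    ((List.range twoCert.rels.length).zip ((twoCert.vecs.getD i []).zip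
      (pairVec twoCert.rels.length (twoCert.eqs.getD i ([], [], []))))).all (fun z =>
        (z.2.1 - z.2.2) % (twoCert.p : ℤ) == 0) && Nat.beq (twoCert.vecs.getD i []).length twoCert.rels.length) = true := by
  decide +kernel

end Cfsg.Agent.Lie.ConwayZeroMult
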