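import Cfsg.Agent.Lib.Lie.CentralRewrite.Main
import Cfsg.Agent.Lib.Lie.ConwayZeroMult.TwoData

/-!
The checks for the part at one prime (two) of the multiplier of the double cover of the first Conway group: a share of the tabulated exponents.
-/

set_option autoImplicit false
set_option maxRecDepth 100000
set_option Elab.async false

namespace Cfsg.Agent.Lie.ConwayZeroMult

open CentralRewrite

theorem two_vecTail0 : ((List.range' 216 4).all fun i =>
    ((List.range twoCert.rels.length).zip ((twoCert.vecs.getD i []).zip
      (pairVec twoCert.rels.length (twoCert.eqs.getD i ([], [], []))))).all (fun z =>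
        (z.2.1 - z.2.2) % (twoCert.p : ℤ) == 0) && Nat.beq (twoCert.vecs.getD i []).length twoCert.rels.length) = true := by
  decide +kernel

theorem two_vecTail1 : ((List.range' 220 4).all fun i =>
    ((List.range twoCert.rels.length).zip ((twoCert.vecs.getD i []).zip
      (pairVec twoCert.rels.length (twoCert.eqs.getD i ([], [], []))))).all (fun z =>
        (z.2.1 - z.2.2) % (twoCert.p : ℤ) == 0) && Nat.beq (twoCert.vecs.getD i []).length twoCert.rels.length) = true := by
  decide +kernel

theorem two_vecTail2 : ((List.range' 224 4).all fun i =>
    ((List.range twoCert.rels.length).zip ((twoCert.vecs.getD i []).zip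
      (pairVec twoCert.rels.length (twoCert.eqs.getD i ([], [], []))))).all (fun z =>
        (z.2.1 - z.2.2) % (twoCert.p : ℤ) == 0) && Nat.beq (twoCert.vecs.getD i []).length twoCert.rels.length) = true := by
  decide +kernel

theorem two_vecTail3 : ((List.range' 228 4).all fun i =>
    ((List.range twoCert.rels.length).zip ((twoCert.vecs.getD i []).zip
      (pairVec twoCert.rels.length (twoCert.eqs.getD i ([], [], []))))).all (fun z =>
        (z.2.1 - z.2.2) % (twoCert.p : ℤ) == 0) && Nat.beq (twoCert.vecs.getD i []).length twoCert.rels.length) = true := by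
  decide +kernel

theorem two_vecTail4 : ((List.range' 232 4).all fun i =>
    ((List.range twoCert.rels.length).zip ((twoCert.vecs.getD i []).zip
      (pairVec twoCert.rels.length (twoCert.eqs.getD i ([], [], []))))).all (fun z =>
        (z.2.1 - z.2.2) % (twoCert.p : ℤ) == 0) && Nat.beq (twoCert.vecs.getD i []).length twoCert.rels.length) = true := by
  decide +kernel

theorem two_vecTail5 : ((List.range' 236 4).all fun i =>
    ((List.range twoCert.rels.length).zip ((twoCert.vecs.getD i []).zip
      (pairVec twoCert.rels.length (twoCert.eqs.getD i ([], [], []))))).all (fun z =>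
        (z.2.1 - z.2.2) % (twoCert.p : ℤ) == 0) && Nat.beq (twoCert.vecs.getD i []).length twoCert.rels.length) = true := by
  decide +kernel

theorem two_vecTail6 : ((List.range' 240 4).all fun i =>
    ((List.range twoCert.rels.length).zip ((twoCert.vecs.getD i []).zip
      (pairVec twoCert.rels.length (twoCert.eqs.getD i ([], [], []))))).all (fun z =>
        (z.2.1 - z.2.2) % (twoCert.p : ℤ) == 0) && Nat.beq (twoCert.vecs.getD i []).length twoCert.rels.length) = true := by
  decide +kernel

theorem two_vecTail7 : ((List.range' 244 4).all fun i =>
    ((List.range twoCert.rels.length).zip ((twoCert.vecs.getD i []).zip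
      (pairVec twoCert.rels.length (twoCert.eqs.getD i ([], [], []))))).all (fun z =>
        (z.2.1 - z.2.2) % (twoCert.p : ℤ) == 0) && Nat.beq (twoCert.vecs.getD i []).length twoCert.rels.length) = true := by
  decide +kernel

theorem two_vecTail8 : ((List.range' 248 4).all fun i =>
    ((List.range twoCert.rels.length).zip ((twoCert.vecs.getD i []).zip
      (pairVec twoCert.rels.length (twoCert.eqs.getD i ([], [], []))))).all (fun z =>
        (z.2.1 - z.2.2) % (twoCert.p : ℤ) == 0) && Nat.beq (twoCert.vecs.getD i []).length twoCert.rels.length) = true := by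
  decide +kernel

end Cfsg.Agent.Lie.ConwayZeroMult
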