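import Cfsg.Agent.Lib.Lie.ConwayZeroMult.Defs
import Cfsg.Agent.Lib.Lie.ConwayZeroMult.TwoData
import Cfsg.Agent.Lib.Lie.ConwayZeroMult.TwoPairs
import Cfsg.Agent.Lib.Lie.ConwayZeroMult.TwoVec0
import Cfsg.Agent.Lib.Lie.ConwayZeroMult.TwoVec1
import Cfsg.Agent.Lib.Lie.ConwayZeroMult.TwoVec2
import Cfsg.Agent.Lib.Lie.ConwayZeroMult.TwoVec3
import Cfsg.Agent.Lib.Lie.ConwayZeroMult.TwoVec4
import Cfsg.Agent.Lib.Lie.ConwayZeroMult.TwoKill0
import Cfsg.Agent.Lib.Lie.ConwayZeroMult.TwoKill1
import Cfsg.Agent.Lib.Lie.ConwayZeroMult.TwoKill2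
import Cfsg.Agent.Lib.Lie.ConwayZeroMult.TwoKill3

/-!
The checks for the part at one prime (two) of the multiplier of the double cover of the first Conway group: the derivations and the combinations.
-/

set_option autoImplicit false
set_option maxRecDepth 100000
set_option Elab.async false

namespace Cfsg.Agent.Lie.ConwayZeroMult

open CentralRewrite

theorem two_series : seriesOK twoCert.p twoCert.n twoCert.M twoCert.rels = true := by decide +kernel

theorem two_eqs_len : twoCert.eqs.length = 286 := by decide +kernel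

theorem two_pairs :
    (List.range twoCert.eqs.length).all (fun i => pairOK twoCert.rels (twoCert.eqs.getD i ([], [], []))) = true := by
  rw [two_eqs_len, List.all_eq_true]
  intro i hi
  rw [List.mem_range] at hi
  by_cases h0 : i < 108
  · exact List.all_eq_true.1 two_pairs0 i (List.mem_range'_1.2 ⟨by omega, by omega⟩)
  by_cases h1 : i < 180
  · exact List.all_eq_true.1 two_pairs1 i (List.mem_range'_1.2 ⟨by omega, by omega⟩)
  by_cases h2 : i < 216
  · exact List.all_eq_true.1 two_pairs2 i (List.mem_range'_1.2 ⟨by omega, by omega⟩)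
  obtain ⟨j, hj, h3, h4⟩ : ∃ j < 7, 216 + 10 * j ≤ i ∧ i < 216 + 10 * j + 10 :=
    ⟨(i - 216) / 10, by omega, by omega, by omega⟩
  interval_cases j
  · exact List.all_eq_true.1 two_pairs3 i (List.mem_range'_1.2 ⟨by omega, by omega⟩)
  · exact List.all_eq_true.1 two_pairs4 i (List.mem_range'_1.2 ⟨by omega, by omega⟩)
  · exact List.all_eq_true.1 two_pairs5 i (List.mem_range'_1.2 ⟨by omega, by omega⟩)
  · exact List.all_eq_true.1 two_pairs6 i (List.mem_range'_1.2 ⟨by omega, by omega⟩)
  · exact List.all_eq_true.1 two_pairs7 i (List.mem_range'_1.2 ⟨by omega, by omega⟩)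
  · exact List.all_eq_true.1 two_pairs8 i (List.mem_range'_1.2 ⟨by omega, by omega⟩)
  · exact List.all_eq_true.1 two_pairs9 i (List.mem_range'_1.2 ⟨by omega, by omega⟩)

theorem two_vec : vecOK twoCert.p twoCert.rels.length twoCert.eqs twoCert.vecs = true := by
  unfold vecOK
  rw [two_eqs_len, List.all_eq_true]
  intro i hi
  rw [List.mem_range] at hi
  rcases lt_or_ge i 216 with hi' | hi'
  · obtain ⟨j, hj, h1, h2⟩ : ∃ j < 9, 24 * j ≤ i ∧ i < 24 * j + 24 := ⟨i / 24, by omega, by omega, by omega⟩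
    interval_cases j
    · exact List.all_eq_true.1 two_vec0 i (List.mem_range'_1.2 ⟨by omega, by omega⟩)
    · exact List.all_eq_true.1 two_vec1 i (List.mem_range'_1.2 ⟨by omega, by omega⟩)
    · exact List.all_eq_true.1 two_vec2 i (List.mem_range'_1.2 ⟨by omega, by omega⟩)
    · exact List.all_eq_true.1 two_vec3 i (List.mem_range'_1.2 ⟨by omega, by omega⟩)
    · exact List.all_eq_true.1 two_vec4 i (List.mem_range'_1.2 ⟨by omega, by omega⟩)
    · exact List.all_eq_true.1 two_vec5 i (List.mem_range'_1.2 ⟨by omega, by omega⟩)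
    · exact List.all_eq_true.1 two_vec6 i (List.mem_range'_1.2 ⟨by omega, by omega⟩)
    · exact List.all_eq_true.1 two_vec7 i (List.mem_range'_1.2 ⟨by omega, by omega⟩)
    · exact List.all_eq_true.1 two_vec8 i (List.mem_range'_1.2 ⟨by omega, by omega⟩)
  · obtain ⟨j, hj, h1, h2⟩ : ∃ j < 18, 216 + 4 * j ≤ i ∧ i < 216 + 4 * j + 4 :=
      ⟨(i - 216) / 4, by omega, by omega, by omega⟩
    interval_cases j
    · exact List.all_eq_true.1 two_vecTail0 i (List.mem_range'_1.2 ⟨by omega, by omega⟩)
    · exact List.all_eq_true.1 two_vecTail1 i (List.mem_range'_1.2 ⟨by omega, by omega⟩)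
    · exact List.all_eq_true.1 two_vecTail2 i (List.mem_range'_1.2 ⟨by omega, by omega⟩)
    · exact List.all_eq_true.1 two_vecTail3 i (List.mem_range'_1.2 ⟨by omega, by omega⟩)
    · exact List.all_eq_true.1 two_vecTail4 i (List.mem_range'_1.2 ⟨by omega, by omega⟩)
    · exact List.all_eq_true.1 two_vecTail5 i (List.mem_range'_1.2 ⟨by omega, by omega⟩)
    · exact List.all_eq_true.1 two_vecTail6 i (List.mem_range'_1.2 ⟨by omega, by omega⟩)
    · exact List.all_eq_true.1 two_vecTail7 i (List.mem_range'_1.2 ⟨by omega, by omega⟩)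
    · exact List.all_eq_true.1 two_vecTail8 i (List.mem_range'_1.2 ⟨by omega, by omega⟩)
    · exact List.all_eq_true.1 two_vecTail9 i (List.mem_range'_1.2 ⟨by omega, by omega⟩)
    · exact List.all_eq_true.1 two_vecTail10 i (List.mem_range'_1.2 ⟨by omega, by omega⟩)
    · exact List.all_eq_true.1 two_vecTail11 i (List.mem_range'_1.2 ⟨by omega, by omega⟩)
    · exact List.all_eq_true.1 two_vecTail12 i (List.mem_range'_1.2 ⟨by omega, by omega⟩)
    · exact List.all_eq_true.1 two_vecTail13 i (List.mem_range'_1.2 ⟨by omega, by omega⟩)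
    · exact List.all_eq_true.1 two_vecTail14 i (List.mem_range'_1.2 ⟨by omega, by omega⟩)
    · exact List.all_eq_true.1 two_vecTail15 i (List.mem_range'_1.2 ⟨by omega, by omega⟩)
    · exact List.all_eq_true.1 two_vecTail16 i (List.mem_range'_1.2 ⟨by omega, by omega⟩)
    · exact List.all_eq_true.1 two_vecTail17 i (List.mem_range'_1.2 ⟨by omega, by omega⟩)

theorem two_valid : twoCert.Valid where
  series := two_series
  pairs := two_pairs
  vec := two_vec
  veclen := by decide +kernel
  letters := by decide +kernel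
  gaugeOK := by decide +kernel
  nng := by decide +kernel
  kill := fun b hb => by
    change b < 253 at hb
    obtain ⟨j, hj, h1, h2⟩ : ∃ j < 11, 23 * j ≤ b ∧ b < 23 * j + 23 := ⟨b / 23, by omega, by omega, by omega⟩
    interval_cases j
    · exact List.all_eq_true.1 two_kill0 b (List.mem_range'_1.2 ⟨by omega, by omega⟩)
    · exact List.all_eq_true.1 two_kill1 b (List.mem_range'_1.2 ⟨by omega, by omega⟩)
    · exact List.all_eq_true.1 two_kill2 b (List.mem_range'_1.2 ⟨by omega, by omega⟩)
    · exact List.all_eq_true.1 two_kill3 b (List.mem_range'_1.2 ⟨by omega, by omega⟩)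
    · exact List.all_eq_true.1 two_kill4 b (List.mem_range'_1.2 ⟨by omega, by omega⟩)
    · exact List.all_eq_true.1 two_kill5 b (List.mem_range'_1.2 ⟨by omega, by omega⟩)
    · exact List.all_eq_true.1 two_kill6 b (List.mem_range'_1.2 ⟨by omega, by omega⟩)
    · exact List.all_eq_true.1 two_kill7 b (List.mem_range'_1.2 ⟨by omega, by omega⟩)
    · exact List.all_eq_true.1 two_kill8 b (List.mem_range'_1.2 ⟨by omega, by omega⟩)
    · exact List.all_eq_true.1 two_kill9 b (List.mem_range'_1.2 ⟨by omega, by omega⟩)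
    · exact List.all_eq_true.1 two_kill10 b (List.mem_range'_1.2 ⟨by omega, by omega⟩)

end Cfsg.Agent.Lie.ConwayZeroMult
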